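import Cfsg.Agent.UAlt.CoreAct

/-!
# Existence of triples

`exists_triple`: if `O(C(x)) ∩ C(f)` is not contained in `O(C(f))` then there is a triple `(f, x, J)`.
-/

set_option autoImplicit false
set_option linter.unusedSectionVars false

open Cfsg Subgroup
open Cfsg.Agent.Intrinsic.Basic Cfsg.Agent.Intrinsic.Diag
open Cfsg.Agent.SignalizersComponents Cfsg.Agent.Lib
open Cfsg.Agent.SignalizersComponents.IntrinsicBasic
open Cfsg.Agent.UGT.Triple
open scoped commutatorElement

namespace Cfsg.Agent.UAlt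

variable {G : Type*} [Group G] [Finite G]

/-- an odd subgroup of `H ∩ O(C(x))` fixing all 2-components of `H` lies in `O(H)` -/
theorem le_core_of_fixes {H : Subgroup G} {x : G} (hxH : x ∈ H) (hx : orderOf x = 2) {D : Subgroup G}
    (hD : D ≤ core (H ⊓ centralizer ({x} : Set G)))
    (hf : ∀ J, IsComp H J → ∀ d ∈ D, Fixes d J) : D ≤ core H := by
  have h2 : Fact (Nat.Prime 2) := ⟨Nat.prime_two⟩
  have hDH : D ≤ H := hD.trans ((core_le _).trans inf_le_left)
  have hNn : (pPrimeCore 2 ↥H).Normal := Lib.Cores.pPrimeCore_normal 2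
  set π := QuotientGroup.mk' (pPrimeCore 2 ↥H) with hπ
  have hker : Odd (Nat.card π.ker) := by
    rw [hπ, QuotientGroup.ker_mk']
    exact Nat.coprime_two_right.mp (Lib.Cores.pPrimeCore_coprime (G := ↥H) 2)
  have ho : orderOf (π ⟨x, hxH⟩) = 2 := by
    refine orderOf_eq_prime ?_ ?_
    · rw [← map_pow]
      have : (⟨x, hxH⟩ : ↥H) ^ 2 = 1 := Subtype.ext (by
        change x ^ 2 = 1
        rw [← hx, pow_orderOf_eq_one])
      rw [this, map_one]
    · intro h
      have h3 : x ∈ core H := (mem_core_iff hxH).mpr ((QuotientGroup.eq_one_iff _).mp h)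
      exact ne_one_of_order hx (eq_one_of_mem_core_sq h3 (sq_of_order hx))
  have key : (D.subgroupOf H).map π = ⊥ := by
    apply BalanceAux.eq_bot_of_le_centralizer_components 2
      (Lib.Cores.pPrimeCore_quotient_pPrimeCore (G := ↥H) 2)
    · have h5 : Odd (Nat.card D) := Odd.of_dvd_nat (odd_card_core _) (card_dvd_of_le hD)
      have h6 : Nat.card ((D.subgroupOf H).map π) ∣ Nat.card D := by
        refine (Subgroup.card_map_dvd _ _).trans ?_
        rw [Nat.card_congr (subgroupOfEquivOfLe hDH).toEquiv]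
      exact Nat.coprime_two_right.mpr (Odd.of_dvd_nat h5 h6)
    · refine le_trans ?_ (BalanceAux.core_le_centralizer_pCore 2 (π ⟨x, hxH⟩) ho)
      rintro _ ⟨d, hd, rfl⟩
      exact mk_mem_core hxH hx (hD hd)
    · intro K hK
      obtain ⟨h3, h4⟩ := IntrinsicLift.lift_component π (QuotientGroup.mk'_surjective _) hker hK
        (BalanceAux.dvd_card_component 2 (Lib.Cores.pPrimeCore_quotient_pPrimeCore (G := ↥H) 2) hK)
      have hJ := isComp_of_subtype h3
      rintro _ ⟨d, hd, rfl⟩
      rw [mem_centralizer_iff]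
      intro k hk
      rw [SetLike.mem_coe, ← h4] at hk
      obtain ⟨k, hk, rfl⟩ := hk
      have h5 := hf _ hJ d hd
      rw [hJ.fixes_iff d.2, mem_cenMod hJ.le] at h5
      have h6 := h5.2 k ⟨k, hk, rfl⟩
      have h7 : π (k⁻¹ * (d * k * d⁻¹)) = 1 := by
        refine (QuotientGroup.eq_one_iff _).mpr ?_
        exact (mem_core_iff (K := H) (mul_mem (inv_mem k.2) (mul_mem (mul_mem d.2 k.2) (inv_mem d.2)))).mp h6
      rw [map_mul, map_mul, map_mul, map_inv, map_inv, inv_mul_eq_one] at h7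
      -- `k = d k d⁻¹`
      rw [eq_mul_inv_iff_mul_eq] at h7
      exact h7
  intro d hd
  have h1 : π ⟨d, hDH hd⟩ ∈ (D.subgroupOf H).map π := ⟨⟨d, hDH hd⟩, hd, rfl⟩
  rw [key, mem_bot] at h1
  exact (mem_core_iff (hDH hd)).mpr ((QuotientGroup.eq_one_iff _).mp h1)

/-- **existence of triples** -/
theorem exists_triple {x f d : G} (hx : orderOf x = 2) (hf : orderOf f = 2) (hc : f * x = x * f)
    (hd : d ∈ core (centralizer ({x} : Set G))) (hdf : d ∈ centralizer ({f} : Set G))
    (hn : d ∉ core (centralizer ({f} : Set G))) : ∃ J, IsTriple x f J := by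
  by_contra hcon
  push Not at hcon
  apply hn
  obtain ⟨D, hD⟩ : ∃ D, D = core (centralizer ({x} : Set G)) ⊓ centralizer ({f} : Set G) := ⟨_, rfl⟩
  have hle : D ≤ core (centralizer ({f} : Set G)) := by
    refine le_core_of_fixes (mem_c hc.symm) hx (D := D) ?_ ?_
    · rw [hD]
      exact fun e he => inf_le_core he.1 he.2
    · intro J hJ e he
      by_contra hne
      rw [hD] at he
      exact hcon J ⟨hx, hf, hc, hJ, e, he.1, he.2, hne⟩
  exact hle (hD ▸ ⟨hd, hdf⟩)

end Cfsg.Agent.UAlt
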