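import Cfsg.Agent.UAlt.Frame

/-!
# The package for the closing argument, degree at least nine; the type conditions

`PK M` and `Mod.Rt` are in `Cfsg.Agent.UAlt.Frame`; `PKE M` is the same package for `9 ≤ |Γ|`.
-/

set_option autoImplicit false

namespace Cfsg.Agent.UAlt

open Cfsg Subgroup
open Cfsg.Agent.Intrinsic.Basic Cfsg.Agent.UGT.Triple

/-- the package for the closing argument, `9 ≤ |Γ|` -/
structure PKE {G : Type*} [Group G] {α : Type*} [Fintype α] [DecidableEq α] {B : Subgroup G} {Γ : Finset α}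
    (M : Mod B Γ) : Prop where
  h9 : 9 ≤ Γ.card
  cent : ∀ u, M.Rt u → centralizer ({u} : Set G) ≤ normalizer (B : Set G)
  core : ∀ u, M.Rt u → core B ⊓ centralizer ({u} : Set G) = core (centralizer ({u} : Set G))
  comp : ∀ u, M.Rt u → IsComp (centralizer ({u} : Set G)) (M.cmp u)

theorem PK.toE {G : Type*} [Group G] {α : Type*} [Fintype α] [DecidableEq α] {B : Subgroup G}
    {Γ : Finset α} {M : Mod B Γ} (P : PK M) : PKE M where
  h9 := by have := P.h13; omega
  cent := P.cent
  core := P.core
  comp := P.comp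

/-- no unbalancing triple `(u, t, J)` with `u ∈ J` for which `C_J(u)` has a 2-component of type `A_k` -/
def NoType (G : Type*) [Group G] (k : ℕ) : Prop :=
  ∀ (u t : G) (J I : Subgroup G), IsTriple u t J → u ∈ J → IsComp (J ⊓ centralizer ({u} : Set G)) I →
    ¬ AltType I k

/-- no unbalancing triple `(u, t, J)` for which `C_J(u)` has a 2-component of type `A_k`, `k ≥ 9` -/
def NoBig (G : Type*) [Group G] : Prop :=
  ∀ (u t : G) (J I : Subgroup G), IsTriple u t J → IsComp (J ⊓ centralizer ({u} : Set G)) I →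
    ∀ k, 9 ≤ k → ¬ AltType I k

theorem NoBig.noType {G : Type*} [Group G] (h : NoBig G) {k : ℕ} (hk : 9 ≤ k) : NoType G k :=
  fun u t J I T _ hI => h u t J I T hI k hk

end Cfsg.Agent.UAlt
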