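import Cfsg.Agent.UAlt.ModExists

/-!
# Isomorphisms between alternating groups are induced by bijections; change of labels
-/

set_option autoImplicit false
set_option linter.unusedSectionVars false

namespace Cfsg.Agent.UAlt

open Cfsg Equiv Equiv.Perm Subgroup
open Cfsg.Agent.Intrinsic.Basic Cfsg.Agent.Intrinsic
open Cfsg.Agent.SignalizersComponents Cfsg.Agent.Lib
open Cfsg.Agent.SignalizersComponents.IntrinsicBasic
open scoped commutatorElement

variable {G : Type*} [Group G] {α : Type*} [Fintype α] [DecidableEq α]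

/-- sets of the same size are conjugate; more precisely a pair `F ⊆ S` -/
theorem exists_perm_of_card {F S F' S' : Finset α} (hFS : F ⊆ S) (hFS' : F' ⊆ S')
    (hF : F.card = F'.card) (hS : S.card = S'.card) (e : F ≃ F') :
    ∃ τ : Perm α, (∀ x (hx : x ∈ F), τ x = e ⟨x, hx⟩) ∧ S.map τ.toEmbedding = S' := by
  -- extend to `S`
  have h1 : Fintype.card {x : S // (x : α) ∉ F} = Fintype.card {x : S' // (x : α) ∉ F'} := by
    have h2 : ∀ (F S : Finset α), F ⊆ S → Fintype.card {x : S // (x : α) ∉ F} = S.card - F.card := by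
      intro F S h
      rw [← Finset.card_sdiff_of_subset h, ← Fintype.card_coe (S \ F)]
      refine Fintype.card_congr ⟨fun x => ⟨x.1, Finset.mem_sdiff.mpr ⟨x.1.2, x.2⟩⟩,
        fun x => ⟨⟨x, (Finset.mem_sdiff.mp x.2).1⟩, (Finset.mem_sdiff.mp x.2).2⟩, fun x => rfl,
        fun x => rfl⟩
    rw [h2 F S hFS, h2 F' S' hFS', hF, hS]
  let e1 : {x : S // (x : α) ∉ F} ≃ {x : S' // (x : α) ∉ F'} := Fintype.equivOfCardEq h1
  let e2 : {x : S // (x : α) ∈ F} ≃ {x : S' // (x : α) ∈ F'} :=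
    { toFun := fun x => ⟨⟨e ⟨x.1, x.2⟩, hFS' (e ⟨x.1, x.2⟩).2⟩, (e ⟨x.1, x.2⟩).2⟩
      invFun := fun x => ⟨⟨e.symm ⟨x.1, x.2⟩, hFS (e.symm ⟨x.1, x.2⟩).2⟩, (e.symm ⟨x.1, x.2⟩).2⟩
      left_inv := fun x => by
        apply Subtype.ext
        apply Subtype.ext
        show ((e.symm (e ⟨x.1, x.2⟩) : F) : α) = x.1
        rw [Equiv.symm_apply_apply]
      right_inv := fun x => by
        apply Subtype.ext
        apply Subtype.ext
        show ((e (e.symm ⟨x.1, x.2⟩) : F') : α) = x.1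
        rw [Equiv.apply_symm_apply] }
  let e3 : S ≃ S' := ((Equiv.sumCompl fun x : S => (x : α) ∈ F).symm.trans
    (Equiv.sumCongr e2 e1)).trans (Equiv.sumCompl fun x : S' => (x : α) ∈ F')
  have he3 : ∀ x (hx : x ∈ F), ((e3 ⟨x, hFS hx⟩ : S') : α) = e ⟨x, hx⟩ := by
    intro x hx
    have h4 : (Equiv.sumCompl fun x : S => (x : α) ∈ F).symm ⟨x, hFS hx⟩ =
        Sum.inl ⟨⟨x, hFS hx⟩, hx⟩ := by
      rw [Equiv.symm_apply_eq]
      rfl
    show (((Equiv.sumCompl fun x : S' => (x : α) ∈ F') (Equiv.sumCongr e2 e1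
      ((Equiv.sumCompl fun x : S => (x : α) ∈ F).symm ⟨x, hFS hx⟩)) : S') : α) = _
    rw [h4]
    rfl
  refine ⟨e3.extendSubtype, fun x hx => ?_, ?_⟩
  · rw [← he3 x hx]
    exact Equiv.extendSubtype_apply_of_mem e3 x (hFS hx)
  · apply Finset.eq_of_subset_of_card_le
    · intro y hy
      obtain ⟨x, hx, rfl⟩ := Finset.mem_map.mp hy
      show e3.extendSubtype x ∈ S'
      rw [Equiv.extendSubtype_apply_of_mem e3 x hx]
      exact (e3 ⟨x, hx⟩).2
    · rw [Finset.card_map, hS]

theorem card_alt {S : Finset α} (h2 : 2 ≤ S.card) : 2 * Nat.card (alt S) = S.card.factorial := by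
  have h3 : Nontrivial S := by
    rw [← Fintype.one_lt_card_iff_nontrivial, Fintype.card_coe]; omega
  rw [← Nat.card_congr (altEquiv S).toEquiv, nat_card_alternatingGroup, Nat.card_eq_fintype_card,
    Fintype.card_coe]
  have h4 : 2 ∣ S.card.factorial := Nat.dvd_factorial (by norm_num) h2
  omega

/-- isomorphic alternating groups have the same degree -/
theorem card_eq_of_equiv {S F : Finset α} (h3 : 3 ≤ S.card) (e : alt S ≃* alt F) :
    S.card = F.card := by
  have h1 := card_alt (S := S) (by omega)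
  have h2 : Nat.card (alt S) = Nat.card (alt F) := Nat.card_congr e.toEquiv
  have hF : 2 ≤ F.card := by
    by_contra hcon
    have h3' : Nat.card (alt F) = 1 := by
      rw [Nat.card_eq_one_iff_unique]
      refine ⟨⟨fun x y => ?_⟩, ⟨1⟩⟩
      have key : ∀ x : alt F, x = 1 := by
        rintro ⟨x, hx1, hx2⟩
        apply Subtype.ext
        by_contra hne
        have h5 : 2 ≤ x.support.card := two_le_card_support_of_ne_one hne
        have h6 : x.support ⊆ F := fun a ha => by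
          by_contra h
          exact mem_support.mp ha (hx2 a h)
        have := Finset.card_le_card h6
        omega
      rw [key x, key y]
    rw [h2, h3'] at h1
    have h4 : (3 : ℕ).factorial ≤ S.card.factorial := Nat.factorial_le h3
    simp [Nat.factorial] at h4
    omega
  have h3 := card_alt hF
  rw [← h2, h1] at h3
  exact (Nat.factorial_inj (by omega)).mp h3

/-- **isomorphisms `alt S ≅ alt F` are induced by bijections** -/
theorem exists_bij {S F : Finset α} (h7 : 7 ≤ S.card) (e : alt S ≃* alt F) :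
    ∃ τ : Perm α, S.map τ.toEmbedding = F ∧ ∀ x : alt S, (e x : Perm α) = τ * x * τ⁻¹ := by
  have hcard := card_eq_of_equiv (by omega) e
  obtain ⟨τ, -, hτ⟩ := exists_perm_of_card (F := S) (S := S) (F' := F) (S' := F) (le_refl _)
    (le_refl _) hcard hcard (Fintype.equivOfCardEq (by rw [Fintype.card_coe, Fintype.card_coe, hcard]))
  have hconj : ∀ x ∈ alt S, τ * x * τ⁻¹ ∈ alt F := fun x hx =>
    Mod.conj_mem_alt' hx fun a ha => by rw [← hτ]; exact Finset.mem_map.mpr ⟨a, ha, rfl⟩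
  have hconj' : ∀ x ∈ alt F, τ⁻¹ * x * τ ∈ alt S := fun x hx => by
    have := Mod.conj_mem_alt' (τ := τ⁻¹) (T' := S) hx fun a ha => by
      rw [← hτ] at ha
      obtain ⟨b, hb, rfl⟩ := Finset.mem_map.mp ha
      simpa using hb
    rwa [inv_inv] at this
  let c : alt S ≃* alt F :=
    { toFun := fun x => ⟨τ * x * τ⁻¹, hconj x x.2⟩
      invFun := fun x => ⟨τ⁻¹ * x * τ, hconj' x x.2⟩
      left_inv := fun x => Subtype.ext (by
        show τ⁻¹ * (τ * x * τ⁻¹) * τ = x
        group)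
      right_inv := fun x => Subtype.ext (by
        show τ * (τ⁻¹ * x * τ) * τ⁻¹ = x
        group)
      map_mul' := fun x y => Subtype.ext (by
        show τ * (x * y) * τ⁻¹ = τ * x * τ⁻¹ * (τ * y * τ⁻¹)
        group) }
  obtain ⟨ψ, hψS, hψ⟩ := exists_altAut h7
  let f : MulAut (alt S) := e.trans c.symm
  refine ⟨τ * ψ f, ?_, fun x => ?_⟩
  · rw [← hτ]
    ext y
    simp only [Finset.mem_map, Equiv.coe_toEmbedding, Perm.mul_apply]
    constructor
    · rintro ⟨x, hx, rfl⟩
      exact ⟨ψ f x, mem_of_mem_sym (hψS f) hx, rfl⟩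
    · rintro ⟨x, hx, rfl⟩
      exact ⟨(ψ f)⁻¹ x, mem_of_mem_sym (inv_mem (hψS f)) hx, by simp⟩
  · have h1 := hψ f x
    have h2 : e x = c (f x) := by
      show e x = c (c.symm (e x))
      rw [MulEquiv.apply_symm_apply]
    rw [h2]
    show τ * (f x : alt S) * τ⁻¹ = _
    rw [h1]
    group

namespace Mod

variable {K E : Subgroup G} {S S' F F' : Finset α}

/-- two labellings of `E` differ by a bijection of the points -/
theorem exists_bij (M : Mod E F) (M' : Mod E F') (h7 : 7 ≤ F.card) :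
    ∃ τ : Perm α, F.map τ.toEmbedding = F' ∧
      ∀ x ∈ normalizer (E : Set G), M'.φ x = τ * M.φ x * τ⁻¹ := by
  let e : alt F ≃* alt F' := ((QuotientGroup.quotientKerEquivOfSurjective _ M.homK_surjective).symm.trans
    (QuotientGroup.quotientMulEquivOfEq (M.ker_homK.trans M'.ker_homK.symm))).trans
    (QuotientGroup.quotientKerEquivOfSurjective _ M'.homK_surjective)
  have he : ∀ x : ↥E, e (M.homK x) = M'.homK x := by
    intro x
    have h1 : (QuotientGroup.quotientKerEquivOfSurjective _ M.homK_surjective).symm (M.homK x) =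
        QuotientGroup.mk' _ x := by
      rw [MulEquiv.symm_apply_eq]
      rfl
    show (QuotientGroup.quotientKerEquivOfSurjective _ M'.homK_surjective)
      (QuotientGroup.quotientMulEquivOfEq (M.ker_homK.trans M'.ker_homK.symm)
        ((QuotientGroup.quotientKerEquivOfSurjective _ M.homK_surjective).symm (M.homK x))) = _
    rw [h1]
    rfl
  obtain ⟨τ, hτ, hτ'⟩ := UAlt.exists_bij h7 e
  refine ⟨τ, hτ, ?_⟩
  subst hτ
  intro x hx
  have h1 : ∀ y ∈ E, M'.φ y = (M.relabel τ).φ y := by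
    intro y hy
    have h2 := hτ' (M.homK ⟨y, hy⟩)
    rw [he] at h2
    exact h2
  exact Mod.ext_of_K h1 hx

/-- **relabelling**: a labelling of `K` extending a given labelling of a subgroup `E` which has label `alt F` -/
theorem exists_relabel (M : Mod K S) {F : Finset α} (hFS : F ⊆ S) (M₀ : Mod E F)
    (h₀ : ∀ x ∈ E, M₀.φ x = M.φ x) (M' : Mod E F') (hFS' : F' ⊆ S') (h7 : 7 ≤ F.card)
    (hcard : S.card = S'.card) :
    ∃ M'' : Mod K S', ∀ x ∈ E, M''.φ x = M'.φ x := by
  obtain ⟨τ₀, hτ₀, h1⟩ := M₀.exists_bij M' h7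
  let e : F ≃ F' :=
    { toFun := fun x => ⟨τ₀ x, by rw [← hτ₀]; exact Finset.mem_map.mpr ⟨x, x.2, rfl⟩⟩
      invFun := fun x => ⟨τ₀⁻¹ x, by
        have h2 : (x : α) ∈ F.map τ₀.toEmbedding := by rw [hτ₀]; exact x.2
        obtain ⟨y, hy, h3⟩ := Finset.mem_map.mp h2
        have h4 : τ₀⁻¹ (x : α) = y := by
          rw [← h3]; simp
        rw [h4]; exact hy⟩
      left_inv := fun x => Subtype.ext (by simp)
      right_inv := fun x => Subtype.ext (by simp) }
  have hFc : F.card = F'.card := by rw [← hτ₀, Finset.card_map]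
  obtain ⟨τ, hτ, hτS⟩ := exists_perm_of_card hFS hFS' hFc hcard e
  subst hτS
  refine ⟨M.relabel τ, fun x hx => ?_⟩
  rw [relabel_φ, h1 x (le_normalizer hx), h₀ x hx]
  -- `τ` and `τ₀` agree on `F`, which contains the support of `M.φ x`
  have h2 : ∀ a ∈ F, τ a = τ₀ a := fun a ha => hτ a ha
  have h3 : M.φ x ∈ alt F := by rw [← h₀ x hx]; exact M₀.mem_alt x hx
  have h4 : τ₀⁻¹ * τ * M.φ x = M.φ x * (τ₀⁻¹ * τ) := by
    ext a
    simp only [Perm.mul_apply]
    by_cases ha : a ∈ F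
    · have h5 : M.φ x a ∈ F := mem_of_mem_sym (alt_le_sym _ h3) ha
      rw [h2 _ h5, h2 a ha]
      simp
    · rw [h3.2 a ha]
      symm
      apply h3.2
      intro h5
      -- `τ a ∈ τ₀ F = τ F`
      have h6 := h2 _ h5
      have h7 : τ₀ (τ₀⁻¹ (τ a)) = τ a := by simp
      rw [h7] at h6
      have h8 := τ.injective h6
      rw [h8] at h5
      exact ha h5
  calc τ * M.φ x * τ⁻¹ = τ₀ * (τ₀⁻¹ * τ * M.φ x) * τ⁻¹ := by group
    _ = τ₀ * (M.φ x * (τ₀⁻¹ * τ)) * τ⁻¹ := by rw [h4]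
    _ = τ₀ * M.φ x * τ₀⁻¹ := by group

/-- `cmp t` does not depend on the labelling -/
theorem cmp_eq [Finite G] (M : Mod K S) (M' : Mod K S') {t : G} (ht : t ∈ normalizer (K : Set G))
    (htt : t * t = 1) (h5 : 5 ≤ (fixIn S (M.φ t)).card) :
    M.cmp t = M'.cmp t ∧ 5 ≤ (fixIn S' (M'.φ t)).card :=
  (M'.isComp_iff_cmp ht htt).mp (M.isComp_cmp ht htt h5)

/-- relabelling along `cmp t` -/
theorem exists_relabel_cmp [Finite G] (M : Mod K S) {t : G} (ht : t ∈ normalizer (K : Set G))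
    (htt : t * t = 1) (h7 : 7 ≤ (fixIn S (M.φ t)).card) (M' : Mod (M.cmp t) F') (hFS' : F' ⊆ S')
    (hcard : S.card = S'.card) :
    ∃ M'' : Mod K S', ∀ x ∈ M.cmp t, M''.φ x = M'.φ x := by
  obtain ⟨M₀, h₀⟩ := M.exists_cmp ht htt h7
  exact M.exists_relabel (fixIn_subset _ _) M₀ h₀ M' hFS' h7 hcard

end Mod

end Cfsg.Agent.UAlt
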