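import Cfsg.Agent.UAlt.Four
import Cfsg.Agent.UAlt.Bij

/-!
# Conjugacy of roots and root four-groups
-/

set_option autoImplicit false
set_option linter.unusedSectionVars false

namespace Cfsg.Agent.UAlt

open Cfsg Equiv Equiv.Perm Subgroup
open Cfsg.Agent.Intrinsic.Basic Cfsg.Agent.Intrinsic
open Cfsg.Agent.SignalizersComponents Cfsg.Agent.Lib
open Cfsg.Agent.SignalizersComponents.IntrinsicBasic
open Cfsg.Agent.StdAlt.PermTypes (cyc)
open Cfsg.Agent.StdAlt.Roots (IsRoot)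
open Cfsg.Agent.StdAlt (V4 Mv four4)
open scoped Pointwise

variable {G : Type*} [Group G] {α : Type*} [Fintype α] [DecidableEq α]

/-- a bijection between subsets of `S` extends to a permutation in `sym S` -/
theorem exists_sym_of_equiv {F F' S : Finset α} (hF : F ⊆ S) (hF' : F' ⊆ S) (e : F ≃ F') :
    ∃ τ ∈ sym S, ∀ x (hx : x ∈ F), τ x = e ⟨x, hx⟩ := by
  have hc : F.card = F'.card := by
    rw [← Fintype.card_coe F, ← Fintype.card_coe F']; exact Fintype.card_congr e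
  obtain ⟨τ, hτ, hτS⟩ := exists_perm_of_card hF hF' hc rfl e
  have hS : ∀ x, τ x ∈ S ↔ x ∈ S := by
    intro x
    constructor
    · intro h
      rw [← hτS] at h
      obtain ⟨y, hy, hxy⟩ := Finset.mem_map.mp h
      rw [← τ.injective hxy]; exact hy
    · intro h
      rw [← hτS]
      exact Finset.mem_map.mpr ⟨x, h, rfl⟩
  refine ⟨ofSubtype (τ.subtypePerm (p := fun x => x ∈ S) hS), fun x hx =>
    ofSubtype_apply_of_not_mem _ hx, fun x hx => ?_⟩
  rw [ofSubtype_apply_of_mem _ (hF hx)]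
  exact hτ x hx

/-- `sym S` is transitive on ordered quadruples -/
theorem exists_sym_four {S : Finset α} {a b c d a' b' c' d' : α} (h : [a, b, c, d].Nodup)
    (h' : [a', b', c', d'].Nodup) (hS : four4 a b c d ⊆ S) (hS' : four4 a' b' c' d' ⊆ S) :
    ∃ τ ∈ sym S, τ a = a' ∧ τ b = b' ∧ τ c = c' ∧ τ d = d' := by
  obtain ⟨τ₀, h1, h2, h3, h4⟩ := StdAlt.exists_perm_four h' h
  have hT : ∀ x, x ∈ four4 a b c d → τ₀ x ∈ four4 a' b' c' d' := by
    intro x hx
    rcases StdAlt.mem_four4.mp hx with rfl | rfl | rfl | rfl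
    · rw [h1]; exact StdAlt.mem_four4.mpr (Or.inl rfl)
    · rw [h2]; exact StdAlt.mem_four4.mpr (Or.inr (Or.inl rfl))
    · rw [h3]; exact StdAlt.mem_four4.mpr (Or.inr (Or.inr (Or.inl rfl)))
    · rw [h4]; exact StdAlt.mem_four4.mpr (Or.inr (Or.inr (Or.inr rfl)))
  have hT' : ∀ x, x ∈ four4 a' b' c' d' → τ₀⁻¹ x ∈ four4 a b c d := by
    intro x hx
    rcases StdAlt.mem_four4.mp hx with rfl | rfl | rfl | rfl
    · rw [← h1, show τ₀⁻¹ (τ₀ a) = a by simp]; exact StdAlt.mem_four4.mpr (Or.inl rfl)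
    · rw [← h2, show τ₀⁻¹ (τ₀ b) = b by simp]; exact StdAlt.mem_four4.mpr (Or.inr (Or.inl rfl))
    · rw [← h3, show τ₀⁻¹ (τ₀ c) = c by simp]
      exact StdAlt.mem_four4.mpr (Or.inr (Or.inr (Or.inl rfl)))
    · rw [← h4, show τ₀⁻¹ (τ₀ d) = d by simp]
      exact StdAlt.mem_four4.mpr (Or.inr (Or.inr (Or.inr rfl)))
  let e : four4 a b c d ≃ four4 a' b' c' d' :=
    { toFun := fun x => ⟨τ₀ x, hT x x.2⟩
      invFun := fun x => ⟨τ₀⁻¹ x, hT' x x.2⟩
      left_inv := fun x => Subtype.ext (by simp)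
      right_inv := fun x => Subtype.ext (by simp) }
  obtain ⟨τ, hτ, hτe⟩ := exists_sym_of_equiv hS hS' e
  refine ⟨τ, hτ, ?_, ?_, ?_, ?_⟩
  · rw [hτe a (StdAlt.mem_four4.mpr (Or.inl rfl))]; exact h1
  · rw [hτe b (StdAlt.mem_four4.mpr (Or.inr (Or.inl rfl)))]; exact h2
  · rw [hτe c (StdAlt.mem_four4.mpr (Or.inr (Or.inr (Or.inl rfl))))]; exact h3
  · rw [hτe d (StdAlt.mem_four4.mpr (Or.inr (Or.inr (Or.inr rfl))))]; exact h4

/-- **the pairs `(T, g)`, `1 ≠ g ∈ four T`, are conjugate under `alt S`** -/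
theorem exists_alt_conj {S T T' : Finset α} (hTS : T ⊆ S) (hTS' : T' ⊆ S) (hT : T.card = 4)
    (hT' : T'.card = 4) {g g' : Perm α} (hg : g ∈ four T) (hg1 : g ≠ 1) (hg' : g' ∈ four T')
    (hg1' : g' ≠ 1) : ∃ τ ∈ alt S, T.map τ.toEmbedding = T' ∧ τ * g * τ⁻¹ = g' := by
  -- choose coordinates with `g = (a b)(c d)`
  have coord : ∀ {T : Finset α} {g : Perm α}, T.card = 4 → g ∈ four T → g ≠ 1 →
      ∃ a b c d : α, [a, b, c, d].Nodup ∧ T = four4 a b c d ∧ g = swap a b * swap c d := by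
    intro T g hT hg hg1
    obtain ⟨a, b, c, d, hnd, rfl⟩ := exists_nodup hT
    obtain ⟨⟨m1, m2, m3⟩, ⟨m4, m5⟩, m6⟩ := StdAlt.PermTypes.of_nodup_four hnd
    rcases (V4_iff hnd).mpr ((mem_four hT).mp hg) with h | h | h | h
    · exact absurd h hg1
    · exact ⟨a, b, c, d, hnd, rfl, h⟩
    · refine ⟨a, c, b, d, StdAlt.PermTypes.nodup_four m2 m1 m3 (Ne.symm m4) m6 m5, ?_, h⟩
      ext t
      rw [StdAlt.mem_four4, StdAlt.mem_four4]
      tauto
    · refine ⟨a, d, b, c, StdAlt.PermTypes.nodup_four m3 m1 m2 (Ne.symm m5) (Ne.symm m6) m4, ?_, h⟩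
      ext t
      rw [StdAlt.mem_four4, StdAlt.mem_four4]
      tauto
  obtain ⟨a, b, c, d, hnd, rfl, rfl⟩ := coord hT hg hg1
  obtain ⟨a', b', c', d', hnd', rfl, rfl⟩ := coord hT' hg' hg1'
  obtain ⟨⟨m1, m2, m3⟩, ⟨m4, m5⟩, m6⟩ := StdAlt.PermTypes.of_nodup_four hnd
  obtain ⟨τ, hτ, e1, e2, e3, e4⟩ := exists_sym_four hnd hnd' hTS hTS'
  have main : ∀ {a b c d a' b' c' d' : α} {τ : Perm α}, τ a = a' → τ b = b' → τ c = c' → τ d = d' →
      (four4 a b c d).map τ.toEmbedding = four4 a' b' c' d' ∧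
        τ * (swap a b * swap c d) * τ⁻¹ = swap a' b' * swap c' d' := by
    intro a b c d a' b' c' d' τ e1 e2 e3 e4
    constructor
    · ext t
      rw [StdAlt.mem_four4]
      simp only [Finset.mem_map, Equiv.coe_toEmbedding, StdAlt.mem_four4]
      constructor
      · rintro ⟨s, rfl | rfl | rfl | rfl, rfl⟩
        · exact Or.inl e1
        · exact Or.inr (Or.inl e2)
        · exact Or.inr (Or.inr (Or.inl e3))
        · exact Or.inr (Or.inr (Or.inr e4))
      · rintro (rfl | rfl | rfl | rfl)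
        · exact ⟨_, Or.inl rfl, e1⟩
        · exact ⟨_, Or.inr (Or.inl rfl), e2⟩
        · exact ⟨_, Or.inr (Or.inr (Or.inl rfl)), e3⟩
        · exact ⟨_, Or.inr (Or.inr (Or.inr rfl)), e4⟩
    · calc τ * (swap a b * swap c d) * τ⁻¹ = (τ * swap a b * τ⁻¹) * (τ * swap c d * τ⁻¹) := by group
        _ = swap a' b' * swap c' d' := by
          rw [StdAlt.PermTypes.swap_conj, StdAlt.PermTypes.swap_conj, e1, e2, e3, e4]
  by_cases he : τ ∈ alternatingGroup α
  · exact ⟨τ, ⟨he, hτ⟩, (main e1 e2 e3 e4).1, (main e1 e2 e3 e4).2⟩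
  · -- replace `τ` by `τ * swap a b`
    have haS : a ∈ S := hTS (StdAlt.mem_four4.mpr (Or.inl rfl))
    have hbS : b ∈ S := hTS (StdAlt.mem_four4.mpr (Or.inr (Or.inl rfl)))
    have hev : τ * swap a b ∈ alternatingGroup α := by
      rw [mem_alternatingGroup, Perm.sign_mul, sign_swap m1]
      rcases Int.units_eq_one_or (sign τ) with h | h
      · exact absurd (mem_alternatingGroup.mpr h) he
      · rw [h]; decide
    have hsym : τ * swap a b ∈ sym S := by
      refine mul_mem hτ fun x hx => ?_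
      apply swap_apply_of_ne_of_ne
      · rintro rfl; exact hx haS
      · rintro rfl; exact hx hbS
    have f1 : (τ * swap a b) a = b' := by rw [Perm.mul_apply, swap_apply_left, e2]
    have f2 : (τ * swap a b) b = a' := by rw [Perm.mul_apply, swap_apply_right, e1]
    have f3 : (τ * swap a b) c = c' := by
      rw [Perm.mul_apply, swap_apply_of_ne_of_ne (Ne.symm m2) (Ne.symm m4), e3]
    have f4 : (τ * swap a b) d = d' := by
      rw [Perm.mul_apply, swap_apply_of_ne_of_ne (Ne.symm m3) (Ne.symm m5), e4]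
    obtain ⟨h1, h2⟩ := main f1 f2 f3 f4
    refine ⟨τ * swap a b, ⟨hev, hsym⟩, ?_, ?_⟩
    · rw [h1]
      ext t
      rw [StdAlt.mem_four4, StdAlt.mem_four4]
      tauto
    · rw [h2, swap_comm b' a']

namespace Mod

variable {K : Subgroup G} {S : Finset α} [Finite G] (M : Mod K S)

/-- 2-elements of `K` with conjugate labels are conjugate -/
theorem exists_conj {x y : G} (hx : x ∈ K) (hy : y ∈ K) {n m : ℕ} (hxn : x ^ 2 ^ n = 1)
    (hyn : y ^ 2 ^ m = 1) {τ : Perm α} (hτ : τ ∈ alt S) (h : τ * M.φ x * τ⁻¹ = M.φ y) :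
    ∃ k ∈ K, M.φ k = τ ∧ k * x * k⁻¹ = y := by
  obtain ⟨k, hk, rfl⟩ := M.lift τ hτ
  have h1 : (k * x * k⁻¹)⁻¹ * y ∈ core K := by
    rw [← M.eq_iff (mul_mem (mul_mem hk hx) (inv_mem hk)) hy,
      M.conj (le_normalizer hk) (le_normalizer hx), h]
  have h2 : (k * x * k⁻¹) ^ 2 ^ n = 1 := by
    rw [conj_pow, hxn, mul_one, mul_inv_cancel]
  obtain ⟨o, ho, h3⟩ := Lifting.exists_conj_eq (odd_card_core K) h2 hyn
    (le_normalizer_core K (mul_mem (mul_mem hk hx) (inv_mem hk))) h1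
  refine ⟨o * k, mul_mem (core_le K ho) hk, ?_, ?_⟩
  · rw [M.mul _ _ (le_normalizer (core_le K ho)) (le_normalizer hk),
      (M.core_iff o (core_le K ho)).mpr ho, one_mul]
  · rw [← h3]; group

/-- **the roots of `K` are `K`-conjugate** -/
theorem exists_conj_root {x y : G} (hx : x ∈ K) (hy : y ∈ K) (hxx : x * x = 1) (hyy : y * y = 1)
    (hrx : IsRoot (M.φ x)) (hry : IsRoot (M.φ y)) : ∃ k ∈ K, k * x * k⁻¹ = y := by
  have hsub : ∀ {z : G}, z ∈ K → (M.φ z).support ⊆ S := by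
    intro z hz t ht
    by_contra hcon
    exact mem_support.mp ht ((M.mem_alt z hz).2 t hcon)
  have hne : ∀ {g : Perm α}, IsRoot g → g ≠ 1 := by
    intro g hg h
    have := hg.2
    rw [h] at this
    simp at this
  obtain ⟨τ, hτ, -, h1⟩ := exists_alt_conj (hsub hx) (hsub hy) hrx.2 hry.2
    (mem_four_of_isRoot hrx (even_of_isRoot hrx)) (hne hrx)
    (mem_four_of_isRoot hry (even_of_isRoot hry)) (hne hry)
  obtain ⟨k, hk, -, h2⟩ := M.exists_conj (n := 1) (m := 1) hx hy (by rw [pow_one, pow_two]; exact hxx)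
    (by rw [pow_one, pow_two]; exact hyy) hτ h1
  exact ⟨k, hk, h2⟩

/-- the members of `K` with label in `T` -/
def above (T : Subgroup (Perm α)) : Subgroup G where
  carrier := {k | k ∈ K ∧ M.φ k ∈ T}
  mul_mem' {a b} ha hb := ⟨mul_mem ha.1 hb.1, by
    rw [M.mul _ _ (le_normalizer ha.1) (le_normalizer hb.1)]; exact mul_mem ha.2 hb.2⟩
  one_mem' := ⟨one_mem _, by rw [M.one]; exact one_mem _⟩
  inv_mem' {a} ha := ⟨inv_mem ha.1, by rw [M.inv (le_normalizer ha.1)]; exact inv_mem ha.2⟩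

/-- **2-subgroups of `K` with the same image are conjugate**, by an element of `K` centralizing `P` if both are
centralized by the group `P` -/
theorem exists_conj_two {V V' P : Subgroup G} (hV : V ≤ K) (hV' : V' ≤ K) (h2 : IsPGroup 2 V)
    (h2' : IsPGroup 2 V') (hP : ∀ p ∈ P, ∀ v ∈ V, p * v = v * p)
    (hP' : ∀ p ∈ P, ∀ v ∈ V', p * v = v * p) {T : Subgroup (Perm α)}
    (hT : ∀ σ ∈ T, ∃ v ∈ V, M.φ v = σ) (hT' : ∀ σ ∈ T, ∃ v ∈ V', M.φ v = σ)
    (hVT : ∀ v ∈ V, M.φ v ∈ T) (hVT' : ∀ v ∈ V', M.φ v ∈ T) :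
    ∃ k ∈ core K, (∀ p ∈ P, p * k = k * p) ∧ IntrinsicBasic.cj k V = V' := by
  -- work in `C`
  set C : Subgroup G := M.above T ⊓ centralizer (P : Set G) with hC
  have hVC : V ≤ C := fun v hv => ⟨⟨hV hv, hVT v hv⟩, fun p hp => hP p hp v hv⟩
  have hVC' : V' ≤ C := fun v hv => ⟨⟨hV' hv, hVT' v hv⟩, fun p hp => hP' p hp v hv⟩
  -- the index of `V'` in `C` is odd
  have hodd : ∀ {V : Subgroup G}, V ≤ K → V ≤ C → IsPGroup 2 V → (∀ σ ∈ T, ∃ v ∈ V, M.φ v = σ) →
      ¬ 2 ∣ (V.subgroupOf C).index := by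
    intro V hV hVC h2 hT
    set N : Subgroup C := (core K ⊓ C : Subgroup G).subgroupOf C with hN
    -- `C = V * N`
    have h1 : ∀ c ∈ C, ∃ v ∈ V, v⁻¹ * c ∈ core K := by
      intro c hc
      obtain ⟨v, hv, hvc⟩ := hT _ hc.1.2
      exact ⟨v, hv, (M.eq_iff (hV hv) hc.1.1).mp hvc⟩
    have hn : N.Normal := by
      refine normal_subgroupOf_of_le_normalizer fun c hc => ?_
      rw [mem_normalizer_iff]
      intro y
      have h4 := mem_normalizer_iff.mp (le_normalizer_core K hc.1.1) y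
      have h5 := mem_normalizer_iff.mp (le_normalizer (H := C) hc) y
      exact ⟨fun h => ⟨h4.mp h.1, h5.mp h.2⟩, fun h => ⟨h4.mpr h.1, h5.mpr h.2⟩⟩
    have htop : V.subgroupOf C ⊔ N = ⊤ := by
      rw [eq_top_iff]
      rintro ⟨c, hc⟩ -
      obtain ⟨v, hv, hvc⟩ := h1 c hc
      have hvC : v⁻¹ * c ∈ C := C.mul_mem (C.inv_mem (hVC hv)) hc
      have h4 : (⟨c, hc⟩ : ↥C) = ⟨v, hVC hv⟩ * ⟨v⁻¹ * c, hvC⟩ :=
        Subtype.ext (by simp)
      rw [h4]
      exact mul_mem (mem_sup_left hv) (mem_sup_right ⟨hvc, hvC⟩)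
    have hNodd : Odd (Nat.card N) := by
      rw [Nat.card_congr (subgroupOfEquivOfLe (inf_le_right : core K ⊓ C ≤ C)).toEquiv]
      exact Odd.of_dvd_nat (odd_card_core K) (Subgroup.card_dvd_of_le inf_le_left)
    have hdisj : N ⊓ V.subgroupOf C = ⊥ := by
      rw [eq_bot_iff]
      rintro y ⟨hy1, hy2⟩
      obtain ⟨n, hn⟩ := h2 ⟨(y : G), hy2⟩
      have h5 := eq_one_of_mem_core hy1.1 (congrArg Subtype.val hn)
      exact mem_bot.mpr (Subtype.ext h5)
    have h6 : N.index = Nat.card (V.subgroupOf C) := by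
      rw [← Subgroup.relIndex_top_right N, ← htop, Subgroup.relIndex_sup_right,
        ← Subgroup.inf_relIndex_right, hdisj, Subgroup.relIndex_bot_left]
    have h7 := (V.subgroupOf C).card_mul_index
    have h8 := N.card_mul_index
    rw [h6, ← h7, mul_comm] at h8
    have h9 : 0 < Nat.card (V.subgroupOf C) := Nat.card_pos
    have h10 := Nat.eq_of_mul_eq_mul_left h9 h8
    intro h11
    rw [← h10] at h11
    exact (Nat.not_even_iff_odd.mpr hNodd) (even_iff_two_dvd.mpr h11)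
  have hp2 : Fact (Nat.Prime 2) := ⟨Nat.prime_two⟩
  have hp : ∀ {V : Subgroup G}, V ≤ C → IsPGroup 2 V → IsPGroup 2 (V.subgroupOf C) :=
    fun hVC h => h.comap_subtype
  let Q : Sylow 2 C := (hp hVC h2).toSylow (hodd hV hVC h2 hT)
  let Q' : Sylow 2 C := (hp hVC' h2').toSylow (hodd hV' hVC' h2' hT')
  obtain ⟨c, hc⟩ := MulAction.exists_smul_eq C Q Q'
  obtain ⟨v, hv, hvc⟩ := hT _ c.2.1.2
  -- `c = v * k`; use `k' = c * v⁻¹`
  have hk : (c : G) * v⁻¹ ∈ core K := by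
    rw [← M.core_iff _ (mul_mem c.2.1.1 (inv_mem (hV hv))),
      M.mul _ _ (le_normalizer c.2.1.1) (inv_mem (le_normalizer (hV hv))),
      M.inv (le_normalizer (hV hv)), hvc, mul_inv_cancel]
  refine ⟨c * v⁻¹, hk, fun p hp => ?_, ?_⟩
  · have h3 : p * (c : G) = c * p := (c.2.2 p hp)
    have h4 : p * v = v * p := hP p hp v hv
    have h5 : p * v⁻¹ = v⁻¹ * p := by
      rw [eq_inv_mul_iff_mul_eq, ← mul_assoc, ← h4, mul_inv_cancel_right]
    rw [← mul_assoc, h3, mul_assoc, h5, mul_assoc]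
  · have h3 : (c • Q : Sylow 2 C) = Q' := hc
    have h4 : ((c • Q : Sylow 2 C) : Subgroup C) = V'.subgroupOf C := by rw [h3]; rfl
    rw [Sylow.coe_subgroup_smul] at h4
    ext y
    rw [mem_cj]
    constructor
    · intro hy
      have hvy : v⁻¹ * ((c * v⁻¹)⁻¹ * y * (c * v⁻¹)) * v ∈ V :=
        mul_mem (mul_mem (inv_mem hv) hy) hv
      have e1 : v⁻¹ * (((c : G) * v⁻¹)⁻¹ * y * (c * v⁻¹)) * v = (c : G)⁻¹ * y * c := by group
      rw [e1] at hvy
      have hyC : y ∈ C := by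
        have := mul_mem (mul_mem c.2 (hVC hvy)) (inv_mem c.2)
        convert this using 1
        group
      have h5 : (⟨y, hyC⟩ : ↥C) ∈ (MulAut.conj c) • (Q : Subgroup C) := by
        rw [Subgroup.mem_pointwise_smul_iff_inv_smul_mem]
        show (((MulAut.conj c)⁻¹ • (⟨y, hyC⟩ : ↥C) : ↥C) : G) ∈ V
        rw [← map_inv]
        show ((c⁻¹ * ⟨y, hyC⟩ * c⁻¹⁻¹ : ↥C) : G) ∈ V
        rw [inv_inv]
        exact hvy
      rw [h4] at h5
      exact h5
    · intro hy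
      have h5 : (⟨y, hVC' hy⟩ : ↥C) ∈ V'.subgroupOf C := hy
      rw [← h4, Subgroup.mem_pointwise_smul_iff_inv_smul_mem] at h5
      have h6 : (c : G)⁻¹ * y * c ∈ V := by
        rw [← map_inv] at h5
        have h7 : ((c⁻¹ * ⟨y, hVC' hy⟩ * c⁻¹⁻¹ : ↥C) : G) ∈ V := h5
        rw [inv_inv] at h7
        exact h7
      have h7 := mul_mem (mul_mem hv h6) (inv_mem hv)
      convert h7 using 1
      group

end Mod

end Cfsg.Agent.UAlt
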