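import Cfsg.Agent.UAlt.Bij
import Cfsg.Agent.UGT.PumpGen

/-!
# Unbalancing triples of alternating type: the frame

* `AltType K m`: `K / O(K) ≅ Alt(m)`.
* `Hyp G n`: the hypotheses on the ambient group (minimal counterexample, `n` the maximal degree).
* `RF M V S`: `V ≤ L` is a root four-group with support `S` (`M` a labelling of `L`).
* `KD M a X v K Mv`: `K` is the 2-component of `C(v)` containing `C_L(v)^∞`, labelled by `Fix(v) ∪ X`.
* `CaseN`, `CaseD`: the two cases for the roots of `L`.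
* `PK M`: the package for the closing argument.
-/

set_option autoImplicit false
set_option linter.unusedSectionVars false

open Cfsg Equiv Equiv.Perm Subgroup
open Cfsg.Agent.Intrinsic.Basic Cfsg.Agent.Intrinsic.Diag
open Cfsg.Agent.SignalizersComponents Cfsg.Agent.Lib
open Cfsg.Agent.SignalizersComponents.IntrinsicBasic
open Cfsg.Agent.UGT.Triple
open Cfsg.Agent.StdAlt.Roots (IsRoot)
open scoped commutatorElement

namespace Cfsg.Agent.UAlt

section defs

variable {G : Type*} [Group G]

/-- `K / O(K)` is the alternating group of degree `m` -/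
def AltType (K : Subgroup G) (m : ℕ) : Prop :=
  Nonempty ((↥K ⧸ oddCore ↥K) ≃* alternatingGroup (Fin m))

/-- Hypotheses on the ambient group: `n` is the maximal degree of a triple of alternating type, there are no
triples of higher type. -/
structure Hyp (G : Type*) [Group G] [Finite G] (n : ℕ) : Prop where
  odd : Odd n
  h13 : 13 ≤ n
  /-- the 2-component of a triple is not a proper cover of an alternating group -/
  simple : ∀ {x f : G} {J : Subgroup G}, IsTriple x f J → ∀ {k : ℕ}, 9 ≤ k →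
    ∀ (g : (↥J ⧸ oddCore ↥J) →* alternatingGroup (Fin k)), Function.Surjective g →
      g.ker ≤ center (↥J ⧸ oddCore ↥J) → AltType J k
  /-- the 2-component of a triple is alternating of degree at most `n` if the centralizer of some involution has an
  alternating 2-component of degree at least nine on it -/
  big : ∀ {x f : G} {J : Subgroup G}, IsTriple x f J → ∀ {t : G}, t ∈ normalizer (J : Set G) →
    t * t = 1 → ∀ {E : Subgroup G}, IsComp (J ⊓ centralizer ({t} : Set G)) E → ∀ {k : ℕ}, 9 ≤ k →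
      AltType E k → ∃ m, Odd m ∧ 7 ≤ m ∧ m ≤ n ∧ AltType J m
  /-- the remaining types (`L2(q)`, `L3(4)`, `He`): if `C_J(t)` has an alternating 2-component `E`, `x` and the
  four-group `U` are trivial on `E`, then some member of `U` is trivial on `J` -/
  small : ∀ {x f : G} {J : Subgroup G}, IsTriple x f J → (∃ m, 7 ≤ m ∧ AltType J m) ∨
    ∀ {t : G}, t ∈ centralizer ({f} : Set G) → t ∈ normalizer (J : Set G) → t * t = 1 →
      ∀ {E : Subgroup G}, IsComp (J ⊓ centralizer ({t} : Set G)) E → ∀ {k : ℕ}, 5 ≤ k → AltType E k →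
        Fixes x E → ∀ {U : Subgroup G}, U ≤ centralizer ({f} : Set G) → (∀ u ∈ U, u * u = 1) →
          Nat.card U = 4 → (∀ u ∈ U, u ∈ normalizer (J : Set G) ∧ u * t = t * u ∧ u * x = x * u ∧ Fixes u E) →
            ∃ u ∈ U, u ≠ 1 ∧ Fixes u J

variable {α : Type*} [Fintype α] [DecidableEq α] {L : Subgroup G} {Ω : Finset α}

/-- `V ≤ L` is a root four-group with support `S` -/
structure RF (M : Mod L Ω) (V : Subgroup G) (S : Finset α) : Prop where
  le : V ≤ L
  sub : S ⊆ Ω
  card : S.card = 4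
  sq : ∀ v ∈ V, v * v = 1
  mem : ∀ v ∈ V, M.φ v ∈ alt S
  lift : ∀ σ ∈ alt S, σ * σ = 1 → ∃ v ∈ V, M.φ v = σ

/-- elementwise commuting subgroups -/
def Cm (A B : Subgroup G) : Prop := ∀ a ∈ A, ∀ b ∈ B, a * b = b * a

/-- `v` is a root of `L` -/
def Mod.Rt (M : Mod L Ω) (v : G) : Prop := v ∈ L ∧ v * v = 1 ∧ IsRoot (M.φ v)

/-- `K` is the 2-component of `C(v)` containing `C_L(v)^∞`, it is `a`-invariant and labelled by `Fix(v) ∪ X` -/
structure KD (M : Mod L Ω) (a : G) (X : Finset α) (v : G) (K : Subgroup G)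
    (Mv : Mod K (fixIn Ω (M.φ v) ∪ X)) : Prop where
  comp : IsComp (centralizer ({v} : Set G)) K
  norm : a ∈ normalizer (K : Set G)
  le : M.cmp v ≤ K
  agree : ∀ y ∈ M.cmp v, Mv.φ y = M.φ y
  fixa : fixIn (fixIn Ω (M.φ v) ∪ X) (Mv.φ a) = fixIn Ω (M.φ v)

/-- Case N -/
structure CaseN (M : Mod L Ω) (a : G) (X : Finset α) : Prop where
  disj : Disjoint Ω X
  card : X.card = 0 ∨ X.card = 2 ∨ X.card = 4
  ex : ∀ v, M.Rt v → ∃ K, ∃ Mv : Mod K (fixIn Ω (M.φ v) ∪ X), KD M a X v K Mv

/-- Case D -/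
def CaseD (M : Mod L Ω) (a : G) : Prop :=
  ∀ v, M.Rt v → ∃ K, IsComp (centralizer ({v} : Set G)) K ∧ cj a K ≠ K ∧
    M.cmp v = diag (centralizer ({v} : Set G)) K a

/-- the package for the closing argument: `B / O(B) ≅ Alt(m)` -/
structure PK {B : Subgroup G} {Γ : Finset α} (M : Mod B Γ) : Prop where
  odd : Odd Γ.card
  h13 : 13 ≤ Γ.card
  cent : ∀ u, M.Rt u → centralizer ({u} : Set G) ≤ normalizer (B : Set G)
  core : ∀ u, M.Rt u → core B ⊓ centralizer ({u} : Set G) = core (centralizer ({u} : Set G))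
  comp : ∀ u, M.Rt u → IsComp (centralizer ({u} : Set G)) (M.cmp u)

end defs

section basic

variable {G : Type*} [Group G] {α : Type*} [Fintype α] [DecidableEq α]

theorem AltType.mod [Finite G] {K : Subgroup G} {S : Finset α} (h : AltType K S.card) (h7 : 7 ≤ S.card) :
    Nonempty (Mod K S) := by
  obtain ⟨e⟩ := h
  exact Mod.nonempty_of_equiv h7 (Ω := Fin S.card) (Fintype.card_fin _) e

theorem AltType.mod_of_card [Finite G] {K : Subgroup G} {m : ℕ} (h : AltType K m) {S : Finset α}
    (hS : S.card = m) (h7 : 7 ≤ m) : Nonempty (Mod K S) := by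
  subst hS
  exact h.mod h7

theorem Mod.altType {K : Subgroup G} {S : Finset α} (M : Mod K S) : AltType K S.card := by
  refine ⟨M.quotEquiv.trans ?_⟩
  exact Equiv.altCongrHom (S.equivFin)

theorem Mod.altType_of_card {K : Subgroup G} {S : Finset α} (M : Mod K S) {m : ℕ} (h : S.card = m) :
    AltType K m := h ▸ M.altType

theorem AltType.congr {K K' : Subgroup G} {m : ℕ} (h : AltType K m)
    (e : (↥K ⧸ oddCore ↥K) ≃* (↥K' ⧸ oddCore ↥K')) : AltType K' m := by
  obtain ⟨f⟩ := h
  exact ⟨e.symm.trans f⟩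

theorem AltType.card {K : Subgroup G} {m : ℕ} (h : AltType K m) (h2 : 2 ≤ m) :
    2 * Nat.card (↥K ⧸ oddCore ↥K) = m.factorial := by
  obtain ⟨e⟩ := h
  have : Nontrivial (Fin m) := Fin.nontrivial_iff_two_le.mpr h2
  have h3 := two_mul_nat_card_alternatingGroup (α := Fin m)
  rw [Nat.card_congr e.toEquiv, h3, Nat.card_perm, Nat.card_eq_fintype_card, Fintype.card_fin]

theorem AltType.unique {K : Subgroup G} {m m' : ℕ} (h : AltType K m) (h' : AltType K m') (h2 : 2 ≤ m)
    (h2' : 2 ≤ m') : m = m' := by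
  have h3 := h.card h2
  rw [h'.card h2'] at h3
  exact (Nat.factorial_inj (by omega)).mp h3.symm

theorem AltType.cj {K : Subgroup G} {m : ℕ} (h : AltType K m) (g : G) :
    AltType (IntrinsicBasic.cj g K) m := h.congr (cjQuot g K)

end basic

end Cfsg.Agent.UAlt
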