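import Cfsg.Agent.UAlt.AltOn
import Cfsg.Agent.StdAlt.PermRoot
import Cfsg.Agent.StdAlt.Closing

/-!
# Root four-groups

`four T` (`|T| = 4`): the four-group regular on the four points of `T` and trivial elsewhere.
-/

set_option autoImplicit false
set_option linter.unusedSectionVars false

namespace Cfsg.Agent.UAlt

open Equiv Equiv.Perm Subgroup
open Cfsg.Agent.StdAlt.PermTypes (cyc)
open Cfsg.Agent.StdAlt.Roots (IsRoot)
open Cfsg.Agent.StdAlt (V4 Mv four4)

variable {α : Type*} [Fintype α] [DecidableEq α]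

/-- the regular four-group on `T`, `|T| = 4` -/
def four (T : Finset α) : Subgroup (Perm α) := closure {g | g ∈ alt T ∧ g * g = 1}

theorem exists_nodup {T : Finset α} (hT : T.card = 4) :
    ∃ a b c d : α, [a, b, c, d].Nodup ∧ T = four4 a b c d := by
  obtain ⟨a, b, c, d, h1, h2, h3, h4, h5, h6, rfl⟩ := Finset.card_eq_four.mp hT
  exact ⟨a, b, c, d, StdAlt.PermTypes.nodup_four h1 h2 h3 h4 h5 h6, rfl⟩

theorem V4_iff {a b c d : α} (h : [a, b, c, d].Nodup) {g : Perm α} :
    V4 a b c d g ↔ g ∈ alt (four4 a b c d) ∧ g * g = 1 := by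
  constructor
  · intro hv
    exact ⟨⟨hv.even h, fun x hx => hv.fix hx⟩, hv.sq h⟩
  · rintro ⟨⟨h1, h2⟩, h3⟩
    exact StdAlt.PermRoot.V4_of_even h h2 h1 h3

theorem V4_comm {a b c d : α} (h : [a, b, c, d].Nodup) {v w : Perm α} (hv : V4 a b c d v)
    (hw : V4 a b c d w) : v * w = w * v := by
  obtain ⟨h1, h2⟩ := hv.comm h
  rcases hw with rfl | rfl | rfl | rfl
  · rw [mul_one, one_mul]
  · exact h1
  · exact h2
  · rw [← StdAlt.d1_mul_d2 h, ← mul_assoc, h1, mul_assoc, h2, ← mul_assoc]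

theorem mem_four {T : Finset α} (hT : T.card = 4) {g : Perm α} :
    g ∈ four T ↔ g ∈ alt T ∧ g * g = 1 := by
  obtain ⟨a, b, c, d, hnd, rfl⟩ := exists_nodup hT
  refine ⟨fun hg => ?_, fun hg => subset_closure hg⟩
  have hcl : ∀ g ∈ four (four4 a b c d), V4 a b c d g := by
    intro g hg
    refine closure_induction (fun x hx => (V4_iff hnd).mpr hx) (Or.inl rfl) ?_ ?_ hg
    · intro x y _ _ hx hy
      rw [V4_iff hnd] at hx hy ⊢
      refine ⟨mul_mem hx.1 hy.1, ?_⟩
      have hxy := V4_comm hnd ((V4_iff hnd).mpr hx) ((V4_iff hnd).mpr hy)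
      rw [mul_assoc, ← mul_assoc y, ← hxy, mul_assoc x, hy.2, mul_one, hx.2]
    · intro x _ hx
      rw [V4_iff hnd] at hx ⊢
      refine ⟨inv_mem hx.1, ?_⟩
      rw [← mul_inv_rev, hx.2, inv_one]
  exact (V4_iff hnd).mp (hcl g hg)

theorem four_le_alt {T : Finset α} (hT : T.card = 4) : four T ≤ alt T :=
  fun _ hg => ((mem_four hT).mp hg).1

theorem four_sq {T : Finset α} (hT : T.card = 4) {g : Perm α} (hg : g ∈ four T) : g * g = 1 :=
  ((mem_four hT).mp hg).2

theorem four_comm {T : Finset α} (hT : T.card = 4) {g h : Perm α} (hg : g ∈ four T)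
    (hh : h ∈ four T) : g * h = h * g := by
  obtain ⟨a, b, c, d, hnd, rfl⟩ := exists_nodup hT
  exact V4_comm hnd ((V4_iff hnd).mpr ((mem_four hT).mp hg)) ((V4_iff hnd).mpr ((mem_four hT).mp hh))

theorem isPGroup_four {T : Finset α} (hT : T.card = 4) : IsPGroup 2 (four T) := by
  rintro ⟨g, hg⟩
  refine ⟨1, Subtype.ext ?_⟩
  change g ^ 2 ^ 1 = 1
  rw [pow_one, pow_two]
  exact four_sq hT hg

/-- `four T` is transitive on `T` -/
theorem exists_four_apply {T : Finset α} (hT : T.card = 4) {x y : α} (hx : x ∈ T) (hy : y ∈ T) :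
    ∃ g ∈ four T, g x = y := by
  obtain ⟨a, b, c, d, hnd, rfl⟩ := exists_nodup hT
  obtain ⟨v, hv, hva, hvx⟩ := StdAlt.exists_V4 hnd hx
  obtain ⟨w, hw, hwa, hwy⟩ := StdAlt.exists_V4 hnd hy
  exact ⟨w * v, mul_mem ((mem_four hT).mpr ((V4_iff hnd).mp hw))
    ((mem_four hT).mpr ((V4_iff hnd).mp hv)), by rw [Perm.mul_apply, hvx, hwa]⟩

/-- `four T` is semiregular on `T` -/
theorem eq_one_of_four_fix {T : Finset α} (hT : T.card = 4) {g : Perm α} (hg : g ∈ four T) {x : α}
    (hx : x ∈ T) (hgx : g x = x) : g = 1 := by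
  have hgg := four_sq hT hg
  ext y
  by_cases hy : y ∈ T
  · obtain ⟨h, hh, rfl⟩ := exists_four_apply hT hx hy
    rw [← Perm.mul_apply, four_comm hT hg hh, Perm.mul_apply, hgx]; rfl
  · exact (four_le_alt hT hg).2 y hy

theorem four_apply_ne {T : Finset α} (hT : T.card = 4) {g : Perm α} (hg : g ∈ four T) (h1 : g ≠ 1)
    {x : α} (hx : x ∈ T) : g x ≠ x := fun h => h1 (eq_one_of_four_fix hT hg hx h)

theorem support_of_mem_four {T : Finset α} (hT : T.card = 4) {g : Perm α} (hg : g ∈ four T)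
    (h1 : g ≠ 1) : g.support = T := by
  ext x
  rw [mem_support]
  constructor
  · intro h
    by_contra hx
    exact h ((four_le_alt hT hg).2 x hx)
  · exact fun hx => four_apply_ne hT hg h1 hx

/-- the involutions of `four T` are roots -/
theorem isRoot_of_mem_four {T : Finset α} (hT : T.card = 4) {g : Perm α} (hg : g ∈ four T)
    (h1 : g ≠ 1) : IsRoot g := ⟨four_sq hT hg, by rw [support_of_mem_four hT hg h1, hT]⟩

/-- every root `u` lies in `four (supp u)` -/
theorem mem_four_of_isRoot {u : Perm α} (hu : IsRoot u) (he : u ∈ alternatingGroup α) :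
    u ∈ four u.support := by
  rw [mem_four hu.2]
  exact ⟨⟨he, fun x hx => notMem_support.mp hx⟩, hu.1⟩

/-- a permutation `σ` with `σ² = 1` and support of four points is even -/
theorem even_of_isRoot {u : Perm α} (hu : IsRoot u) : u ∈ alternatingGroup α := by
  rw [mem_alternatingGroup]
  have h1 := hu.cycleType
  rw [sign_of_cycleType, h1]
  decide

theorem conj_mem_four {T : Finset α} (hT : T.card = 4) {τ : Perm α} (hτ : ∀ x, τ x ∈ T ↔ x ∈ T)
    {g : Perm α} (hg : g ∈ four T) : τ * g * τ⁻¹ ∈ four T := by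
  rw [mem_four hT] at hg ⊢
  refine ⟨conj_mem_alt hτ hg.1, ?_⟩
  rw [show τ * g * τ⁻¹ * (τ * g * τ⁻¹) = τ * (g * g) * τ⁻¹ by group, hg.2]; group

/-- conjugates of root four-groups -/
theorem conj_four {T : Finset α} (hT : T.card = 4) (τ : Perm α) {g : Perm α} :
    τ * g * τ⁻¹ ∈ four (T.map τ.toEmbedding) ↔ g ∈ four T := by
  have hT' : (T.map τ.toEmbedding).card = 4 := by rw [Finset.card_map, hT]
  rw [mem_four hT, mem_four hT']
  have h1 : τ * g * τ⁻¹ * (τ * g * τ⁻¹) = 1 ↔ g * g = 1 := by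
    rw [show τ * g * τ⁻¹ * (τ * g * τ⁻¹) = τ * (g * g) * τ⁻¹ by group, mul_inv_eq_one, mul_eq_left]
  have h2 : (τ * g * τ⁻¹ ∈ alternatingGroup α ↔ g ∈ alternatingGroup α) := by
    constructor
    · intro h
      have := (inferInstance : (alternatingGroup α).Normal).conj_mem _ h τ⁻¹
      convert this using 1; group
    · intro h
      exact (inferInstance : (alternatingGroup α).Normal).conj_mem _ h τ
  rw [h1, mem_alt, mem_alt, h2]
  refine and_congr_left fun _ => and_congr_right fun _ => ?_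
  constructor
  · intro h x hx
    have h3 : τ x ∉ T.map τ.toEmbedding := by
      intro h4
      obtain ⟨y, hy, h5⟩ := Finset.mem_map.mp h4
      rw [τ.injective h5] at hy
      exact hx hy
    have h4 := h _ h3
    rw [Perm.mul_apply, Perm.mul_apply, show τ⁻¹ (τ x) = x by simp] at h4
    exact τ.injective h4
  · intro h x hx
    have h3 : τ⁻¹ x ∉ T := fun h4 => hx (Finset.mem_map.mpr ⟨_, h4, by simp⟩)
    rw [Perm.mul_apply, Perm.mul_apply, h _ h3]
    simp

/-- a permutation commuting with two different involutions of `four T` preserves `T` and acts on it as a member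
of `four T` -/
theorem exists_four_of_comm {T : Finset α} (hT : T.card = 4) {g : Perm α}
    (hc : ∀ v ∈ four T, g * v = v * g) (hgT : ∀ x, g x ∈ T ↔ x ∈ T) :
    ∃ v ∈ four T, ∀ x ∈ T, g x = v x := by
  obtain ⟨x₀, hx₀⟩ : T.Nonempty := Finset.card_pos.mp (by omega)
  obtain ⟨v, hv, hvx⟩ := exists_four_apply hT hx₀ ((hgT x₀).mpr hx₀)
  refine ⟨v, hv, fun x hx => ?_⟩
  obtain ⟨w, hw, rfl⟩ := exists_four_apply hT hx₀ hx
  rw [← Perm.mul_apply, hc w hw, Perm.mul_apply, ← hvx, ← Perm.mul_apply, four_comm hT hw hv,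
    Perm.mul_apply]

/-- a permutation commuting with `v ∈ four T`, `v ≠ 1`, preserves `T` -/
theorem mem_iff_of_comm {T : Finset α} (hT : T.card = 4) {g v : Perm α} (hv : v ∈ four T)
    (h1 : v ≠ 1) (hc : g * v = v * g) (x : α) : g x ∈ T ↔ x ∈ T := by
  rw [← support_of_mem_four hT hv h1, mem_support, mem_support, ← Perm.mul_apply, ← hc,
    Perm.mul_apply]
  exact not_congr (g.injective.eq_iff)

theorem exists_four_ne {T : Finset α} (hT : T.card = 4) : ∃ v ∈ four T, v ≠ 1 := by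
  obtain ⟨x₀, hx₀, y, hy, hne⟩ := Finset.one_lt_card.mp (show 1 < T.card by omega)
  obtain ⟨v, hv, hvx⟩ := exists_four_apply hT hx₀ hy
  refine ⟨v, hv, fun h => hne ?_⟩
  rw [← hvx, h]; rfl

theorem exists_four_ne_ne {T : Finset α} (hT : T.card = 4) (u : Perm α) :
    ∃ v ∈ four T, v ≠ 1 ∧ v ≠ u := by
  obtain ⟨x₀, hx₀⟩ : T.Nonempty := Finset.card_pos.mp (by omega)
  obtain ⟨y, hy, hyn⟩ : ∃ y ∈ T, y ∉ ({x₀, u x₀} : Finset α) := by
    by_contra hcon
    push Not at hcon
    have h1 := Finset.card_le_card (show T ⊆ {x₀, u x₀} from hcon)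
    have h2 := Finset.card_le_two (a := x₀) (b := u x₀)
    omega
  simp only [Finset.mem_insert, Finset.mem_singleton, not_or] at hyn
  obtain ⟨v, hv, hvx⟩ := exists_four_apply hT hx₀ hy
  refine ⟨v, hv, fun h => hyn.1 ?_, fun h => hyn.2 ?_⟩
  · rw [← hvx, h]; rfl
  · rw [← hvx, h]

/-- the four-groups of `sym T` which are transitive on `T` and consist of permutations of order at most two -/
theorem eq_four {T : Finset α} (hT : T.card = 4) {V : Subgroup (Perm α)} (hV : V ≤ sym T)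
    (h2 : ∀ v ∈ V, v * v = 1) (htr : ∀ x ∈ T, ∀ y ∈ T, ∃ v ∈ V, v x = y) : V = four T := by
  have hcomm : ∀ v ∈ V, ∀ w ∈ V, v * w = w * v := by
    intro v hv w hw
    have h3 := h2 _ (mul_mem hv hw)
    have h4 : w⁻¹ = w := inv_eq_of_mul_eq_one_left (h2 w hw)
    have h5 : v⁻¹ = v := inv_eq_of_mul_eq_one_left (h2 v hv)
    have h6 : (v * w)⁻¹ = v * w := inv_eq_of_mul_eq_one_left h3
    rw [← h6, mul_inv_rev, h4, h5]
  have hfix : ∀ v ∈ V, ∀ x ∈ T, v x = x → v = 1 := by
    intro v hv x hx hvx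
    ext y
    by_cases hy : y ∈ T
    · obtain ⟨w, hw, rfl⟩ := htr x hx y hy
      rw [← Perm.mul_apply, hcomm v hv w hw, Perm.mul_apply, hvx]; rfl
    · exact hV hv y hy
  have hle : V ≤ four T := by
    intro v hv
    by_cases h1 : v = 1
    · rw [h1]; exact one_mem _
    have hs : v.support = T := by
      ext x
      rw [mem_support]
      constructor
      · intro h
        by_contra hx
        exact h (hV hv x hx)
      · exact fun hx h => h1 (hfix v hv x hx h)
    have := mem_four_of_isRoot ⟨h2 v hv, by rw [hs, hT]⟩ (even_of_isRoot ⟨h2 v hv, by rw [hs, hT]⟩)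
    rwa [hs] at this
  apply le_antisymm hle
  intro g hg
  obtain ⟨x₀, hx₀⟩ : T.Nonempty := Finset.card_pos.mp (by omega)
  obtain ⟨v, hv, hvx⟩ := htr x₀ hx₀ (g x₀) (mem_of_mem_sym (alt_le_sym _ (four_le_alt hT hg)) hx₀)
  have h1 : v⁻¹ * g = 1 := by
    refine eq_one_of_four_fix hT (mul_mem (inv_mem (hle hv)) hg) hx₀ ?_
    rw [Perm.mul_apply, ← hvx]
    simp
  rw [← inv_mul_eq_one.mp h1]
  exact hv

/-- **every `σ` with `σ² = 1` commutes with some `four T`** -/
theorem exists_four_comm {S : Finset α} (h6 : 6 ≤ S.card) {σ : Perm α} (hS : σ ∈ sym S)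
    (hσ : σ * σ = 1) : ∃ T ⊆ S, T.card = 4 ∧ ∀ v ∈ four T, σ * v = v * σ := by
  obtain ⟨σ', hσ'⟩ := (symEquiv S).surjective ⟨σ, hS⟩
  have h1 : ofSubtype σ' = σ := by rw [← symEquiv_coe, hσ']
  have h2 : σ' * σ' = 1 := by
    apply ofSubtype_injective (p := fun x => x ∈ S)
    rw [map_mul, h1, hσ, map_one]
  obtain ⟨x, y, z, w, hxy, hxz, hxw, hyz, hyw, hzw, hc1, hc2⟩ :=
    StdAlt.Closing.exists_four (by rw [Fintype.card_coe]; exact h6) h2
  have hne : ∀ {p q : S}, p ≠ q → (p : α) ≠ q := fun h h' => h (Subtype.ext h')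
  have hnd : [(x : α), (y : α), (z : α), (w : α)].Nodup :=
    StdAlt.PermTypes.nodup_four (hne hxy) (hne hxz) (hne hxw) (hne hyz) (hne hyw) (hne hzw)
  have hT : (four4 (x : α) y z w).card = 4 := by
    obtain ⟨⟨m1, m2, m3⟩, ⟨m4, m5⟩, m6⟩ := StdAlt.PermTypes.of_nodup_four hnd
    unfold StdAlt.four4
    rw [Finset.card_insert_of_notMem, Finset.card_insert_of_notMem,
      Finset.card_insert_of_notMem, Finset.card_singleton]
    · rw [Finset.mem_singleton]; exact m6
    · simp only [Finset.mem_insert, Finset.mem_singleton, not_or]; exact ⟨m4, m5⟩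
    · simp only [Finset.mem_insert, Finset.mem_singleton, not_or]; exact ⟨m1, m2, m3⟩
  have hd1 : σ * (swap (x : α) y * swap (z : α) w) = (swap (x : α) y * swap (z : α) w) * σ := by
    have := congrArg (ofSubtype (p := fun x => x ∈ S)) hc1
    rwa [map_mul, map_mul, map_mul, map_mul, h1, ofSubtype_swap_eq, ofSubtype_swap_eq] at this
  have hd2 : σ * (swap (x : α) z * swap (y : α) w) = (swap (x : α) z * swap (y : α) w) * σ := by
    have := congrArg (ofSubtype (p := fun x => x ∈ S)) hc2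
    rwa [map_mul, map_mul, map_mul, map_mul, h1, ofSubtype_swap_eq, ofSubtype_swap_eq] at this
  refine ⟨four4 (x : α) y z w, ?_, hT, fun v hv => ?_⟩
  · intro t ht
    rcases StdAlt.mem_four4.mp ht with rfl | rfl | rfl | rfl
    · exact x.2
    · exact y.2
    · exact z.2
    · exact w.2
  · rcases (V4_iff hnd).mpr ((mem_four hT).mp hv) with rfl | rfl | rfl | rfl
    · rw [mul_one, one_mul]
    · exact hd1
    · exact hd2
    · rw [← StdAlt.d1_mul_d2 hnd, ← mul_assoc, hd1, mul_assoc, hd2, ← mul_assoc]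

end Cfsg.Agent.UAlt
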