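import Cfsg.Agent.UAlt.Bij
import Cfsg.Agent.UGT.PumpGen

/-!
# Roots and root four-groups of an alternating 2-component

`Root M T v`: `v ∈ L` is an involution with label a product of two disjoint transpositions with support `T`.
`RootV M T V`: `V ≤ L` is a four-group with label the regular four-group on `T`.

* `Mod.exists_fix_lift`, `Mod.exists_group_lift`: lifting of 2-groups commuting with a 2-group.
* `exists_rootV`: root four-groups commuting with a 2-group.
* `Mod.exists_extend`: labelling of `K` from a labelling of `E`, `E ⊔ core K = K`.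
-/

set_option autoImplicit false
set_option linter.unusedSectionVars false
set_option linter.style.haveILetI false

namespace Cfsg.Agent.UAlt

open Cfsg Equiv Equiv.Perm Subgroup
open Cfsg.Agent.Intrinsic.Basic Cfsg.Agent.Intrinsic Cfsg.Agent.Intrinsic.Cen
open Cfsg.Agent.SignalizersComponents Cfsg.Agent.Lib
open Cfsg.Agent.SignalizersComponents.IntrinsicBasic
open Cfsg.Agent.StdAlt (V4 four4 mem_four4)
open scoped commutatorElement

variable {G : Type*} [Group G] {α : Type*} [Fintype α] [DecidableEq α]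
  {L : Subgroup G} {S T : Finset α}

/-- `v ∈ L` is a root with support `T` -/
structure Root (M : Mod L S) (T : Finset α) (v : G) : Prop where
  mem : v ∈ L
  sq : v * v = 1
  sub : T ⊆ S
  card : T.card = 4
  fix : ∀ x ∈ S, (M.φ v x = x ↔ x ∉ T)

/-- `V` is a root four-group with support `T` -/
structure RootV (M : Mod L S) (T : Finset α) (V : Subgroup G) : Prop where
  card : Nat.card V = 4
  root : ∀ v ∈ V, v ≠ 1 → Root M T v

section api

variable {M : Mod L S} {v : G} {V : Subgroup G}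

theorem Root.memN (h : Root M T v) : v ∈ normalizer (L : Set G) := le_normalizer h.mem

theorem Root.fixIn_eq (h : Root M T v) : fixIn S (M.φ v) = S \ T := by
  ext x
  rw [mem_fixIn, Finset.mem_sdiff]
  exact ⟨fun hx => ⟨hx.1, (h.fix x hx.1).mp hx.2⟩, fun hx => ⟨hx.1, (h.fix x hx.1).mpr hx.2⟩⟩

theorem Root.card_sdiff (h : Root M T v) : (S \ T).card = S.card - 4 := by
  rw [Finset.card_sdiff_of_subset h.sub, h.card]

theorem Root.card_fix (h : Root M T v) : (fixIn S (M.φ v)).card = S.card - 4 := by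
  rw [h.fixIn_eq, h.card_sdiff]

theorem Root.exists_mem (h : Root M T v) : ∃ x, x ∈ T := by
  have := h.card
  exact Finset.card_pos.mp (by omega)

theorem Root.apply_ne (h : Root M T v) {x : α} (hx : x ∈ T) : M.φ v x ≠ x := fun e =>
  (h.fix x (h.sub hx)).mp e hx

theorem Root.apply_eq (h : Root M T v) {x : α} (hx : x ∉ T) : M.φ v x = x := by
  by_cases hS : x ∈ S
  · exact (h.fix x hS).mpr hx
  · exact M.mem_sym v h.memN x hS

theorem Root.φ_ne_one (h : Root M T v) : M.φ v ≠ 1 := by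
  intro e
  obtain ⟨x, hx⟩ := h.exists_mem
  exact h.apply_ne hx (by rw [e]; rfl)

theorem Root.ne_one (h : Root M T v) : v ≠ 1 := by
  rintro rfl
  exact h.φ_ne_one M.one

theorem Root.order (h : Root M T v) : orderOf v = 2 :=
  orderOf_eq_prime (by rw [pow_two]; exact h.sq) h.ne_one

theorem Root.app_app (h : Root M T v) (x : α) : M.φ v (M.φ v x) = x := by
  rw [← Perm.mul_apply, M.sq h.memN h.sq]; rfl

theorem Root.apply_mem (h : Root M T v) {x : α} (hx : x ∈ T) : M.φ v x ∈ T := by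
  by_contra hcon
  have h1 := h.apply_eq hcon
  rw [h.app_app] at h1
  exact h.apply_ne hx h1.symm

theorem Root.supp (h : Root M T v) {w : G} {T' : Finset α} (h' : Root M T' w)
    (e : M.φ v = M.φ w) : T = T' := by
  ext x
  constructor
  · intro hx
    by_contra hn
    exact h.apply_ne hx (by rw [e]; exact h'.apply_eq hn)
  · intro hx
    by_contra hn
    exact h'.apply_ne hx (by rw [← e]; exact h.apply_eq hn)

/-- the label of a root -/
theorem Root.exists_swap (h : Root M T v) : ∃ a b c d, [a, b, c, d].Nodup ∧ T = four4 a b c d ∧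
    M.φ v = swap a b * swap c d := by
  obtain ⟨a, ha⟩ := h.exists_mem
  have hb : M.φ v a ∈ T := h.apply_mem ha
  obtain ⟨c, hc, hca, hcb⟩ : ∃ c ∈ T, c ≠ a ∧ c ≠ M.φ v a := by
    have h1 : 0 < ((T.erase a).erase (M.φ v a)).card := by
      have h2 := Finset.pred_card_le_card_erase (s := T) (a := a)
      have h3 := Finset.pred_card_le_card_erase (s := T.erase a) (a := M.φ v a)
      have := h.card
      omega
    obtain ⟨c, hc⟩ := Finset.card_pos.mp h1
    simp only [Finset.mem_erase] at hc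
    exact ⟨c, hc.2.2, hc.2.1, hc.1⟩
  have hd : M.φ v c ∈ T := h.apply_mem hc
  have hda : M.φ v c ≠ a := fun e => hcb (by rw [← e, h.app_app])
  have hdb : M.φ v c ≠ M.φ v a := fun e => hca ((M.φ v).injective e)
  have hnd : [a, M.φ v a, c, M.φ v c].Nodup :=
    StdAlt.PermTypes.nodup_four (h.apply_ne ha).symm hca.symm hda.symm hcb.symm hdb.symm
      (h.apply_ne hc).symm
  have hT : T = four4 a (M.φ v a) c (M.φ v c) := by
    symm
    apply Finset.eq_of_subset_of_card_le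
    · intro x hx
      rcases mem_four4.mp hx with rfl | rfl | rfl | rfl <;> assumption
    · rw [h.card]
      have h1 : (four4 a (M.φ v a) c (M.φ v c)).card = 4 := by
        obtain ⟨⟨m1, m2, m3⟩, ⟨m4, m5⟩, m6⟩ := StdAlt.PermTypes.of_nodup_four hnd
        unfold four4
        rw [Finset.card_insert_of_notMem (by simp [m1, m2, m3]),
          Finset.card_insert_of_notMem (by simp [m4, m5]), Finset.card_insert_of_notMem (by simp [m6]),
          Finset.card_singleton]
      omega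
  refine ⟨a, M.φ v a, c, M.φ v c, hnd, hT, ?_⟩
  obtain ⟨⟨m1, m2, m3⟩, ⟨m4, m5⟩, m6⟩ := StdAlt.PermTypes.of_nodup_four hnd
  ext x
  rw [Perm.mul_apply]
  by_cases hx : x ∈ T
  · rw [hT] at hx
    rcases mem_four4.mp hx with h1 | h1 | h1 | h1
    · rw [h1, swap_apply_of_ne_of_ne m2 m3, swap_apply_left]
    · rw [h1, swap_apply_of_ne_of_ne m4 m5, swap_apply_right, h.app_app]
    · rw [h1, swap_apply_left, swap_apply_of_ne_of_ne m3.symm m5.symm]
    · rw [h1, swap_apply_right, swap_apply_of_ne_of_ne m2.symm m4.symm, h.app_app]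
  · rw [h.apply_eq hx]
    rw [hT, mem_four4, not_or, not_or, not_or] at hx
    rw [swap_apply_of_ne_of_ne hx.2.2.1 hx.2.2.2, swap_apply_of_ne_of_ne hx.1 hx.2.1]

theorem RootV.sq (h : RootV M T V) {v : G} (hv : v ∈ V) : v * v = 1 := by
  by_cases h1 : v = 1
  · rw [h1, mul_one]
  · exact (h.root v hv h1).sq

theorem RootV.mem (h : RootV M T V) {v : G} (hv : v ∈ V) : v ∈ L := by
  by_cases h1 : v = 1
  · rw [h1]; exact one_mem _
  · exact (h.root v hv h1).mem

theorem RootV.le (h : RootV M T V) : V ≤ L := fun _ hv => h.mem hv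

theorem comm_of_sq {V : Subgroup G} (h : ∀ v ∈ V, v * v = 1) {v w : G} (hv : v ∈ V) (hw : w ∈ V) :
    v * w = w * v := by
  have h1 := h _ (mul_mem hv hw)
  have h2 : v⁻¹ = v := inv_eq_of_mul_eq_one_left (h v hv)
  have h3 : w⁻¹ = w := inv_eq_of_mul_eq_one_left (h w hw)
  calc v * w = (v * w)⁻¹ := (inv_eq_of_mul_eq_one_left h1).symm
    _ = w * v := by rw [mul_inv_rev, h2, h3]

theorem RootV.comm (h : RootV M T V) {v w : G} (hv : v ∈ V) (hw : w ∈ V) : v * w = w * v :=
  comm_of_sq (fun _ => h.sq) hv hw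

theorem RootV.exists_ne (h : RootV M T V) : ∃ v ∈ V, v ≠ 1 := by
  by_contra hcon
  push Not at hcon
  have h1 : V = ⊥ := (eq_bot_iff_forall _).mpr hcon
  have h2 := h.card
  rw [h1, Subgroup.card_bot] at h2
  omega

theorem RootV.sub (h : RootV M T V) : T ⊆ S := by
  obtain ⟨v, hv, hv1⟩ := h.exists_ne
  exact (h.root v hv hv1).sub

theorem RootV.cardT (h : RootV M T V) : T.card = 4 := by
  obtain ⟨v, hv, hv1⟩ := h.exists_ne
  exact (h.root v hv hv1).card

theorem RootV.eq_one (h : RootV M T V) {v : G} (hv : v ∈ V) (h1 : M.φ v = 1) : v = 1 := by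
  by_contra hne
  exact (h.root v hv hne).φ_ne_one h1

theorem RootV.apply_eq (h : RootV M T V) {v : G} (hv : v ∈ V) {x : α} (hx : x ∉ T) :
    M.φ v x = x := by
  by_cases h1 : v = 1
  · rw [h1, M.one]; rfl
  · exact (h.root v hv h1).apply_eq hx

theorem RootV.isPGroup (h : RootV M T V) : IsPGroup 2 V := by
  rintro ⟨v, hv⟩
  exact ⟨1, Subtype.ext (by show v ^ 2 ^ 1 = 1; rw [pow_one, pow_two]; exact h.sq hv)⟩

end api

/-! ### lifting -/

section lift

variable [Finite G] (M : Mod L S)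

/-- lifting of an element commuting with a 2-group -/
theorem Mod.exists_fix_lift {P : Subgroup G} (hP : IsPGroup 2 P) (hPN : P ≤ normalizer (L : Set G))
    {σ : Perm α} (hσ : σ ∈ alt S) (hc : ∀ p ∈ P, M.φ p * σ = σ * M.φ p) :
    ∃ k ∈ L, (∀ p ∈ P, k * p = p * k) ∧ M.φ k = σ := by
  haveI : Fact (Nat.Prime 2) := ⟨Nat.prime_two⟩
  obtain ⟨m₀, hm₀, hm₀σ⟩ := M.lift σ hσ
  let Ω := {m : G // m ∈ L ∧ M.φ m = σ}
  have hact : ∀ p ∈ P, ∀ m : G, m ∈ L ∧ M.φ m = σ → p * m * p⁻¹ ∈ L ∧ M.φ (p * m * p⁻¹) = σ := by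
    rintro p hp m ⟨hm, hmσ⟩
    refine ⟨(mem_normalizer_iff.mp (hPN hp) m).mp hm, ?_⟩
    rw [M.conj (hPN hp) (le_normalizer hm), hmσ, hc p hp, mul_inv_cancel_right]
  letI : MulAction P Ω :=
    { smul := fun p m => ⟨(p : G) * m * (p : G)⁻¹, hact p p.2 m m.2⟩
      one_smul := fun m => Subtype.ext (by
        show (1 : G) * m * (1 : G)⁻¹ = m
        group)
      mul_smul := fun p q m => Subtype.ext (by
        show ((p * q : P) : G) * m * ((p * q : P) : G)⁻¹ = p * (q * m * (q : G)⁻¹) * (p : G)⁻¹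
        push_cast
        group) }
  have hcard : Nat.card Ω = Nat.card (core L) := by
    refine Nat.card_congr
      ⟨fun m => ⟨m₀⁻¹ * m, (M.eq_iff hm₀ m.2.1).mp (by rw [hm₀σ, m.2.2])⟩,
       fun o => ⟨m₀ * o, mul_mem hm₀ (core_le L o.2), ?_⟩, ?_, ?_⟩
    · rw [M.mul _ _ (le_normalizer hm₀) (le_normalizer (core_le L o.2)), hm₀σ,
        (M.core_iff o (core_le L o.2)).mpr o.2, mul_one]
    · intro m
      apply Subtype.ext
      show m₀ * (m₀⁻¹ * (m : G)) = m
      group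
    · intro o
      apply Subtype.ext
      show m₀⁻¹ * (m₀ * (o : G)) = o
      group
  have hodd : ¬ 2 ∣ Nat.card Ω := by
    rw [hcard, ← even_iff_two_dvd, Nat.not_even_iff_odd]
    exact odd_card_core L
  obtain ⟨⟨k, hk, hkσ⟩, hfix⟩ := hP.nonempty_fixed_point_of_prime_not_dvd_card Ω hodd
  refine ⟨k, hk, fun p hp => ?_, hkσ⟩
  have h1 := congrArg Subtype.val (hfix ⟨p, hp⟩)
  change p * k * p⁻¹ = k at h1
  rw [mul_inv_eq_iff_eq_mul] at h1
  exact h1.symm

/-- lifting of a 2-group commuting with a 2-group -/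
theorem Mod.exists_group_lift {P : Subgroup G} (hP : IsPGroup 2 P) (hPN : P ≤ normalizer (L : Set G))
    {Q₀ : Subgroup (Perm α)} (hQ₀ : IsPGroup 2 Q₀) (hQS : Q₀ ≤ alt S)
    (hc : ∀ p ∈ P, ∀ σ ∈ Q₀, M.φ p * σ = σ * M.φ p) :
    ∃ Q : Subgroup G, Q ≤ L ∧ IsPGroup 2 Q ∧ (∀ q ∈ Q, ∀ p ∈ P, q * p = p * q) ∧
      (∀ q ∈ Q, M.φ q ∈ Q₀) ∧ (∀ σ ∈ Q₀, ∃ q ∈ Q, M.φ q = σ) ∧ (∀ q ∈ Q, M.φ q = 1 → q = 1) := by
  haveI : Fact (Nat.Prime 2) := ⟨Nat.prime_two⟩
  let C : Subgroup G :=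
    { carrier := {k | k ∈ L ∧ (∀ p ∈ P, k * p = p * k) ∧ M.φ k ∈ Q₀}
      mul_mem' := by
        rintro a b ⟨h1, h2, h3⟩ ⟨h4, h5, h6⟩
        refine ⟨mul_mem h1 h4, fun p hp => ?_, ?_⟩
        · rw [mul_assoc, h5 p hp, ← mul_assoc, h2 p hp, mul_assoc]
        · rw [M.mul _ _ (le_normalizer h1) (le_normalizer h4)]; exact mul_mem h3 h6
      one_mem' := ⟨one_mem _, fun p _ => by rw [one_mul, mul_one], by rw [M.one]; exact one_mem _⟩
      inv_mem' := by
        rintro a ⟨h1, h2, h3⟩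
        refine ⟨inv_mem h1, fun p hp => ?_, ?_⟩
        · rw [inv_mul_eq_iff_eq_mul, ← mul_assoc, h2 p hp, mul_inv_cancel_right]
        · rw [M.inv (le_normalizer h1)]; exact inv_mem h3 }
  have hCL : ∀ k : C, (k : G) ∈ L := fun k => k.2.1
  let f : C →* Q₀ :=
    { toFun := fun k => ⟨M.φ k, k.2.2.2⟩
      map_one' := Subtype.ext M.one
      map_mul' := fun a b => Subtype.ext (M.mul _ _ (le_normalizer (hCL a)) (le_normalizer (hCL b))) }
  have hf : Function.Surjective f := by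
    rintro ⟨σ, hσ⟩
    obtain ⟨k, hk, hkP, hkσ⟩ := M.exists_fix_lift hP hPN (hQS hσ) fun p hp => hc p hp σ hσ
    exact ⟨⟨k, hk, hkP, by rw [hkσ]; exact hσ⟩, Subtype.ext hkσ⟩
  obtain ⟨Q'⟩ : Nonempty (Sylow 2 C) := inferInstance
  have htop : ((Q'.mapSurjective hf : Sylow 2 Q₀) : Subgroup Q₀) = ⊤ :=
    ((Q'.mapSurjective hf).is_maximal' (hQ₀.to_subgroup ⊤ |>.of_equiv (MulEquiv.refl _)) le_top).symm
  refine ⟨(Q' : Subgroup C).map C.subtype, ?_, Q'.2.map _, ?_, ?_, ?_, ?_⟩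
  · rintro _ ⟨q, -, rfl⟩; exact hCL q
  · rintro _ ⟨q, -, rfl⟩ p hp; exact q.2.2.1 p hp
  · rintro _ ⟨q, -, rfl⟩; exact q.2.2.2
  · intro σ hσ
    have h1 : (⟨σ, hσ⟩ : Q₀) ∈ ((Q'.mapSurjective hf : Sylow 2 Q₀) : Subgroup Q₀) := by
      rw [htop]; trivial
    obtain ⟨q, hq, h2⟩ := h1
    exact ⟨q, ⟨q, hq, rfl⟩, congrArg Subtype.val h2⟩
  · rintro _ ⟨q, hq, rfl⟩ h1
    have h2 : (q : G) ∈ core L := (M.core_iff _ (hCL q)).mp h1
    obtain ⟨n, hn⟩ := Q'.2 ⟨q, hq⟩
    have h3 : (q : G) ^ 2 ^ n = 1 := by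
      have := congrArg (fun z => (((z : (Q' : Subgroup C)) : C) : G)) hn
      simpa using this
    exact eq_one_of_mem_core h2 h3

end lift

/-! ### the regular four-group on four points -/

theorem V4_move {a b c d : α} (hnd : [a, b, c, d].Nodup) {v : Perm α} (hv : V4 a b c d v)
    (h1 : v ≠ 1) {x : α} (hx : x ∈ four4 a b c d) : v x ≠ x := by
  obtain ⟨⟨m1, m2, m3⟩, ⟨m4, m5⟩, m6⟩ := StdAlt.PermTypes.of_nodup_four hnd
  rcases hv with rfl | rfl | rfl | rfl
  · exact absurd rfl h1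
  · rcases mem_four4.mp hx with rfl | rfl | rfl | rfl <;>
      simp [Perm.mul_apply, swap_apply_def, m1, m2, m3, m4, m5, m6, m1.symm, m2.symm, m3.symm,
        m4.symm, m5.symm, m6.symm]
  · rcases mem_four4.mp hx with rfl | rfl | rfl | rfl <;>
      simp [Perm.mul_apply, swap_apply_def, m1, m2, m3, m4, m5, m6, m1.symm, m2.symm, m3.symm,
        m4.symm, m5.symm, m6.symm]
  · rcases mem_four4.mp hx with rfl | rfl | rfl | rfl <;>
      simp [Perm.mul_apply, swap_apply_def, m1, m2, m3, m4, m5, m6, m1.symm, m2.symm, m3.symm,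
        m4.symm, m5.symm, m6.symm]

theorem card_four4 {a b c d : α} (hnd : [a, b, c, d].Nodup) : (four4 a b c d).card = 4 := by
  obtain ⟨⟨m1, m2, m3⟩, ⟨m4, m5⟩, m6⟩ := StdAlt.PermTypes.of_nodup_four hnd
  unfold four4
  rw [Finset.card_insert_of_notMem (by simp [m1, m2, m3]),
    Finset.card_insert_of_notMem (by simp [m4, m5]), Finset.card_insert_of_notMem (by simp [m6]),
    Finset.card_singleton]

/-- the regular four-group on `a, b, c, d` -/
def vgrp (a b c d : α) : Subgroup (Perm α) :=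
  sym (four4 a b c d) ⊓ centralizer ({swap a b * swap c d, swap a c * swap b d} : Set (Perm α))

theorem mem_vgrp {a b c d : α} (hnd : [a, b, c, d].Nodup) {v : Perm α} :
    v ∈ vgrp a b c d ↔ V4 a b c d v := by
  constructor
  · rintro ⟨h1, h2⟩
    exact StdAlt.V4_of_comm hnd h1 (mem_centralizer_iff.mp h2 _ (by simp)).symm
      (mem_centralizer_iff.mp h2 _ (by simp)).symm
  · intro h
    refine ⟨fun x hx => h.fix hx, mem_centralizer_iff.mpr ?_⟩
    rintro w hw
    rcases hw with rfl | hw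
    · exact (StdAlt.V4.comm hnd h).1.symm
    · rw [Set.mem_singleton_iff.mp hw]
      exact (StdAlt.V4.comm hnd h).2.symm

theorem vgrp_sq {a b c d : α} (hnd : [a, b, c, d].Nodup) {v : Perm α} (hv : v ∈ vgrp a b c d) :
    v * v = 1 := ((mem_vgrp hnd).mp hv).sq hnd

theorem card_vgrp {a b c d : α} (hnd : [a, b, c, d].Nodup) : Nat.card (vgrp a b c d) = 4 := by
  have ha : a ∈ four4 a b c d := mem_four4.mpr (Or.inl rfl)
  let f : vgrp a b c d → four4 a b c d := fun v => ⟨(v : Perm α) a, mem_of_mem_sym v.2.1 ha⟩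
  have hf : Function.Bijective f := by
    constructor
    · intro v w hvw
      have h1 : (v : Perm α) a = (w : Perm α) a := congrArg Subtype.val hvw
      have h2 : (w : Perm α)⁻¹ * v ∈ vgrp a b c d := mul_mem (inv_mem w.2) v.2
      have h3 : ((w : Perm α)⁻¹ * v) a = a := by
        rw [Perm.mul_apply, h1]; simp
      by_contra hne
      refine V4_move hnd ((mem_vgrp hnd).mp h2) (fun e => hne ?_) ha h3
      exact Subtype.ext (inv_mul_eq_one.mp e).symm
    · rintro ⟨i, hi⟩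
      obtain ⟨v, hv, hva, -⟩ := StdAlt.exists_V4 hnd hi
      exact ⟨⟨v, (mem_vgrp hnd).mpr hv⟩, Subtype.ext hva⟩
  rw [Nat.card_congr (Equiv.ofBijective f hf), Nat.card_eq_fintype_card, Fintype.card_coe,
    card_four4 hnd]

theorem isPGroup_vgrp {a b c d : α} (hnd : [a, b, c, d].Nodup) : IsPGroup 2 (vgrp a b c d) := by
  rintro ⟨v, hv⟩
  exact ⟨1, Subtype.ext (by show v ^ 2 ^ 1 = 1; rw [pow_one, pow_two]; exact vgrp_sq hnd hv)⟩

theorem vgrp_le_alt {a b c d : α} (hnd : [a, b, c, d].Nodup) (hT : four4 a b c d ⊆ S) :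
    vgrp a b c d ≤ alt S := fun _ hv =>
  ⟨((mem_vgrp hnd).mp hv).even hnd, sym_mono hT hv.1⟩

section

variable [Finite G] {M : Mod L S} {v : G}

/-- **existence of root four-groups** commuting with a 2-group -/
theorem exists_rootV (M : Mod L S) {P : Subgroup G} (hP : IsPGroup 2 P)
    (hPN : P ≤ normalizer (L : Set G)) {a b c d : α} (hnd : [a, b, c, d].Nodup)
    (hT : four4 a b c d ⊆ S) (hc : ∀ p ∈ P, ∀ σ, V4 a b c d σ → M.φ p * σ = σ * M.φ p) :
    ∃ V : Subgroup G, RootV M (four4 a b c d) V ∧ (∀ v ∈ V, ∀ p ∈ P, v * p = p * v) ∧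
      (∀ v ∈ V, V4 a b c d (M.φ v)) ∧ ∀ σ, V4 a b c d σ → ∃ v ∈ V, M.φ v = σ := by
  obtain ⟨V, h1, -, h3, h4, h5, h6⟩ := M.exists_group_lift hP hPN (isPGroup_vgrp hnd)
    (vgrp_le_alt hnd hT) fun p hp σ hσ => hc p hp σ ((mem_vgrp hnd).mp hσ)
  refine ⟨V, ⟨?_, ?_⟩, h3, fun v hv => (mem_vgrp hnd).mp (h4 v hv), fun σ hσ =>
    h5 σ ((mem_vgrp hnd).mpr hσ)⟩
  · rw [← card_vgrp hnd]
    refine Nat.card_congr (Equiv.ofBijective (fun v : V => (⟨M.φ v, h4 v v.2⟩ : vgrp a b c d))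
      ⟨?_, ?_⟩)
    · intro v w hvw
      have e1 : M.φ v = M.φ w := congrArg Subtype.val hvw
      have e2 : (v : G)⁻¹ * w = 1 := by
        apply h6 _ (mul_mem (inv_mem v.2) w.2)
        rw [M.mul _ _ (inv_mem (le_normalizer (h1 v.2))) (le_normalizer (h1 w.2)),
          M.inv (le_normalizer (h1 v.2)), e1, inv_mul_cancel]
      exact Subtype.ext (inv_mul_eq_one.mp e2)
    · rintro ⟨σ, hσ⟩
      obtain ⟨v, hv, hvσ⟩ := h5 σ hσ
      exact ⟨⟨v, hv⟩, Subtype.ext hvσ⟩
  · intro v hv hv1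
    have e1 : M.φ v ≠ 1 := fun e => hv1 (h6 v hv e)
    have e2 := (mem_vgrp hnd).mp (h4 v hv)
    refine ⟨h1 hv, ?_, hT, card_four4 hnd, fun x _ => ⟨fun e hx => V4_move hnd e2 e1 hx e, e2.fix⟩⟩
    apply h6 _ (mul_mem hv hv)
    rw [M.mul _ _ (le_normalizer (h1 hv)) (le_normalizer (h1 hv)), e2.sq hnd]

/-- the labelling of `cmp v`, `v` a root -/
theorem Root.exists_mod (h : Root M T v) (h11 : 11 ≤ S.card) :
    ∃ ME : Mod (M.cmp v) (S \ T), ∀ x ∈ M.cmp v, ME.φ x = M.φ x := by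
  have h1 := M.exists_cmp h.memN h.sq (by rw [h.card_fix]; omega)
  rw [h.fixIn_eq] at h1
  exact h1

/-- members of `cmp v` -/
theorem Root.mem_cmp (h : Root M T v) {w : G} (hw : w ∈ L) (hvw : v * w = w * v)
    (hT : ∀ x ∈ T, M.φ w x = x) {n : ℕ} (hn : w ^ 2 ^ n = 1) : w ∈ M.cmp v := by
  refine M.mem_cmp hw hvw ?_ hn
  rw [h.fixIn_eq]
  have h1 := M.mem_alt w hw
  refine ⟨h1.1, fun x hx => ?_⟩
  by_cases hxS : x ∈ S
  · rw [Finset.mem_sdiff, not_and, not_not] at hx
    exact hT x (hx hxS)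
  · exact h1.2 x hxS

/-- a labelling of `K` from a labelling of `E`, `E ⊔ core K = K` -/
theorem Mod.exists_extend {E K : Subgroup G} {F : Finset α} (ME : Mod E F) (h7 : 7 ≤ F.card)
    (hs : E ⊔ core K = K) : ∃ A : Mod K F, ∀ x ∈ E, A.φ x = ME.φ x := by
  have hEK : E ≤ K := by rw [← hs]; exact le_sup_left
  obtain ⟨e, he⟩ := exists_quotEquiv hs
  let q : (↥E ⧸ oddCore ↥E) ≃* ↥(alt F) :=
    (QuotientGroup.quotientMulEquivOfEq ME.ker_homK.symm).trans
      (QuotientGroup.quotientKerEquivOfSurjective _ ME.homK_surjective)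
  have hq : ∀ x : ↥E, q (QuotientGroup.mk x) = ME.homK x := fun x => rfl
  let g : ↥K →* ↥(alt F) := (e.symm.trans q).toMonoidHom.comp (QuotientGroup.mk' (oddCore ↥K))
  have hg : Function.Surjective g :=
    (e.symm.trans q).surjective.comp (QuotientGroup.mk'_surjective _)
  have hgk : g.ker = oddCore ↥K := by
    ext x
    rw [MonoidHom.mem_ker]
    show (e.symm.trans q) (QuotientGroup.mk' (oddCore ↥K) x) = 1 ↔ _
    rw [MulEquiv.map_eq_one_iff]
    exact QuotientGroup.eq_one_iff x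
  obtain ⟨A, hA⟩ := Mod.exists_of_hom (K := K) (S := F) h7 ((alt F).subtype.comp g) (by
      rw [MonoidHom.range_comp, MonoidHom.range_eq_top.mpr hg, ← MonoidHom.range_eq_map,
        Subgroup.range_subtype]) (by
      rw [← hgk]
      ext x
      rw [MonoidHom.mem_ker, MonoidHom.mem_ker, MonoidHom.comp_apply]
      exact ⟨fun h => Subtype.ext h, fun h => by rw [h]; rfl⟩)
  refine ⟨A, fun x hx => ?_⟩
  have h1 := hA ⟨x, hEK hx⟩
  have h2 : g ⟨x, hEK hx⟩ = ME.homK ⟨x, hx⟩ := by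
    rw [← hq]
    show q (e.symm (QuotientGroup.mk ⟨x, hEK hx⟩)) = _
    congr 1
    rw [MulEquiv.symm_apply_eq]
    exact (he x hx (hEK hx)).symm
  rw [h1]
  show ((g ⟨x, hEK hx⟩ : alt F) : Perm α) = _
  rw [h2]
  rfl

/-- the labels of `K` and of `E`, `E ⊔ core K = K`, agree on `N(K) ∩ N(E)` -/
theorem Mod.extend_eq {E K : Subgroup G} {F : Finset α} (ME : Mod E F) (A : Mod K F)
    (hEK : E ≤ K) (hA : ∀ x ∈ E, A.φ x = ME.φ x) {x : G} (hxK : x ∈ normalizer (K : Set G))
    (hxE : x ∈ normalizer (E : Set G)) : A.φ x = ME.φ x := by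
  ext y
  by_cases hy : y ∈ F
  · exact (A.compat ME hEK (fun z hz => (hA z hz).symm) hxK hxE hy).symm
  · rw [A.mem_sym x hxK y hy, ME.mem_sym x hxE y hy]

/-! ### passing between the centralizers of commuting involutions -/

omit [Finite G] in
theorem memC_iff {x y : G} : y ∈ centralizer ({x} : Set G) ↔ y * x = x * y :=
  mem_centralizer_singleton_iff

/-- an element of `X` fixing a 2-component `Z ≤ J` (of some group) with `Z ⊔ core J = J` fixes `J` -/
theorem fixes_of_cover {X Y Z J : Subgroup G} (hJ : IsComp X J) (hZ : IsComp Y Z)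
    (hs : Z ⊔ core J = J) {e : G} (he : e ∈ X) (hf : Fixes e Z) : Fixes e J := by
  have hZJ : Z ≤ J := by rw [← hs]; exact le_sup_left
  have h1 : IsComp X (cj e J) := by
    have h := hJ.cj e
    rwa [cj_eq_self_of_mem he] at h
  have h2 : Z ≤ cj e J := by
    have h3 : cj e Z = Z := mem_normalizer_iff_cj.mp hf.1
    rw [← h3]
    exact cj_mono hZJ
  have h3 : e ∈ normalizer (J : Set G) := mem_normalizer_iff_cj.mpr (hZ.unique h1 hJ h2 hZJ)
  exact (fixes_iff_of_sup hs hf.1 h3).mp hf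

/-- an element fixing `J` fixes a covering subgroup which it normalises -/
theorem fixes_of_cover' {Z J : Subgroup G} (hs : Z ⊔ core J = J) {e : G} (hf : Fixes e J)
    (hn : e ∈ normalizer (Z : Set G)) : Fixes e Z := (fixes_iff_of_sup hs hn hf.1).mpr hf

/-- **the jump**: `s`, `t` commuting involutions, `J` a 2-component of `C(s)` fixed by `t`, `K'` a 2-component
of `C(t)` with `s ∈ K'` not containing `cen J t`. -/
theorem jump {s t : G} (hs : s * s = 1) (ht : t * t = 1) (hst : s * t = t * s) {J K' : Subgroup G}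
    (hJ : IsComp (centralizer ({s} : Set G)) J) (htJ : Fixes t J)
    (hK' : IsComp (centralizer ({t} : Set G)) K') (hsK : s ∈ K') (hn : ¬ cen J t ≤ K') :
    ∃ J', IsComp (centralizer ({t} : Set G)) J' ∧ J' ≠ K' ∧ cen J t = cen J' s ∧
      IsComp (centralizer ({s} : Set G) ⊓ centralizer ({t} : Set G)) (cen J t) ∧
      cen J t ⊔ core J = J ∧ cen J t ⊔ core J' = J' := by
  obtain ⟨h1, h2⟩ := isComp_cen hJ (memC_iff.mpr hst.symm) ht htJ
  have h1' := h1
  rw [inf_comm] at h1'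
  obtain ⟨J', hJ', -, hor⟩ := McLLyComp.PumpT.exists_pump (memC_iff.mpr hst) hs h1'
  have hsn : s ∈ normalizer (J' : Set G) := by
    by_cases e : J' = K'
    · rw [e]; exact le_normalizer hsK
    · exact (hJ'.fixes_of_mem hK' e hsK).1
  have hle : cen J t ≤ J' := by
    rcases hor with ⟨-, h⟩ | ⟨h, -⟩
    · exact h
    · exact absurd (mem_normalizer_iff_cj.mp hsn) h
  have hne : J' ≠ K' := fun e => hn (e ▸ hle)
  have hsf : Fixes s J' := hJ'.fixes_of_mem hK' hne hsK
  obtain ⟨h3, h4⟩ := isComp_cen hJ' (memC_iff.mpr hst) hs hsf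
  have h5 : cen J t ≤ cen J' s := by
    have h6 : cen J t = PComponents.pElem 2 (cen J t) := h1.pElem_eq.symm
    rw [h6]
    exact PComponents.pElem_mono (le_inf hle ((h1.le).trans inf_le_left))
  have h6 : cen J t = cen J' s := h1'.eq_of_le h3 h5
  exact ⟨J', hJ', hne, h6, h1, h2, by rw [h6]; exact h4⟩

/-- in the situation of `jump`, the members of `K'` commuting with `s` fix `J` -/
theorem jump_fixes {s t : G} (hs : s * s = 1) (ht : t * t = 1) (hst : s * t = t * s)
    {J K' : Subgroup G} (hJ : IsComp (centralizer ({s} : Set G)) J) (htJ : Fixes t J)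
    (hK' : IsComp (centralizer ({t} : Set G)) K') (hsK : s ∈ K') (hn : ¬ cen J t ≤ K') {e : G}
    (he : e ∈ K') (hes : e * s = s * e) : Fixes e J := by
  obtain ⟨J', hJ', hne, h1, h2, h3, h4⟩ := jump hs ht hst hJ htJ hK' hsK hn
  have h5 : Fixes e J' := hJ'.fixes_of_mem hK' hne he
  have h6 : e ∈ normalizer (cen J t : Set G) := by
    rw [h1]
    exact mem_normalizer_cen h5.1 hes
  exact fixes_of_cover hJ h2 h3 (memC_iff.mpr hes) (fixes_of_cover' h4 h5 h6)

end

end Cfsg.Agent.UAlt
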