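import Cfsg.Agent.UAlt.Frame
import Cfsg.Agent.UAlt.Root
import Cfsg.Agent.UAlt.Four

/-!
# Root four-groups: `RF` and `RootV`

* `RF.rootV`, `RootV.rf`: the two descriptions of root four-groups agree.
* `Mod.Rt.root`, `Root.rt`: the two descriptions of roots agree.
* `exists_RF`: root four-groups commuting with a 2-group; `RF.le_cmp`: a root four-group on the fixed points of
  a root `v`, commuting with `v`, lies in `M.cmp v`.
* `Root.exists_RF`: a root lies in a root four-group.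
-/

set_option autoImplicit false
set_option linter.unusedSectionVars false

namespace Cfsg.Agent.UAlt

open Cfsg Equiv Equiv.Perm Subgroup
open Cfsg.Agent.Intrinsic.Basic Cfsg.Agent.Intrinsic Cfsg.Agent.Intrinsic.Cen
open Cfsg.Agent.SignalizersComponents Cfsg.Agent.Lib
open Cfsg.Agent.SignalizersComponents.IntrinsicBasic
open Cfsg.Agent.StdAlt (V4 four4 mem_four4)
open Cfsg.Agent.StdAlt.Roots (IsRoot)

variable {G : Type*} [Group G] {α : Type*} [Fintype α] [DecidableEq α]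
  {L : Subgroup G} {S T : Finset α} {M : Mod L S} {v : G} {V : Subgroup G}

/-! ### roots -/

theorem Root.supp_eq (h : Root M T v) : (M.φ v).support = T := by
  ext x
  rw [mem_support]
  constructor
  · intro hx
    by_contra hn
    exact hx (h.apply_eq hn)
  · exact fun hx => h.apply_ne hx

theorem Root.isRoot (h : Root M T v) : IsRoot (M.φ v) :=
  ⟨M.sq h.memN h.sq, by rw [h.supp_eq, h.card]⟩

theorem Root.rt (h : Root M T v) : M.Rt v := ⟨h.mem, h.sq, h.isRoot⟩

theorem Mod.Rt.mem (h : M.Rt v) : v ∈ L := h.1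

theorem Mod.Rt.sq (h : M.Rt v) : v * v = 1 := h.2.1

theorem Mod.Rt.isRoot (h : M.Rt v) : IsRoot (M.φ v) := h.2.2

theorem Mod.Rt.root (h : M.Rt v) : Root M (M.φ v).support v where
  mem := h.1
  sq := h.2.1
  sub := fun x hx => by
    by_contra hn
    exact (mem_support.mp hx) (M.mem_sym v (le_normalizer h.1) x hn)
  card := h.2.2.2
  fix := fun x _ => by rw [mem_support, not_not]

theorem Mod.rt_iff : M.Rt v ↔ ∃ T, Root M T v :=
  ⟨fun h => ⟨_, h.root⟩, fun ⟨_, h⟩ => h.rt⟩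

theorem Mod.Rt.ne_one (h : M.Rt v) : v ≠ 1 := h.root.ne_one

/-- the label of a root with support `T` lies in `four T` -/
theorem Root.mem_four (h : Root M T v) : M.φ v ∈ four T := by
  have h1 := mem_four_of_isRoot h.isRoot (M.mem_alt v h.mem).1
  rwa [h.supp_eq] at h1

/-! ### root four-groups -/

theorem RF.memN (h : RF M V T) {v : G} (hv : v ∈ V) : v ∈ normalizer (L : Set G) :=
  le_normalizer (h.le hv)

theorem RF.comm (h : RF M V T) {v w : G} (hv : v ∈ V) (hw : w ∈ V) : v * w = w * v :=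
  comm_of_sq h.sq hv hw

theorem RF.label (h : RF M V T) {v : G} (hv : v ∈ V) : M.φ v ∈ four T := by
  rw [UAlt.mem_four h.card]
  exact ⟨h.mem v hv, M.sq (h.memN hv) (h.sq v hv)⟩

variable [Finite G]

theorem RF.eq_one (h : RF M V T) {v : G} (hv : v ∈ V) (h1 : M.φ v = 1) : v = 1 := by
  have h2 : v ∈ core L := (M.core_iff v (h.le hv)).mp h1
  exact eq_one_of_mem_core (n := 1) h2 (by rw [pow_one, pow_two]; exact h.sq v hv)

theorem RF.root (h : RF M V T) {v : G} (hv : v ∈ V) (h1 : v ≠ 1) : Root M T v where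
  mem := h.le hv
  sq := h.sq v hv
  sub := h.sub
  card := h.card
  fix := fun x _ => ⟨fun e hx => four_apply_ne h.card (h.label hv) (fun e' => h1 (h.eq_one hv e')) hx e,
    fun hx => (four_le_alt h.card (h.label hv)).2 x hx⟩

theorem RF.rt (h : RF M V T) {v : G} (hv : v ∈ V) (h1 : v ≠ 1) : M.Rt v := (h.root hv h1).rt

theorem RF.fixIn_eq (h : RF M V T) {v : G} (hv : v ∈ V) (h1 : v ≠ 1) : fixIn S (M.φ v) = S \ T :=
  (h.root hv h1).fixIn_eq

theorem natCard_four {T : Finset α} (hT : T.card = 4) : Nat.card (four T) = 4 := by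
  obtain ⟨a, b, c, d, hnd, rfl⟩ := exists_nodup hT
  rw [← card_vgrp hnd]
  congr 2
  ext g
  rw [UAlt.mem_four hT, mem_vgrp hnd, V4_iff hnd]

theorem RF.natCard (h : RF M V T) : Nat.card V = 4 := by
  rw [← natCard_four h.card]
  refine Nat.card_congr (Equiv.ofBijective (fun v : V => (⟨M.φ v, h.label v.2⟩ : four T)) ⟨?_, ?_⟩)
  · intro v w hvw
    have e1 : M.φ v = M.φ w := congrArg Subtype.val hvw
    have e2 : (v : G)⁻¹ * w = 1 := by
      apply h.eq_one (mul_mem (inv_mem v.2) w.2)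
      rw [M.mul _ _ (inv_mem (h.memN v.2)) (h.memN w.2), M.inv (h.memN v.2), e1, inv_mul_cancel]
    exact Subtype.ext (inv_mul_eq_one.mp e2)
  · rintro ⟨σ, hσ⟩
    rw [UAlt.mem_four h.card] at hσ
    obtain ⟨v, hv, hvσ⟩ := h.lift σ hσ.1 hσ.2
    exact ⟨⟨v, hv⟩, Subtype.ext hvσ⟩

theorem RF.rootV (h : RF M V T) : RootV M T V := ⟨h.natCard, fun _ hv h1 => h.root hv h1⟩

theorem RF.isPGroup (h : RF M V T) : IsPGroup 2 V := h.rootV.isPGroup

theorem RF.exists_ne (h : RF M V T) : ∃ v ∈ V, v ≠ 1 := h.rootV.exists_ne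

theorem RootV.rf (h : RootV M T V) : RF M V T := by
  have hfin : Finite (four T) := inferInstance
  have hlab : ∀ v ∈ V, M.φ v ∈ four T := by
    intro v hv
    by_cases h1 : v = 1
    · rw [h1, M.one]; exact one_mem _
    · exact (h.root v hv h1).mem_four
  refine ⟨h.le, h.sub, h.cardT, fun v hv => h.sq hv, fun v hv => four_le_alt h.cardT (hlab v hv), ?_⟩
  intro σ h1 h2
  let f : V → four T := fun v => ⟨M.φ v, hlab v v.2⟩
  have hf : Function.Injective f := by
    intro v w hvw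
    have e1 : M.φ v = M.φ w := congrArg Subtype.val hvw
    have e2 : (v : G)⁻¹ * w = 1 := by
      apply h.eq_one (mul_mem (inv_mem v.2) w.2)
      rw [M.mul _ _ (inv_mem (le_normalizer (h.mem v.2))) (le_normalizer (h.mem w.2)),
        M.inv (le_normalizer (h.mem v.2)), e1, inv_mul_cancel]
    exact Subtype.ext (inv_mul_eq_one.mp e2)
  have hb : Function.Bijective f :=
    (Nat.bijective_iff_injective_and_card f).mpr ⟨hf, by rw [h.card, natCard_four h.cardT]⟩
  obtain ⟨v, hv⟩ := hb.2 ⟨σ, (UAlt.mem_four h.cardT).mpr ⟨h1, h2⟩⟩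
  exact ⟨v, v.2, congrArg Subtype.val hv⟩

/-- **(F1)** existence of root four-groups commuting with a 2-group -/
theorem exists_RF (M : Mod L S) (hT : T ⊆ S) (h4 : T.card = 4) {P : Subgroup G} (hP : IsPGroup 2 P)
    (hPN : P ≤ normalizer (L : Set G))
    (hc : ∀ p ∈ P, ∀ σ ∈ alt T, σ * σ = 1 → M.φ p * σ = σ * M.φ p) :
    ∃ V : Subgroup G, RF M V T ∧ Cm V P := by
  obtain ⟨a, b, c, d, hnd, rfl⟩ := exists_nodup h4
  obtain ⟨V, h1, h2, -, -⟩ := exists_rootV M hP hPN hnd hT fun p hp σ hσ =>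
    hc p hp σ ((V4_iff hnd).mp hσ).1 ((V4_iff hnd).mp hσ).2
  exact ⟨V, h1.rf, h2⟩

theorem exists_RF' (M : Mod L S) (hT : T ⊆ S) (h4 : T.card = 4) : ∃ V : Subgroup G, RF M V T := by
  obtain ⟨V, hV, -⟩ := exists_RF M hT h4 (P := ⊥) (IsPGroup.of_bot) bot_le (by
    intro p hp σ _ _
    rw [mem_bot.mp hp, M.one, one_mul, mul_one])
  exact ⟨V, hV⟩

/-- a permutation trivial on `T` commutes with the members of `alt T` -/
theorem comm_of_fix {σ τ : Perm α} (hσ : ∀ x ∈ T, σ x = x) (hτ : τ ∈ sym T) : σ * τ = τ * σ := by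
  ext x
  rw [Perm.mul_apply, Perm.mul_apply]
  by_cases hx : x ∈ T
  · rw [hσ _ (mem_of_mem_sym hτ hx), hσ _ hx]
  · have h1 : σ x ∉ T := fun h => hx (by
      have h2 := hσ _ h
      rwa [σ.injective h2] at h)
    rw [hτ x hx, hτ _ h1]

/-- existence of root four-groups commuting with a 2-group trivial on the support -/
theorem exists_RF_fix (M : Mod L S) (hT : T ⊆ S) (h4 : T.card = 4) {P : Subgroup G}
    (hP : IsPGroup 2 P) (hPN : P ≤ normalizer (L : Set G)) (hc : ∀ p ∈ P, ∀ x ∈ T, M.φ p x = x) :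
    ∃ V : Subgroup G, RF M V T ∧ Cm V P :=
  exists_RF M hT h4 hP hPN fun p hp _ hσ _ => comm_of_fix (hc p hp) (alt_le_sym _ hσ)

/-- **(F4)** -/
theorem RF.le_cmp {V' : Subgroup G} {T' : Finset α} (hv : M.Rt v) (h' : RF M V' T')
    (hT : T' ⊆ fixIn S (M.φ v)) (hc : ∀ w ∈ V', v * w = w * v) : V' ≤ M.cmp v := by
  intro w hw
  refine hv.root.mem_cmp (h'.le hw) (hc w hw) (fun x hx => ?_) (n := 1)
    (by rw [pow_one, pow_two]; exact h'.sq w hw)
  refine (h'.mem w hw).2 x fun hxT => ?_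
  exact (mem_support.mp hx) (mem_fixIn.mp (hT hxT)).2

theorem RF.le_cmp' {V' : Subgroup G} {T' : Finset α} (h : RF M V T) (h' : RF M V' T')
    (hd : Disjoint T T') (hc : Cm V V') {v : G} (hv : v ∈ V) (h1 : v ≠ 1) : V' ≤ M.cmp v := by
  refine h'.le_cmp (h.rt hv h1) ?_ fun w hw => hc v hv w hw
  rw [h.fixIn_eq hv h1]
  exact fun x hx => Finset.mem_sdiff.mpr ⟨h'.sub hx, fun hx' => Finset.disjoint_left.mp hd hx' hx⟩

/-- a root with support `T` lies in a root four-group with support `T` -/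
theorem Root.exists_RF (h : Root M T v) : ∃ V : Subgroup G, RF M V T ∧ v ∈ V := by
  have hP : IsPGroup 2 (zpowers v) := by
    refine IsPGroup.of_card (n := 1) ?_
    rw [Nat.card_zpowers, h.order, pow_one]
  have hN : zpowers v ≤ normalizer (L : Set G) := by
    rw [zpowers_le]; exact h.memN
  obtain ⟨V, hV, hc⟩ := UAlt.exists_RF M h.sub h.card hP hN (by
    intro p hp σ hσ hσσ
    have h1 : ∀ p ∈ zpowers v, M.φ p ∈ four T := by
      intro p hp
      obtain ⟨n, rfl⟩ := mem_zpowers_iff.mp hp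
      have h2 : zpowers v ≤ (normalizer (L : Set G)) := hN
      have h3 := zpow_mem h.mem_four n
      have h4 : M.hom ⟨v, h.memN⟩ = M.φ v := rfl
      have h5 : M.φ (v ^ n) = M.φ v ^ n := by
        have := map_zpow M.hom ⟨v, h.memN⟩ n
        exact this
      rw [h5]; exact h3
    exact four_comm h.card (h1 p hp) ((UAlt.mem_four h.card).mpr ⟨hσ, hσσ⟩))
  obtain ⟨w, hw, hwv⟩ := hV.lift (M.φ v) (four_le_alt h.card h.mem_four)
    (four_sq h.card h.mem_four)
  have hcw : w * v = v * w := hc w hw v (mem_zpowers v)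
  have h6 : w⁻¹ * v = 1 := by
    have h7 : w⁻¹ * v ∈ core L := (M.eq_iff (hV.le hw) h.mem).mp hwv
    refine eq_one_of_mem_core (n := 1) h7 ?_
    have hw2 : w⁻¹ = w := inv_eq_of_mul_eq_one_left (hV.sq w hw)
    rw [pow_one, pow_two, hw2, mul_assoc, ← mul_assoc v, ← hcw, ← mul_assoc, ← mul_assoc,
      hV.sq w hw, one_mul, h.sq]
  refine ⟨V, hV, ?_⟩
  rw [← inv_mul_eq_one.mp h6]
  exact hw

end Cfsg.Agent.UAlt
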