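import Cfsg.Agent.UAlt.CaseDTwo
import Cfsg.Agent.UAlt.Frame
import Cfsg.Agent.UAlt.RootRF
import Cfsg.Agent.UAlt.FourConj

/-!
# Case D: the conclusion of (6) of #8411 in the frame

* `types_of_hyp`: the restriction on the types from `Hyp`.
* `caseN_of_fixes`: `c` trivial on the pump-ups of the roots: case N with `X = ∅`.
* `Out.caseN`.
-/

set_option autoImplicit false

namespace Cfsg.Agent.UAlt.CaseD

open Cfsg Equiv Equiv.Perm Subgroup
open Cfsg.Agent.Intrinsic.Basic Cfsg.Agent.Intrinsic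
open Cfsg.Agent.Intrinsic.Cen Cfsg.Agent.Intrinsic.Diag
open Cfsg.Agent.SignalizersComponents Cfsg.Agent.Lib
open Cfsg.Agent.SignalizersComponents.IntrinsicBasic
open Cfsg.Agent.UGT.Triple Cfsg.Agent.UGT.LemG Cfsg.Agent.UGT.PumpGen
open scoped commutatorElement

variable {G : Type*} [Group G] [Finite G] {α : Type*} [Fintype α] [DecidableEq α]

theorem types_of_hyp {n : ℕ} (H : Hyp G n) {Ω : Finset α} (hΩ : Ω.card = n) (x : G) : Types Ω x := by
  intro c t N E R hT ht htN hE hM hR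
  obtain ⟨M⟩ := hM
  have h13 := H.h13
  obtain ⟨m, -, h7, hmn, hA⟩ := H.big hT htN ht hE (by omega) M.altType
  obtain ⟨S', hS', hc⟩ := Finset.exists_subset_card_eq (s := Ω) (n := m) (by omega)
  exact ⟨S', hS', hA.mod_of_card hc h7⟩

variable {L : Subgroup G} {Ω : Finset α} {M : Mod L Ω} {c : G}

/-- one root -/
theorem exists_kd {v : G} {K : Subgroup G} (h11 : 11 ≤ Ω.card) (hc : c * c = 1)
    (hL : IsComp (centralizer ({c} : Set G)) L) (hv : M.Rt v)
    (hK : IsComp (centralizer ({v} : Set G)) K) (hle : M.cmp v ≤ K) (hf : Fixes c K) :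
    ∃ Mv : Mod K (fixIn Ω (M.φ v) ∪ ∅), KD M c ∅ v K Mv := by
  have hvN : v ∈ normalizer (L : Set G) := le_normalizer hv.mem
  have hcard : (fixIn Ω (M.φ v)).card = Ω.card - 4 := hv.root.card_fix
  have hcv : c ∈ centralizer ({v} : Set G) :=
    mem_centralizer_singleton_iff.mpr (mem_centralizer_singleton_iff.mp (hL.le hv.mem)).symm
  have h1 : IsComp (centralizer ({c} : Set G) ⊓ centralizer ({v} : Set G)) (M.cmp v) :=
    isComp_of_inf hL (M.isComp_cmp hvN hv.sq (by omega))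
  obtain ⟨h2, h3⟩ := isComp_cen hK hcv hc hf
  rw [inf_comm] at h2
  have h4 : M.cmp v ≤ cen K c := by
    rw [← h1.pElem_eq]
    exact PComponents.pElem_mono (le_inf hle (h1.le.trans inf_le_left))
  have h5 : M.cmp v = cen K c := h1.eq_of_le h2 h4
  rw [← h5] at h3
  obtain ⟨ME, hME⟩ := M.exists_cmp hvN hv.sq (by omega)
  obtain ⟨A, hA⟩ := ME.exists_extend (by omega) h3
  have key : ∀ F : Finset α, F = fixIn Ω (M.φ v) → ∃ Mv : Mod K F, (∀ y ∈ M.cmp v, Mv.φ y = M.φ y) ∧
      fixIn F (Mv.φ c) = fixIn Ω (M.φ v) := by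
    rintro _ rfl
    refine ⟨A, fun y hy => (hA y hy).trans (hME y hy), ?_⟩
    rw [(A.fixes_iff hf.1).mpr hf]
    ext i
    rw [mem_fixIn]
    exact ⟨fun h => h.1, fun h => ⟨h, rfl⟩⟩
  obtain ⟨B, hB, hB'⟩ := key (fixIn Ω (M.φ v) ∪ ∅) (Finset.union_empty _)
  exact ⟨B, hK, hf.1, hle, hB, hB'⟩

/-- all roots are good if one is -/
theorem caseN_of_fixes {r : G} {K : Subgroup G} (h11 : 11 ≤ Ω.card) (hc : c * c = 1)
    (hL : IsComp (centralizer ({c} : Set G)) L) (hr : M.Rt r)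
    (hK : IsComp (centralizer ({r} : Set G)) K) (hle : M.cmp r ≤ K) (hf : Fixes c K) :
    CaseN M c ∅ := by
  refine ⟨Finset.disjoint_empty_right _, Or.inl rfl, fun v hv => ?_⟩
  obtain ⟨k, hk, rfl⟩ := M.exists_conj_root hr.1 hv.1 hr.2.1 hv.2.1 hr.2.2 hv.2.2
  have hkN : k ∈ normalizer (L : Set G) := le_normalizer hk
  have hkc : k * c = c * k := mem_centralizer_singleton_iff.mp (hL.le hk)
  refine ⟨cj k K, exists_kd h11 hc hL hv ?_ ?_ ?_⟩
  · have := hK.cj k
    rwa [cj_centralizer] at this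
  · refine (Subgroup.closure_le _).mpr ?_
    rintro y ⟨⟨h1, h2, h3⟩, n, hn⟩
    rw [SetLike.mem_coe, mem_cj]
    refine hle (M.mem_cmp (n := n) ?_ ?_ ?_ ?_)
    · exact mul_mem (mul_mem (inv_mem hk) h1) hk
    · calc r * (k⁻¹ * y * k) = k⁻¹ * (k * r * k⁻¹ * y) * k := by group
        _ = k⁻¹ * (y * (k * r * k⁻¹)) * k := by rw [h2]
        _ = k⁻¹ * y * k * r := by group
    · rw [M.mul _ _ (mul_mem (inv_mem hkN) (le_normalizer h1)) hkN, M.mul _ _ (inv_mem hkN) (le_normalizer h1),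
        M.inv hkN]
      have h4 := M.conj hkN (le_normalizer hr.mem)
      rw [h4] at h3
      refine ⟨?_, fun i hi => ?_⟩
      · have := (inferInstance : (alternatingGroup α).Normal).conj_mem _ h3.1 (M.φ k)⁻¹
        rwa [inv_inv] at this
      · have h5 : M.φ k i ∉ fixIn Ω (M.φ k * M.φ r * (M.φ k)⁻¹) := by
          rw [mem_fixIn]
          rintro ⟨h6, h7⟩
          apply hi
          rw [mem_fixIn]
          constructor
          · by_contra h8
            have h9 := M.mem_sym k hkN i h8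
            rw [h9] at h6
            exact h8 h6
          · simpa [Perm.mul_apply] using h7
        have h6 := h3.2 _ h5
        rw [Perm.mul_apply, Perm.mul_apply, h6]
        simp
    · have e1 : k⁻¹ * y * k = k⁻¹ * y * k⁻¹⁻¹ := by rw [inv_inv]
      rw [e1, conj_pow, hn]
      group
  · have := hf.cj k
    rwa [hkc, mul_inv_cancel_right] at this

omit [Finite G] in
theorem Out.root {x r : G} {R : Finset α} {K : Subgroup G} (o : Out Ω x c r L M R K) : Root M R r where
  mem := o.mem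
  sq := by rw [← pow_two, ← o.inv]; exact pow_orderOf_eq_one _
  sub := o.sub
  card := o.card
  fix := o.lab

/-- **(6.5)** -/
theorem Out.caseN {x r : G} {R : Finset α} {K : Subgroup G} (o : Out Ω x c r L M R K)
    (h11 : 11 ≤ Ω.card) : CaseN M c ∅ := by
  refine caseN_of_fixes h11 ?_ o.triple.comp o.root.rt o.comp o.le o.fix
  rw [← pow_two, ← o.triple.inva]
  exact pow_orderOf_eq_one _

/-- **(D)** from the output of (6.0)-(6.3) -/
theorem caseN_of_mid {n : ℕ} (H : Hyp G n) (hΩ : Ω.card = n) {S T : Finset α} {a x v w k : G}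
    {Kv Kw : Subgroup G} {MV : Mod Kv (Ω \ S)} {MW : Mod Kw (Ω \ T)}
    (h : Mid Ω S T a x v w k Kv Kw MV MW) :
    ∃ (a' : G) (L' : Subgroup G) (M' : Mod L' Ω), IsTriple x a' L' ∧ CaseN M' a' ∅ := by
  obtain ⟨L', M', R, K, o⟩ := h.result (types_of_hyp H hΩ x)
  exact ⟨_, L', M', o.triple, o.caseN h.card⟩

end Cfsg.Agent.UAlt.CaseD
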