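import Mathlib
import Cfsg.Agent.StdAlt.Closing

/-!
# Systems of alternating sections (for the multi-closing theorem with cores)

`Sys G Ω ι`: points `p : ι` (a `G`-set), subgroups `B p` normalised by the stabiliser of `p`, and homomorphisms
`φ p` from the stabiliser of `p` to `Perm Ω` mapping `B p` onto the alternating group, with kernel of odd order
on `B p`.
-/

set_option autoImplicit false

namespace Cfsg.Agent.UAlt.ClSys

open Equiv Equiv.Perm Subgroup
open Cfsg.Agent.StdAlt.Roots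

section coset

variable {G : Type*} [Group G]

/-- a `2`-group normalising a subgroup `V` of odd order and the coset `x V` centralises an element of `x V` -/
theorem coset_fix {V T : Subgroup G} (hV : Odd (Nat.card V)) (hT : IsPGroup 2 T)
    (hn : ∀ t ∈ T, ∀ v ∈ V, t * v * t⁻¹ ∈ V) {x : G} (hx : ∀ t ∈ T, x⁻¹ * (t * x * t⁻¹) ∈ V) :
    ∃ v ∈ V, ∀ t ∈ T, t * (x * v) = (x * v) * t := by
  let S : Type _ := {y : G // x⁻¹ * y ∈ V}
  let inst : MulAction T S :=
    { smul := fun t y => ⟨t * y.1 * (t : G)⁻¹, by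
        have h1 := V.mul_mem (hx t t.2) (hn t t.2 _ y.2)
        have e : x⁻¹ * (t * x * (t : G)⁻¹) * (t * (x⁻¹ * y.1) * (t : G)⁻¹) = x⁻¹ * (t * y.1 * (t : G)⁻¹) := by
          group
        rwa [e] at h1⟩
      one_smul := fun y => by
        apply Subtype.ext
        show ((1 : T) : G) * y.1 * ((1 : T) : G)⁻¹ = y.1
        simp
      mul_smul := fun s t y => by
        apply Subtype.ext
        show ((s * t : T) : G) * y.1 * ((s * t : T) : G)⁻¹ = s * (t * y.1 * (t : G)⁻¹) * (s : G)⁻¹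
        rw [Subgroup.coe_mul]; group }
  have hcard : Nat.card S = Nat.card V := by
    refine Nat.card_congr ⟨fun y => ⟨x⁻¹ * y.1, y.2⟩, fun v => ⟨x * v.1, by
      rw [inv_mul_cancel_left]; exact v.2⟩, fun y => ?_, fun v => ?_⟩
    · apply Subtype.ext; exact mul_inv_cancel_left x y.1
    · apply Subtype.ext; exact inv_mul_cancel_left x v.1
  have h2 : ¬ 2 ∣ Nat.card S := by
    rw [hcard]
    exact fun h => (Nat.not_even_iff_odd.2 hV) (even_iff_two_dvd.2 h)
  obtain ⟨y, hy⟩ := hT.nonempty_fixed_point_of_prime_not_dvd_card (p := 2) S h2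
  refine ⟨x⁻¹ * y.1, y.2, fun t ht => ?_⟩
  have h3 : t * y.1 * t⁻¹ = y.1 := congrArg Subtype.val (hy ⟨t, ht⟩)
  rw [mul_inv_cancel_left]
  exact mul_inv_eq_iff_eq_mul.1 h3

/-- the subgroup generated by two commuting elements of order two -/
theorem mem_closure_pair {t s x : G} (ht : t * t = 1) (hs : s * s = 1) (hc : t * s = s * t)
    (hx : x ∈ closure ({t, s} : Set G)) : x = 1 ∨ x = t ∨ x = s ∨ x = t * s := by
  have hti : t⁻¹ = t := inv_eq_of_mul_eq_one_left ht
  have hsi : s⁻¹ = s := inv_eq_of_mul_eq_one_left hs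
  have h1 : t * (t * s) = s := by rw [← mul_assoc, ht, one_mul]
  have h2 : s * (t * s) = t := by rw [hc, ← mul_assoc, hs, one_mul]
  have h3 : (t * s) * t = s := by rw [mul_assoc, ← hc, h1]
  have h4 : (t * s) * s = t := by rw [mul_assoc, hs, mul_one]
  have h5 : (t * s) * (t * s) = 1 := by rw [mul_assoc, h2, ht]
  induction hx using Subgroup.closure_induction with
  | mem y hy =>
    rcases hy with rfl | rfl
    · exact Or.inr (Or.inl rfl)
    · exact Or.inr (Or.inr (Or.inl rfl))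
  | one => exact Or.inl rfl
  | mul y z _ _ hy hz =>
    rcases hy with rfl | rfl | rfl | rfl <;> rcases hz with rfl | rfl | rfl | rfl <;>
      simp [ht, hs, h1, h2, h3, h4, h5, ← hc]
  | inv y _ hy =>
    rcases hy with rfl | rfl | rfl | rfl
    · left; rw [inv_one]
    · right; left; exact hti
    · right; right; left; exact hsi
    · right; right; right; rw [mul_inv_rev, hti, hsi, hc]

theorem isPGroup_pair {t s : G} (ht : t * t = 1) (hs : s * s = 1) (hc : t * s = s * t) :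
    IsPGroup 2 (closure ({t, s} : Set G)) := by
  intro x
  refine ⟨1, ?_⟩
  have h2 : s * (t * s) = t := by rw [hc, ← mul_assoc, hs, one_mul]
  apply Subtype.ext
  rw [pow_one, pow_two]
  show (x : G) * x = 1
  rcases mem_closure_pair ht hs hc x.2 with h | h | h | h
  · rw [h, one_mul]
  · rw [h, ht]
  · rw [h, hs]
  · rw [h, mul_assoc, h2, ht]

end coset

/-- A system of alternating sections. -/
structure Sys (G : Type*) [Group G] (Ω : Type*) [Fintype Ω] [DecidableEq Ω] (ι : Type*) [MulAction G ι] where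
  /-- the subgroup at a point -/
  B : ι → Subgroup G
  /-- the action of the stabiliser of a point -/
  φ : ι → G → Perm Ω
  fix : ∀ {p b}, b ∈ B p → b • p = p
  conj : ∀ {p b} (g : G), b ∈ B p → g * b * g⁻¹ ∈ B (g • p)
  map_mul : ∀ {p} {g h : G}, g • p = p → h • p = p → φ p (g * h) = φ p g * φ p h
  alt : ∀ {p b}, b ∈ B p → φ p b ∈ alternatingGroup Ω
  surj : ∀ p {σ}, σ ∈ alternatingGroup Ω → ∃ b ∈ B p, φ p b = σ
  odd' : ∀ p, Odd (Nat.card {w : G // w ∈ B p ∧ φ p w = 1})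
  tr : ∀ p (g : G), ∃ τ : Perm Ω, ∀ w : G, w • p = p → φ (g • p) (g * w * g⁻¹) = τ * φ p w * τ⁻¹

namespace Sys

variable {G : Type*} [Group G] {Ω : Type*} [Fintype Ω] [DecidableEq Ω] {ι : Type*} [MulAction G ι]
variable (D : Sys G Ω ι) {p q : ι}

theorem φ_one (p : ι) : D.φ p 1 = 1 := by
  have h := D.map_mul (p := p) (one_smul G p) (one_smul G p)
  rw [one_mul] at h
  exact mul_left_cancel (h.symm.trans (mul_one _).symm)

theorem fix_inv {g : G} (hg : g • p = p) : g⁻¹ • p = p := by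
  rw [inv_smul_eq_iff, hg]

theorem fix_mul {g h : G} (hg : g • p = p) (hh : h • p = p) : (g * h) • p = p := by
  rw [mul_smul, hh, hg]

theorem φ_inv {g : G} (hg : g • p = p) : D.φ p g⁻¹ = (D.φ p g)⁻¹ := by
  have h := D.map_mul hg (fix_inv hg)
  rw [mul_inv_cancel, D.φ_one] at h
  exact (inv_eq_of_mul_eq_one_right h.symm).symm

theorem fix_pow {g : G} (hg : g • p = p) (n : ℕ) : g ^ n • p = p := by
  induction n with
  | zero => rw [pow_zero, one_smul]
  | succ n ih => rw [pow_succ]; exact fix_mul ih hg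

theorem φ_pow {g : G} (hg : g • p = p) (n : ℕ) : D.φ p (g ^ n) = D.φ p g ^ n := by
  induction n with
  | zero => rw [pow_zero, pow_zero, D.φ_one]
  | succ n ih => rw [pow_succ, D.map_mul (fix_pow hg n) hg, ih, pow_succ]

theorem φ_conj {g h : G} (hg : g • p = p) (hh : h • p = p) :
    D.φ p (g * h * g⁻¹) = D.φ p g * D.φ p h * (D.φ p g)⁻¹ := by
  rw [D.map_mul (fix_mul hg hh) (fix_inv hg), D.map_mul hg hh, D.φ_inv hg]

/-- the stabiliser of `p` normalises `B p` -/
theorem conj_mem {g b : G} (hg : g • p = p) (hb : b ∈ D.B p) : g * b * g⁻¹ ∈ D.B p := by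
  have := D.conj g hb
  rwa [hg] at this

theorem conj_mem_iff {g b : G} : g * b * g⁻¹ ∈ D.B (g • p) ↔ b ∈ D.B p := by
  refine ⟨fun h => ?_, D.conj g⟩
  have h1 := D.conj g⁻¹ h
  rwa [inv_smul_smul, show g⁻¹ * (g * b * g⁻¹) * g⁻¹⁻¹ = b by group] at h1

/-- the kernel at a point -/
def W (p : ι) : Subgroup G where
  carrier := {w | w ∈ D.B p ∧ D.φ p w = 1}
  one_mem' := ⟨(D.B p).one_mem, D.φ_one p⟩
  mul_mem' := fun {a b} ha hb => ⟨(D.B p).mul_mem ha.1 hb.1, by
    rw [D.map_mul (D.fix ha.1) (D.fix hb.1), ha.2, hb.2, one_mul]⟩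
  inv_mem' := fun {a} ha => ⟨(D.B p).inv_mem ha.1, by rw [D.φ_inv (D.fix ha.1), ha.2, inv_one]⟩

theorem mem_W {w : G} : w ∈ D.W p ↔ w ∈ D.B p ∧ D.φ p w = 1 := Iff.rfl

theorem W_le : D.W p ≤ D.B p := fun _ h => h.1

theorem odd (p : ι) : Odd (Nat.card (D.W p)) := D.odd' p

theorem W_conj {w : G} (g : G) (hw : w ∈ D.W p) : g * w * g⁻¹ ∈ D.W (g • p) := by
  obtain ⟨τ, hτ⟩ := D.tr p g
  refine ⟨D.conj g hw.1, ?_⟩
  rw [hτ w (D.fix hw.1), hw.2]; group

theorem W_conj_mem {g w : G} (hg : g • p = p) (hw : w ∈ D.W p) : g * w * g⁻¹ ∈ D.W p := by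
  have := D.W_conj g hw
  rwa [hg] at this

/-- an element of order at most two of the kernel is trivial -/
theorem eq_one_of_sq {w : G} (hw : w ∈ D.W p) (h : w * w = 1) : w = 1 := by
  have hd : orderOf w ∣ 2 := orderOf_dvd_of_pow_eq_one (by rw [pow_two]; exact h)
  have h1 : orderOf (⟨w, hw⟩ : D.W p) ∣ Nat.card (D.W p) := orderOf_dvd_natCard _
  rw [Subgroup.orderOf_mk] at h1
  rcases (Nat.dvd_prime Nat.prime_two).1 hd with h2 | h2
  · exact orderOf_eq_one_iff.1 h2
  · exfalso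
    rw [h2] at h1
    exact (Nat.not_even_iff_odd.2 (D.odd p)) (even_iff_two_dvd.2 h1)

theorem φ_ne_one {b : G} (hb : b ∈ D.B p) (h : b * b = 1) (h1 : b ≠ 1) : D.φ p b ≠ 1 :=
  fun h2 => h1 (D.eq_one_of_sq ⟨hb, h2⟩ h)

/-- the roots at a point -/
def R (p : ι) : Set G := {u | u ∈ D.B p ∧ u * u = 1 ∧ IsRoot (D.φ p u)}

theorem mem_R {u : G} : u ∈ D.R p ↔ u ∈ D.B p ∧ u * u = 1 ∧ IsRoot (D.φ p u) := Iff.rfl

theorem R_conj {u : G} (g : G) (hu : u ∈ D.R p) : g * u * g⁻¹ ∈ D.R (g • p) := by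
  obtain ⟨τ, hτ⟩ := D.tr p g
  refine ⟨D.conj g hu.1, ?_, ?_⟩
  · rw [show g * u * g⁻¹ * (g * u * g⁻¹) = g * (u * u) * g⁻¹ by group, hu.2.1]; group
  · rw [hτ u (D.fix hu.1)]; exact hu.2.2.conj τ

theorem R_conj_iff {u : G} (g : G) : g * u * g⁻¹ ∈ D.R (g • p) ↔ u ∈ D.R p := by
  refine ⟨fun h => ?_, D.R_conj g⟩
  have h1 := D.R_conj g⁻¹ h
  rwa [inv_smul_smul, show g⁻¹ * (g * u * g⁻¹) * g⁻¹⁻¹ = u by group] at h1

end Sys

theorem IsRoot.ne_one {Ω : Type*} [Fintype Ω] [DecidableEq Ω] {σ : Perm Ω} (h : IsRoot σ) : σ ≠ 1 := by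
  rintro rfl
  have := h.2
  simp at this

namespace Sys

variable {G : Type*} [Group G] {Ω : Type*} [Fintype Ω] [DecidableEq Ω] {ι : Type*} [MulAction G ι]
variable (D : Sys G Ω ι) {p q : ι}

/-- two commuting elements of order two of `B p` with the same image are equal -/
theorem eq_of_φ_eq {a b : G} (ha : a ∈ D.B p) (hb : b ∈ D.B p) (haa : a * a = 1) (hbb : b * b = 1)
    (hc : a * b = b * a) (h : D.φ p a = D.φ p b) : a = b := by
  have hbi : b⁻¹ = b := inv_eq_of_mul_eq_one_left hbb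
  have h1 : a * b ∈ D.W p := by
    refine ⟨(D.B p).mul_mem ha hb, ?_⟩
    rw [D.map_mul (D.fix ha) (D.fix hb), h, ← D.map_mul (D.fix hb) (D.fix hb), hbb, D.φ_one]
  have h2 : a * b = 1 := by
    apply D.eq_one_of_sq h1
    rw [mul_assoc, ← mul_assoc b, ← hc, mul_assoc a b b, hbb, mul_one, haa]
  rw [← hbi]
  exact eq_inv_of_mul_eq_one_left h2

variable [Finite G]

/-- lifting an element of the alternating group so that it commutes with a `2`-group -/
theorem exists_lift {T : Subgroup G} (hT : IsPGroup 2 T) (hf : ∀ t ∈ T, t • p = p) {σ : Perm Ω}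
    (hσ : σ ∈ alternatingGroup Ω) (hc : ∀ t ∈ T, D.φ p t * σ = σ * D.φ p t) :
    ∃ b ∈ D.B p, D.φ p b = σ ∧ ∀ t ∈ T, t * b = b * t := by
  obtain ⟨x, hx, hxσ⟩ := D.surj p hσ
  obtain ⟨v, hv, hvc⟩ := coset_fix (D.odd p) hT (fun t ht v hv => D.W_conj_mem (hf t ht) hv) (x := x) (by
    intro t ht
    refine ⟨(D.B p).mul_mem ((D.B p).inv_mem hx) (D.conj_mem (hf t ht) hx), ?_⟩
    rw [D.map_mul (fix_inv (D.fix hx)) (D.fix (D.conj_mem (hf t ht) hx)), D.φ_conj (hf t ht) (D.fix hx),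
      D.φ_inv (D.fix hx), hxσ, hc t ht]
    group)
  refine ⟨x * v, (D.B p).mul_mem hx hv.1, ?_, hvc⟩
  rw [D.map_mul (D.fix hx) (D.fix hv.1), hv.2, mul_one, hxσ]

/-- lifting a root so that it commutes with a `2`-group -/
theorem exists_root {T : Subgroup G} (hT : IsPGroup 2 T) (hf : ∀ t ∈ T, t • p = p) {σ : Perm Ω}
    (hσ : IsRoot σ) (hc : ∀ t ∈ T, D.φ p t * σ = σ * D.φ p t) :
    ∃ u ∈ D.R p, D.φ p u = σ ∧ ∀ t ∈ T, t * u = u * t := by
  obtain ⟨b, hb, hbσ, hbc⟩ := D.exists_lift hT hf hσ.mem_alternatingGroup hc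
  obtain ⟨k, hk⟩ := D.odd p
  have h1 : D.φ p (b ^ Nat.card (D.W p)) = σ := by
    rw [D.φ_pow (D.fix hb), hbσ, hk, pow_succ, pow_mul, pow_two, hσ.1, one_pow, one_mul]
  have h2 : b * b ∈ D.W p :=
    ⟨(D.B p).mul_mem hb hb, by rw [D.map_mul (D.fix hb) (D.fix hb), hbσ, hσ.1]⟩
  have h3 : b ^ Nat.card (D.W p) * b ^ Nat.card (D.W p) = 1 := by
    rw [← (Commute.refl b).mul_pow]
    have := pow_card_eq_one' (x := (⟨b * b, h2⟩ : D.W p))
    exact congrArg Subtype.val this
  refine ⟨b ^ Nat.card (D.W p), ⟨(D.B p).pow_mem hb _, h3, by rw [h1]; exact hσ⟩, h1, fun t ht => ?_⟩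
  exact ((show Commute t b from hbc t ht).pow_right _).eq

theorem exists_root_one {t : G} (ht : t * t = 1) (hf : t • p = p) {σ : Perm Ω}
    (hσ : IsRoot σ) (hc : D.φ p t * σ = σ * D.φ p t) : ∃ u ∈ D.R p, D.φ p u = σ ∧ t * u = u * t := by
  have h0 : ∀ x ∈ closure ({t, 1} : Set G), x = 1 ∨ x = t := by
    intro x hx
    rcases mem_closure_pair ht (one_mul (1 : G)) (by rw [mul_one, one_mul]) hx with h | h | h | h
    · exact Or.inl h
    · exact Or.inr h
    · exact Or.inl h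
    · exact Or.inr (by rw [h, mul_one])
  obtain ⟨u, hu, huσ, huc⟩ := D.exists_root (p := p)
    (isPGroup_pair ht (one_mul (1 : G)) (by rw [mul_one, one_mul])) (by
      intro x hx
      rcases h0 x hx with rfl | rfl
      · exact one_smul G p
      · exact hf) hσ (by
      intro x hx
      rcases h0 x hx with rfl | rfl
      · rw [D.φ_one, one_mul, mul_one]
      · exact hc)
  exact ⟨u, hu, huσ, huc t (subset_closure (by simp))⟩

theorem exists_root_two {t s : G} (ht : t * t = 1) (hs : s * s = 1) (hts : t * s = s * t)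
    (hft : t • p = p) (hfs : s • p = p) {σ : Perm Ω}
    (hσ : IsRoot σ) (hct : D.φ p t * σ = σ * D.φ p t) (hcs : D.φ p s * σ = σ * D.φ p s) :
    ∃ u ∈ D.R p, D.φ p u = σ ∧ t * u = u * t ∧ s * u = u * s := by
  obtain ⟨u, hu, huσ, huc⟩ := D.exists_root (p := p) (isPGroup_pair ht hs hts) (by
      intro x hx
      rcases mem_closure_pair ht hs hts hx with rfl | rfl | rfl | rfl
      · exact one_smul G p
      · exact hft
      · exact hfs
      · exact fix_mul hft hfs) hσ (by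
      intro x hx
      rcases mem_closure_pair ht hs hts hx with rfl | rfl | rfl | rfl
      · rw [D.φ_one, one_mul, mul_one]
      · exact hct
      · exact hcs
      · rw [D.map_mul hft hfs, mul_assoc, hcs, ← mul_assoc, hct, mul_assoc])
  exact ⟨u, hu, huσ, huc t (subset_closure (by simp)), huc s (subset_closure (by simp))⟩

end Sys

end Cfsg.Agent.UAlt.ClSys
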