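import Mathlib
import Cfsg.Agent.UAlt.ClSys

/-!
# The multi-closing theorem: centralisers of products of two roots

`Cl D r`: the hypotheses on a system `D` and an equivalence relation `r` on its points.
`Cl.stepA`, `Cl.stepA2`: centralisers of products of two commuting roots lie in the stabiliser of a class.
-/

set_option autoImplicit false

namespace Cfsg.Agent.UAlt.ClA

open Equiv Equiv.Perm Subgroup
open Cfsg.Agent.StdAlt.Roots Cfsg.Agent.StdAlt.Dihedral Cfsg.Agent.UAlt.ClSys

variable {G : Type*} [Group G] {Ω : Type*} [Fintype Ω] [DecidableEq Ω] {ι : Type*} [MulAction G ι]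

/-- The hypotheses of the abstract closing theorem. -/
structure Cl (D : Sys G Ω ι) (r : ι → ι → Prop) : Prop where
  h8 : 8 ≤ Fintype.card Ω
  /-- a root determines its point -/
  uniq : ∀ {p q u}, u ∈ D.R p → u ∈ D.R q → p = q
  /-- centralisers of roots -/
  h1 : ∀ {p u}, u ∈ D.R p → ∀ g : G, g * u = u * g → g • p = p
  /-- roots fixing a point -/
  h2 : ∀ {p q t}, t ∈ D.R q → t • p = p → t ∈ D.R p ∨ D.φ p t = 1
  h3 : ∀ {p q t}, t ∈ D.R q → t • p = p → r p q
  refl : ∀ p, r p p
  symm : ∀ {p q}, r p q → r q p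
  trans : ∀ {p q s}, r p q → r q s → r p s
  smul : ∀ {p q} (g : G), r p q → r (g • p) (g • q)
  near : ∀ {p q}, r p q → p ≠ q → ∀ b ∈ D.B q, b • p = p ∧ D.φ p b = 1
  nearW : ∀ {p q}, r p q → D.W p = D.W q

namespace Cl

variable {D : Sys G Ω ι} {r : ι → ι → Prop} (C : Cl D r) {p q : ι}

/-- roots anywhere -/
def RC (D : Sys G Ω ι) : Set G := {t | ∃ q, t ∈ D.R q}

theorem RC_conj {t : G} (ht : t ∈ RC D) (g : G) : g * t * g⁻¹ ∈ RC D := by
  obtain ⟨q, hq⟩ := ht
  exact ⟨g • q, D.R_conj g hq⟩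

theorem RC_of {t s g : G} (ht : t ∈ RC D) (h : g * t * g⁻¹ = s) : s ∈ RC D := h ▸ RC_conj ht g

include C in
theorem mem_R {t : G} (ht : t ∈ RC D) (hf : t • p = p) (h1 : D.φ p t ≠ 1) : t ∈ D.R p := by
  obtain ⟨q, hq⟩ := ht
  rcases C.h2 hq hf with h | h
  · exact h
  · exact absurd h h1

theorem sq {u : G} (hu : u ∈ D.R p) : u * u = 1 := hu.2.1

theorem sq_RC {u : G} (hu : u ∈ RC D) : u * u = 1 := by
  obtain ⟨q, hq⟩ := hu
  exact hq.2.1

theorem fixR {u : G} (hu : u ∈ D.R p) : u • p = p := D.fix hu.1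

section

/-- a commuting product computation -/
theorem mul_sq {a b : G} (ha : a * a = 1) (hb : b * b = 1) (hc : a * b = b * a) : a * b * (a * b) = 1 := by
  rw [mul_assoc, ← mul_assoc b, ← hc, mul_assoc a b b, hb, mul_one, ha]

end

variable [Finite G]

include C in
/-- step A: the centraliser of a product of two commuting roots at `p` (not a root) stabilises the class of `p` -/
theorem stepA {a d : G} (ha : a ∈ D.R p) (hd : d ∈ D.R p) (hc : a * d = d * a) (hne : a ≠ d)
    (hR : ¬ IsRoot (D.φ p (a * d))) {g : G} (hg : g * (a * d) = (a * d) * g) : r (g • p) p := by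
  by_contra hgY
  have hfa := D.fix ha.1
  have hfd := D.fix hd.1
  have hne' : D.φ p a ≠ D.φ p d := fun h =>
    hne (D.eq_of_φ_eq ha.1 hd.1 ha.2.1 hd.2.1 hc h)
  have hc' : D.φ p a * D.φ p d = D.φ p d * D.φ p a := by
    rw [← D.map_mul hfa hfd, hc, D.map_mul hfd hfa]
  rw [D.map_mul hfa hfd] at hR
  obtain ⟨β, hβ, hβc, hβR, l1, l2⟩ := local_pair ha.2.2 hd.2.2 hc' hne' hR
  set c := a * d with hcdef
  have haa := ha.2.1
  have hdd := hd.2.1
  have hcc : c * c = 1 := mul_sq haa hdd hc
  have hac : a * c = d := by rw [hcdef, ← mul_assoc, haa, one_mul]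
  have hca : c * a = a * c := by rw [hac, hc, mul_assoc, haa, mul_one]
  have hcB : c ∈ D.B p := (D.B p).mul_mem ha.1 hd.1
  have hfc := D.fix hcB
  have hφc : D.φ p c = D.φ p a * D.φ p d := D.map_mul hfa hfd
  have hφc1 : D.φ p c ≠ 1 := by
    intro h
    rw [hφc] at h
    apply hne'
    have := eq_inv_of_mul_eq_one_left h
    rw [this, inv_eq_of_mul_eq_one_left hd.2.2.1]
  obtain ⟨b, hb, hbβ, hbc0⟩ := D.exists_root_one hcc hfc hβ (by rw [hφc]; exact hβc.symm)
  have hbc : b * c = c * b := hbc0.symm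
  have hbb := hb.2.1
  have hfb := D.fix hb.1
  have hbcR : ¬ IsRoot (D.φ p (b * c)) := by
    rw [D.map_mul hfb hfc, hbβ, hφc]; exact hβR
  have hbc1 : D.φ p (b * c) ≠ 1 := by
    intro h
    rw [D.map_mul hfb hfc, hbβ] at h
    apply hR
    rw [← hφc, ← inv_eq_of_mul_eq_one_right h, inv_eq_of_mul_eq_one_left hβ.1]
    exact hβ
  -- the root at `g`
  set b' := g * b * g⁻¹ with hb'
  have hb'R : b' ∈ D.R (g • p) := D.R_conj g hb
  have hb'b' : b' * b' = 1 := hb'R.2.1
  have hgi : g⁻¹ * c = c * g⁻¹ := by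
    rw [inv_mul_eq_iff_eq_mul, ← mul_assoc, hg, mul_inv_cancel_right]
  have hb'c : b' * c = c * b' := by
    calc b' * c = g * b * (g⁻¹ * c) := by rw [hb', mul_assoc]
      _ = g * (b * c) * g⁻¹ := by rw [hgi]; group
      _ = (g * c) * b * g⁻¹ := by rw [hbc]; group
      _ = c * b' := by rw [hg, hb']; group
  have hcb' : c * b' = b' * c := hb'c.symm
  have hgb'c : g⁻¹ * (b' * c) * g = b * c := by
    rw [hb', show g⁻¹ * (g * b * g⁻¹ * c) * g = b * (g⁻¹ * c) * g by group, hgi]; group
  -- `b c` is not a conjugate of a root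
  have hbcRC : b * c ∉ RC D := fun h => hbcR (C.mem_R h (Sys.fix_mul hfb hfc) hbc1).2.2
  rcases dihedral haa hb'b' with ⟨j, hj⟩ | ⟨z, hz1, hzz, -, haz, hbz, hcase⟩
  · -- odd case
    set y := (a * b') ^ j with hy
    have hyc : c * y = y * c := comm_pow hca hcb' j
    have hyc' : y⁻¹ * c = c * y⁻¹ := by
      rw [inv_mul_eq_iff_eq_mul, ← mul_assoc, ← hyc, mul_inv_cancel_right]
    apply hbcRC
    have e : (g⁻¹ * y) * d * (g⁻¹ * y)⁻¹ = b * c := by
      rw [← hgb'c, ← hj, ← hac]
      calc g⁻¹ * y * (a * c) * (g⁻¹ * y)⁻¹ = g⁻¹ * (y * a * (c * y⁻¹)) * g := by group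
        _ = g⁻¹ * (y * a * y⁻¹ * c) * g := by rw [← hyc']; group
    exact RC_of ⟨p, hd⟩ e
  · have hfz : z • p = p := C.h1 ha z haz.symm
    have hfzg : z • (g • p) = g • p := C.h1 hb'R z hbz.symm
    have hzR : z ∉ D.R p := by
      intro hz
      have h3 : b' • p = p := C.h1 hz b' hbz
      exact hgY (C.symm (C.h3 hb'R h3))
    have hzroot : ∀ x ∈ D.R p, x * z ∈ D.R p → ¬ IsRoot (D.φ p z) ∧ z ∈ D.B p ∧ D.φ p z ≠ 1 := by
      intro x hx hxz
      have h4 : z ∈ D.B p := by
        have := (D.B p).mul_mem hx.1 hxz.1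
        rwa [← mul_assoc, hx.2.1, one_mul] at this
      exact ⟨fun h5 => hzR ⟨h4, hzz, h5⟩, h4, D.φ_ne_one h4 hzz hz1⟩
    have hcz : c * z = z * c → True := fun _ => trivial
    rcases hcase with ⟨⟨j, hj⟩, ⟨i, hi⟩⟩ | ⟨⟨j, hj⟩, -⟩
    · -- `a z ~ a`
      set y := (a * b') ^ j with hy
      have hyc : c * y = y * c := comm_pow hca hcb' j
      have hyc' : y⁻¹ * c = c * y⁻¹ := by
        rw [inv_mul_eq_iff_eq_mul, ← mul_assoc, ← hyc, mul_inv_cancel_right]
      have hazRC : a * z ∈ RC D := RC_of ⟨p, ha⟩ hj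
      have hazcRC : a * z * c ∈ RC D := by
        have e : y * d * y⁻¹ = a * z * c := by
          rw [← hj, ← hac, mul_assoc, mul_assoc, mul_assoc (y * a), hyc']; group
        exact RC_of ⟨p, hd⟩ e
      have hfaz : (a * z) • p = p := Sys.fix_mul hfa hfz
      have hfazc : (a * z * c) • p = p := Sys.fix_mul hfaz hfc
      have haz1 : D.φ p (a * z) ≠ 1 := by
        intro h
        have h5 : D.φ p (a * z * c) = D.φ p c := by rw [D.map_mul hfaz hfc, h, one_mul]
        have h6 := C.mem_R hazcRC hfazc (by rw [h5]; exact hφc1)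
        have h7 := h6.2.2
        rw [h5, hφc] at h7
        exact hR h7
      have hazR : a * z ∈ D.R p := C.mem_R hazRC hfaz haz1
      obtain ⟨hzr, hzB, hzφ⟩ := hzroot a ha hazR
      have hazc1 : D.φ p (a * z * c) ≠ 1 := by
        intro h
        rw [D.map_mul hfaz hfc] at h
        apply hR
        rw [← hφc, ← inv_eq_of_mul_eq_one_right h, inv_eq_of_mul_eq_one_left hazR.2.2.1]
        exact hazR.2.2
      have hazcR : a * z * c ∈ D.R p := C.mem_R hazcRC hfazc hazc1
      have haza : a * z * a = z := by rw [haz, mul_assoc, haa, mul_one]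
      have hzd : D.φ p (a * z) = D.φ p d := by
        apply l1 _ hazR.2.2
        · rw [← hφc, ← D.map_mul hfaz hfc]; exact hazcR.2.2
        · rw [← D.map_mul hfaz hfa, ← D.map_mul hfa hfaz, haza, ← mul_assoc, haa, one_mul]
        · rw [← D.map_mul hfaz hfa, haza]; exact hzr
        · intro h4
          rw [D.map_mul hfa hfz] at h4
          exact hzφ (by rwa [mul_eq_left] at h4)
      have hzc : z = c := by
        have h5 : z * c = c * z := by
          -- `z` is a product of elements commuting with `c`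
          have h6 : c * z = z * c := by
            have h7 : a * z = y * a * y⁻¹ := hj.symm
            have h8 : Commute c (y * a * y⁻¹) :=
              ((show Commute c y from hyc).mul_right (show Commute c a from hca)).mul_right
                (show Commute c y from hyc).inv_right
            rw [← h7] at h8
            have h9 : Commute c (a * (a * z)) := (show Commute c a from hca).mul_right h8
            rw [← mul_assoc, haa, one_mul] at h9
            exact h9
          exact h6.symm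
        apply D.eq_of_φ_eq hzB hcB hzz hcc h5
        have h6 : D.φ p (a * (a * z)) = D.φ p (a * d) := by
          rw [D.map_mul hfa hfaz, hzd, D.map_mul hfa hfd]
        rwa [← mul_assoc, haa, one_mul] at h6
      rw [hzc] at hi
      apply hbcRC
      set y' := (a * b') ^ i with hy'
      have e : (g⁻¹ * y' * g) * b * (g⁻¹ * y' * g)⁻¹ = b * c := by
        rw [← hgb'c, ← hi, hb']; group
      exact RC_of ⟨p, hb⟩ e
    · -- `b' z ~ a`
      set y := (a * b') ^ j with hy
      have hyc : c * y = y * c := comm_pow hca hcb' j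
      have hyc' : y⁻¹ * c = c * y⁻¹ := by
        rw [inv_mul_eq_iff_eq_mul, ← mul_assoc, ← hyc, mul_inv_cancel_right]
      set z' := g⁻¹ * z * g with hz'
      have hz'z' : z' * z' = 1 := by
        rw [hz', show g⁻¹ * z * g * (g⁻¹ * z * g) = g⁻¹ * (z * z) * g by group, hzz]; group
      have hbz' : b * z' = z' * b := by
        have : g⁻¹ * (b' * z) * g = g⁻¹ * (z * b') * g := by rw [hbz]
        rw [hb'] at this
        calc b * z' = g⁻¹ * (g * b * g⁻¹ * z) * g := by rw [hz']; group
          _ = g⁻¹ * (z * (g * b * g⁻¹)) * g := this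
          _ = z' * b := by rw [hz']; group
      have hfz' : z' • p = p := C.h1 hb z' hbz'.symm
      set b1 := b * z' with hb1
      have e1 : b1 = (g⁻¹ * y) * a * (g⁻¹ * y)⁻¹ := by
        rw [show (g⁻¹ * y) * a * (g⁻¹ * y)⁻¹ = g⁻¹ * (y * a * y⁻¹) * g by group, hj, hb1, hz', hb']; group
      have hfb1 : b1 • p = p := Sys.fix_mul hfb hfz'
      have hb1RC : b1 ∈ RC D := RC_of ⟨p, ha⟩ e1.symm
      have e2 : b1 * c = (g⁻¹ * y) * d * (g⁻¹ * y)⁻¹ := by
        rw [e1, ← hac]
        calc g⁻¹ * y * a * (g⁻¹ * y)⁻¹ * c = g⁻¹ * y * a * y⁻¹ * (g * c) := by group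
          _ = g⁻¹ * y * a * (y⁻¹ * c) * g := by rw [hg]; group
          _ = g⁻¹ * y * (a * c) * (g⁻¹ * y)⁻¹ := by rw [hyc']; group
      have hb1cRC : b1 * c ∈ RC D := RC_of ⟨p, hd⟩ e2.symm
      have hfb1c : (b1 * c) • p = p := Sys.fix_mul hfb1 hfc
      have hb11 : D.φ p b1 ≠ 1 := by
        intro h
        have h5 : D.φ p (b1 * c) = D.φ p c := by rw [D.map_mul hfb1 hfc, h, one_mul]
        have h7 := (C.mem_R hb1cRC hfb1c (by rw [h5]; exact hφc1)).2.2
        rw [h5, hφc] at h7
        exact hR h7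
      have hb1R : b1 ∈ D.R p := C.mem_R hb1RC hfb1 hb11
      have hb1c1 : D.φ p (b1 * c) ≠ 1 := by
        intro h
        rw [D.map_mul hfb1 hfc] at h
        apply hR
        rw [← hφc, ← inv_eq_of_mul_eq_one_right h, inv_eq_of_mul_eq_one_left hb1R.2.2.1]
        exact hb1R.2.2
      have hb1cR : b1 * c ∈ D.R p := C.mem_R hb1cRC hfb1c hb1c1
      have hbb1 : b * b1 = z' := by rw [hb1, ← mul_assoc, hbb, one_mul]
      have hb1b : b1 * b = z' := by rw [hbz', mul_assoc, hbb, mul_one]
      have hz'B : z' ∈ D.B p := by rw [← hbb1]; exact (D.B p).mul_mem hb.1 hb1R.1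
      have hgz' : g * z' * g⁻¹ = z := by rw [hz']; group
      have hz'R : z' ∉ D.R p := by
        intro h3
        have h4 : z ∈ D.R (g • p) := by rw [← hgz']; exact D.R_conj g h3
        have h5 : a • (g • p) = g • p := C.h1 h4 a haz
        exact hgY (C.h3 ha h5)
      have hz'1 : z' ≠ 1 := by
        intro h; apply hz1; rw [← hgz', h]; group
      have hz'c : z' * c = c * z' := by
        have h8 : Commute c (y * a * y⁻¹) :=
          ((show Commute c y from hyc).mul_right (show Commute c a from hca)).mul_right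
            (show Commute c y from hyc).inv_right
        rw [hj] at h8
        have h9 : Commute c (b' * (b' * z)) := (show Commute c b' from hcb').mul_right h8
        rw [← mul_assoc, hb'b', one_mul] at h9
        have h10 : Commute c g := hg.symm
        rw [hz']
        exact ((h10.inv_right.mul_right h9).mul_right h10).symm
      have h6 : IsRoot (D.φ p (z' * c)) := by
        have h7 := l2 (D.φ p b1) hb1R.2.2 (by rw [← hφc, ← D.map_mul hfb1 hfc]; exact hb1cR.2.2)
          (by rw [← hbβ, ← D.map_mul hfb1 hfb, ← D.map_mul hfb hfb1, hbb1, hb1b])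
          (by
            rw [← hbβ, ← D.map_mul hfb hfb1, hbb1]
            exact fun h8 => hz'R ⟨hz'B, hz'z', h8⟩)
          (by
            rw [← hbβ, hb1, D.map_mul hfb hfz']
            intro h8
            rw [mul_eq_left] at h8
            exact D.φ_ne_one hz'B hz'z' hz'1 h8)
        rw [← hφc, ← hbβ, ← D.map_mul hfb1 hfc, ← D.map_mul hfb hfb1c, ← mul_assoc, hbb1] at h7
        exact h7
      have hz'cR : z' * c ∈ D.R p := ⟨(D.B p).mul_mem hz'B hcB, mul_sq hz'z' hcc hz'c, h6⟩
      have h7 : z * c ∈ D.R (g • p) := by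
        have e3 : g * (z' * c) * g⁻¹ = z * c := by
          rw [hz']
          calc g * (g⁻¹ * z * g * c) * g⁻¹ = z * (g * c) * g⁻¹ := by group
            _ = z * c := by rw [hg]; group
        rw [← e3]; exact D.R_conj g hz'cR
      exact hgY (C.symm (C.h3 h7 (Sys.fix_mul hfz hfc)))

end Cl

end Cfsg.Agent.UAlt.ClA
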