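import Mathlib
import Cfsg.Agent.UAlt.ClA

/-!
# The multi-closing theorem: products of roots at different points of a class, and the abstract end
-/

set_option autoImplicit false

namespace Cfsg.Agent.UAlt.ClB

open Equiv Equiv.Perm Subgroup
open Cfsg.Agent.StdAlt.Roots Cfsg.Agent.StdAlt.Dihedral Cfsg.Agent.UAlt.ClSys Cfsg.Agent.UAlt.ClA
open Cfsg.Agent.UAlt.ClA.Cl

variable {G : Type*} [Group G] {Ω : Type*} [Fintype Ω] [DecidableEq Ω] {ι : Type*} [MulAction G ι]

/-- a root lies in a common four-group of roots -/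
theorem exists_four_root {α : Perm Ω} (hα : IsRoot α) :
    ∃ β : Perm Ω, IsRoot β ∧ IsRoot (α * β) ∧ α * β = β * α := by
  obtain ⟨x, hx⟩ : ∃ x, α x ≠ x := by
    by_contra hcon
    push Not at hcon
    exact IsRoot.ne_one hα (Equiv.ext hcon)
  obtain ⟨y, hy1, hy2⟩ : ∃ y, α y ≠ y ∧ y ≠ x ∧ y ≠ α x := by
    by_contra hcon
    push Not at hcon
    have h1 : α.support ⊆ {x, α x} := by
      intro t ht
      simp only [Finset.mem_insert, Finset.mem_singleton]
      by_cases h : t = x
      · left; exact h
      · right; exact hcon t (mem_support.1 ht) h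
    have h2 := Finset.card_le_card h1
    have h3 := Finset.card_le_two (a := x) (b := α x)
    have h4 := hα.2
    omega
  have aa := apply_apply hα.1
  have hxw : x ≠ α y := fun h => hy2.2 (by rw [h, aa])
  have hyw : α x ≠ α y := fun h => hy2.1 (α.injective h.symm)
  have hr : IsRoot (swap x y * swap (α x) (α y)) :=
    isRoot_swap_mul (Ne.symm hy2.1) (Ne.symm hx) hxw hy2.2 (Ne.symm hy1) hyw
  have hd : Disjoint (swap x y) (swap (α x) (α y)) := by
    intro t
    by_cases h1 : t = x
    · right; rw [h1]; exact swap_apply_of_ne_of_ne (Ne.symm hx) hxw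
    by_cases h2 : t = y
    · right; rw [h2]; exact swap_apply_of_ne_of_ne hy2.2 (Ne.symm hy1)
    left; exact swap_apply_of_ne_of_ne h1 h2
  have hc : α * (swap x y * swap (α x) (α y)) = (swap x y * swap (α x) (α y)) * α := by
    have e1 := swap_apply_apply α x y
    have e2 := swap_apply_apply α (α x) (α y)
    rw [aa, aa] at e2
    have h5 : α * (swap x y * swap (α x) (α y)) * α⁻¹ = swap x y * swap (α x) (α y) := by
      calc α * (swap x y * swap (α x) (α y)) * α⁻¹ = (α * swap x y * α⁻¹) * (α * swap (α x) (α y) * α⁻¹) := by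
            group
        _ = swap (α x) (α y) * swap x y := congrArg₂ (· * ·) e1.symm e2.symm
        _ = swap x y * swap (α x) (α y) := hd.commute.eq.symm
    exact mul_inv_eq_iff_eq_mul.1 h5
  refine ⟨_, hr, ?_, hc⟩
  refine isRoot_mul hα hr hc ?_ hx (x := x) ?_
  · intro h
    have h1 := congrArg (fun f : Perm Ω => f x) h
    simp only [Perm.mul_apply] at h1
    rw [swap_apply_of_ne_of_ne (Ne.symm hx) hxw, swap_apply_left] at h1
    exact hy2.2 h1.symm
  · rw [Perm.mul_apply, swap_apply_of_ne_of_ne (Ne.symm hx) hxw, swap_apply_left]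
    exact hy2.1

namespace Cl

variable {D : Sys G Ω ι} {r : ι → ι → Prop} (C : Cl D r) {p q : ι}

/-- an element of `B q` with `q` near `p` -/
theorem fix_near (C : Cl D r) (h : r p q) {b : G} (hb : b ∈ D.B q) : b • p = p := by
  by_cases hpq : p = q
  · subst hpq; exact D.fix hb
  · exact (C.near h hpq b hb).1

variable [Finite G]

include C in
/-- step A2: products of commuting roots at different points of a class -/
theorem stepA2 {a s : G} (ha : a ∈ D.R p) (hs : s ∈ D.R q) (hr : r p q) (hne : p ≠ q) (hc : a * s = s * a)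
    {g : G} (hg : g * (a * s) = (a * s) * g) : r (g • p) p := by
  by_contra hgY
  have haa := ha.2.1
  have hss := hs.2.1
  have hfa := D.fix ha.1
  have hfsq := D.fix hs.1
  obtain ⟨hfs, hφs⟩ := C.near hr hne s hs.1
  obtain ⟨hfaq, hφaq⟩ := C.near (C.symm hr) (Ne.symm hne) a ha.1
  obtain ⟨β, hβ, hαβ, hβc⟩ := exists_four_root ha.2.2
  obtain ⟨b, hb, hbβ, hab, hsb⟩ := D.exists_root_two haa hss hc hfa hfs hβ hβc (by
    rw [hφs, one_mul, mul_one])
  have hbb := hb.2.1
  have hfb := D.fix hb.1
  have hs1 : s ≠ 1 := by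
    rintro rfl
    exact IsRoot.ne_one hs.2.2 (D.φ_one q)
  -- `s` is not in `B p`
  have hsB : s ∉ D.B p := fun h => hs1 (D.eq_one_of_sq ⟨h, hφs⟩ hss)
  have haBq : a ∉ D.B q := fun h => by
    have := D.eq_one_of_sq ⟨h, hφaq⟩ haa
    rw [this] at ha
    exact IsRoot.ne_one ha.2.2 (D.φ_one p)
  set c := a * s with hcdef
  have hcc : c * c = 1 := mul_sq haa hss hc
  have hac : a * c = s := by rw [hcdef, ← mul_assoc, haa, one_mul]
  have hca : c * a = a * c := by rw [hac, hc, mul_assoc, haa, mul_one]
  have hfc : c • p = p := Sys.fix_mul hfa hfs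
  have hφc : D.φ p c = D.φ p a := by rw [hcdef, D.map_mul hfa hfs, hφs, mul_one]
  have hbc : b * c = c * b := by
    have : Commute b (a * s) := (show Commute b a from hab.symm).mul_right (show Commute b s from hsb.symm)
    exact this
  -- `b c` is not a conjugate of a root
  have hbcRC : b * c ∉ RC D := by
    intro h
    have h1 : D.φ p (b * c) = D.φ p (a * b) := by
      rw [D.map_mul hfb hfc, hφc, ← D.map_mul hfb hfa, hab]
    have h2 : D.φ p (b * c) ≠ 1 := by
      rw [h1, D.map_mul hfa hfb, hbβ]; exact IsRoot.ne_one hαβ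
    have h3 := C.mem_R h (Sys.fix_mul hfb hfc) h2
    apply hsB
    have h4 : (a * b)⁻¹ * (b * c) = s := by rw [hab, hcdef]; group
    rw [← h4]
    exact (D.B p).mul_mem ((D.B p).inv_mem ((D.B p).mul_mem ha.1 hb.1)) h3.1
  set b' := g * b * g⁻¹ with hb'
  have hb'R : b' ∈ D.R (g • p) := D.R_conj g hb
  have hb'b' : b' * b' = 1 := hb'R.2.1
  have hgi : g⁻¹ * c = c * g⁻¹ := by
    rw [inv_mul_eq_iff_eq_mul, ← mul_assoc, hg, mul_inv_cancel_right]
  have hb'c : b' * c = c * b' := by
    calc b' * c = g * b * (g⁻¹ * c) := by rw [hb', mul_assoc]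
      _ = g * (b * c) * g⁻¹ := by rw [hgi]; group
      _ = (g * c) * b * g⁻¹ := by rw [hbc]; group
      _ = c * b' := by rw [hg, hb']; group
  have hcb' : c * b' = b' * c := hb'c.symm
  have hgb'c : g⁻¹ * (b' * c) * g = b * c := by
    rw [hb', show g⁻¹ * (g * b * g⁻¹ * c) * g = b * (g⁻¹ * c) * g by group, hgi]; group
  rcases dihedral haa hb'b' with ⟨j, hj⟩ | ⟨z, hz1, hzz, -, haz, hbz, hcase⟩
  · -- odd case
    set y := (a * b') ^ j with hy
    have hyc : c * y = y * c := comm_pow hca hcb' j
    have hyc' : y⁻¹ * c = c * y⁻¹ := by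
      rw [inv_mul_eq_iff_eq_mul, ← mul_assoc, ← hyc, mul_inv_cancel_right]
    apply hbcRC
    have e : (g⁻¹ * y) * s * (g⁻¹ * y)⁻¹ = b * c := by
      rw [← hgb'c, ← hj, ← hac]
      calc g⁻¹ * y * (a * c) * (g⁻¹ * y)⁻¹ = g⁻¹ * (y * a * (c * y⁻¹)) * g := by group
        _ = g⁻¹ * (y * a * y⁻¹ * c) * g := by rw [← hyc']; group
    exact RC_of ⟨q, hs⟩ e
  · have hfz : z • p = p := C.h1 ha z haz.symm
    have hfzg : z • (g • p) = g • p := C.h1 hb'R z hbz.symm
    -- `z` is not a root near `p` or near `g • p`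
    have hzR : ∀ p', r p p' → z ∉ D.R p' := by
      intro p' hp' hz
      have h3 : b' • p' = p' := C.h1 hz b' hbz
      exact hgY (C.symm (C.trans hp' (C.h3 hb'R h3)))
    have hzR' : z ∉ D.R (g • p) := by
      intro hz
      have h3 : a • (g • p) = g • p := C.h1 hz a haz
      exact hgY (C.h3 ha h3)
    have hcz : ∀ y : G, c * y = y * c → y * a * y⁻¹ = a * z → c * z = z * c := by
      intro y hyc hj
      have h8 : Commute c (y * a * y⁻¹) :=
        ((show Commute c y from hyc).mul_right (show Commute c a from hca)).mul_right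
          (show Commute c y from hyc).inv_right
      rw [hj] at h8
      have h9 : Commute c (a * (a * z)) := (show Commute c a from hca).mul_right h8
      rw [← mul_assoc, haa, one_mul] at h9
      exact h9
    rcases hcase with ⟨⟨j, hj⟩, ⟨i, hi⟩⟩ | ⟨⟨j, hj⟩, -⟩
    · -- `a z ~ a`
      set y := (a * b') ^ j with hy
      have hyc : c * y = y * c := comm_pow hca hcb' j
      have hyc' : y⁻¹ * c = c * y⁻¹ := by
        rw [inv_mul_eq_iff_eq_mul, ← mul_assoc, ← hyc, mul_inv_cancel_right]
      have hczz := hcz y hyc hj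
      have hsz : s * z = z * s := by
        have : Commute z (a * c) := (show Commute z a from haz.symm).mul_right (show Commute z c from hczz.symm)
        rw [hac] at this
        exact this.symm
      have hfzq : z • q = q := C.h1 hs z hsz.symm
      have hazRC : a * z ∈ RC D := RC_of ⟨p, ha⟩ hj
      have hszRC : s * z ∈ RC D := by
        have e : y * s * y⁻¹ = s * z := by
          have h1 : y * s * y⁻¹ = (y * a * y⁻¹) * c := by
            rw [← hac, mul_assoc, mul_assoc, mul_assoc (y * a), hyc']; group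
          rw [h1, hj, mul_assoc, ← hczz, ← mul_assoc, hac]
        exact RC_of ⟨q, hs⟩ e
      have hfaz : (a * z) • p = p := Sys.fix_mul hfa hfz
      have hfszq : (s * z) • q = q := Sys.fix_mul hfsq hfzq
      have hazR : a * z ∉ D.R p := by
        intro hazR
        have hzB : z ∈ D.B p := by
          have := (D.B p).mul_mem ha.1 hazR.1
          rwa [← mul_assoc, haa, one_mul] at this
        have hφz := (C.near (C.symm hr) (Ne.symm hne) z hzB).2
        have h1 : s * z ∈ D.R q := by
          apply C.mem_R hszRC hfszq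
          rw [D.map_mul hfsq hfzq, hφz, mul_one]
          exact IsRoot.ne_one hs.2.2
        have h2 : z ∈ D.B q := by
          have := (D.B q).mul_mem hs.1 h1.1
          rwa [← mul_assoc, hss, one_mul] at this
        exact hz1 (D.eq_one_of_sq ⟨h2, hφz⟩ hzz)
      have hφaz : D.φ p (a * z) = 1 := by
        by_contra h
        exact hazR (C.mem_R hazRC hfaz h)
      have hφz : D.φ p z ≠ 1 := by
        intro h
        rw [D.map_mul hfa hfz, h, mul_one] at hφaz
        exact IsRoot.ne_one ha.2.2 hφaz
      have hszR : s * z ∉ D.R q := by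
        intro h1
        have h2 : z ∈ D.B q := by
          have := (D.B q).mul_mem hs.1 h1.1
          rwa [← mul_assoc, hss, one_mul] at this
        exact hφz (C.near hr hne z h2).2
      have hφsz : D.φ q (s * z) = 1 := by
        by_contra h
        exact hszR (C.mem_R hszRC hfszq h)
      have hφzq : D.φ q z = D.φ q s := by
        rw [D.map_mul hfsq hfzq] at hφsz
        rw [← inv_eq_of_mul_eq_one_right hφsz, inv_eq_of_mul_eq_one_left hs.2.2.1]
      have hfazq : (a * z) • q = q := Sys.fix_mul hfaq hfzq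
      have hφazq : D.φ q (a * z) = D.φ q s := by rw [D.map_mul hfaq hfzq, hφaq, one_mul, hφzq]
      have hazRq : a * z ∈ D.R q := by
        apply C.mem_R hazRC hfazq
        rw [hφazq]; exact IsRoot.ne_one hs.2.2
      have h5 : a * z = s := by
        apply D.eq_of_φ_eq hazRq.1 hs.1 hazRq.2.1 hss ?_ hφazq
        have : Commute s (a * z) := (show Commute s a from hc.symm).mul_right (show Commute s z from hsz)
        exact this.symm
      have hzc : z = c := by
        rw [hcdef, ← h5, ← mul_assoc, haa, one_mul]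
      rw [hzc] at hi
      apply hbcRC
      set y' := (a * b') ^ i with hy'
      have e : (g⁻¹ * y' * g) * b * (g⁻¹ * y' * g)⁻¹ = b * c := by
        rw [← hgb'c, ← hi, hb']; group
      exact RC_of ⟨p, hb⟩ e
    · -- `b' z ~ a`
      set y := (a * b') ^ j with hy
      have hyc : c * y = y * c := comm_pow hca hcb' j
      have hyc' : y⁻¹ * c = c * y⁻¹ := by
        rw [inv_mul_eq_iff_eq_mul, ← mul_assoc, ← hyc, mul_inv_cancel_right]
      set z' := g⁻¹ * z * g with hz'
      have hz'z' : z' * z' = 1 := by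
        rw [hz', show g⁻¹ * z * g * (g⁻¹ * z * g) = g⁻¹ * (z * z) * g by group, hzz]; group
      have hgz' : g * z' * g⁻¹ = z := by rw [hz']; group
      have hbz' : b * z' = z' * b := by
        have : g⁻¹ * (b' * z) * g = g⁻¹ * (z * b') * g := by rw [hbz]
        rw [hb'] at this
        calc b * z' = g⁻¹ * (g * b * g⁻¹ * z) * g := by rw [hz']; group
          _ = g⁻¹ * (z * (g * b * g⁻¹)) * g := this
          _ = z' * b := by rw [hz']; group
      have hfz' : z' • p = p := C.h1 hb z' hbz'.symm
      have e1 : b * z' = (g⁻¹ * y) * a * (g⁻¹ * y)⁻¹ := by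
        rw [show (g⁻¹ * y) * a * (g⁻¹ * y)⁻¹ = g⁻¹ * (y * a * y⁻¹) * g by group, hj, hz', hb']; group
      have hfb1 : (b * z') • p = p := Sys.fix_mul hfb hfz'
      have hb1RC : b * z' ∈ RC D := RC_of ⟨p, ha⟩ e1.symm
      have e2 : b * z' * c = (g⁻¹ * y) * s * (g⁻¹ * y)⁻¹ := by
        rw [e1, ← hac]
        calc g⁻¹ * y * a * (g⁻¹ * y)⁻¹ * c = g⁻¹ * y * a * y⁻¹ * (g * c) := by group
          _ = g⁻¹ * y * a * (y⁻¹ * c) * g := by rw [hg]; group
          _ = g⁻¹ * y * (a * c) * (g⁻¹ * y)⁻¹ := by rw [hyc']; group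
      have hb1cRC : b * z' * c ∈ RC D := RC_of ⟨q, hs⟩ e2.symm
      have hfb1c : (b * z' * c) • p = p := Sys.fix_mul hfb1 hfc
      have hz'1 : z' ≠ 1 := by
        intro h; apply hz1; rw [← hgz', h]; group
      have hφab : IsRoot (D.φ p (a * b)) := by rw [D.map_mul hfa hfb, hbβ]; exact hαβ
      by_cases hb1 : D.φ p (b * z') = 1
      · -- `b z'` acts trivially
        have h5 : D.φ p (b * z' * c) = D.φ p a := by rw [D.map_mul hfb1 hfc, hb1, one_mul, hφc]
        have h6 : b * z' * c ∈ D.R p := by
          apply C.mem_R hb1cRC hfb1c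
          rw [h5]; exact IsRoot.ne_one ha.2.2
        have h7 : b * (b * z' * c) = z' * c := by
          rw [← mul_assoc b, ← mul_assoc b b, hbb, one_mul]
        have h8 : z' * c ∈ D.B p := by rw [← h7]; exact (D.B p).mul_mem hb.1 h6.1
        have h9 : D.φ p (z' * c) = D.φ p (a * b) := by
          rw [← h7, D.map_mul hfb hfb1c, h5, ← D.map_mul hfb hfa, hab]
        have hz'c : z' * c = c * z' := by
          have h8 : Commute c (y * a * y⁻¹) :=
            ((show Commute c y from hyc).mul_right (show Commute c a from hca)).mul_right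
              (show Commute c y from hyc).inv_right
          rw [hj] at h8
          have h9 : Commute c (b' * (b' * z)) := (show Commute c b' from hcb').mul_right h8
          rw [← mul_assoc, hb'b', one_mul] at h9
          have h10 : Commute c g := hg.symm
          rw [hz']
          exact ((h10.inv_right.mul_right h9).mul_right h10).symm
        have h10 : z' * c ∈ D.R p := ⟨h8, mul_sq hz'z' hcc hz'c, by rw [h9]; exact hφab⟩
        have h11 : z * c ∈ D.R (g • p) := by
          have e3 : g * (z' * c) * g⁻¹ = z * c := by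
            rw [hz']
            calc g * (g⁻¹ * z * g * c) * g⁻¹ = z * (g * c) * g⁻¹ := by group
              _ = z * c := by rw [hg]; group
          rw [← e3]; exact D.R_conj g h10
        exact hgY (C.symm (C.h3 h11 (Sys.fix_mul hfz hfc)))
      · have hb1R : b * z' ∈ D.R p := C.mem_R hb1RC hfb1 hb1
        have hz'B : z' ∈ D.B p := by
          have := (D.B p).mul_mem hb.1 hb1R.1
          rwa [← mul_assoc, hbb, one_mul] at this
        have h6 : D.φ p (b * z' * c) = 1 := by
          by_contra h7
          have h8 := C.mem_R hb1cRC hfb1c h7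
          apply hsB
          have h9 : (b * z' * a)⁻¹ * (b * z' * c) = s := by rw [hcdef]; group
          rw [← h9]
          exact (D.B p).mul_mem ((D.B p).inv_mem ((D.B p).mul_mem ((D.B p).mul_mem hb.1 hz'B) ha.1)) h8.1
        have h7 : D.φ p z' = D.φ p (a * b) := by
          have h8 : D.φ p b * D.φ p z' * D.φ p a = 1 := by
            rw [← D.map_mul hfb hfz', ← hφc, ← D.map_mul hfb1 hfc]; exact h6
          have h9 : D.φ p z' = (D.φ p b)⁻¹ * (D.φ p a)⁻¹ := by
            calc D.φ p z' = (D.φ p b)⁻¹ * (D.φ p b * D.φ p z' * D.φ p a) * (D.φ p a)⁻¹ := by group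
              _ = (D.φ p b)⁻¹ * (D.φ p a)⁻¹ := by rw [h8, mul_one]
          rw [h9, inv_eq_of_mul_eq_one_left hb.2.2.1, inv_eq_of_mul_eq_one_left ha.2.2.1,
            ← D.map_mul hfb hfa, hab]
        have h8 : z' ∈ D.R p := ⟨hz'B, hz'z', by rw [h7]; exact hφab⟩
        apply hzR'
        rw [← hgz']; exact D.R_conj g h8

end Cl

end Cfsg.Agent.UAlt.ClB
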