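import Mathlib
import Cfsg.Agent.UAlt.ClB

/-!
# The multi-closing theorem: the abstract end
-/

set_option autoImplicit false

namespace Cfsg.Agent.UAlt.ClC

open Equiv Equiv.Perm Subgroup
open Cfsg.Agent.StdAlt.Roots Cfsg.Agent.StdAlt.Dihedral Cfsg.Agent.UAlt.ClSys Cfsg.Agent.UAlt.ClA
open Cfsg.Agent.UAlt.ClA.Cl

variable {G : Type*} [Group G] {Ω : Type*} [Fintype Ω] [DecidableEq Ω] {ι : Type*} [MulAction G ι]

section perm

/-- the centraliser of a root is small -/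
theorem card_cent_lt (h5 : 5 ≤ Fintype.card Ω) {ρ : Perm Ω} (hρ : IsRoot ρ) :
    Nat.card (centralizer ({ρ} : Set (Perm Ω))) < Nat.card (alternatingGroup Ω) := by
  by_contra hcon
  push Not at hcon
  haveI : Nontrivial Ω := Fintype.one_lt_card_iff_nontrivial.1 (by omega)
  set Z := centralizer ({ρ} : Set (Perm Ω)) with hZ
  have h1 : Z.index * Nat.card Z = 2 * Nat.card (alternatingGroup Ω) := by
    rw [index_mul_card, ← alternatingGroup.index_eq_two (α := Ω), index_mul_card]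
  have hpos : 0 < Nat.card Z := Nat.card_pos
  have h2 : Z.index ≤ 2 := by
    by_contra h
    push Not at h
    have : 3 * Nat.card Z ≤ Z.index * Nat.card Z := Nat.mul_le_mul_right _ h
    omega
  have h0 : Z.index ≠ 0 := index_ne_zero_of_finite
  have hle : alternatingGroup Ω ≤ Z := by
    rcases (by omega : Z.index = 1 ∨ Z.index = 2) with h | h
    · rw [index_eq_one] at h; rw [h]; exact le_top
    · rw [eq_alternatingGroup_of_index_eq_two h]
  apply IsRoot.ne_one hρ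
  apply Cfsg.Agent.StdAlt.Closing.eq_one_of_centralizes h5
  intro x hx
  exact (mem_centralizer_singleton_iff.1 (hle hx.mem_alternatingGroup)).symm

/-- if `K` maps onto the alternating group and to the centraliser of a root, the kernel of the second
homomorphism still maps onto the alternating group -/
theorem exists_ker {K : Type*} [Group K] [Finite K] (h5 : 5 ≤ Fintype.card Ω) (f g : K →* Perm Ω)
    (hf : f.range = alternatingGroup Ω) {ρ : Perm Ω} (hρ : IsRoot ρ) (hg : ∀ k, g k * ρ = ρ * g k) {σ : Perm Ω}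
    (hσ : σ ∈ alternatingGroup Ω) : ∃ k, f k = σ ∧ g k = 1 := by
  haveI : IsSimpleGroup (alternatingGroup Ω) := by
    exact alternatingGroup.isSimpleGroup (by rw [Nat.card_eq_fintype_card]; exact h5)
  have hmem : ∀ k, f k ∈ alternatingGroup Ω := fun k => hf ▸ ⟨k, rfl⟩
  set f' : K →* alternatingGroup Ω := f.codRestrict _ hmem with hf'
  have hsurj : Function.Surjective f' := by
    rintro ⟨τ, hτ⟩
    rw [← hf] at hτ
    obtain ⟨k, hk⟩ := hτ
    exact ⟨k, Subtype.ext hk⟩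
  have hn : (g.ker.map f').Normal := (inferInstance : g.ker.Normal).map f' hsurj
  rcases hn.eq_bot_or_eq_top with h | h
  · exfalso
    have hle : g.ker ≤ f'.ker := by
      intro k hk
      have : f' k ∈ g.ker.map f' := ⟨k, hk, rfl⟩
      rw [h] at this
      exact this
    have h1 : f'.ker.index = Nat.card (alternatingGroup Ω) := by
      rw [index_ker, MonoidHom.range_eq_top.2 hsurj]
      exact Nat.card_congr topEquiv.toEquiv
    have h2 : g.ker.index ≤ Nat.card (centralizer ({ρ} : Set (Perm Ω))) := by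
      rw [index_ker]
      apply card_le_of_le
      rintro _ ⟨k, rfl⟩
      rw [mem_centralizer_singleton_iff]
      exact hg k
    have h3 : f'.ker.index ≤ g.ker.index :=
      Nat.le_of_dvd (Nat.pos_of_ne_zero index_ne_zero_of_finite) (index_dvd_of_le hle)
    have h4 := card_cent_lt h5 hρ
    omega
  · have : (⟨σ, hσ⟩ : alternatingGroup Ω) ∈ g.ker.map f' := by rw [h]; exact mem_top _
    obtain ⟨k, hk, hkσ⟩ := this
    exact ⟨k, congrArg Subtype.val hkσ, hk⟩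

/-- a commutator in the alternating group which is a root -/
theorem exists_commutator (h6 : 6 ≤ Fintype.card Ω) : ∃ σ ∈ alternatingGroup Ω, ∃ τ ∈ alternatingGroup Ω,
    IsRoot (σ * τ * σ⁻¹ * τ⁻¹) := by
  obtain ⟨α, hα⟩ := exists_root (Ω := Ω) (by omega)
  obtain ⟨β, hβ, hαβ, hc⟩ := ClB.exists_four_root hα
  obtain ⟨c, hcc⟩ := Cfsg.Agent.StdAlt.Closing.isConj_roots h6 (a := ⟨α, hα.mem_alternatingGroup⟩)
    (b := ⟨β, hβ.mem_alternatingGroup⟩) hα hβ
  refine ⟨c, c.2, α, hα.mem_alternatingGroup, ?_⟩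
  have h1 : (c : Perm Ω) * α * (c : Perm Ω)⁻¹ = β := congrArg Subtype.val hcc
  rw [h1, inv_eq_of_mul_eq_one_left hα.1, ← hc]
  exact hαβ

/-- a permutation of order at most two commutes with a four-group of roots -/
theorem four_roots (h6 : 6 ≤ Fintype.card Ω) {σ : Perm Ω} (hσ : σ * σ = 1) :
    ∃ ρ₁ ρ₂ : Perm Ω, IsRoot ρ₁ ∧ IsRoot ρ₂ ∧ IsRoot (ρ₁ * ρ₂) ∧ ρ₁ * ρ₂ = ρ₂ * ρ₁ ∧
      σ * ρ₁ = ρ₁ * σ ∧ σ * ρ₂ = ρ₂ * σ := by
  obtain ⟨x, y, z, w, hxy, hxz, hxw, hyz, hyw, hzw, h1, h2⟩ :=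
    Cfsg.Agent.StdAlt.Closing.exists_four h6 hσ
  have r1 := isRoot_swap_mul hxy hxz hxw hyz hyw hzw
  have r2 := isRoot_swap_mul hxz hxy hxw (Ne.symm hyz) hzw hyw
  have ex : (swap x y * swap z w) x = y := by
    rw [Perm.mul_apply, swap_apply_of_ne_of_ne hxz hxw, swap_apply_left]
  have ey : (swap x y * swap z w) y = x := by
    rw [Perm.mul_apply, swap_apply_of_ne_of_ne hyz hyw, swap_apply_right]
  have ez : (swap x y * swap z w) z = w := by
    rw [Perm.mul_apply, swap_apply_left, swap_apply_of_ne_of_ne (Ne.symm hxw) (Ne.symm hyw)]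
  have ew : (swap x y * swap z w) w = z := by
    rw [Perm.mul_apply, swap_apply_right, swap_apply_of_ne_of_ne (Ne.symm hxz) (Ne.symm hyz)]
  have hd : Disjoint (swap x z) (swap y w) := by
    intro t
    by_cases h1 : t = x
    · right; rw [h1]; exact swap_apply_of_ne_of_ne hxy hxw
    by_cases h2 : t = z
    · right; rw [h2]; exact swap_apply_of_ne_of_ne (Ne.symm hyz) hzw
    left; exact swap_apply_of_ne_of_ne h1 h2
  have hc : (swap x y * swap z w) * (swap x z * swap y w) = (swap x z * swap y w) * (swap x y * swap z w) := by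
    have e1 := swap_apply_apply (swap x y * swap z w) x z
    have e2 := swap_apply_apply (swap x y * swap z w) y w
    rw [ex, ez] at e1
    rw [ey, ew] at e2
    apply mul_inv_eq_iff_eq_mul.1
    calc (swap x y * swap z w) * (swap x z * swap y w) * (swap x y * swap z w)⁻¹
        = ((swap x y * swap z w) * swap x z * (swap x y * swap z w)⁻¹) *
          ((swap x y * swap z w) * swap y w * (swap x y * swap z w)⁻¹) := by group
      _ = swap y w * swap x z := congrArg₂ (· * ·) e1.symm e2.symm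
      _ = swap x z * swap y w := hd.commute.eq.symm
  have ex2 : (swap x z * swap y w) x = z := by
    rw [Perm.mul_apply, swap_apply_of_ne_of_ne hxy hxw, swap_apply_left]
  refine ⟨_, _, r1, r2, ?_, hc, h1, h2⟩
  refine isRoot_mul r1 r2 hc ?_ (x := x) ?_ ?_
  · intro h
    rw [h, ex2] at ex
    exact hyz ex.symm
  · rw [ex]; exact Ne.symm hxy
  · rw [ex2]; exact Ne.symm hxz

end perm

/-- `coset_fix` for one involution -/
theorem coset_fix_one [Finite G] {V : Subgroup G} (hV : Odd (Nat.card V)) {u : G} (hu : u * u = 1)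
    (hn : ∀ v ∈ V, u * v * u⁻¹ ∈ V) {x : G} (hx : x⁻¹ * (u * x * u⁻¹) ∈ V) :
    ∃ v ∈ V, u * (x * v) = (x * v) * u := by
  have h0 : ∀ t ∈ closure ({u, 1} : Set G), t = 1 ∨ t = u := by
    intro x hx
    rcases mem_closure_pair hu (one_mul (1 : G)) (by rw [mul_one, one_mul]) hx with h | h | h | h
    · exact Or.inl h
    · exact Or.inr h
    · exact Or.inl h
    · exact Or.inr (by rw [h, mul_one])
  obtain ⟨v, hv, h⟩ := coset_fix hV (isPGroup_pair hu (one_mul (1 : G)) (by rw [mul_one, one_mul])) (by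
      intro t ht v hv
      rcases h0 t ht with rfl | rfl
      · simpa using hv
      · exact hn v hv) (x := x) (by
      intro t ht
      rcases h0 t ht with rfl | rfl
      · simp
      · exact hx)
  exact ⟨v, hv, h u (subset_closure (by simp))⟩

section

variable {D : Sys G Ω ι} {r : ι → ι → Prop} (C : Cl D r) {p q : ι}

variable [Finite G]


/-- an odd power of an element over a root is a root -/
theorem exists_pow_root (D : Sys G Ω ι) {x : G} (hx : x ∈ D.B p) (h : IsRoot (D.φ p x)) :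
    ∃ n : ℕ, x ^ n ∈ D.R p := by
  obtain ⟨k, hk⟩ := D.odd p
  have h1 : D.φ p (x ^ Nat.card (D.W p)) = D.φ p x := by
    rw [D.φ_pow (D.fix hx), hk, pow_succ, pow_mul, pow_two, h.1, one_pow, one_mul]
  have h2 : x * x ∈ D.W p :=
    ⟨(D.B p).mul_mem hx hx, by rw [D.map_mul (D.fix hx) (D.fix hx), h.1]⟩
  have h3 : x ^ Nat.card (D.W p) * x ^ Nat.card (D.W p) = 1 := by
    rw [← (Commute.refl x).mul_pow]
    have := pow_card_eq_one' (x := (⟨x * x, h2⟩ : D.W p))
    exact congrArg Subtype.val this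
  exact ⟨_, (D.B p).pow_mem hx _, h3, by rw [h1]; exact h⟩

include C in
/-- diagonal elements -/
theorem diag {u : G} (hu : u ∈ D.R q) (hr : r (u • p) p) (hne : u • p ≠ p) {σ : Perm Ω}
    (hσ : σ ∈ alternatingGroup Ω) : ∃ y ∈ D.B p, ∃ z ∈ D.B (u • p), (y * z) • q = q ∧ D.φ q (y * z) = 1 ∧
      D.φ p y = σ := by
  have h8 := C.h8
  have hr' := C.symm hr
  -- the members of `B (u • p)` act trivially at `p`, and conversely
  have hz : ∀ z ∈ D.B (u • p), z • p = p ∧ D.φ p z = 1 := C.near hr' (Ne.symm hne)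
  have hy : ∀ y ∈ D.B p, y • (u • p) = u • p := fun y hy => (C.near hr hne y hy).1
  let K : Subgroup G :=
    { carrier := {k | k * u = u * k ∧ ∃ y ∈ D.B p, ∃ z ∈ D.B (u • p), k = y * z}
      one_mem' := ⟨by rw [one_mul, mul_one], 1, (D.B p).one_mem, 1, (D.B (u • p)).one_mem, (mul_one 1).symm⟩
      mul_mem' := by
        rintro a b ⟨ha, y, hyB, z, hzB, rfl⟩ ⟨hb, y', hyB', z', hzB', rfl⟩
        refine ⟨?_, y * (z * y' * z⁻¹), (D.B p).mul_mem hyB (D.conj_mem (hz z hzB).1 hyB'), z * z',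
          (D.B (u • p)).mul_mem hzB hzB', by group⟩
        exact ((show Commute (y * z) u from ha).mul_left (show Commute (y' * z') u from hb)).eq
      inv_mem' := by
        rintro a ⟨ha, y, hyB, z, hzB, rfl⟩
        refine ⟨(show Commute (y * z) u from ha).inv_left.eq, z⁻¹ * y⁻¹ * z, ?_, z⁻¹,
          (D.B (u • p)).inv_mem hzB, by group⟩
        have := D.conj_mem (p := p) (Sys.fix_inv (hz z hzB).1) ((D.B p).inv_mem hyB)
        rwa [inv_inv] at this }
  have hKp : ∀ k ∈ K, k • p = p := by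
    rintro k ⟨-, y, hyB, z, hzB, rfl⟩
    exact Sys.fix_mul (D.fix hyB) (hz z hzB).1
  have hKq : ∀ k ∈ K, k • q = q := fun k hk => C.h1 hu k hk.1
  let f : K →* Perm Ω :=
    { toFun := fun k => D.φ p k
      map_one' := D.φ_one p
      map_mul' := fun a b => D.map_mul (hKp a a.2) (hKp b b.2) }
  let g : K →* Perm Ω :=
    { toFun := fun k => D.φ q k
      map_one' := D.φ_one q
      map_mul' := fun a b => D.map_mul (hKq a a.2) (hKq b b.2) }
  have hfu := D.fix hu.1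
  have hg : ∀ k : K, g k * D.φ q u = D.φ q u * g k := by
    intro k
    show D.φ q k * D.φ q u = D.φ q u * D.φ q k
    rw [← D.map_mul (hKq k k.2) hfu, k.2.1, D.map_mul hfu (hKq k k.2)]
  have hφ : ∀ {y z : G}, y ∈ D.B p → z ∈ D.B (u • p) → D.φ p (y * z) = D.φ p y := by
    intro y z hyB hzB
    rw [D.map_mul (D.fix hyB) (hz z hzB).1, (hz z hzB).2, mul_one]
  have hf : f.range = alternatingGroup Ω := by
    apply le_antisymm
    · rintro _ ⟨⟨k, hk, y, hyB, z, hzB, rfl⟩, rfl⟩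
      show D.φ p (y * z) ∈ _
      rw [hφ hyB hzB]; exact D.alt hyB
    · intro τ hτ
      obtain ⟨y₀, hy₀, hyτ⟩ := D.surj p hτ
      have huu := hu.2.1
      have hui : u⁻¹ = u := inv_eq_of_mul_eq_one_left huu
      set y₁ := u * y₀ * u⁻¹ with hy₁
      have hy₁B : y₁ ∈ D.B (u • p) := D.conj u hy₀
      have hy₁i := (D.B (u • p)).inv_mem hy₁B
      obtain ⟨v, hv, hvc⟩ := coset_fix_one (D.odd p) huu (x := y₀ * y₁)
        (fun v hv => by
          have := D.W_conj u hv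
          rwa [← C.nearW hr'] at this)
        (by
          have e : (y₀ * y₁)⁻¹ * (u * (y₀ * y₁) * u⁻¹) = (y₁⁻¹ * y₀⁻¹ * y₁) * y₀ := by
            have e1 : u * (y₀ * y₁) * u⁻¹ = y₁ * y₀ := by
              rw [hy₁, hui]
              calc u * (y₀ * (u * y₀ * u)) * u = (u * y₀ * u) * y₀ * (u * u) := by group
                _ = u * y₀ * u * y₀ := by rw [huu, mul_one]
            rw [e1]; group
          have hm : y₁⁻¹ * y₀⁻¹ * y₁ ∈ D.B p := by
            have := D.conj_mem (p := p) (hz _ hy₁i).1 ((D.B p).inv_mem hy₀)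
            rwa [inv_inv] at this
          rw [e]
          refine ⟨(D.B p).mul_mem hm hy₀, ?_⟩
          have hfy := D.fix hy₀
          have hf1 := (hz _ hy₁B).1
          rw [D.map_mul (D.fix hm) hfy, D.map_mul (Sys.fix_mul (Sys.fix_inv hf1) (Sys.fix_inv hfy)) hf1,
            D.map_mul (Sys.fix_inv hf1) (Sys.fix_inv hfy), D.φ_inv hf1, D.φ_inv hfy, (hz _ hy₁B).2]
          group)
      have hvB : v ∈ D.B (u • p) := by
        rw [C.nearW hr'] at hv; exact hv.1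
      refine ⟨⟨y₀ * y₁ * v, hvc.symm, y₀, hy₀, y₁ * v, (D.B (u • p)).mul_mem hy₁B hvB, by group⟩, ?_⟩
      show D.φ p (y₀ * y₁ * v) = τ
      rw [mul_assoc, hφ hy₀ ((D.B (u • p)).mul_mem hy₁B hvB), hyτ]
  obtain ⟨⟨k, hk, y, hyB, z, hzB, rfl⟩, hk1, hk2⟩ := exists_ker (by omega) f g hf hu.2.2 hg hσ
  refine ⟨y, hyB, z, hzB, hKq _ ⟨hk, y, hyB, z, hzB, rfl⟩, hk2, ?_⟩
  rw [← hφ hyB hzB]; exact hk1

include C in
/-- a four-group of roots at `q` normalising the class of `p` -/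
theorem stepSW {u₁ u₂ : G} (h₁ : u₁ ∈ D.R q) (h₂ : u₂ ∈ D.R q) (h₁₂ : u₁ * u₂ ∈ D.R q)
    (k₁ : r (u₁ • p) p) (k₂ : r (u₂ • p) p) : r p q := by
  have h8 := C.h8
  by_cases f₁ : u₁ • p = p
  · exact C.h3 h₁ f₁
  by_cases f₂ : u₂ • p = p
  · exact C.h3 h₂ f₂
  by_cases f₃ : u₁ • p = u₂ • p
  · have : (u₁ * u₂) • p = p := by
      rw [mul_smul, ← f₃, ← mul_smul, h₁.2.1, one_smul]
    exact C.h3 h₁₂ this
  obtain ⟨σ, hσ, τ, hτ, hστ⟩ := exists_commutator (Ω := Ω) (by omega)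
  obtain ⟨y₁, hy₁, z₁, hz₁, q₁, e₁, s₁⟩ := diag C h₁ k₁ f₁ hσ
  obtain ⟨y₂, hy₂, z₂, hz₂, q₂, e₂, s₂⟩ := diag C h₂ k₂ f₂ hτ
  have n₁ := C.near (C.symm k₁) (Ne.symm f₁) z₁ hz₁
  have n₂ := C.near (C.symm k₂) (Ne.symm f₂) z₂ hz₂
  have g₁ : (y₁ * z₁) • p = p := Sys.fix_mul (D.fix hy₁) n₁.1
  have g₂ : (y₂ * z₂) • p = p := Sys.fix_mul (D.fix hy₂) n₂.1
  have v₁ : D.φ p (y₁ * z₁) = σ := by rw [D.map_mul (D.fix hy₁) n₁.1, n₁.2, mul_one, s₁]
  have v₂ : D.φ p (y₂ * z₂) = τ := by rw [D.map_mul (D.fix hy₂) n₂.1, n₂.2, mul_one, s₂]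
  set x := (y₁ * z₁) * (y₂ * z₂) * (y₁ * z₁)⁻¹ * (y₂ * z₂)⁻¹ with hx
  -- the commutator `[z₁, z₂]` is in the kernel
  have hr12 : r (u₁ • p) (u₂ • p) := C.trans k₁ (C.symm k₂)
  have n₃ := C.near hr12 f₃ z₂ hz₂
  have hzz : z₁ * z₂ * z₁⁻¹ * z₂⁻¹ ∈ D.W p := by
    rw [C.nearW (C.symm k₁)]
    have m₁ : z₂ * z₁⁻¹ * z₂⁻¹ ∈ D.B (u₁ • p) := D.conj_mem n₃.1 ((D.B (u₁ • p)).inv_mem hz₁)
    have e : z₁ * z₂ * z₁⁻¹ * z₂⁻¹ = z₁ * (z₂ * z₁⁻¹ * z₂⁻¹) := by group
    rw [e]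
    refine ⟨(D.B (u₁ • p)).mul_mem hz₁ m₁, ?_⟩
    rw [D.map_mul (D.fix hz₁) (D.fix m₁), D.φ_conj n₃.1 (Sys.fix_inv (D.fix hz₁)), n₃.2,
      D.φ_inv (D.fix hz₁)]
    group
  have hxB : x ∈ D.B p := by
    have e : x = y₁ * (z₁ * y₂ * z₁⁻¹) * (z₁ * z₂ * z₁⁻¹ * z₂⁻¹) * (z₂ * y₁⁻¹ * z₂⁻¹) * y₂⁻¹ := by
      rw [hx]; group
    rw [e]
    exact (D.B p).mul_mem ((D.B p).mul_mem ((D.B p).mul_mem ((D.B p).mul_mem hy₁
      (D.conj_mem n₁.1 hy₂)) hzz.1) (D.conj_mem n₂.1 ((D.B p).inv_mem hy₁))) ((D.B p).inv_mem hy₂)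
  have hxφ : IsRoot (D.φ p x) := by
    rw [hx, D.map_mul (Sys.fix_mul (Sys.fix_mul g₁ g₂) (Sys.fix_inv g₁)) (Sys.fix_inv g₂),
      D.map_mul (Sys.fix_mul g₁ g₂) (Sys.fix_inv g₁), D.map_mul g₁ g₂, D.φ_inv g₁, D.φ_inv g₂, v₁, v₂]
    exact hστ
  have hxq : x • q = q :=
    Sys.fix_mul (Sys.fix_mul (Sys.fix_mul q₁ q₂) (Sys.fix_inv q₁)) (Sys.fix_inv q₂)
  obtain ⟨n, hn⟩ := exists_pow_root D hxB hxφ
  exact C.symm (C.h3 hn (Sys.fix_pow hxq n))

include C in
/-- step B: roots at points of different classes are conjugate under a power of their product -/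
theorem stepB {a b : G} (ha : a ∈ D.R p) (hb : b ∈ D.R q) (hpq : ¬ r p q) :
    ∃ j : ℕ, (a * b) ^ j * a * ((a * b) ^ j)⁻¹ = b := by
  have h8 := C.h8
  have haa := ha.2.1
  have hbb := hb.2.1
  have hfa := D.fix ha.1
  rcases dihedral haa hbb with hj | ⟨z, hz1, hzz, -, haz, hbz, hcase⟩
  · exact hj
  exfalso
  have hfz : z • p = p := C.h1 ha z haz.symm
  have hfzq : z • q = q := C.h1 hb z hbz.symm
  have hzR : z ∉ D.R p := by
    intro hz
    have h3 : b • p = p := C.h1 hz b hbz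
    exact hpq (C.h3 hb h3)
  have hazRC : a * z ∈ RC D := by
    rcases hcase with ⟨⟨j, hj⟩, -⟩ | ⟨-, ⟨j, hj⟩⟩
    · exact RC_of ⟨p, ha⟩ hj
    · exact RC_of ⟨q, hb⟩ hj
  have hfaz : (a * z) • p = p := Sys.fix_mul hfa hfz
  have haaz : a * (a * z) = z := by rw [← mul_assoc, haa, one_mul]
  have hazc : a * (a * z) = a * z * a := by rw [haaz, haz, mul_assoc, haa, mul_one]
  have key : ∀ g : G, g * z = z * g → r (g • p) p := by
    intro g hg
    by_cases h1 : D.φ p (a * z) = 1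
    · obtain ⟨p', hp'⟩ := hazRC
      have hr : r p p' := C.h3 hp' hfaz
      have hne : p ≠ p' := by
        rintro rfl
        exact IsRoot.ne_one hp'.2.2 h1
      exact ClB.Cl.stepA2 C ha hp' hr hne hazc (by rw [haaz]; exact hg)
    · have hazR := C.mem_R hazRC hfaz h1
      refine C.stepA ha hazR hazc ?_ ?_ (g := g) (by rw [haaz]; exact hg)
      · intro h
        apply hz1
        have := h.symm
        rwa [mul_eq_left] at this
      · rw [haaz]
        intro h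
        have h4 : z ∈ D.B p := by
          have := (D.B p).mul_mem ha.1 hazR.1
          rwa [haaz] at this
        exact hzR ⟨h4, hzz, h⟩
  have hσ : D.φ q z * D.φ q z = 1 := by rw [← D.map_mul hfzq hfzq, hzz, D.φ_one]
  obtain ⟨ρ₁, ρ₂, r1, r2, r12, rc, c1, c2⟩ := four_roots (by omega) hσ
  obtain ⟨u₁, hu₁, e₁, zc₁⟩ := D.exists_root_one hzz hfzq r1 c1
  obtain ⟨u₂, hu₂, e₂, zc₂, uc⟩ := D.exists_root_two hzz hu₁.2.1 zc₁ hfzq (D.fix hu₁.1) r2 c2
    (by rw [e₁]; exact rc)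
  have hu₁₂ : u₁ * u₂ ∈ D.R q := by
    refine ⟨(D.B q).mul_mem hu₁.1 hu₂.1, mul_sq hu₁.2.1 hu₂.2.1 uc, ?_⟩
    rw [D.map_mul (D.fix hu₁.1) (D.fix hu₂.1), e₁, e₂]; exact r12
  exact hpq (stepSW C hu₁ hu₂ hu₁₂ (key u₁ zc₁.symm) (key u₂ zc₂.symm))

include C in
/-- step C: involutions fixing points of different classes act trivially -/
theorem stepC {t : G} (htt : t * t = 1) (hp : t • p = p) (hq : t • q = q) (hpq : ¬ r p q) :
    D.φ p t = 1 := by
  have h8 := C.h8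
  by_contra h1
  have hσ : D.φ p t * D.φ p t = 1 := by rw [← D.map_mul hp hp, htt, D.φ_one]
  have hσq : D.φ q t * D.φ q t = 1 := by rw [← D.map_mul hq hq, htt, D.φ_one]
  obtain ⟨α₁, α₂, hα₁, hα₂, c₁, c₂, hno⟩ := exists_two (by omega) hσ h1
  obtain ⟨β, hβ, cβ⟩ := exists_comm (by omega) hσq
  obtain ⟨a₁, ha₁, e₁, t₁⟩ := D.exists_root_one htt hp hα₁ c₁
  obtain ⟨a₂, ha₂, e₂, t₂⟩ := D.exists_root_one htt hp hα₂ c₂
  obtain ⟨b, hb, -, tb⟩ := D.exists_root_one htt hq hβ cβ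
  obtain ⟨i, hi⟩ := stepB C ha₁ hb hpq
  obtain ⟨j, hj⟩ := stepB C ha₂ hb hpq
  set x₁ := (a₁ * b) ^ i with hx₁
  set x₂ := (a₂ * b) ^ j with hx₂
  have d₁ : t * x₁ = x₁ * t := comm_pow t₁ tb i
  have d₂ : t * x₂ = x₂ * t := comm_pow t₂ tb j
  set y := x₂⁻¹ * x₁ with hy
  have hya : y * a₁ * y⁻¹ = a₂ := by
    calc y * a₁ * y⁻¹ = x₂⁻¹ * (x₁ * a₁ * x₁⁻¹) * x₂ := by rw [hy]; group
      _ = x₂⁻¹ * (x₂ * a₂ * x₂⁻¹) * x₂ := by rw [hi, hj]
      _ = a₂ := by group
  have hyt : y * t = t * y :=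
    ((show Commute t x₂ from d₂).symm.inv_left.mul_left (show Commute t x₁ from d₁).symm).eq
  have hyp : y • p = p := by
    have h2 := D.R_conj y ha₁
    rw [hya] at h2
    exact C.uniq h2 ha₂
  apply hno (D.φ p y)
  · rw [← D.map_mul hyp hp, hyt, D.map_mul hp hyp]
  · rw [← e₁, ← e₂, ← hya, D.φ_conj hyp (D.fix ha₁.1)]

include C in
/-- **The abstract multi-closing theorem**: there is only one class. -/
theorem all : ∀ p q : ι, r p q := by
  intro p q
  have h8 := C.h8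
  by_contra hpq
  obtain ⟨α, δ, hα, hδ, hc, hne, hnR⟩ := exists_pair h8
  obtain ⟨a, ha, ea, -⟩ := D.exists_root_one (p := p) (one_mul (1 : G)) (one_smul G p) hα
    (by rw [D.φ_one, one_mul, mul_one])
  obtain ⟨d, hd, ed, had⟩ := D.exists_root_one ha.2.1 (D.fix ha.1) hδ (by rw [ea]; exact hc)
  obtain ⟨b, hb, -, -⟩ := D.exists_root_one (p := q) (one_mul (1 : G)) (one_smul G q) hα
    (by rw [D.φ_one, one_mul, mul_one])
  have hfa := D.fix ha.1
  have hfd := D.fix hd.1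
  set c := a * d with hcdef
  have hcc : c * c = 1 := mul_sq ha.2.1 hd.2.1 had
  have hcB : c ∈ D.B p := (D.B p).mul_mem ha.1 hd.1
  have hfc := D.fix hcB
  have hφc : D.φ p c = α * δ := by rw [hcdef, D.map_mul hfa hfd, ea, ed]
  have hφc1 : D.φ p c ≠ 1 := by
    rw [hφc]
    intro h
    apply hne
    have := eq_inv_of_mul_eq_one_left h
    rw [this, inv_eq_of_mul_eq_one_left hδ.1]
  have hcnR : ¬ IsRoot (D.φ p c) := by rw [hφc]; exact hnR
  have hne' : a ≠ d := by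
    rintro h
    apply hne
    rw [← ea, ← ed, h]
  have hcRC : c ∉ RC D := fun h => hcnR (C.mem_R h hfc hφc1).2.2
  rcases dihedral hcc hb.2.1 with ⟨j, hj⟩ | ⟨z, hz1, hzz, -, hcz, hbz, hcase⟩
  · apply hcRC
    generalize (c * b) ^ j = y at hj
    refine RC_of (g := y⁻¹) ⟨q, hb⟩ ?_
    rw [← hj]; group
  · have hrz : r (z • p) p := C.stepA ha hd had hne' hcnR hcz.symm
    have hfzq : z • q = q := C.h1 hb z hbz.symm
    have hfz : z • p = p := by
      by_contra h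
      have h1 : c ∈ D.B (z • p) := by
        have := D.conj z hcB
        rwa [← hcz, mul_inv_cancel_right] at this
      exact hφc1 (C.near (C.symm hrz) (Ne.symm h) c h1).2
    have hzp : D.φ p z = 1 := stepC C hzz hfz hfzq hpq
    have hzq : D.φ q z = 1 := stepC C hzz hfzq hfz (fun h => hpq (C.symm h))
    rcases hcase with ⟨-, ⟨j, hj⟩⟩ | ⟨-, ⟨j, hj⟩⟩
    · have h1 : b * z ∈ RC D := RC_of ⟨q, hb⟩ hj
      have h2 : b * z ∈ D.R q := by
        apply C.mem_R h1 (Sys.fix_mul (D.fix hb.1) hfzq)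
        rw [D.map_mul (D.fix hb.1) hfzq, hzq, mul_one]
        exact IsRoot.ne_one hb.2.2
      have h3 : z ∈ D.B q := by
        have := (D.B q).mul_mem hb.1 h2.1
        rwa [← mul_assoc, hb.2.1, one_mul] at this
      exact hz1 (D.eq_one_of_sq ⟨h3, hzq⟩ hzz)
    · have h1 : c * z ∈ RC D := RC_of ⟨q, hb⟩ hj
      have h2 : D.φ p (c * z) = D.φ p c := by rw [D.map_mul hfc hfz, hzp, mul_one]
      have h3 := C.mem_R h1 (Sys.fix_mul hfc hfz) (by rw [h2]; exact hφc1)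
      apply hcnR
      rw [← h2]; exact h3.2.2

end

end Cfsg.Agent.UAlt.ClC
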