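import Mathlib
import Cfsg.Agent.UAlt.ClC

/-!
# The multi-closing theorem: systems with a common core

`zero`: if all kernels `W p` coincide, any two different points are near: each `B q` fixes `p` and acts
trivially there.
-/

set_option autoImplicit false

namespace Cfsg.Agent.UAlt.ClZero

open Equiv Equiv.Perm Subgroup
open Cfsg.Agent.StdAlt.Roots Cfsg.Agent.StdAlt.Dihedral Cfsg.Agent.UAlt.ClSys Cfsg.Agent.UAlt.ClA
open Cfsg.Agent.UAlt.ClA.Cl

universe u v w

section sub

variable {G : Type*} [Group G] {Ω : Type*} [Fintype Ω] [DecidableEq Ω] {ι : Type*} [MulAction G ι]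

/-- restriction of a system to a subgroup and an invariant set of points -/
def _root_.Cfsg.Agent.UAlt.ClSys.Sys.sub (D : Sys G Ω ι) (X : Subgroup G) (P : SubMulAction X ι)
    (hB : ∀ p ∈ P, D.B p ≤ X) : Sys X Ω P where
  B p := (D.B p).subgroupOf X
  φ p x := D.φ p x
  fix := fun {p b} hb => Subtype.ext (D.fix (mem_subgroupOf.1 hb))
  conj := fun {p b} g hb => by
    rw [mem_subgroupOf] at hb ⊢
    exact D.conj (g : G) hb
  map_mul := fun {p g h} hg hh => D.map_mul (congrArg Subtype.val hg) (congrArg Subtype.val hh)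
  alt := fun {p b} hb => D.alt (mem_subgroupOf.1 hb)
  surj := fun p {σ} hσ => by
    obtain ⟨b, hb, h⟩ := D.surj (p : ι) hσ
    exact ⟨⟨b, hB p p.2 hb⟩, hb, h⟩
  odd' := fun p => by
    have := D.odd' (p : ι)
    refine (Nat.card_congr ?_) ▸ this
    refine ⟨fun w => ⟨⟨w.1, hB p p.2 w.2.1⟩, w.2⟩, fun w => ⟨w.1, w.2⟩, fun w => rfl, fun w => rfl⟩
  tr := fun p g => by
    obtain ⟨τ, hτ⟩ := D.tr (p : ι) (g : G)
    exact ⟨τ, fun w hw => hτ w (congrArg Subtype.val hw)⟩

end sub

variable {Ω : Type w} [Fintype Ω] [DecidableEq Ω]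

section

variable {G : Type*} [Group G] {ι : Type*} [MulAction G ι]

/-- the hypotheses for a system with a common kernel -/
structure Cl0 (D : Sys G Ω ι) : Prop where
  h8 : 8 ≤ Fintype.card Ω
  uniq : ∀ {p q u}, u ∈ D.R p → u ∈ D.R q → p = q
  h1 : ∀ {p u}, u ∈ D.R p → ∀ g : G, g * u = u * g → g • p = p
  h2 : ∀ {p q t}, t ∈ D.R q → t • p = p → t ∈ D.R p ∨ D.φ p t = 1
  hW : ∀ p q, D.W p = D.W q

/-- `B q` fixes `p` and acts trivially there, and conversely -/
def Near (D : Sys G Ω ι) (p q : ι) : Prop :=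
  (∀ b ∈ D.B q, b • p = p ∧ D.φ p b = 1) ∧ ∀ b ∈ D.B p, b • q = q ∧ D.φ q b = 1

theorem Near.symm {D : Sys G Ω ι} {p q : ι} (h : Near D p q) : Near D q p := ⟨h.2, h.1⟩

theorem Near.smul {D : Sys G Ω ι} {p q : ι} (h : Near D p q) (g : G) : Near D (g • p) (g • q) := by
  have key : ∀ {p q : ι}, (∀ b ∈ D.B q, b • p = p ∧ D.φ p b = 1) →
      ∀ b ∈ D.B (g • q), b • (g • p) = g • p ∧ D.φ (g • p) b = 1 := by
    intro p q h b hb
    have h1 : g⁻¹ * b * g ∈ D.B q := by
      have := D.conj g⁻¹ hb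
      rwa [inv_smul_smul, inv_inv] at this
    obtain ⟨h2, h3⟩ := h _ h1
    have e : g * (g⁻¹ * b * g) * g⁻¹ = b := by group
    refine ⟨?_, ?_⟩
    · rw [← mul_smul, show b * g = g * (g⁻¹ * b * g) by group, mul_smul, h2]
    · obtain ⟨τ, hτ⟩ := D.tr p g
      have := hτ _ h2
      rw [e, h3] at this
      rw [this]; group
  exact ⟨key h.1, key h.2⟩

variable [Finite G] {D : Sys G Ω ι} (C : Cl0 D) {p q : ι}

include C in
/-- one half of the local statement -/
theorem half {t : G} (ht : t ∈ D.R q) (hp : t • p = p) (hne : p ≠ q) :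
    (∀ b ∈ D.B q, b • p = p ∧ D.φ p b = 1) ∧ ∃ u ∈ D.R p, u • q = q := by
  have h8 := C.h8
  have htp : D.φ p t = 1 := by
    rcases C.h2 ht hp with h | h
    · exact absurd (C.uniq h ht) hne
    · exact h
  obtain ⟨α, hα⟩ := exists_root (Ω := Ω) (by omega)
  obtain ⟨u, hu, -, htu⟩ := D.exists_root_one ht.2.1 hp hα (by rw [htp, one_mul, mul_one])
  have huq : u • q = q := C.h1 ht u htu.symm
  have hφu : D.φ q u = 1 := by
    rcases C.h2 hu huq with h | h
    · exact absurd (C.uniq hu h) hne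
    · exact h
  refine ⟨?_, u, hu, huq⟩
  have h0 : ∀ x ∈ closure ({u, 1} : Set G), x = 1 ∨ x = u := by
    intro x hx
    rcases mem_closure_pair hu.2.1 (one_mul (1 : G)) (by rw [mul_one, one_mul]) hx with h | h | h | h
    · exact Or.inl h
    · exact Or.inr h
    · exact Or.inl h
    · exact Or.inr (by rw [h, mul_one])
  -- `B q` fixes `p`
  have hfix : ∀ b ∈ D.B q, b • p = p := by
    intro b hb
    obtain ⟨b', hb', hφ, hc⟩ := D.exists_lift (p := q)
      (isPGroup_pair hu.2.1 (one_mul (1 : G)) (by rw [mul_one, one_mul])) (by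
        intro x hx
        rcases h0 x hx with rfl | rfl
        · exact one_smul G q
        · exact huq) (D.alt hb) (by
        intro x hx
        rcases h0 x hx with rfl | rfl
        · rw [D.φ_one, one_mul, mul_one]
        · rw [hφu, one_mul, mul_one])
    have h1 : b' • p = p := C.h1 hu b' (hc u (subset_closure (by simp))).symm
    have h2 : b'⁻¹ * b ∈ D.W q := by
      refine ⟨(D.B q).mul_mem ((D.B q).inv_mem hb') hb, ?_⟩
      rw [D.map_mul (Sys.fix_inv (D.fix hb')) (D.fix hb), D.φ_inv (D.fix hb'), hφ, inv_mul_cancel]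
    rw [C.hW q p] at h2
    have h3 : b = b' * (b'⁻¹ * b) := by group
    rw [h3]
    exact Sys.fix_mul h1 (D.fix h2.1)
  -- it acts trivially
  have htriv : ∀ σ ∈ alternatingGroup Ω, ∃ b ∈ D.B q, D.φ q b = σ ∧ D.φ p b = 1 := by
    haveI : IsSimpleGroup (alternatingGroup Ω) := by
      exact alternatingGroup.isSimpleGroup (by rw [Nat.card_eq_fintype_card]; omega)
    let N : Subgroup (alternatingGroup Ω) :=
      { carrier := {σ | ∃ b ∈ D.B q, D.φ q b = σ ∧ D.φ p b = 1}
        one_mem' := ⟨1, (D.B q).one_mem, D.φ_one q, D.φ_one p⟩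
        mul_mem' := by
          rintro σ τ ⟨b, hb, h1, h2⟩ ⟨c, hc, h3, h4⟩
          refine ⟨b * c, (D.B q).mul_mem hb hc, ?_, ?_⟩
          · rw [D.map_mul (D.fix hb) (D.fix hc), h1, h3]; rfl
          · rw [D.map_mul (hfix b hb) (hfix c hc), h2, h4, one_mul]
        inv_mem' := by
          rintro σ ⟨b, hb, h1, h2⟩
          refine ⟨b⁻¹, (D.B q).inv_mem hb, ?_, ?_⟩
          · rw [D.φ_inv (D.fix hb), h1]; rfl
          · rw [D.φ_inv (hfix b hb), h2, inv_one] }
    have hN : N.Normal := by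
      constructor
      rintro σ ⟨b, hb, h1, h2⟩ τ
      obtain ⟨c, hc, h3⟩ := D.surj q τ.2
      have hcb : c * b * c⁻¹ ∈ D.B q := (D.B q).mul_mem ((D.B q).mul_mem hc hb) ((D.B q).inv_mem hc)
      refine ⟨c * b * c⁻¹, hcb, ?_, ?_⟩
      · rw [D.φ_conj (D.fix hc) (D.fix hb), h1, h3]; rfl
      · rw [D.φ_conj (hfix c hc) (hfix b hb), h2]; group
    have hbot : N ≠ ⊥ := by
      intro h
      have h1 : (⟨D.φ q t, D.alt ht.1⟩ : alternatingGroup Ω) ∈ N := ⟨t, ht.1, rfl, htp⟩
      rw [h, mem_bot] at h1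
      exact IsRoot.ne_one ht.2.2 (congrArg Subtype.val h1)
    have htop : N = ⊤ := hN.eq_bot_or_eq_top.resolve_left hbot
    intro σ hσ
    have : (⟨σ, hσ⟩ : alternatingGroup Ω) ∈ N := by rw [htop]; exact mem_top _
    exact this
  intro b hb
  refine ⟨hfix b hb, ?_⟩
  obtain ⟨b', hb', hφ, h1⟩ := htriv _ (D.alt hb)
  have h2 : b'⁻¹ * b ∈ D.W q := by
    refine ⟨(D.B q).mul_mem ((D.B q).inv_mem hb') hb, ?_⟩
    rw [D.map_mul (Sys.fix_inv (D.fix hb')) (D.fix hb), D.φ_inv (D.fix hb'), hφ, inv_mul_cancel]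
  rw [C.hW q p] at h2
  have h3 : b = b' * (b'⁻¹ * b) := by group
  rw [h3, D.map_mul (hfix b' hb') (D.fix h2.1), h1, h2.2, one_mul]

include C in
theorem near_of {t : G} (ht : t ∈ D.R q) (hp : t • p = p) (hne : p ≠ q) : Near D p q := by
  obtain ⟨h1, u, hu, huq⟩ := half C ht hp hne
  exact ⟨h1, (half C hu huq (Ne.symm hne)).1⟩

end

/-- **Claim 0**: a system with a common kernel. -/
theorem zero_aux (n : ℕ) : ∀ (G : Type u) [Group G] [Finite G] (ι : Type v) [MulAction G ι] (D : Sys G Ω ι),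
    Cl0 D → Nat.card G ≤ n → ∀ p q : ι, p = q ∨ Near D p q := by
  induction n with
  | zero =>
    intro G _ _ ι _ D _ hn
    have : 0 < Nat.card G := Nat.card_pos
    omega
  | succ n ih =>
    intro G _ _ ι _ D C hn
    have h8 := C.h8
    let r : ι → ι → Prop := fun p q => p = q ∨ Near D p q
    have htrans : ∀ {p q s : ι}, r p q → r q s → r p s := by
      intro p q s hpq hqs
      rcases hpq with rfl | hpq
      · exact hqs
      rcases hqs with rfl | hqs
      · exact Or.inr hpq
      -- the kernel of the action at `q`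
      let X : Subgroup G :=
        { carrier := {x | x • q = q ∧ D.φ q x = 1}
          one_mem' := ⟨one_smul G q, D.φ_one q⟩
          mul_mem' := fun {a b} ha hb => ⟨Sys.fix_mul ha.1 hb.1, by
            rw [D.map_mul ha.1 hb.1, ha.2, hb.2, one_mul]⟩
          inv_mem' := fun {a} ha => ⟨Sys.fix_inv ha.1, by rw [D.φ_inv ha.1, ha.2, inv_one]⟩ }
      have hXlt : Nat.card X ≤ n := by
        have h1 : X ≠ ⊤ := by
          intro h
          obtain ⟨α, hα⟩ := exists_root (Ω := Ω) (by omega)
          obtain ⟨b, hb, hbα⟩ := D.surj q hα.mem_alternatingGroup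
          have h2 : b ∈ X := by rw [h]; exact mem_top b
          rw [h2.2] at hbα
          exact IsRoot.ne_one hα hbα.symm
        have h2 : Nat.card X < Nat.card G := by
          refine lt_of_le_of_ne (Nat.le_of_dvd Nat.card_pos X.card_subgroup_dvd_card) ?_
          intro h
          exact h1 (X.eq_top_of_card_eq h)
        omega
      let P : SubMulAction X ι :=
        { carrier := {p | D.B p ≤ X}
          smul_mem' := by
            intro x p' hp' b hb
            have h1 : (x : G)⁻¹ * b * x ∈ D.B p' := by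
              have := D.conj (x : G)⁻¹ hb
              have e : (x : G)⁻¹ • x • p' = p' := inv_smul_smul (x : G) p'
              rw [e, inv_inv] at this
              exact this
            have h2 := X.mul_mem (X.mul_mem x.2 (hp' h1)) (X.inv_mem x.2)
            have e : (x : G) * ((x : G)⁻¹ * b * x) * (x : G)⁻¹ = b := by group
            rwa [e] at h2 }
      have hPB : ∀ p' ∈ P, D.B p' ≤ X := fun p' h => h
      have C' : Cl0 (D.sub X P hPB) := by
        refine ⟨h8, ?_, ?_, ?_, ?_⟩
        · intro p' q' u h1 h2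
          apply Subtype.ext
          exact C.uniq (u := (u : G)) ⟨h1.1, congrArg Subtype.val h1.2.1, h1.2.2⟩
            ⟨h2.1, congrArg Subtype.val h2.2.1, h2.2.2⟩
        · intro p' u h1 g hg
          apply Subtype.ext
          exact C.h1 (u := (u : G)) ⟨h1.1, congrArg Subtype.val h1.2.1, h1.2.2⟩ g (congrArg Subtype.val hg)
        · intro p' q' t h1 h2
          rcases C.h2 (t := (t : G)) (p := p') (q := q') ⟨h1.1, congrArg Subtype.val h1.2.1, h1.2.2⟩
            (congrArg Subtype.val h2) with h | h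
          · exact Or.inl ⟨h.1, Subtype.ext h.2.1, h.2.2⟩
          · exact Or.inr h
        · intro p' q'
          have h := C.hW p' q'
          ext w
          have h1 := SetLike.ext_iff.1 h (w : G)
          exact h1
      have hpP : p ∈ P := fun b hb => hpq.symm.1 b hb
      have hsP : s ∈ P := fun b hb => hqs.1 b hb
      rcases ih X P (D.sub X P hPB) C' hXlt ⟨p, hpP⟩ ⟨s, hsP⟩ with h | h
      · exact Or.inl (congrArg Subtype.val h)
      · right
        refine ⟨fun b hb => ?_, fun b hb => ?_⟩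
        · obtain ⟨h1, h2⟩ := h.1 ⟨b, hsP hb⟩ hb
          exact ⟨congrArg Subtype.val h1, h2⟩
        · obtain ⟨h1, h2⟩ := h.2 ⟨b, hpP hb⟩ hb
          exact ⟨congrArg Subtype.val h1, h2⟩
    have CC : Cl D r := by
      refine ⟨h8, C.uniq, C.h1, C.h2, ?_, fun p => Or.inl rfl, ?_, htrans, ?_, ?_, fun {p q} _ => C.hW p q⟩
      · intro p q t ht hp
        by_cases hpq : p = q
        · exact Or.inl hpq
        · exact Or.inr (near_of C ht hp hpq)
      · rintro p q (h | h)
        · exact Or.inl h.symm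
        · exact Or.inr h.symm
      · rintro p q g (h | h)
        · exact Or.inl (by rw [h])
        · exact Or.inr (h.smul g)
      · rintro p q (h | h) hne b hb
        · exact absurd h hne
        · exact h.1 b hb
    exact ClC.all CC

theorem zero {G : Type u} [Group G] [Finite G] {ι : Type v} [MulAction G ι] {D : Sys G Ω ι} (C : Cl0 D)
    (p q : ι) : p = q ∨ Near D p q :=
  zero_aux (Nat.card G) G ι D C le_rfl p q

end Cfsg.Agent.UAlt.ClZero
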