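import Mathlib
import Cfsg.Agent.UAlt.ClZero

/-!
# THEOREM CL: the multi-closing theorem with cores

`W ≤ B ≤ G`, `f : B →* Perm Ω` with image the alternating group (`|Ω| ≥ 8`) and kernel `W` of odd order; roots =
involutions of `B` mapped to double transpositions.  Under (H1), (H2), (H3), `W` is normal in `G` and different
conjugates of `B` commute modulo `W`.
-/

set_option autoImplicit false

namespace Cfsg.Agent.UAlt.ClMain

open Equiv Equiv.Perm Subgroup
open Cfsg.Agent.StdAlt.Roots Cfsg.Agent.StdAlt.Dihedral Cfsg.Agent.UAlt.ClSys Cfsg.Agent.UAlt.ClA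
open Cfsg.Agent.UAlt.ClA.Cl

open scoped commutatorElement

set_option maxHeartbeats 400000

universe u v

variable {G : Type u} [Group G] {Ω : Type v} [Fintype Ω] [DecidableEq Ω]

/-- Hypotheses of THEOREM CL -/
structure Hyp (B W : Subgroup G) (f : B →* Perm Ω) : Prop where
  h8 : 8 ≤ Fintype.card Ω
  range : f.range = alternatingGroup Ω
  ker : f.ker = W.subgroupOf B
  le : W ≤ B
  odd : Odd (Nat.card W)
  H1 : ∀ u : B, u * u = 1 → IsRoot (f u) → ∀ g : G, g * u = u * g → g ∈ normalizer (B : Set G)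
  H2 : ∀ u : B, u * u = 1 → IsRoot (f u) → ∀ g : G, g * u * g⁻¹ ∈ normalizer (B : Set G) →
    (∃ h : g * u * g⁻¹ ∈ B, IsRoot (f ⟨_, h⟩)) ∨ ∀ b ∈ B, ⁅g * (u : G) * g⁻¹, b⁆ ∈ W
  H3 : ∀ u v : B, u * u = 1 → IsRoot (f u) → v * v = 1 → IsRoot (f v) → ∀ g : G,
    (u : G) * (g * v * g⁻¹) = (g * v * g⁻¹) * u → ∀ w ∈ W, g * w * g⁻¹ ∈ W

section labels

/-- two homomorphisms onto the alternating group with the same kernel differ by a permutation -/
theorem exists_perm {K : Type*} [Group K] [Finite K] (h7 : 7 ≤ Fintype.card Ω) (f g : K →* Perm Ω)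
    (hf : f.range = alternatingGroup Ω) (hg : g.range = alternatingGroup Ω) (hk : f.ker ≤ g.ker) :
    ∃ ρ : Perm Ω, ∀ k, g k = ρ * f k * ρ⁻¹ := by
  have mf : ∀ k, f k ∈ alternatingGroup Ω := fun k => hf ▸ ⟨k, rfl⟩
  have mg : ∀ k, g k ∈ alternatingGroup Ω := fun k => hg ▸ ⟨k, rfl⟩
  set f' : K →* alternatingGroup Ω := f.codRestrict _ mf with hf'
  set g' : K →* alternatingGroup Ω := g.codRestrict _ mg with hg'
  have sf : Function.Surjective f' := by
    rintro ⟨τ, hτ⟩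
    rw [← hf] at hτ
    obtain ⟨k, hk⟩ := hτ
    exact ⟨k, Subtype.ext hk⟩
  have sg : Function.Surjective g' := by
    rintro ⟨τ, hτ⟩
    rw [← hg] at hτ
    obtain ⟨k, hk⟩ := hτ
    exact ⟨k, Subtype.ext hk⟩
  have hk' : f'.ker ≤ g'.ker := by
    intro k hk1
    have h1 : f k = 1 := congrArg Subtype.val (MonoidHom.mem_ker.1 hk1)
    have h2 : g k = 1 := hk h1
    exact Subtype.ext h2
  let a : alternatingGroup Ω →* alternatingGroup Ω := f'.liftOfSurjective sf ⟨g', hk'⟩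
  have ha : ∀ k, a (f' k) = g' k := fun k => f'.liftOfRightInverse_comp_apply _ _ ⟨g', hk'⟩ k
  have has : Function.Surjective a := by
    intro τ
    obtain ⟨k, hk⟩ := sg τ
    exact ⟨f' k, by rw [ha, hk]⟩
  let A : MulAut (alternatingGroup Ω) := MulEquiv.ofBijective a ⟨Finite.injective_iff_surjective.2 has, has⟩
  obtain ⟨ψ, hψ⟩ := Cfsg.Agent.StdAlt.Closing.exists_autHom Ω h7
  refine ⟨ψ A, fun k => ?_⟩
  have h1 := hψ A (f' k)
  have h2 : A (f' k) = g' k := ha k
  rw [h2] at h1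
  exact h1

/-- uniqueness of the permutation -/
theorem perm_unique {K : Type*} [Group K] (h5 : 5 ≤ Fintype.card Ω) (f : K →* Perm Ω)
    (hf : f.range = alternatingGroup Ω) {ρ τ : Perm Ω} (h : ∀ k, ρ * f k * ρ⁻¹ = τ * f k * τ⁻¹) : ρ = τ := by
  have h1 : τ⁻¹ * ρ = 1 := by
    apply Cfsg.Agent.StdAlt.Closing.eq_one_of_centralizes h5
    intro x hx
    have hx' := hx.mem_alternatingGroup
    rw [← hf] at hx'
    obtain ⟨k, rfl⟩ := hx'
    have h2 := h k
    calc τ⁻¹ * ρ * f k = τ⁻¹ * (ρ * f k * ρ⁻¹) * ρ := by group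
      _ = τ⁻¹ * (τ * f k * τ⁻¹) * ρ := by rw [h2]
      _ = f k * (τ⁻¹ * ρ) := by group
  rw [inv_mul_eq_one] at h1
  exact h1.symm

end labels

variable {B W : Subgroup G} {f : B →* Perm Ω}

namespace Hyp

/-- conjugation on `B` by an element of the normaliser -/
def cj (B : Subgroup G) (n : G) (hn : n ∈ normalizer (B : Set G)) : B →* B :=
  (B.normalizerMonoidHom ⟨n, hn⟩).toMonoidHom

theorem coe_cj {n : G} (hn : n ∈ normalizer (B : Set G)) (b : B) : ((cj B n hn b : B) : G) = n * b * n⁻¹ := rfl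

variable (H : Hyp B W f)

include H in
theorem mem_W_iff (b : B) : (b : G) ∈ W ↔ f b = 1 := by
  rw [← MonoidHom.mem_ker, H.ker, mem_subgroupOf]

include H in
theorem surj' {σ : Perm Ω} (hσ : σ ∈ alternatingGroup Ω) : ∃ b : B, f b = σ := by
  rw [← H.range] at hσ; exact hσ

include H in
theorem alt' (b : B) : f b ∈ alternatingGroup Ω := by rw [← H.range]; exact ⟨b, rfl⟩

variable [Finite G]

include H in
/-- the normaliser of `B` normalises `W` -/
theorem W_norm {n : G} (hn : n ∈ normalizer (B : Set G)) {w : G} (hw : w ∈ W) : n * w * n⁻¹ ∈ W := by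
  have h8 := H.h8
  haveI : IsSimpleGroup (alternatingGroup Ω) := by
    exact alternatingGroup.isSimpleGroup (by rw [Nat.card_eq_fintype_card]; omega)
  let g : B →* alternatingGroup Ω := (f.codRestrict _ (fun k => H.alt' k)).comp (cj B n hn)
  have hsurj : Function.Surjective g := by
    rintro ⟨τ, hτ⟩
    obtain ⟨b, hb⟩ := H.surj' hτ
    obtain ⟨c, hc⟩ := (B.normalizerMonoidHom ⟨n, hn⟩).surjective b
    refine ⟨c, Subtype.ext ?_⟩
    show f (cj B n hn c) = τ
    have : cj B n hn c = b := hc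
    rw [this, hb]
  have hWn : (W.subgroupOf B).Normal := by rw [← H.ker]; infer_instance
  have hn' : ((W.subgroupOf B).map g).Normal := hWn.map g hsurj
  rcases hn'.eq_bot_or_eq_top with h | h
  · have h1 : g ⟨w, H.le hw⟩ ∈ (W.subgroupOf B).map g := ⟨⟨w, H.le hw⟩, mem_subgroupOf.2 hw, rfl⟩
    rw [h, mem_bot] at h1
    have h2 : f (cj B n hn ⟨w, H.le hw⟩) = 1 := congrArg Subtype.val h1
    rw [← H.mem_W_iff] at h2
    exact h2
  · exfalso
    have h1 : Nat.card ((W.subgroupOf B).map g) ∣ Nat.card (W.subgroupOf B) :=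
      Subgroup.card_map_dvd (W.subgroupOf B) g
    have e : ↥(W.subgroupOf B) ≃* ↥W := Subgroup.subgroupOfEquivOfLe H.le
    have h2 : Nat.card (W.subgroupOf B) = Nat.card W := Nat.card_congr e.toEquiv
    rw [h, h2] at h1
    have e' : ↥(⊤ : Subgroup (alternatingGroup Ω)) ≃* ↥(alternatingGroup Ω) := Subgroup.topEquiv
    have h3 : Nat.card (⊤ : Subgroup (alternatingGroup Ω)) = Nat.card (alternatingGroup Ω) :=
      Nat.card_congr e'.toEquiv
    rw [h3] at h1
    obtain ⟨α, hα⟩ := exists_root (Ω := Ω) (by omega)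
    have h4 : orderOf (⟨α, hα.mem_alternatingGroup⟩ : alternatingGroup Ω) = 2 := by
      apply orderOf_eq_prime
      · apply Subtype.ext; rw [pow_two]; exact hα.1
      · intro h5; exact IsRoot.ne_one hα (congrArg Subtype.val h5)
    have h5 : 2 ∣ Nat.card (alternatingGroup Ω) := by rw [← h4]; exact orderOf_dvd_natCard _
    exact (Nat.not_even_iff_odd.2 H.odd) (even_iff_two_dvd.2 (h5.trans h1))

include H in
theorem exists_ρ (n : G) (hn : n ∈ normalizer (B : Set G)) : ∃ ρ : Perm Ω, ∀ b : B, f (cj B n hn b) = ρ * f b * ρ⁻¹ := by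
  have h8 := H.h8
  apply exists_perm (by omega) f (f.comp (cj B n hn)) H.range
  · rw [← H.range]
    apply le_antisymm
    · rintro _ ⟨b, rfl⟩; exact ⟨_, rfl⟩
    · rintro _ ⟨b, rfl⟩
      obtain ⟨c, hc⟩ := (B.normalizerMonoidHom ⟨n, hn⟩).surjective b
      refine ⟨c, ?_⟩
      show f (cj B n hn c) = f b
      have : cj B n hn c = b := hc
      rw [this]
  · intro k hk
    rw [MonoidHom.mem_ker, ← H.mem_W_iff] at hk
    rw [MonoidHom.mem_ker]
    show f (cj B n hn k) = 1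
    rw [← H.mem_W_iff]
    exact H.W_norm hn hk

open Classical in
/-- the action of the normaliser on `B / W` -/
noncomputable def Φ (H : Hyp B W f) (n : G) : Perm Ω :=
  if hn : n ∈ normalizer (B : Set G) then (H.exists_ρ n hn).choose else 1

theorem Φ_spec {n : G} (hn : n ∈ normalizer (B : Set G)) (b : B) :
    f (cj B n hn b) = H.Φ n * f b * (H.Φ n)⁻¹ := by
  have h := (H.exists_ρ n hn).choose_spec b
  unfold Φ
  rw [dif_pos hn]
  exact h

theorem Φ_unique {n : G} (hn : n ∈ normalizer (B : Set G)) {ρ : Perm Ω}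
    (h : ∀ b : B, f (cj B n hn b) = ρ * f b * ρ⁻¹) : H.Φ n = ρ := by
  have h8 := H.h8
  apply perm_unique (by omega) f H.range
  intro k
  rw [← h k, ← H.Φ_spec hn k]

theorem Φ_mul {n m : G} (hn : n ∈ normalizer (B : Set G)) (hm : m ∈ normalizer (B : Set G)) :
    H.Φ (n * m) = H.Φ n * H.Φ m := by
  apply H.Φ_unique (mul_mem hn hm)
  intro b
  have e : cj B (n * m) (mul_mem hn hm) b = cj B n hn (cj B m hm b) := by
    apply Subtype.ext
    rw [coe_cj, coe_cj, coe_cj]; group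
  rw [e, H.Φ_spec hn, H.Φ_spec hm]; group

theorem Φ_of_mem (b : B) : H.Φ (b : G) = f b := by
  apply H.Φ_unique (le_normalizer b.2)
  intro c
  have e : cj B (b : G) (le_normalizer b.2) c = b * c * b⁻¹ := by
    apply Subtype.ext
    rw [coe_cj]; rfl
  rw [e, map_mul, map_mul, map_inv]

theorem Φ_inv {n : G} (hn : n ∈ normalizer (B : Set G)) : H.Φ n⁻¹ = (H.Φ n)⁻¹ := by
  have h1 : H.Φ (1 : G) = 1 := by
    have := H.Φ_of_mem 1
    rw [map_one] at this
    exact this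
  have h2 := H.Φ_mul hn (inv_mem hn)
  rw [mul_inv_cancel, h1] at h2
  exact (inv_eq_of_mul_eq_one_right h2.symm).symm

/-- the points: cosets of the normaliser -/
abbrev Pt (B : Subgroup G) : Type _ := G ⧸ normalizer (B : Set G)

/-- representatives -/
noncomputable def rep (p : Pt B) : G := p.out

omit [Finite G] in
theorem mk_rep (p : Pt B) : ((rep p : G) : Pt B) = p := p.out_eq'

omit [Finite G] in
theorem fix_iff {p : Pt B} {x : G} : x • p = p ↔ (rep p)⁻¹ * x * rep p ∈ normalizer (B : Set G) := by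
  conv_lhs => rw [← mk_rep p]
  rw [MulAction.Quotient.smul_coe, smul_eq_mul, eq_comm, QuotientGroup.eq, mul_assoc]

omit [Finite G] in
theorem rel_mem (p : Pt B) (g : G) : (rep (g • p))⁻¹ * g * rep p ∈ normalizer (B : Set G) := by
  rw [mul_assoc, ← QuotientGroup.eq, mk_rep, ← smul_eq_mul, ← MulAction.Quotient.smul_coe, mk_rep]

/-- the system of THEOREM CL -/
noncomputable def sys (H : Hyp B W f) : Sys G Ω (Pt B) where
  B p := B.comap (MulAut.conj (rep p)⁻¹).toMonoidHom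
  φ p x := H.Φ ((rep p)⁻¹ * x * rep p)
  fix := fun {p b} hb => by
    rw [fix_iff]
    apply le_normalizer
    have : (rep p)⁻¹ * b * (rep p)⁻¹⁻¹ ∈ B := hb
    rwa [inv_inv] at this
  conj := fun {p b} g hb => by
    have h1 : (rep p)⁻¹ * b * (rep p)⁻¹⁻¹ ∈ B := hb
    rw [inv_inv] at h1
    show (rep (g • p))⁻¹ * (g * b * g⁻¹) * (rep (g • p))⁻¹⁻¹ ∈ B
    have h2 := (mem_normalizer_iff.1 (rel_mem p g) _).1 h1
    have e : (rep (g • p))⁻¹ * g * rep p * ((rep p)⁻¹ * b * rep p) * ((rep (g • p))⁻¹ * g * rep p)⁻¹ =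
        (rep (g • p))⁻¹ * (g * b * g⁻¹) * (rep (g • p))⁻¹⁻¹ := by group
    rw [← e]
    exact h2
  map_mul := fun {p g h} hg hh => by
    rw [fix_iff] at hg hh
    rw [← H.Φ_mul hg hh]
    congr 1; group
  alt := fun {p b} hb => by
    have h1 : (rep p)⁻¹ * b * (rep p)⁻¹⁻¹ ∈ B := hb
    rw [inv_inv] at h1
    rw [H.Φ_of_mem ⟨_, h1⟩]
    exact H.alt' _
  surj := fun p {σ} hσ => by
    obtain ⟨b, hb⟩ := H.surj' hσ
    have e : (rep p)⁻¹ * (rep p * b * (rep p)⁻¹) * rep p = b := by group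
    refine ⟨rep p * b * (rep p)⁻¹, ?_, ?_⟩
    · show (rep p)⁻¹ * (rep p * b * (rep p)⁻¹) * (rep p)⁻¹⁻¹ ∈ B
      rw [inv_inv, e]; exact b.2
    · rw [e, H.Φ_of_mem, hb]
  odd' := fun p => by
    have h := H.odd
    refine (Nat.card_congr ?_) ▸ h
    refine ⟨fun w => ⟨rep p * w * (rep p)⁻¹, ?_, ?_⟩, fun w => ⟨(rep p)⁻¹ * w.1 * rep p, ?_⟩, ?_, ?_⟩
    · show (rep p)⁻¹ * (rep p * w * (rep p)⁻¹) * (rep p)⁻¹⁻¹ ∈ B
      have e : (rep p)⁻¹ * (rep p * w * (rep p)⁻¹) * (rep p)⁻¹⁻¹ = w := by group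
      rw [e]; exact H.le w.2
    · have e : (rep p)⁻¹ * (rep p * w * (rep p)⁻¹) * rep p = w := by group
      rw [e, H.Φ_of_mem ⟨w, H.le w.2⟩, ← H.mem_W_iff]; exact w.2
    · have h1 : (rep p)⁻¹ * w.1 * (rep p)⁻¹⁻¹ ∈ B := w.2.1
      rw [inv_inv] at h1
      have h2 := w.2.2
      rw [H.Φ_of_mem ⟨_, h1⟩, ← H.mem_W_iff] at h2
      exact h2
    · intro w
      apply Subtype.ext
      show (rep p)⁻¹ * (rep p * w * (rep p)⁻¹) * rep p = w
      group
    · intro w
      apply Subtype.ext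
      show rep p * ((rep p)⁻¹ * w.1 * rep p) * (rep p)⁻¹ = w.1
      group
  tr := fun p g => by
    refine ⟨H.Φ ((rep (g • p))⁻¹ * g * rep p), fun w hw => ?_⟩
    have hn := rel_mem p g
    have hw' := fix_iff.1 hw
    rw [← H.Φ_inv hn, ← H.Φ_mul hn hw', ← H.Φ_mul (mul_mem hn hw') (inv_mem hn)]
    congr 1; group

theorem mem_B {p : Pt B} {x : G} : x ∈ H.sys.B p ↔ (rep p)⁻¹ * x * rep p ∈ B := by
  have e : (MulAut.conj (rep p)⁻¹).toMonoidHom x = (rep p)⁻¹ * x * rep p := by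
    show (rep p)⁻¹ * x * (rep p)⁻¹⁻¹ = _
    rw [inv_inv]
  rw [← e]; rfl

theorem mem_B_smul {g x : G} : x ∈ H.sys.B (g • ((1 : G) : Pt B)) ↔ g⁻¹ * x * g ∈ B := by
  have h1 : ∀ y : G, y ∈ H.sys.B ((1 : G) : Pt B) ↔ y ∈ B := by
    intro y
    rw [mem_B]
    have h2 : rep ((1 : G) : Pt B) ∈ normalizer (B : Set G) := by
      have := mk_rep (((1 : G) : Pt B))
      rw [eq_comm, QuotientGroup.eq, inv_one, one_mul] at this
      exact this
    have := mem_normalizer_iff.1 (inv_mem h2) y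
    rw [inv_inv] at this
    exact this.symm
  rw [← h1]
  have h3 := H.sys.conj_mem_iff (p := ((1 : G) : Pt B)) (g := g) (b := g⁻¹ * x * g)
  rw [show g * (g⁻¹ * x * g) * g⁻¹ = x by group] at h3
  exact h3

end Hyp

section general

variable {ι : Type*} [MulAction G ι]

/-- the hypotheses on a system -/
structure ClG (D : Sys G Ω ι) : Prop where
  h8 : 8 ≤ Fintype.card Ω
  uniq : ∀ {p q u}, u ∈ D.R p → u ∈ D.R q → p = q
  h1 : ∀ {p u}, u ∈ D.R p → ∀ g : G, g * u = u * g → g • p = p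
  h2 : ∀ {p q t}, t ∈ D.R q → t • p = p → t ∈ D.R p ∨ D.φ p t = 1
  h3 : ∀ {p q u t}, u ∈ D.R p → t ∈ D.R q → u * t = t * u → D.W p = D.W q

theorem W_smul (D : Sys G Ω ι) {p q : ι} (h : D.W p = D.W q) (g : G) : D.W (g • p) = D.W (g • q) := by
  have key : ∀ {p q : ι}, D.W p = D.W q → D.W (g • p) ≤ D.W (g • q) := by
    intro p q h x hx
    have h1 := D.W_conj g⁻¹ hx
    rw [inv_smul_smul, h, inv_inv] at h1
    have h2 := D.W_conj g h1
    rwa [show g * (g⁻¹ * x * g) * g⁻¹ = x by group] at h2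
  exact le_antisymm (key h) (key h.symm)

variable [Finite G]

theorem near_of_W {D : Sys G Ω ι} (C : ClG D) {p q : ι} (h : D.W p = D.W q) : p = q ∨ ClZero.Near D p q := by
  let X : Subgroup G := normalizer (D.W p : Set G)
  let P : SubMulAction X ι :=
    { carrier := {p' | D.W p' = D.W p}
      smul_mem' := by
        intro x p' hp'
        have hx := mem_normalizer_iff.1 x.2
        have h1 : D.W ((x : G) • p') = D.W ((x : G) • p) := W_smul D hp' x
        have h2 : D.W ((x : G) • p) = D.W p := by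
          ext y
          constructor
          · intro hy
            have h3 := D.W_conj (x : G)⁻¹ hy
            rw [inv_smul_smul, inv_inv] at h3
            have h4 := (hx _).1 h3
            rwa [show (x : G) * ((x : G)⁻¹ * y * x) * (x : G)⁻¹ = y by group] at h4
          · intro hy
            have h3 : (x : G)⁻¹ * y * x ∈ D.W p := by
              apply (hx _).2
              rwa [show (x : G) * ((x : G)⁻¹ * y * x) * (x : G)⁻¹ = y by group]
            have h4 := D.W_conj (x : G) h3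
            rwa [show (x : G) * ((x : G)⁻¹ * y * x) * (x : G)⁻¹ = y by group] at h4
        exact h1.trans h2 }
  have hPB : ∀ p' ∈ P, D.B p' ≤ X := by
    intro p' hp' b hb
    have hp'' : D.W p' = D.W p := hp'
    apply mem_normalizer_iff.2
    intro y
    rw [← SetLike.mem_coe, ← SetLike.mem_coe]
    show y ∈ D.W p ↔ b * y * b⁻¹ ∈ D.W p
    rw [← hp'']
    refine ⟨fun hy => D.W_conj_mem (D.fix hb) hy, fun hy => ?_⟩
    have h3 := D.W_conj_mem (Sys.fix_inv (D.fix hb)) hy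
    rwa [show b⁻¹ * (b * y * b⁻¹) * b⁻¹⁻¹ = y by group] at h3
  have C' : ClZero.Cl0 (D.sub X P hPB) := by
    refine ⟨C.h8, ?_, ?_, ?_, ?_⟩
    · intro p' q' u h1 h2
      apply Subtype.ext
      exact C.uniq (u := (u : G)) ⟨h1.1, congrArg Subtype.val h1.2.1, h1.2.2⟩
        ⟨h2.1, congrArg Subtype.val h2.2.1, h2.2.2⟩
    · intro p' u h1 g hg
      apply Subtype.ext
      exact C.h1 (u := (u : G)) ⟨h1.1, congrArg Subtype.val h1.2.1, h1.2.2⟩ g (congrArg Subtype.val hg)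
    · intro p' q' t h1 h2
      rcases C.h2 (t := (t : G)) (p := p') (q := q') ⟨h1.1, congrArg Subtype.val h1.2.1, h1.2.2⟩
        (congrArg Subtype.val h2) with h | h
      · exact Or.inl ⟨h.1, Subtype.ext h.2.1, h.2.2⟩
      · exact Or.inr h
    · intro p' q'
      have h1 : D.W p' = D.W p := p'.2
      have h2 : D.W q' = D.W p := q'.2
      have h := h1.trans h2.symm
      ext w
      exact SetLike.ext_iff.1 h (w : G)
  have hq : q ∈ P := h.symm
  have hp : p ∈ P := (rfl : D.W p = D.W p)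
  rcases ClZero.zero C' ⟨p, hp⟩ ⟨q, hq⟩ with h | h
  · exact Or.inl (congrArg Subtype.val h)
  · right
    refine ⟨fun b hb => ?_, fun b hb => ?_⟩
    · obtain ⟨h1, h2⟩ := h.1 ⟨b, hPB q hq hb⟩ hb
      exact ⟨congrArg Subtype.val h1, h2⟩
    · obtain ⟨h1, h2⟩ := h.2 ⟨b, hPB p hp hb⟩ hb
      exact ⟨congrArg Subtype.val h1, h2⟩

/-- all kernels coincide -/
theorem all_W {D : Sys G Ω ι} (C : ClG D) : ∀ p q, D.W p = D.W q := by
  have h8 := C.h8
  have CC : Cl D (fun p q => D.W p = D.W q) := by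
    refine ⟨h8, C.uniq, C.h1, C.h2, ?_, fun p => rfl, fun h => h.symm, fun h h' => h.trans h',
      fun {p q} g h => W_smul D h g, ?_, fun h => h⟩
    · intro p q t ht hp
      rcases C.h2 ht hp with h | h
      · rw [C.uniq h ht]
      · obtain ⟨α, hα⟩ := exists_root (Ω := Ω) (by omega)
        obtain ⟨u, hu, -, htu⟩ := D.exists_root_one ht.2.1 hp hα (by rw [h, one_mul, mul_one])
        exact C.h3 hu ht htu.symm
    · intro p q h hne
      exact ((near_of_W C h).resolve_left hne).1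
  exact ClC.all CC

end general

namespace Hyp

variable [Finite G] (H : Hyp B W f)

theorem mem_sysW {p : Pt B} {x : G} : x ∈ H.sys.W p ↔ (rep p)⁻¹ * x * rep p ∈ W := by
  rw [Sys.mem_W, mem_B]
  constructor
  · rintro ⟨h1, h2⟩
    have h3 : H.Φ ((rep p)⁻¹ * x * rep p) = 1 := h2
    rw [H.Φ_of_mem ⟨_, h1⟩, ← H.mem_W_iff] at h3
    exact h3
  · intro h
    refine ⟨H.le h, ?_⟩
    show H.Φ ((rep p)⁻¹ * x * rep p) = 1
    rw [H.Φ_of_mem ⟨_, H.le h⟩, ← H.mem_W_iff]
    exact h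

theorem mem_sysR {p : Pt B} {x : G} : x ∈ H.sys.R p ↔
    ∃ u : B, u * u = 1 ∧ IsRoot (f u) ∧ x = rep p * u * (rep p)⁻¹ := by
  rw [Sys.mem_R, mem_B]
  constructor
  · rintro ⟨h1, h2, h3⟩
    refine ⟨⟨_, h1⟩, ?_, ?_, by simp only; group⟩
    · apply Subtype.ext
      show (rep p)⁻¹ * x * rep p * ((rep p)⁻¹ * x * rep p) = 1
      rw [show (rep p)⁻¹ * x * rep p * ((rep p)⁻¹ * x * rep p) = (rep p)⁻¹ * (x * x) * rep p by group, h2]
      group
    · rw [← H.Φ_of_mem]; exact h3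
  · rintro ⟨u, h1, h2, rfl⟩
    have e : (rep p)⁻¹ * (rep p * u * (rep p)⁻¹) * rep p = u := by group
    refine ⟨by rw [e]; exact u.2, ?_, ?_⟩
    · have h3 : (u : G) * u = 1 := congrArg Subtype.val h1
      rw [show rep p * (u : G) * (rep p)⁻¹ * (rep p * u * (rep p)⁻¹) = rep p * (u * u) * (rep p)⁻¹ by group, h3]
      group
    · show IsRoot (H.Φ ((rep p)⁻¹ * (rep p * u * (rep p)⁻¹) * rep p))
      rw [e, H.Φ_of_mem]; exact h2

include H in
/-- all roots of `B` are conjugate in `B` -/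
theorem conj_roots {u v : B} (hu : u * u = 1) (hv : v * v = 1) (ru : IsRoot (f u)) (rv : IsRoot (f v)) :
    ∃ b : B, b * u * b⁻¹ = v := by
  have h8 := H.h8
  obtain ⟨c, hc⟩ := Cfsg.Agent.StdAlt.Closing.isConj_roots (by omega)
    (a := ⟨f u, H.alt' u⟩) (b := ⟨f v, H.alt' v⟩) ru rv
  obtain ⟨b₀, hb₀⟩ := H.surj' c.2
  have hc' : (c : Perm Ω) * f u * (c : Perm Ω)⁻¹ = f v := congrArg Subtype.val hc
  set u' := b₀ * u * b₀⁻¹ with hu'
  have huu' : u' * u' = 1 := by
    rw [hu', show b₀ * u * b₀⁻¹ * (b₀ * u * b₀⁻¹) = b₀ * (u * u) * b₀⁻¹ by group, hu]; group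
  have hφ : f u' = f v := by rw [hu', map_mul, map_mul, map_inv, hb₀, hc']
  have hker : u' * v ∈ f.ker := by
    rw [MonoidHom.mem_ker, map_mul, hφ, ← map_mul, hv, map_one]
  rcases dihedral huu' hv with ⟨j, hj⟩ | ⟨z, hz1, hzz, ⟨m, hm⟩, -⟩
  · generalize (u' * v) ^ j = y at hj
    refine ⟨y * b₀, ?_⟩
    rw [← hj, hu']; group
  · exfalso
    have h1 : z ∈ f.ker := by rw [hm]; exact pow_mem hker m
    rw [H.ker] at h1
    have h2 : (z : G) ∈ W := mem_subgroupOf.1 h1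
    have hzz' : (z : G) * z = 1 := congrArg Subtype.val hzz
    have h3 : orderOf (⟨(z : G), h2⟩ : W) = 2 := by
      apply orderOf_eq_prime
      · apply Subtype.ext
        rw [pow_two]
        exact hzz'
      · intro h4
        apply hz1
        apply Subtype.ext
        have h5 : (z : G) = 1 := congrArg Subtype.val h4
        exact h5
    have h4 : 2 ∣ Nat.card W := by rw [← h3]; exact orderOf_dvd_natCard _
    exact (Nat.not_even_iff_odd.2 H.odd) (even_iff_two_dvd.2 h4)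

theorem sys_h1 {p : Pt B} {x : G} (hx : x ∈ H.sys.R p) (g : G) (hg : g * x = x * g) : g • p = p := by
  obtain ⟨u, h1, h2, rfl⟩ := H.mem_sysR.1 hx
  rw [fix_iff]
  apply H.H1 u h1 h2
  have e1 : (rep p)⁻¹ * g * rep p * u = (rep p)⁻¹ * (g * (rep p * u * (rep p)⁻¹)) * rep p := by group
  rw [e1, hg]; group

theorem clG : ClG H.sys := by
  refine ⟨H.h8, ?_, fun h g => H.sys_h1 h g, ?_, ?_⟩
  · intro p q x hp hq
    obtain ⟨u, h1, h2, e1⟩ := H.mem_sysR.1 hp
    obtain ⟨v, h3, h4, e2⟩ := H.mem_sysR.1 hq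
    obtain ⟨b, hb⟩ := H.conj_roots h1 h3 h2 h4
    have hb' : (b : G) * u * (b : G)⁻¹ = v := congrArg Subtype.val hb
    have h5 : (rep q * b * (rep p)⁻¹) • p = p := by
      apply H.sys_h1 hp
      have e3 : (rep q * (b : G) * (rep p)⁻¹) * x * (rep q * b * (rep p)⁻¹)⁻¹ = x := by
        calc (rep q * (b : G) * (rep p)⁻¹) * x * (rep q * b * (rep p)⁻¹)⁻¹
            = rep q * ((b : G) * ((rep p)⁻¹ * x * rep p) * (b : G)⁻¹) * (rep q)⁻¹ := by group
          _ = rep q * v * (rep q)⁻¹ := by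
              rw [← hb']; congr 1; congr 1; congr 1; congr 1; rw [e1]; group
          _ = x := e2.symm
      exact mul_inv_eq_iff_eq_mul.1 e3
    have h6 : (rep q * (b : G) * (rep p)⁻¹) • p = q := by
      conv_lhs => rw [← mk_rep p]
      rw [MulAction.Quotient.smul_coe, smul_eq_mul, mk_rep p]
      conv_rhs => rw [← mk_rep q]
      rw [eq_comm, QuotientGroup.eq]
      have e4 : (rep q)⁻¹ * (rep q * (b : G) * (rep p)⁻¹ * rep p) = b := by group
      rw [e4]
      exact le_normalizer b.2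
    rw [← h5, h6]
  · intro p q t ht hp
    obtain ⟨v, h3, h4, e2⟩ := H.mem_sysR.1 ht
    rw [fix_iff] at hp
    have e : (rep p)⁻¹ * t * rep p = (rep p)⁻¹ * rep q * v * ((rep p)⁻¹ * rep q)⁻¹ := by
      rw [e2]; group
    rw [e] at hp
    rcases H.H2 v h3 h4 _ hp with ⟨h5, h6⟩ | h5
    · left
      refine ⟨?_, ht.2.1, ?_⟩
      · rw [mem_B, e]; exact h5
      · show IsRoot (H.Φ ((rep p)⁻¹ * t * rep p))
        rw [e, H.Φ_of_mem ⟨_, h5⟩]; exact h6
    · right
      show H.Φ ((rep p)⁻¹ * t * rep p) = 1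
      rw [e]
      apply H.Φ_unique hp
      intro b
      rw [one_mul, inv_one, mul_one, ← mul_inv_eq_one, ← map_inv, ← map_mul, ← H.mem_W_iff]
      exact h5 b b.2
  · intro p q x t hx ht hc
    have key : ∀ {p q : Pt B} {x t : G}, x ∈ H.sys.R p → t ∈ H.sys.R q → x * t = t * x →
        H.sys.W q ≤ H.sys.W p := by
      intro p q x t hx ht hc w hw
      obtain ⟨u, h1, h2, e1⟩ := H.mem_sysR.1 hx
      obtain ⟨v, h3, h4, e2⟩ := H.mem_sysR.1 ht
      rw [mem_sysW] at hw ⊢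
      have h5 := H.H3 u v h1 h2 h3 h4 ((rep p)⁻¹ * rep q) (by
        have e3 : (u : G) = (rep p)⁻¹ * x * rep p := by rw [e1]; group
        have e4 : (rep p)⁻¹ * rep q * (v : G) * ((rep p)⁻¹ * rep q)⁻¹ = (rep p)⁻¹ * t * rep p := by
          rw [e2]; group
        rw [e4, e3]
        calc (rep p)⁻¹ * x * rep p * ((rep p)⁻¹ * t * rep p) = (rep p)⁻¹ * (x * t) * rep p := by group
          _ = (rep p)⁻¹ * t * rep p * ((rep p)⁻¹ * x * rep p) := by rw [hc]; group) _ hw
      have e5 : (rep p)⁻¹ * rep q * ((rep q)⁻¹ * w * rep q) * ((rep p)⁻¹ * rep q)⁻¹ =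
          (rep p)⁻¹ * w * rep p := by group
      rwa [e5] at h5
    exact le_antisymm (key ht hx hc.symm) (key hx ht hc)

end Hyp

/-- **THEOREM CL** (multi-closing with cores). -/
theorem main [Finite G] (H : Hyp B W f) :
    W.Normal ∧ ∀ g : G, (∀ b ∈ B, g * b * g⁻¹ ∈ B) ∨ ∀ b ∈ B, ∀ b' ∈ B, ⁅b, g * b' * g⁻¹⁆ ∈ W := by
  have C := H.clG
  have hW := all_W C
  set p₀ : Hyp.Pt B := ((1 : G) : Hyp.Pt B) with hp₀
  have hrep : Hyp.rep p₀ ∈ normalizer (B : Set G) := by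
    have := Hyp.mk_rep p₀
    rw [hp₀, eq_comm, QuotientGroup.eq, inv_one, one_mul] at this
    exact this
  have hW₀ : ∀ x, x ∈ H.sys.W p₀ ↔ x ∈ W := by
    intro x
    rw [Hyp.mem_sysW]
    constructor
    · intro h
      have := H.W_norm hrep h
      rwa [show Hyp.rep p₀ * ((Hyp.rep p₀)⁻¹ * x * Hyp.rep p₀) * (Hyp.rep p₀)⁻¹ = x by group] at this
    · intro h
      have := H.W_norm (inv_mem hrep) h
      rwa [inv_inv] at this
  have hn : W.Normal := by
    constructor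
    intro w hw g
    have h1 := H.sys.W_conj g ((hW₀ w).2 hw)
    rw [hW (g • p₀) p₀] at h1
    exact (hW₀ _).1 h1
  refine ⟨hn, fun g => ?_⟩
  have hB₀ : ∀ x, x ∈ H.sys.B p₀ ↔ x ∈ B := by
    intro x
    have := H.mem_B_smul (g := 1) (x := x)
    rw [one_smul, inv_one, one_mul, mul_one] at this
    exact this
  rcases near_of_W C (hW p₀ (g • p₀)) with h | h
  · left
    intro b hb
    have h1 := H.sys.conj g ((hB₀ b).2 hb)
    rw [← h] at h1
    exact (hB₀ _).1 h1
  · right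
    intro b hb b' hb'
    obtain ⟨h1, h2⟩ := h.1 _ (H.sys.conj g ((hB₀ b').2 hb'))
    have hb₀ := (hB₀ b).2 hb
    rw [← hW₀, commutatorElement_def]
    set x := g * b' * g⁻¹
    have hm : x * b⁻¹ * x⁻¹ ∈ H.sys.B p₀ := H.sys.conj_mem h1 ((H.sys.B p₀).inv_mem hb₀)
    have e : b * x * b⁻¹ * x⁻¹ = b * (x * b⁻¹ * x⁻¹) := by group
    rw [e]
    refine ⟨(H.sys.B p₀).mul_mem hb₀ hm, ?_⟩
    rw [H.sys.map_mul (H.sys.fix hb₀) (H.sys.fix hm), H.sys.φ_conj h1 (Sys.fix_inv (H.sys.fix hb₀)), h2,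
      H.sys.φ_inv (H.sys.fix hb₀)]
    group

end Cfsg.Agent.UAlt.ClMain
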