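import Cfsg.Agent.UAlt.NineD
import Cfsg.Agent.UAlt.ClMain

/-!
# Section (9), end: the package (PK) satisfies the hypotheses of THEOREM CL

`closing`: under (PK), `O(B)` is normal in `G` and different conjugates of `B` commute modulo `O(B)`;
`isSubnormal`: `B` is subnormal in `G`.
-/

set_option autoImplicit false
set_option linter.unusedSectionVars false

namespace Cfsg.Agent.UAlt.Nine

open Cfsg Equiv Equiv.Perm Subgroup
open Cfsg.Agent.Intrinsic.Basic Cfsg.Agent.Intrinsic Cfsg.Agent.Intrinsic.Diag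
open Cfsg.Agent.SignalizersComponents Cfsg.Agent.Lib
open Cfsg.Agent.SignalizersComponents.IntrinsicBasic
open Cfsg.Agent.StdAlt.Roots (IsRoot)
open Cfsg.Agent.UAlt Cfsg.Agent.UAlt.PermPK
open scoped commutatorElement

variable {G : Type*} [Group G] [Finite G] {α : Type*} [Fintype α] [DecidableEq α]
variable {B B' : Subgroup G} {S S' : Finset α} {M : Mod B S} {M' : Mod B' S'}

/-- **(a)** different conjugates of `B` have no common roots -/
theorem dis_of_notMem (P : PKE M) {g : G} (hg : g ∉ normalizer (B : Set G)) :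
    ∀ v, M.Rt v → ¬ (M.cj g).Rt v := by
  intro v hv hv'
  have h1 := rt_of_cj hv'
  obtain ⟨b, hb, h2⟩ := exists_conj_root (by have := P.h9; omega) h1 hv
  apply hg
  have h3 : b⁻¹ * g ∈ centralizer ({g⁻¹ * v * g} : Set G) := by
    rw [mem_cent]
    calc b⁻¹ * g * (g⁻¹ * v * g) = b⁻¹ * v * g := by group
      _ = b⁻¹ * (b * (g⁻¹ * v * g) * b⁻¹) * g := by rw [h2]
      _ = g⁻¹ * v * g * (b⁻¹ * g) := by group
  have h4 := P.cent _ h1 h3
  have h5 := mul_mem (le_normalizer (H := B) hb) h4
  rwa [show b * (b⁻¹ * g) = g by group] at h5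

theorem isRoot_ofSubtype' {τ : Perm S} (h : IsRoot τ) : IsRoot (ofSubtype τ : Perm α) := by
  refine ⟨by rw [← map_mul, h.1, map_one], ?_⟩
  rw [support_ofSubtype, Finset.card_map]
  have := h.2
  convert this

theorem isRoot_iff {τ : Perm S} : IsRoot (ofSubtype τ : Perm α) ↔ IsRoot τ :=
  ⟨isRoot_ofSubtype, isRoot_ofSubtype'⟩

/-- the labelling of `B` by permutations of `S` -/
noncomputable def fS (M : Mod B S) : B →* Perm S :=
  ((alternatingGroup S).subtype.comp (altEquiv S).symm.toMonoidHom).comp M.homK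

theorem ofSubtype_fS (M : Mod B S) (b : B) : (ofSubtype (fS M b) : Perm α) = M.φ b := by
  have h1 : (ofSubtype (((altEquiv S).symm (M.homK b) : alternatingGroup S) : Perm S) : Perm α) =
      ((altEquiv S ((altEquiv S).symm (M.homK b)) : alt S) : Perm α) := (altEquiv_coe S _).symm
  rw [MulEquiv.apply_symm_apply] at h1
  exact h1

theorem range_fS (M : Mod B S) : (fS M).range = alternatingGroup S := by
  rw [fS, MonoidHom.range_comp, MonoidHom.range_eq_top.mpr M.homK_surjective,
    ← MonoidHom.range_eq_map, MonoidHom.range_comp,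
    MonoidHom.range_eq_top.mpr (altEquiv S).symm.surjective, ← MonoidHom.range_eq_map,
    Subgroup.range_subtype]

theorem ker_fS (M : Mod B S) : (fS M).ker = (core B).subgroupOf B := by
  ext b
  rw [MonoidHom.mem_ker, mem_subgroupOf, ← M.core_iff b b.2, ← ofSubtype_fS]
  constructor
  · intro h
    rw [h, map_one]
  · intro h
    exact ofSubtype_injective (h.trans (map_one _).symm)

theorem rt_iff (M : Mod B S) (u : B) : M.Rt u ↔ u * u = 1 ∧ IsRoot (fS M u) := by
  rw [← isRoot_iff, ofSubtype_fS]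
  constructor
  · rintro ⟨-, h1, h2⟩
    exact ⟨Subtype.ext h1, h2⟩
  · rintro ⟨h1, h2⟩
    exact ⟨u.2, congrArg Subtype.val h1, h2⟩

/-- (PK) gives the hypotheses of THEOREM CL -/
theorem hyp (P : PKE M) (NB : NoType G (S.card - 4)) : ClMain.Hyp B (core B) (fS M) where
  h8 := by
    rw [Fintype.card_coe]
    have := P.h9
    omega
  range := range_fS M
  ker := ker_fS M
  le := core_le B
  odd := odd_card_core B
  H1 := by
    intro u hu hr g hg
    exact P.cent u ((rt_iff M u).mpr ⟨hu, hr⟩) (mem_cent.mpr hg)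
  H2 := by
    intro u hu hr g hg
    have hR := (rt_iff M u).mpr ⟨hu, hr⟩
    by_cases hgN : g ∈ normalizer (B : Set G)
    · left
      have h1 := rt_conj hR hgN
      exact ⟨h1.1, ((rt_iff M ⟨_, h1.1⟩).mp h1).2⟩
    · right
      have hd := dis_of_notMem P hgN
      have h1 := H2 (pk_cj P g) P rfl (fun v h1 h2 => hd v h2 h1) (rt_cj hR g) hg
      intro b hb
      exact ((M.fixes_iff hg).mp h1).2 b hb
  H3 := by
    intro u v hu hru hv hrv g huv w hw
    have hRu := (rt_iff M u).mpr ⟨hu, hru⟩
    have hRv := (rt_iff M v).mpr ⟨hv, hrv⟩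
    by_cases hgN : g ∈ normalizer (B : Set G)
    · exact conj_mem_core hgN hw
    · have h1 := H3 P (pk_cj P g) rfl (dis_of_notMem P hgN) NB hRu (rt_cj hRv g) huv
      rw [h1, core_cj]
      exact conj_mem_cj hw

theorem mem_normalizer_of_conj {K : Subgroup G} {g : G} (h : ∀ b ∈ K, g * b * g⁻¹ ∈ K) :
    g ∈ normalizer (K : Set G) := by
  rw [mem_normalizer_iff_cj]
  apply Subgroup.eq_of_le_of_card_ge
  · intro x hx
    have h3 := h _ (mem_cj.mp hx)
    rwa [show g * (g⁻¹ * x * g) * g⁻¹ = x by group] at h3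
  · rw [cj_def, Subgroup.card_map_of_injective (MulAut.conj g).injective]

/-- **the closing of case `A_n`**, degree at least nine -/
theorem closingE (P : PKE M) (NB : NoType G (S.card - 4)) :
    (core B).Normal ∧ ∀ g : G, g ∈ normalizer (B : Set G) ∨
      ∀ b ∈ B, ∀ b' ∈ B, ⁅b, g * b' * g⁻¹⁆ ∈ core B := by
  obtain ⟨h1, h2⟩ := ClMain.main (hyp P NB)
  refine ⟨h1, fun g => ?_⟩
  rcases h2 g with h | h
  · exact Or.inl (mem_normalizer_of_conj h)
  · exact Or.inr h

/-- the conjugates of `B` normalize `B` -/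
theorem conj_mem_normalizer (P : PKE M) (NB : NoType G (S.card - 4)) (g : G) {b : G} (hb : b ∈ B) :
    g * b * g⁻¹ ∈ normalizer (B : Set G) := by
  rcases (closingE P NB).2 g with h | h
  · exact le_normalizer ((mem_normalizer_iff.mp h b).mp hb)
  · apply mem_normalizer_of_conj
    intro c hc
    have h1 := core_le B (h c⁻¹ (inv_mem hc) b hb)
    have h2 := mul_mem hc h1
    rw [commutatorElement_def] at h2
    convert h2 using 1
    group

/-- `B` is normal in its normal closure -/
theorem isSubnormalE (P : PKE M) (NB : NoType G (S.card - 4)) : B.IsSubnormal := by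
  have hN : Subgroup.normalClosure (B : Set G) ≤ normalizer (B : Set G) := by
    refine (Subgroup.closure_le _).mpr ?_
    intro x hx
    obtain ⟨b, hb, h⟩ := Group.mem_conjugatesOfSet_iff.mp hx
    obtain ⟨g, rfl⟩ := isConj_iff.mp h
    exact conj_mem_normalizer P NB g hb
  refine Subgroup.IsSubnormal.step B (Subgroup.normalClosure (B : Set G))
    Subgroup.subset_normalClosure ?_ ?_
  · exact (inferInstance : (Subgroup.normalClosure (B : Set G)).Normal).isSubnormal
  · exact (normal_subgroupOf_iff_le_normalizer Subgroup.subset_normalClosure).mpr hN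

/-- **the closing of case `A_n`**, degree at least thirteen -/
theorem closing (P : PK M) (NB : NoBig G) :
    (core B).Normal ∧ ∀ g : G, g ∈ normalizer (B : Set G) ∨
      ∀ b ∈ B, ∀ b' ∈ B, ⁅b, g * b' * g⁻¹⁆ ∈ core B :=
  closingE P.toE (NB.noType (by have := P.h13; omega))

theorem isSubnormal (P : PK M) (NB : NoBig G) : B.IsSubnormal :=
  isSubnormalE P.toE (NB.noType (by have := P.h13; omega))

end Cfsg.Agent.UAlt.Nine
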