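import Cfsg.Agent.UAlt.Mod
import Cfsg.Agent.Intrinsic.Functor
import Cfsg.Agent.UGT.Iface
import Cfsg.Agent.Cit.PieceEnd
import Cfsg.Agent.S1323

/-!
# A subnormal subgroup `B` with `B / O(B)` alternating

* `inU`: `F*(G)` simple, `B` subnormal, `B / O(B) ≅ Alt(Γ)`, `|Γ| ≥ 7` odd, `O(B)` normal in `G`: `F*(G)` is on the list
  of S1311.
* `false_of_mod`: impossible in a minimal counterexample.
-/

set_option autoImplicit false

open Cfsg Equiv Equiv.Perm Subgroup
open Cfsg.Agent.Intrinsic.Basic
open Cfsg.Agent.SignalizersComponents Cfsg.Agent.Lib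
open Cfsg.Agent.SignalizersComponents.IntrinsicBasic
open Cfsg.Agent.Intrinsic
open Cfsg.Agent.UGT.Triple Cfsg.Agent.UGT.Iface
open Cfsg.Agent.FixBN.BTheorem Cfsg.Agent.FixBN.BRelative

namespace Cfsg.Agent.UAlt.EndMod

universe u

variable {G : Type u} [Group G] [Finite G]

theorem inU (FT : Functor.OddSol G) (hs : IsSimpleGroup ↥(generalizedFittingSubgroup G))
    (hna : ¬ IsMulCommutative ↥(generalizedFittingSubgroup G)) {α : Type*} [Fintype α] [DecidableEq α]
    {B : Subgroup G} {Γ : Finset α} (MB : Mod B Γ) (hodd : Odd Γ.card) (h7 : 7 ≤ Γ.card)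
    (hn : (core B).Normal) (hsub : B.IsSubnormal) : InU ↥(generalizedFittingSubgroup G) := by
  -- `O(B) = 1`
  have hcore : core B = ⊥ := by
    by_contra hne
    have h1 := Cit.PieceEnd.fstar_le_of_normal hs hna hne
    have h2 : Odd (Nat.card ↥(generalizedFittingSubgroup G)) :=
      Odd.of_dvd_nat (odd_card_core B) (card_dvd_of_le h1)
    exact hna (comm_of_solvable_simple hs (FT _ h2))
  have hbot : oddCore ↥B = ⊥ := by
    apply Subgroup.map_injective B.subtype_injective
    rw [Subgroup.map_bot]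
    exact hcore
  -- `B` is simple
  have e : ↥B ≃* alternatingGroup Γ :=
    ((QuotientGroup.quotientBot (G := ↥B)).symm.trans (QuotientGroup.quotientMulEquivOfEq hbot.symm)).trans
      MB.quotEquiv
  have hq : IsQuasisimple ↥B :=
    Cfsg.Agent.S1323.isQuasisimple_of_mulEquiv_alternating (α := Γ)
      (by rw [Nat.card_eq_fintype_card, Fintype.card_coe]; omega) e.symm
  -- `B = F*(G)`
  have hle : B ≤ generalizedFittingSubgroup G := Lib.GenFitting.component_le_genFitting ⟨hsub, hq⟩
  have hne : B ≠ ⊥ := by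
    rintro rfl
    have := Components.quasisimple_nontrivial hq
    exact not_nontrivial_iff_subsingleton.mpr inferInstance this
  have heq : B = generalizedFittingSubgroup G := by
    refine le_antisymm hle ?_
    rcases IsSubnormal.eq_bot_or_top_of_isSimpleGroup hs
      (hsub.subgroupOf (K := generalizedFittingSubgroup G)) with h | h
    · exfalso
      apply hne
      rw [subgroupOf_eq_bot, disjoint_iff, inf_eq_left.mpr hle] at h
      exact h
    · exact subgroupOf_eq_top.mp h
  refine Or.inr (Or.inl ⟨Γ.card, hodd, h7, ?_⟩)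
  rw [← heq]
  exact ⟨e.trans (Equiv.altCongrHom (Γ.equivFin))⟩

theorem false_of_mod (FT : Functor.OddSol G) (hG : MinCex G) {α : Type*} [Fintype α] [DecidableEq α]
    {B : Subgroup G} {Γ : Finset α} (MB : Mod B Γ) (hodd : Odd Γ.card) (h7 : 7 ≤ Γ.card)
    (hn : (core B).Normal) (hsub : B.IsSubnormal) : False :=
  hG.notU (inU FT hG.simple hG.nonab MB hodd h7 hn hsub)

end Cfsg.Agent.UAlt.EndMod
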