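import Cfsg.Agent.UAlt.Mod

/-!
# Existence of labellings
-/

set_option autoImplicit false
set_option linter.unusedSectionVars false

namespace Cfsg.Agent.UAlt

open Cfsg Equiv Equiv.Perm Subgroup
open Cfsg.Agent.Intrinsic.Basic Cfsg.Agent.Intrinsic
open Cfsg.Agent.SignalizersComponents Cfsg.Agent.Lib
open Cfsg.Agent.SignalizersComponents.IntrinsicBasic
open scoped commutatorElement

variable {G : Type*} [Group G] {α : Type*} [Fintype α] [DecidableEq α]

/-- every automorphism of `alt S`, `7 ≤ |S|`, is conjugation by a permutation of `S`, homomorphically -/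
theorem exists_altAut {S : Finset α} (h7 : 7 ≤ S.card) :
    ∃ ψ : MulAut (alt S) →* Perm α, (∀ f, ψ f ∈ sym S) ∧ ∀ (f : MulAut (alt S)) (x : alt S),
      ((f x : alt S) : Perm α) = ψ f * x * (ψ f)⁻¹ := by
  obtain ⟨ψ, hψ⟩ := StdAlt.Closing.exists_autHom S (by rw [Fintype.card_coe]; exact h7)
  let c : MulAut (alt S) ≃* MulAut (alternatingGroup S) := MulAut.congr (altEquiv S).symm
  refine ⟨((ofSubtype (p := fun x => x ∈ S)).comp ψ).comp c.toMonoidHom, fun f x hx =>
    ofSubtype_apply_of_not_mem _ hx, fun f x => ?_⟩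
  obtain ⟨y, rfl⟩ := (altEquiv S).surjective x
  have h1 : c f y = (altEquiv S).symm (f (altEquiv S y)) := rfl
  have h2 : f (altEquiv S y) = altEquiv S (c f y) := by
    rw [h1, MulEquiv.apply_symm_apply]
  rw [h2, altEquiv_coe, altEquiv_coe, hψ, map_mul, map_mul, map_inv]
  rfl

/-- automorphisms of `K` act on `K / O(K)` -/
noncomputable def quotAut (K : Subgroup G) [Finite G] : MulAut ↥K →* MulAut (↥K ⧸ oddCore ↥K) where
  toFun f := QuotientGroup.congr _ _ f (Cores.map_equiv_pPrimeCore f 2)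
  map_one' := by
    ext x
    induction x using QuotientGroup.induction_on
    rfl
  map_mul' f g := by
    ext x
    induction x using QuotientGroup.induction_on
    rfl

/-- **Existence of a labelling** extending a given homomorphism of `K` onto `alt S` with kernel `O(K)`. -/
theorem Mod.exists_of_hom [Finite G] {K : Subgroup G} {S : Finset α} (h7 : 7 ≤ S.card)
    (ε : ↥K →* Perm α) (hr : ε.range = alt S) (hk : ε.ker = oddCore ↥K) :
    ∃ M : Mod K S, ∀ x : ↥K, M.φ x = ε x := by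
  classical
  obtain ⟨ψ, hψS, hψ⟩ := exists_altAut h7
  let ε' : ↥K →* ↥(alt S) := ε.codRestrict (alt S) fun x => by rw [← hr]; exact ⟨x, rfl⟩
  have hε' : Function.Surjective ε' := by
    rintro ⟨σ, hσ⟩
    rw [← hr] at hσ
    obtain ⟨x, rfl⟩ := hσ
    exact ⟨x, rfl⟩
  have hker : ε'.ker = oddCore ↥K := by
    rw [← hk]
    ext x
    rw [MonoidHom.mem_ker, MonoidHom.mem_ker, Subtype.ext_iff]
    rfl
  let e : (↥K ⧸ oddCore ↥K) ≃* ↥(alt S) :=
    (QuotientGroup.quotientMulEquivOfEq hker.symm).trans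
      (QuotientGroup.quotientKerEquivOfSurjective _ hε')
  have he : ∀ x : ↥K, e (QuotientGroup.mk' _ x) = ε' x := fun x => rfl
  let Φ : ↥(normalizer (K : Set G)) →* Perm α :=
    ψ.comp (((MulAut.congr e).toMonoidHom.comp (quotAut K)).comp K.normalizerMonoidHom)
  have hΦS : ∀ x, Φ x ∈ sym S := fun x => hψS _
  have hΦ : ∀ (x : ↥(normalizer (K : Set G))) (y : ↥K),
      ε ⟨(x : G) * y * (x : G)⁻¹, (mem_normalizer_iff.mp x.2 y).mp y.2⟩ =
        Φ x * ε y * (Φ x)⁻¹ := by
    intro x y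
    have h1 := hψ (MulAut.congr e (quotAut K (K.normalizerMonoidHom x))) (ε' y)
    have h2 : MulAut.congr e (quotAut K (K.normalizerMonoidHom x)) (ε' y) =
        ε' ⟨(x : G) * y * (x : G)⁻¹, (mem_normalizer_iff.mp x.2 y).mp y.2⟩ := by
      rw [← he, ← he]
      show e (quotAut K (K.normalizerMonoidHom x) (e.symm (e _))) = _
      rw [MulEquiv.symm_apply_apply]
      rfl
    rw [h2] at h1
    exact h1
  have hΦK : ∀ x : ↥K, Φ ⟨x, le_normalizer x.2⟩ = ε x := by
    intro x
    have h1 : ∀ σ ∈ alt S, ((ε x)⁻¹ * Φ ⟨x, le_normalizer x.2⟩) * σ =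
        σ * ((ε x)⁻¹ * Φ ⟨x, le_normalizer x.2⟩) := by
      intro σ hσ
      rw [← hr] at hσ
      obtain ⟨y, rfl⟩ := hσ
      have h2 := hΦ ⟨x, le_normalizer x.2⟩ y
      have h3 : (⟨(x : G) * y * (x : G)⁻¹, (mem_normalizer_iff.mp (le_normalizer x.2) (y : G)).mp
          y.2⟩ : ↥K) = x * y * x⁻¹ := rfl
      change ε (x * y * x⁻¹) = _ at h2
      rw [map_mul, map_mul, map_inv] at h2
      -- ε x * ε y * (ε x)⁻¹ = Φ * ε y * Φ⁻¹
      have h4 := congrArg (fun z => (ε x)⁻¹ * z * Φ ⟨x, le_normalizer x.2⟩) h2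
      calc (ε x)⁻¹ * Φ ⟨x, le_normalizer x.2⟩ * ε y
          = (ε x)⁻¹ * (Φ ⟨x, le_normalizer x.2⟩ * ε y * (Φ ⟨x, le_normalizer x.2⟩)⁻¹) *
            Φ ⟨x, le_normalizer x.2⟩ := by group
        _ = (ε x)⁻¹ * (ε x * ε y * (ε x)⁻¹) * Φ ⟨x, le_normalizer x.2⟩ := h4.symm
        _ = ε y * ((ε x)⁻¹ * Φ ⟨x, le_normalizer x.2⟩) := by group
    have h2 : (ε x)⁻¹ * Φ ⟨x, le_normalizer x.2⟩ = 1 := by
      ext a
      by_cases ha : a ∈ S
      · exact apply_of_comm_alt (S := S) (by omega) h1 ha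
      · have h5 : ε x ∈ alt S := by rw [← hr]; exact ⟨x, rfl⟩
        exact mul_mem (inv_mem (alt_le_sym S h5)) (hΦS _) a ha
    exact (inv_mul_eq_one.mp h2).symm
  let M : Mod K S :=
    { φ := fun x => if h : x ∈ normalizer (K : Set G) then Φ ⟨x, h⟩ else 1
      mul := by
        intro x y hx hy
        rw [dif_pos (mul_mem hx hy), dif_pos hx, dif_pos hy, ← map_mul]
        rfl
      mem_sym := by
        intro x hx
        rw [dif_pos hx]
        exact hΦS _
      mem_alt := by
        intro x hx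
        rw [dif_pos (le_normalizer hx), hΦK ⟨x, hx⟩, ← hr]
        exact ⟨_, rfl⟩
      lift := by
        intro σ hσ
        rw [← hr] at hσ
        obtain ⟨x, rfl⟩ := hσ
        exact ⟨x, x.2, by rw [dif_pos (le_normalizer x.2), hΦK x]⟩
      core_iff := by
        intro x hx
        rw [dif_pos (le_normalizer hx), hΦK ⟨x, hx⟩, mem_core_iff hx, ← hk, MonoidHom.mem_ker]
      five := by omega }
  refine ⟨M, fun x => ?_⟩
  show (if h : (x : G) ∈ normalizer (K : Set G) then Φ ⟨x, h⟩ else 1) = _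
  rw [dif_pos (le_normalizer x.2), hΦK x]

/-- a labelling from an isomorphism -/
theorem Mod.nonempty_of_equiv [Finite G] {K : Subgroup G} {S : Finset α} (h7 : 7 ≤ S.card)
    {Ω : Type*} [Fintype Ω] [DecidableEq Ω] (hΩ : Fintype.card Ω = S.card)
    (e : (↥K ⧸ oddCore ↥K) ≃* alternatingGroup Ω) : Nonempty (Mod K S) := by
  have e1 : Ω ≃ S := Fintype.equivOfCardEq (by rw [hΩ, Fintype.card_coe])
  let e2 : alternatingGroup Ω ≃* alternatingGroup S := Equiv.altCongrHom e1
  let e3 : (↥K ⧸ oddCore ↥K) ≃* ↥(alt S) := (e.trans e2).trans (altEquiv S)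
  obtain ⟨M, -⟩ := Mod.exists_of_hom (K := K) (S := S) h7
    (((alt S).subtype.comp e3.toMonoidHom).comp (QuotientGroup.mk' (oddCore ↥K))) (by
      rw [MonoidHom.range_comp, MonoidHom.range_eq_top.mpr (QuotientGroup.mk'_surjective _),
        ← MonoidHom.range_eq_map, MonoidHom.range_comp,
        MonoidHom.range_eq_top.mpr e3.surjective, ← MonoidHom.range_eq_map, Subgroup.range_subtype])
    (by
      ext x
      rw [MonoidHom.mem_ker, MonoidHom.comp_apply, MonoidHom.comp_apply, Subgroup.coe_subtype]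
      constructor
      · intro h
        have h1 : e3 (QuotientGroup.mk' (oddCore ↥K) x) = 1 := Subtype.ext h
        have h2 := (MulEquiv.map_eq_one_iff e3).mp h1
        exact (QuotientGroup.eq_one_iff x).mp h2
      · intro h
        have h2 : QuotientGroup.mk' (oddCore ↥K) x = 1 := (QuotientGroup.eq_one_iff x).mpr h
        rw [h2]
        show ((e3 1 : ↥(alt S)) : Perm α) = 1
        rw [map_one]; rfl)
  exact ⟨M⟩

namespace Mod

variable {K E : Subgroup G} {S F : Finset α}

/-- compatibility of the labellings of `K` and of a subgroup `E` with labels `alt F`, `F ⊆ S` -/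
theorem compat (M : Mod K S) (M' : Mod E F) (hEK : E ≤ K) (hφ : ∀ x ∈ E, M'.φ x = M.φ x) {x : G}
    (hx : x ∈ normalizer (K : Set G)) (hx' : x ∈ normalizer (E : Set G)) {y : α} (hy : y ∈ F) :
    M'.φ x y = M.φ x y := by
  have h1 : ∀ σ ∈ alt F, ((M'.φ x)⁻¹ * M.φ x) * σ = σ * ((M'.φ x)⁻¹ * M.φ x) := by
    intro σ hσ
    obtain ⟨y, hy, rfl⟩ := M'.lift σ hσ
    have h2 := M'.conj hx' (le_normalizer hy)
    rw [hφ _ ((mem_normalizer_iff.mp hx' y).mp hy), M.conj hx (le_normalizer (hEK hy)), hφ y hy]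
      at h2
    have h4 := congrArg (fun z => (M'.φ x)⁻¹ * z * M.φ x) h2
    rw [hφ y hy]
    calc (M'.φ x)⁻¹ * M.φ x * M.φ y = (M'.φ x)⁻¹ * (M.φ x * M.φ y * (M.φ x)⁻¹) * M.φ x := by group
      _ = (M'.φ x)⁻¹ * (M'.φ x * M.φ y * (M'.φ x)⁻¹) * M.φ x := h4
      _ = M.φ y * ((M'.φ x)⁻¹ * M.φ x) := by group
  have h2 := apply_of_comm_alt (S := F) (by have := M'.five; omega) h1 hy
  rw [Perm.mul_apply, Perm.inv_eq_iff_eq] at h2
  exact h2.symm

/-- the labelling of `cmp t` induced by the labelling of `K` -/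
theorem exists_cmp [Finite G] (M : Mod K S) {t : G} (ht : t ∈ normalizer (K : Set G))
    (htt : t * t = 1) (h7 : 7 ≤ (fixIn S (M.φ t)).card) :
    ∃ M' : Mod (M.cmp t) (fixIn S (M.φ t)), ∀ x ∈ M.cmp t, M'.φ x = M.φ x := by
  have hlift : ∀ {σ : Perm α}, σ ∈ alt (fixIn S (M.φ t)) → ∃ k ∈ M.cmp t, M.φ k = σ :=
    fun hσ => M.cmp_lift ht htt (by omega) hσ
  let ε : ↥(M.cmp t) →* Perm α := M.hom.comp (Subgroup.inclusion ((M.cmp_le t).trans le_normalizer))
  have hε : ∀ x : ↥(M.cmp t), ε x = M.φ x := fun x => rfl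
  obtain ⟨M', hM'⟩ := Mod.exists_of_hom (K := M.cmp t) (S := fixIn S (M.φ t)) h7 ε (by
    ext σ
    constructor
    · rintro ⟨x, rfl⟩
      exact M.cmp_mem_alt x.2
    · intro hσ
      obtain ⟨k, hk, rfl⟩ := hlift hσ
      exact ⟨⟨k, hk⟩, rfl⟩) (by
    -- the kernel is `cmp t ⊓ core K`
    have hE := M.isComp_cmp ht htt (by omega)
    have hodd : Odd (Nat.card ε.ker) := by
      have h1 : ε.ker.map (M.cmp t).subtype ≤ core K := by
        rintro _ ⟨m, hm, rfl⟩
        exact (M.core_iff _ (M.cmp_le t m.2)).mp hm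
      have h2 := Subgroup.card_dvd_of_le h1
      rw [Subgroup.card_map_of_injective (Subgroup.subtype_injective _)] at h2
      exact Odd.of_dvd_nat (odd_card_core K) h2
    apply le_antisymm
    · exact Cores.le_pPrimeCore inferInstance (Nat.coprime_two_right.mpr hodd)
    · -- the image of the core is an odd normal subgroup of `alt (fixIn ..)`
      intro x hx
      rw [MonoidHom.mem_ker]
      have h1 : (oddCore ↥(M.cmp t)).map ε = ⊥ := by
        refine eq_bot_of_no_inv (S := fixIn S (M.φ t)) (by omega) ?_ ?_ ?_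
        · rintro _ ⟨y, -, rfl⟩
          exact M.cmp_mem_alt y.2
        · intro σ hσ
          obtain ⟨k, hk, rfl⟩ := hlift hσ
          have h2 : (oddCore ↥(M.cmp t)).Normal := Cores.pPrimeCore_normal 2
          have h3 : (((oddCore ↥(M.cmp t)).map ε).subgroupOf ε.range).Normal := by
            have h4 := h2.map ε.rangeRestrict ε.rangeRestrict_surjective
            have h5 : ((oddCore ↥(M.cmp t)).map ε).subgroupOf ε.range =
                (oddCore ↥(M.cmp t)).map ε.rangeRestrict := by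
              rw [← MonoidHom.subtype_comp_rangeRestrict ε, ← Subgroup.map_map]
              exact Subgroup.comap_map_eq_self_of_injective ε.range.subtype_injective _
            rw [h5]; exact h4
          have h4 := (normal_subgroupOf_iff_le_normalizer
            (by rintro _ ⟨y, -, rfl⟩; exact ⟨y, rfl⟩)).mp h3
          exact h4 ⟨⟨k, hk⟩, rfl⟩
        · rintro _ ⟨y, hy, rfl⟩ h2
          have h3 : (y : G) ∈ core (M.cmp t) := (mem_core_iff y.2).mpr hy
          have h4 : Odd (Nat.card ((core (M.cmp t)).subgroupOf (M.cmp t) : Subgroup _)) := by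
            rw [Nat.card_congr (subgroupOfEquivOfLe (core_le _)).toEquiv]
            exact odd_card_core _
          have h5 : Odd (orderOf y) := by
            refine Odd.of_dvd_nat h4 (Subgroup.orderOf_dvd_natCard _ ?_)
            exact h3
          have h6 : Odd (orderOf (ε y)) := Odd.of_dvd_nat h5 (orderOf_map_dvd ε y)
          have h7 : orderOf (ε y) ∣ 2 := orderOf_dvd_of_pow_eq_one (by rw [pow_two]; exact h2)
          rcases (Nat.dvd_prime Nat.prime_two).mp h7 with h8 | h8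
          · exact orderOf_eq_one_iff.mp h8
          · rw [h8] at h6
            exact absurd h6 (by decide)
      have h2 : ε x ∈ (oddCore ↥(M.cmp t)).map ε := ⟨x, hx, rfl⟩
      rw [h1] at h2
      exact mem_bot.mp h2)
  exact ⟨M', fun x hx => hM' ⟨x, hx⟩⟩

end Mod

end Cfsg.Agent.UAlt
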