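import Cfsg.Agent.UAlt.CaseDMid

/-!
# Case D, second half ((6.4), (6.5) of #8411)

`Mid`: the output of (6.0)-(6.3).  `Mid.result`: there is a triple `(x, k', L')`, `k' = a k a⁻¹`, `L'` with labels
`Alt(Ω)`, `k` a root of `L'`, such that the 2-component of `C_{L'}(k)` lies in a 2-component `K'` of `C(k)` with
`k'` trivial on `K' / O(K')`.
-/

set_option autoImplicit false
set_option linter.unusedSectionVars false

namespace Cfsg.Agent.UAlt.CaseD

open Cfsg Equiv Equiv.Perm Subgroup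
open Cfsg.Agent.Intrinsic.Basic Cfsg.Agent.Intrinsic
open Cfsg.Agent.Intrinsic.Cen Cfsg.Agent.Intrinsic.Diag
open Cfsg.Agent.SignalizersComponents Cfsg.Agent.Lib
open Cfsg.Agent.SignalizersComponents.IntrinsicBasic
open Cfsg.Agent.UGT.Triple Cfsg.Agent.UGT.LemG Cfsg.Agent.UGT.PumpGen
open scoped commutatorElement

/-! ### general lemmas -/

section gen

variable {G : Type*} [Group G] [Finite G]

/-- 2-elements of `N O(H)` lie in `N`, `N` normal in `H` -/
theorem mem_of_two_normal {H N : Subgroup G} (hNH : N ≤ H) (hN : (N.subgroupOf H).Normal)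
    {w m : G} (hm : m ∈ N) (hw : m⁻¹ * w ∈ core H) {n : ℕ} (hn : w ^ 2 ^ n = 1) : w ∈ N := by
  have hmH := hNH hm
  have hcH := core_le H hw
  have hwH : w ∈ H := by
    have := mul_mem hmH hcH
    rwa [mul_inv_cancel_left] at this
  set π := QuotientGroup.mk' (N.subgroupOf H) with hπ
  have h1 : π ⟨w, hwH⟩ = π ⟨m⁻¹ * w, hcH⟩ := by
    rw [hπ, QuotientGroup.mk'_apply, QuotientGroup.mk'_apply, QuotientGroup.eq]
    change w⁻¹ * (m⁻¹ * w) ∈ N
    have h2 : (⟨w, hwH⟩ : ↥H)⁻¹ * ⟨m, hmH⟩⁻¹ * (⟨w, hwH⟩ : ↥H)⁻¹⁻¹ ∈ N.subgroupOf H :=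
      hN.conj_mem _ (inv_mem (show (⟨m, hmH⟩ : ↥H) ∈ N.subgroupOf H from hm)) _
    have h3 : w⁻¹ * m⁻¹ * w⁻¹⁻¹ ∈ N := h2
    convert h3 using 1
    group
  have h2 : orderOf (π ⟨w, hwH⟩) ∣ 2 ^ n := by
    apply orderOf_dvd_of_pow_eq_one
    rw [← map_pow]
    have : (⟨w, hwH⟩ : ↥H) ^ 2 ^ n = 1 := Subtype.ext hn
    rw [this, map_one]
  have h3 : orderOf (π ⟨w, hwH⟩) ∣ Nat.card (core H) := by
    rw [h1]
    refine (orderOf_map_dvd π _).trans ?_
    rw [Subgroup.orderOf_mk, ← Subgroup.orderOf_mk _ hw]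
    exact orderOf_dvd_natCard _
  have h4 : orderOf (π ⟨w, hwH⟩) = 1 :=
    Nat.eq_one_of_dvd_coprimes ((Nat.coprime_two_left.mpr (odd_card_core H)).pow_left n) h2 h3
  rw [orderOf_eq_one_iff, hπ, QuotientGroup.mk'_apply, QuotientGroup.eq_one_iff] at h4
  exact h4

theorem L2_normal (H : Subgroup G) : ((L2 H).subgroupOf H).Normal := by
  have h1 : (L2 H).subgroupOf H = pLayer 2 ↥H :=
    Subgroup.comap_map_eq_self_of_injective (subtype_injective H) _
  rw [h1]
  have : Fact (Nat.Prime 2) := ⟨Nat.prime_two⟩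
  exact PLayerAut.pLayer_normal 2

/-- L-balance for the whole 2-layer -/
theorem L2_le_L2 {H : Subgroup G} {u : G} (hu : u ∈ H) (hu2 : u * u = 1) :
    L2 (H ⊓ centralizer ({u} : Set G)) ≤ L2 H := by
  rw [L2, map_le_iff_le_comap, pLayer, sSup_le_iff]
  intro J hJ j hj
  have h1 : IsComp (H ⊓ centralizer ({u} : Set G)) (J.map (H ⊓ centralizer ({u} : Set G)).subtype) :=
    isComp_of_subtype hJ
  exact isComp_le_L2 hu hu2 h1 ⟨j, hj, rfl⟩

end gen

section mod

variable {G : Type*} [Group G] [Finite G] {α : Type*} [Fintype α] [DecidableEq α]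

/-- the labelling of `cen K k`, `k` fixing `K` -/
theorem exists_mod_cen {K : Subgroup G} {S : Finset α} (M : Mod K S) {k : G} (hk : k * k = 1)
    (hf : Fixes k K) (h7 : 7 ≤ S.card) :
    ∃ M' : Mod (cen K k) S, ∀ x ∈ cen K k, M'.φ x = M.φ x := by
  have h1 : M.φ k = 1 := (M.fixes_iff hf.1).mpr hf
  have h2 : fixIn S (M.φ k) = S := by
    ext i
    rw [mem_fixIn, h1]
    simp
  have h3 : M.cmp k = cen K k := by
    rw [Mod.cmp, cen]
    congr 1
    ext y
    rw [M.mem_pre, mem_inf, mem_centralizer_singleton_iff, h2]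
    constructor
    · rintro ⟨h4, h5, -⟩
      exact ⟨h4, h5.symm⟩
    · rintro ⟨h4, h5⟩
      exact ⟨h4, h5.symm, M.mem_alt y h4⟩
  have h4 := M.exists_cmp hf.1 hk (by rw [h2]; exact h7)
  rw [h2, h3] at h4
  exact h4

/-- the number of fixed points of `t` from a labelling of `cmp t` -/
theorem card_fixIn {K : Subgroup G} {S R : Finset α} (M : Mod K S) {t : G}
    (ht : t ∈ normalizer (K : Set G)) (htt : t * t = 1) (h5 : 5 ≤ (fixIn S (M.φ t)).card)
    (M' : Mod (M.cmp t) R) : (fixIn S (M.φ t)).card = R.card := by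
  set F := fixIn S (M.φ t) with hF
  -- the homomorphism `cmp t → alt F`
  let f : ↥(M.cmp t) →* ↥(alt F) :=
    { toFun := fun x => ⟨M.φ x, M.cmp_mem_alt x.2⟩
      map_one' := Subtype.ext M.one
      map_mul' := fun x y => Subtype.ext
        (M.mul x y (le_normalizer (M.cmp_le t x.2)) (le_normalizer (M.cmp_le t y.2))) }
  have hf : Function.Surjective f := by
    rintro ⟨σ, hσ⟩
    obtain ⟨k, hk, rfl⟩ := M.cmp_lift ht htt h5 hσ
    exact ⟨⟨k, hk⟩, rfl⟩
  have hodd : Odd (Nat.card f.ker) := by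
    have h1 : f.ker.map (M.cmp t).subtype ≤ core K := by
      rintro _ ⟨m, hm, rfl⟩
      exact (M.core_iff _ (M.cmp_le t m.2)).mp (congrArg Subtype.val (MonoidHom.mem_ker.mp hm))
    have h2 := Subgroup.card_dvd_of_le h1
    rw [Subgroup.card_map_of_injective (Subgroup.subtype_injective _)] at h2
    exact Odd.of_dvd_nat (odd_card_core K) h2
  have hker : f.ker = oddCore ↥(M.cmp t) := by
    apply le_antisymm
    · exact Cores.le_pPrimeCore inferInstance (Nat.coprime_two_right.mpr hodd)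
    · have hsim : IsSimpleGroup (alt F) := isSimpleGroup_alt h5
      have hn : ((oddCore ↥(M.cmp t)).map f).Normal :=
        (Cores.pPrimeCore_normal (G := ↥(M.cmp t)) 2).map f hf
      rcases hn.eq_bot_or_eq_top with h | h
      · rw [Subgroup.map_eq_bot_iff] at h
        exact h
      · exfalso
        have h1 : Nat.card ((oddCore ↥(M.cmp t)).map f) ∣ Nat.card (oddCore ↥(M.cmp t)) :=
          Subgroup.card_map_dvd _ _
        rw [h, Subgroup.card_top] at h1
        have h2 := Odd.of_dvd_nat (Nat.coprime_two_right.mp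
          (Cores.pPrimeCore_coprime (G := ↥(M.cmp t)) 2)) h1
        exact (Nat.not_even_iff_odd.mpr h2) (even_iff_two_dvd.mpr (two_dvd_card_alt (by omega)))
  let e : alt F ≃* alt R := ((QuotientGroup.quotientKerEquivOfSurjective f hf).symm.trans
    (QuotientGroup.quotientMulEquivOfEq (hker.trans M'.ker_homK.symm))).trans
    (QuotientGroup.quotientKerEquivOfSurjective _ M'.homK_surjective)
  exact card_eq_of_equiv (by omega) e

end mod

/-! ### the configuration -/

section main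

variable {G : Type*} [Group G] [Finite G] {α : Type*} [Fintype α] [DecidableEq α]

namespace Mid

variable {Ω S T : Finset α} {a x v w k : G} {Kv Kw : Subgroup G} {MV : Mod Kv (Ω \ S)}
  {MW : Mod Kw (Ω \ T)}

section

variable (h : Mid Ω S T a x v w k Kv Kw MV MW)

include h

theorem aa : a * a = 1 := sq_of_order h.inva
theorem vv : v * v = 1 := sq_of_order h.invv
theorem ww : w * w = 1 := sq_of_order h.invw
theorem kk : k * k = 1 := sq_of_order h.invk

theorem cardDS : (Ω \ S).card = Ω.card - 4 := by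
  rw [Finset.card_sdiff_of_subset h.subS, h.cardS]

theorem cardDT : (Ω \ T).card = Ω.card - 4 := by
  rw [Finset.card_sdiff_of_subset h.subT, h.cardT]

theorem fix_a {y : G} (hy : a * y = y * a) : a * y * a⁻¹ = y := by rw [hy, mul_inv_cancel_right]

/-- `k' = a k a⁻¹` commutes with `k` -/
theorem kk' : (a * k * a⁻¹) * k = k * (a * k * a⁻¹) := by
  have h1 : a * k * a⁻¹ = k⁻¹ * v := by rw [← h.prod]; group
  rw [h1]
  calc k⁻¹ * v * k = k⁻¹ * (v * k) := by group
    _ = k⁻¹ * (k * v) := by rw [h.kv]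
    _ = k * (k⁻¹ * v) := by group

theorem k'k' : (a * k * a⁻¹) * (a * k * a⁻¹) = 1 := by
  calc (a * k * a⁻¹) * (a * k * a⁻¹) = a * (k * k) * a⁻¹ := by group
    _ = 1 := by rw [h.kk]; group

theorem k'w : (a * k * a⁻¹) * w = w * (a * k * a⁻¹) := by
  have h1 : a⁻¹ * w = w * a⁻¹ := by
    rw [inv_mul_eq_iff_eq_mul, ← mul_assoc, h.aw, mul_inv_cancel_right]
  calc (a * k * a⁻¹) * w = a * k * (a⁻¹ * w) := by group
    _ = a * (k * w) * a⁻¹ := by rw [h1]; group
    _ = (a * w) * k * a⁻¹ := by rw [h.kw]; group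
    _ = _ := by rw [h.aw]; group

theorem compV' : IsComp (centralizer ({v} : Set G)) (cj a Kv) := isComp_cj_of_mem h.compV (mem_c h.av)

theorem compW' : IsComp (centralizer ({w} : Set G)) (cj a Kw) := isComp_cj_of_mem h.compW (mem_c h.aw)

theorem fixkW' : Fixes k (cj a Kw) := h.compW'.fixes_of_mem h.compW h.neW h.kmem

/-- the 2-component `C_{K_v^a}(k)^∞` of `C(v) ∩ C(k)` -/
theorem compFv : IsComp (centralizer ({v} : Set G) ⊓ centralizer ({k} : Set G)) (cen (cj a Kv) k) :=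
  (isComp_cen h.compV' (mem_c h.kv) h.kk h.fixk').1

theorem compGv : IsComp (centralizer ({v} : Set G) ⊓ centralizer ({k} : Set G)) (cen Kv k) :=
  (isComp_cen h.compV (mem_c h.kv) h.kk h.fixk).1

theorem compFw : IsComp (centralizer ({k} : Set G) ⊓ centralizer ({w} : Set G)) (cen (cj a Kw) k) := by
  have h1 := (isComp_cen h.compW' (mem_c h.kw) h.kk h.fixkW').1
  rwa [inf_comm] at h1

theorem k'_mem_Fw : a * k * a⁻¹ ∈ cen (cj a Kw) k :=
  mem_cen_of_sq (conj_mem_cj h.kmem) h.kk' h.k'k'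

/-- `k' ∈ L_{2'}(C(k))` -/
theorem k'_mem_L2 : a * k * a⁻¹ ∈ L2 (centralizer ({k} : Set G)) :=
  isComp_le_L2 (mem_c h.kw.symm) h.ww h.compFw h.k'_mem_Fw

/-- `v` normalizes all 2-components of `C(k)` -/
theorem v_norm {F : Subgroup G} (hF : IsComp (centralizer ({k} : Set G)) F) :
    v ∈ normalizer (F : Set G) := by
  rw [← h.prod]
  refine mul_mem ?_ (hF.L2_le_normalizer h.k'_mem_L2)
  apply centralizer_le_normalizer
  rw [mem_centralizer_iff]
  intro y hy
  exact (comm_c (hF.le hy))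

/-- `w ∈ L_{2'}(C(k))` -/
theorem w_mem_L2 : w ∈ L2 (centralizer ({k} : Set G)) := by
  have hle : L2 (centralizer ({v} : Set G) ⊓ centralizer ({k} : Set G)) ≤
      L2 (centralizer ({k} : Set G)) := by
    have h1 := L2_le_L2 (H := centralizer ({k} : Set G)) (u := v) (mem_c h.kv.symm) h.vv
    rwa [inf_comm] at h1
  apply hle
  obtain ⟨-, h6, -⟩ := exists_diag h.compV (mem_c h.av) h.aa h.neV
  obtain ⟨y, hy, hyw⟩ := h6 w h.wdiag
  have hy' : a * y * a⁻¹ ∈ cj a Kv := conj_mem_cj hy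
  obtain ⟨j, hj, hjy⟩ := exists_mul_of_sup (isComp_cen h.compV (mem_c h.kv) h.kk h.fixk).2 hy
  obtain ⟨j', hj', hjy'⟩ := exists_mul_of_sup (isComp_cen h.compV' (mem_c h.kv) h.kk h.fixk').2 hy'
  have hjC : j ∈ centralizer ({v} : Set G) := (h.compGv.le hj).1
  have hjC' : j' ∈ centralizer ({v} : Set G) := (h.compFv.le hj').1
  -- `(j j')⁻¹ w ∈ O(C(v))`
  have hc : (j * j')⁻¹ * w ∈ core (centralizer ({v} : Set G)) := by
    have e1 : j⁻¹ * y ∈ core (centralizer ({v} : Set G)) := h.compV.core_le_core hjy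
    have e2 : j'⁻¹ * (a * y * a⁻¹) ∈ core (centralizer ({v} : Set G)) := h.compV'.core_le_core hjy'
    have e4 : j'⁻¹ * (j⁻¹ * y) * j' ∈ core (centralizer ({v} : Set G)) := by
      have := conj_core (inv_mem hjC') e1
      rwa [inv_inv] at this
    have e5 : (j * j')⁻¹ * w = (j'⁻¹ * (j⁻¹ * y) * j') * (j'⁻¹ * (a * y * a⁻¹)) *
        (w⁻¹ * (y * (a * y * a⁻¹)))⁻¹ := by group
    rw [e5]
    exact mul_mem (mul_mem e4 e2) (inv_mem hyw)
  have hj2 : j ∈ L2 (centralizer ({v} : Set G) ⊓ centralizer ({k} : Set G)) := h.compGv.le_L2 hj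
  have hj2' : j' ∈ L2 (centralizer ({v} : Set G) ⊓ centralizer ({k} : Set G)) := h.compFv.le_L2 hj'
  have hck : (j * j')⁻¹ * w ∈ centralizer ({k} : Set G) :=
    mul_mem (inv_mem (mul_mem (h.compGv.le hj).2 (h.compFv.le hj').2)) (mem_c h.kw.symm)
  have hc' : (j * j')⁻¹ * w ∈ core (centralizer ({v} : Set G) ⊓ centralizer ({k} : Set G)) := by
    have := inf_le_core hc hck
    rwa [inf_comm] at this
  exact mem_of_two_normal (L2_le _) (L2_normal _) (mul_mem hj2 hj2') hc' (n := 1)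
    (by rw [pow_one, pow_two, h.ww])

/-- `w` normalizes all 2-components of `C(k)` -/
theorem w_norm {F : Subgroup G} (hF : IsComp (centralizer ({k} : Set G)) F) :
    w ∈ normalizer (F : Set G) := hF.L2_le_normalizer h.w_mem_L2

theorem triple' : IsTriple x v (cj a Kv) := by
  have := h.triple.cj a
  rwa [h.fix_a h.ax, h.fix_a h.av] at this

/-- the pump-up `F` of `F_v` in `C(k)`: a triple containing `F_v` and `F_w` -/
theorem exists_F : ∃ F, IsTriple x k F ∧ cen (cj a Kv) k ≤ F ∧ cen (cj a Kw) k ≤ F := by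
  obtain ⟨F, hF, hor⟩ := h.triple'.pump h.invk h.kv h.kx h.fixk'
  have hvF : cen (cj a Kv) k ≤ F := by
    rcases hor with ⟨-, h1⟩ | ⟨h1, -⟩
    · exact h1
    · exact absurd (mem_normalizer_iff_cj.mp (h.v_norm hF.comp)) h1
  obtain ⟨F', hF', -, hor'⟩ := McLLyComp.PumpT.exists_pump (mem_c h.kw.symm) h.ww h.compFw
  have hwF : cen (cj a Kw) k ≤ F' := by
    rcases hor' with ⟨-, h1⟩ | ⟨h1, -⟩
    · exact h1
    · exact absurd (mem_normalizer_iff_cj.mp (h.w_norm hF')) h1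
  suffices hFF : F' = F by
    subst hFF
    exact ⟨F', hF, hvF, hwF⟩
  rcases h.link with ⟨E, hE, hEv, hEw⟩ | ⟨g, hg, hgv, hgN, hgf⟩
  · -- both contain the 2-component below `E^a`
    have haH : a ∈ centralizer ({v} : Set G) ⊓ centralizer ({w} : Set G) := ⟨mem_c h.av, mem_c h.aw⟩
    have hkH : k ∈ centralizer ({v} : Set G) ⊓ centralizer ({w} : Set G) := ⟨mem_c h.kv, mem_c h.kw⟩
    have hE' : IsComp (centralizer ({v} : Set G) ⊓ centralizer ({w} : Set G)) (cj a E) :=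
      isComp_cj_of_mem hE haH
    have hEv' : cj a E ≤ cj a Kv := cj_mono hEv
    have hEw' : cj a E ≤ cj a Kw := cj_mono hEw
    have hfE : Fixes k (cj a E) := by
      refine fixes_of_comm_core hE' hkH fun m hm => ?_
      have h1 : ⁅k, m⁆ ∈ core (centralizer ({v} : Set G)) :=
        h.compV'.core_le_core (h.fixk'.2 m (hEv' hm))
      have h2 : ⁅k, m⁆ ∈ centralizer ({w} : Set G) := by
        rw [commutatorElement_def]
        have hm' := (hE'.le hm).2
        exact mul_mem (mul_mem (mul_mem hkH.2 hm') (inv_mem hkH.2)) (inv_mem hm')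
      have := inf_le_core h1 h2
      rwa [inf_comm] at this
    have hJ := (isComp_cen hE' hkH h.kk hfE).1
    have hJv : cen (cj a E) k ≤ cen (cj a Kv) k := PComponents.pElem_mono (inf_le_inf_right _ hEv')
    have hJw : cen (cj a E) k ≤ cen (cj a Kw) k := PComponents.pElem_mono (inf_le_inf_right _ hEw')
    exact (hJ.unique hF.comp hF' (hJv.trans hvF) (hJw.trans hwF)).symm
  · -- `g` acts nontrivially on `F_v`
    by_contra hne
    apply hgf
    have hfg : Fixes g F := hF.comp.fixes_of_mem hF' (fun e => hne e.symm) (hwF hg)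
    have hgk : g ∈ centralizer ({k} : Set G) := (h.compFw.le hg).1
    have hgX : g ∈ centralizer ({v} : Set G) ⊓ centralizer ({k} : Set G) := ⟨mem_c hgv, hgk⟩
    have h1 : Fixes g (cen (cj a Kv) k) := by
      refine fixes_of_comm_core h.compFv hgX fun m hm => ?_
      have e1 : ⁅g, m⁆ ∈ core (centralizer ({k} : Set G)) :=
        hF.comp.core_le_core (hfg.2 m (hvF hm))
      have hm' := (h.compFv.le hm).1
      have e2 : ⁅g, m⁆ ∈ centralizer ({v} : Set G) := by
        rw [commutatorElement_def]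
        exact mul_mem (mul_mem (mul_mem hgX.1 hm') (inv_mem hgX.1)) (inv_mem hm')
      exact inf_le_core e1 e2
    -- `F_v` covers `K_v^a`
    have hcard := h.card
    have hS := h.cardDS
    obtain ⟨M1, hM1⟩ := exists_mod_cen (MV.cj a) h.kk h.fixk' (by omega)
    rw [← (MV.cj a).fixes_iff hgN]
    ext y
    by_cases hy : y ∈ Ω \ S
    · refine apply_of_comm_alt (S := Ω \ S) (by omega) (fun σ hσ => ?_) hy
      obtain ⟨m, hm, rfl⟩ := M1.lift σ hσ
      have hmK : m ∈ cj a Kv := cen_le _ _ hm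
      have hc := h1.2 m hm
      have e3 := (M1.core_iff _ (core_le _ hc)).mpr hc
      rw [hM1 _ (core_le _ hc)] at e3
      rw [hM1 _ hm]
      rw [commutatorElement_def, (MV.cj a).mul _ _ (mul_mem (mul_mem hgN (le_normalizer hmK))
        (inv_mem hgN)) (inv_mem (le_normalizer hmK)), (MV.cj a).conj hgN (le_normalizer hmK),
        (MV.cj a).inv (le_normalizer hmK), mul_inv_eq_one, mul_inv_eq_iff_eq_mul] at e3
      exact e3
    · exact (MV.cj a).mem_sym g hgN y hy

theorem fixkF {F : Subgroup G} (hF : IsComp (centralizer ({k} : Set G)) F) : Fixes k F := by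
  have h1 : k ∈ centralizer (F : Set G) := by
    rw [mem_centralizer_iff]
    intro y hy
    exact comm_c (hF.le hy)
  refine ⟨centralizer_le_normalizer _ h1, fun y hy => ?_⟩
  have h2 : ⁅k, y⁆ = 1 := commutatorElement_eq_one_iff_mul_comm.mpr (comm_c (hF.le hy)).symm
  rw [h2]
  exact one_mem _

/-- labels of the pump-up `F` -/
theorem exists_labels (hW : Types Ω x) {F : Subgroup G} (hF : IsTriple x k F)
    (hvF : cen (cj a Kv) k ≤ F) (hwF : cen (cj a Kw) k ≤ F) :
    ∃ (MF : Mod F Ω) (R : Finset α), R ⊆ Ω ∧ R.card = 4 ∧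
      (∀ i ∈ Ω, (MF.φ (a * k * a⁻¹) i = i ↔ i ∉ R)) ∧ MF.φ v = MF.φ (a * k * a⁻¹) ∧
      cen (cj a Kv) k = MF.cmp v := by
  have hcard := h.card
  have hS := h.cardDS
  have hT := h.cardDT
  have hFv : IsComp (F ⊓ centralizer ({v} : Set G)) (cen (cj a Kv) k) := by
    refine h.compFv.restrict (le_inf inf_le_right (inf_le_left.trans hF.comp.le)) ?_
    exact le_inf hvF (h.compFv.le.trans inf_le_left)
  have hFw : IsComp (F ⊓ centralizer ({w} : Set G)) (cen (cj a Kw) k) := by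
    refine h.compFw.restrict (le_inf (inf_le_left.trans hF.comp.le) inf_le_right) ?_
    exact le_inf hwF (h.compFw.le.trans inf_le_right)
  obtain ⟨M1, -⟩ := exists_mod_cen (MV.cj a) h.kk h.fixk' (by omega)
  obtain ⟨M2, hM2⟩ := exists_mod_cen (MW.cj a) h.kk h.fixkW' (by omega)
  obtain ⟨S', hS', ⟨MF⟩⟩ := hW k v F _ _ hF h.vv (h.v_norm hF.comp) hFv ⟨M1⟩ (by omega)
  obtain ⟨e1, e2⟩ := (MF.isComp_iff_cmp (h.v_norm hF.comp) h.vv).mp hFv
  obtain ⟨e3, e4⟩ := (MF.isComp_iff_cmp (h.w_norm hF.comp) h.ww).mp hFw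
  have cv : (fixIn S' (MF.φ v)).card = (Ω \ S).card :=
    card_fixIn MF (h.v_norm hF.comp) h.vv e2 (e1 ▸ M1)
  have cw : (fixIn S' (MF.φ w)).card = (Ω \ T).card :=
    card_fixIn MF (h.w_norm hF.comp) h.ww e4 (e3 ▸ M2)
  obtain ⟨M3, hM3⟩ := MF.exists_cmp (h.w_norm hF.comp) h.ww (by omega)
  have hk'F : a * k * a⁻¹ ∈ F := hwF h.k'_mem_Fw
  have hk'w : a * k * a⁻¹ ∈ MF.cmp w := e3 ▸ h.k'_mem_Fw
  -- the label of `k'`
  obtain ⟨τ, hτ, hτ'⟩ : ∃ τ : Perm α, (Ω \ T).map τ.toEmbedding = fixIn S' (MF.φ w) ∧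
      MF.φ (a * k * a⁻¹) = τ * MW.φ k * τ⁻¹ := by
    have key : ∀ (E : Subgroup G) (M2 : Mod E (Ω \ T)) (_ : E = MF.cmp w)
        (_ : M2.φ (a * k * a⁻¹) = MW.φ k), ∃ τ : Perm α,
        (Ω \ T).map τ.toEmbedding = fixIn S' (MF.φ w) ∧
        MF.φ (a * k * a⁻¹) = τ * MW.φ k * τ⁻¹ := by
      rintro _ M2 rfl hM
      obtain ⟨τ, hτ, hτ'⟩ := M2.exists_bij M3 (by omega)
      refine ⟨τ, hτ, ?_⟩
      rw [← hM, ← hτ' _ (le_normalizer hk'w), hM3 _ hk'w]
    refine key _ M2 e3 ?_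
    rw [hM2 _ h.k'_mem_Fw, Mod.cj_φ]
    congr 1
    group
  have hSub : S ⊆ Ω \ T := fun i hi => Finset.mem_sdiff.mpr
    ⟨h.subS hi, fun hi' => Finset.disjoint_left.mp h.disj hi hi'⟩
  obtain ⟨R, hR⟩ : ∃ R, R = S.map τ.toEmbedding := ⟨_, rfl⟩
  have hRsub : R ⊆ fixIn S' (MF.φ w) := by
    rw [hR, ← hτ]
    exact Finset.map_subset_map.mpr hSub
  have hRcard : R.card = 4 := by rw [hR, Finset.card_map, h.cardS]
  have hlab : ∀ i ∈ S', (MF.φ (a * k * a⁻¹) i = i ↔ i ∉ R) := by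
    intro i hi
    by_cases hiw : i ∈ fixIn S' (MF.φ w)
    · rw [← hτ] at hiw
      obtain ⟨j, hj, rfl⟩ := Finset.mem_map.mp hiw
      have h0 : (τ * MW.φ k * τ⁻¹) (τ j) = τ (MW.φ k j) := by
        simp [Perm.mul_apply]
      rw [hτ', Equiv.coe_toEmbedding, h0, τ.injective.eq_iff, h.klab j hj, hR]
      constructor
      · intro h1 h2
        obtain ⟨j', hj', h3⟩ := Finset.mem_map.mp h2
        exact h1 (τ.injective h3 ▸ hj')
      · intro h1 h2
        exact h1 (Finset.mem_map.mpr ⟨j, h2, rfl⟩)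
    · have h1 := (MF.cmp_mem_alt hk'w).2 i hiw
      exact ⟨fun _ h2 => hiw (hRsub h2), fun _ => h1⟩
  have hkF := h.fixkF hF.comp
  have hφv : MF.φ v = MF.φ (a * k * a⁻¹) := by
    rw [← h.prod, MF.mul _ _ hkF.1 (le_normalizer hk'F), (MF.fixes_iff hkF.1).mpr hkF, one_mul]
  have hRS' : R ⊆ S' := hRsub.trans (fixIn_subset _ _)
  have hfix : fixIn S' (MF.φ v) = S' \ R := by
    ext i
    rw [mem_fixIn, Finset.mem_sdiff, hφv]
    exact and_congr_right fun hi => hlab i hi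
  have hc : S'.card = Ω.card := by
    have h1 : (S' \ R).card = S'.card - 4 := by rw [Finset.card_sdiff_of_subset hRS', hRcard]
    have h2 : R.card ≤ S'.card := Finset.card_le_card hRS'
    rw [hfix, h1, hS] at cv
    omega
  have := Finset.eq_of_subset_of_card_le hS' hc.ge
  subst this
  exact ⟨MF, R, hRS', hRcard, hlab, hφv, e1⟩

end

end Mid

/-- The output of (6.5): `(x, c, L)` is a triple with labels `Alt(Ω)`, `r` a root of `L` such that the 2-component
`C_L(r)^∞` lies in a 2-component `K` of `C(r)` with `c` trivial on `K / O(K)` (case N with `ξ = 0`). -/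
structure Out (Ω : Finset α) (x c r : G) (L : Subgroup G) (M : Mod L Ω) (R : Finset α)
    (K : Subgroup G) : Prop where
  triple : IsTriple x c L
  mem : r ∈ L
  inv : orderOf r = 2
  rx : r * x = x * r
  rc : r * c = c * r
  sub : R ⊆ Ω
  card : R.card = 4
  lab : ∀ i ∈ Ω, (M.φ r i = i ↔ i ∉ R)
  comp : IsComp (centralizer ({r} : Set G)) K
  le : M.cmp r ≤ K
  fix : Fixes c K

variable {Ω S T : Finset α} {a x v w k : G} {Kv Kw : Subgroup G} {MV : Mod Kv (Ω \ S)}
  {MW : Mod Kw (Ω \ T)}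

/-- **(6.4), (6.5)** -/
theorem Mid.result (h : Mid Ω S T a x v w k Kv Kw MV MW) (hW : Types Ω x) :
    ∃ (L : Subgroup G) (M : Mod L Ω) (R : Finset α) (K : Subgroup G),
      Out Ω x (a * k * a⁻¹) k L M R K := by
  obtain ⟨F, hF, hvF, hwF⟩ := h.exists_F
  obtain ⟨MF, R, hR, hR4, hlab, hφv, hcmp⟩ := h.exists_labels hW hF hvF hwF
  have hk'F : a * k * a⁻¹ ∈ F := hwF h.k'_mem_Fw
  have hai : a⁻¹ = a := inv_eq_of_mul_eq_one_left h.aa
  -- the pump-up of `G_v`
  have hG := h.compGv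
  rw [inf_comm] at hG
  obtain ⟨F₂, hF₂, -, hor⟩ := McLLyComp.PumpT.exists_pump (mem_c h.kv.symm) h.vv hG
  have hGF : cen Kv k ≤ F₂ := by
    rcases hor with ⟨-, h1⟩ | ⟨h1, -⟩
    · exact h1
    · exact absurd (mem_normalizer_iff_cj.mp (h.v_norm hF₂)) h1
  have hne : F₂ ≠ F := by
    rintro rfl
    have h1 : IsComp (F₂ ⊓ centralizer ({v} : Set G)) (cen Kv k) := by
      refine h.compGv.restrict (le_inf inf_le_right (inf_le_left.trans hF₂.le)) ?_
      exact le_inf hGF (h.compGv.le.trans inf_le_left)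
    obtain ⟨e1, -⟩ := (MF.isComp_iff_cmp (h.v_norm hF₂) h.vv).mp h1
    rw [← hcmp] at e1
    have h2 : cen Kv k ≤ cj a Kv := by rw [e1]; exact cen_le _ _
    exact h.neV (h.compGv.unique h.compV' h.compV h2 (cen_le _ _))
  have hfix : Fixes (a * k * a⁻¹) F₂ := hF₂.fixes_of_mem hF.comp hne hk'F
  -- conjugate by `a`
  have hTa : IsTriple x (a * k * a⁻¹) (cj a F) := by
    have := hF.cj a
    rwa [h.fix_a h.ax] at this
  have hconj : a * (a * k * a⁻¹) * a⁻¹ = k := by
    calc a * (a * k * a⁻¹) * a⁻¹ = (a * a) * k * (a * a)⁻¹ := by group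
      _ = k := by rw [h.aa]; group
  have hcmp' : (MF.cj a).cmp k ≤ F₂ := by
    refine le_trans ?_ hGF
    refine (Subgroup.closure_le _).mpr ?_
    rintro y ⟨hy, n, hn⟩
    obtain ⟨h1, h2, h3⟩ := (Mod.mem_pre _).mp hy
    rw [Mod.cj_φ, Mod.cj_φ, show a⁻¹ * k * a = a * k * a⁻¹ by rw [hai], ← hφv] at h3
    have hz : a⁻¹ * y * a ∈ F := mem_cj.mp h1
    have hzk : (a⁻¹ * y * a) * k = k * (a⁻¹ * y * a) := comm_c (hF.comp.le hz)
    have hzk' : (a * k * a⁻¹) * (a⁻¹ * y * a) = (a⁻¹ * y * a) * (a * k * a⁻¹) := by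
      rw [hai]
      calc (a * k * a) * (a * y * a) = a * k * (a * a) * y * a := by group
        _ = a * (k * y) * a := by rw [h.aa]; group
        _ = a * (y * k) * a := by rw [h2]
        _ = a * y * (a * a) * k * a := by rw [h.aa]; group
        _ = (a * y * a) * (a * k * a) := by group
    have hzv : v * (a⁻¹ * y * a) = (a⁻¹ * y * a) * v := by
      rw [← h.prod, mul_assoc, hzk', ← mul_assoc, ← hzk, mul_assoc]
    have hzn : (a⁻¹ * y * a) ^ 2 ^ n = 1 := by
      have e1 : a⁻¹ * y * a = a⁻¹ * y * a⁻¹⁻¹ := by rw [inv_inv]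
      rw [e1, conj_pow, hn]
      group
    have h4 : a⁻¹ * y * a ∈ cen (cj a Kv) k := hcmp ▸ MF.mem_cmp hz hzv h3 hzn
    have h5 : y ∈ Kv := by
      have h6 := cen_le _ _ h4
      rw [mem_cj] at h6
      have h7 : a⁻¹ * (a⁻¹ * y * a) * a = y := by
        rw [hai]
        calc a * (a * y * a) * a = (a * a) * y * (a * a) := by group
          _ = y := by rw [h.aa]; group
      rwa [h7] at h6
    exact mem_cen h5 h2.symm hn
  exact ⟨cj a F, MF.cj a, R, F₂, hTa, by
    have := conj_mem_cj (g := a) hk'F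
    rwa [hconj] at this, h.invk, h.kx, h.kk'.symm, hR, hR4, by
    intro i hi
    rw [Mod.cj_φ, show a⁻¹ * k * a = a * k * a⁻¹ by rw [hai]]
    exact hlab i hi, hF₂, hcmp', hfix⟩

end main

end Cfsg.Agent.UAlt.CaseD
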