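import Cfsg.Agent.UAlt.Frame

/-!
# Odd subgroups acting on an alternating 2-component
-/

set_option autoImplicit false
set_option linter.unusedSectionVars false

open Cfsg Equiv Equiv.Perm Subgroup
open Cfsg.Agent.Intrinsic.Basic Cfsg.Agent.Intrinsic.Diag
open Cfsg.Agent.SignalizersComponents Cfsg.Agent.Lib
open Cfsg.Agent.SignalizersComponents.IntrinsicBasic
open Cfsg.Agent.UGT.Triple
open Cfsg.Agent.StdAlt.Roots (IsRoot)
open scoped commutatorElement

namespace Cfsg.Agent.UAlt.Mod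

variable {G : Type*} [Group G] [Finite G] {α : Type*} [Fintype α] [DecidableEq α]
variable {K : Subgroup G} {S : Finset α} (M : Mod K S)

/-- the image of a subgroup -/
def img (D : Subgroup G) : Subgroup (Perm α) := (D.subgroupOf (normalizer (K : Set G))).map M.hom

omit [Finite G] in
theorem mem_img {D : Subgroup G} (hD : D ≤ normalizer (K : Set G)) {σ : Perm α} :
    σ ∈ M.img D ↔ ∃ d ∈ D, M.φ d = σ := by
  constructor
  · rintro ⟨d, hd, rfl⟩
    exact ⟨d, hd, rfl⟩
  · rintro ⟨d, hd, rfl⟩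
    exact ⟨⟨d, hD hd⟩, hd, rfl⟩

theorem odd_img {D : Subgroup G} (hD : D ≤ normalizer (K : Set G)) (ho : Odd (Nat.card D)) :
    Odd (Nat.card (M.img D)) := by
  refine Odd.of_dvd_nat ho ?_
  refine (Subgroup.card_map_dvd _ _).trans ?_
  rw [Nat.card_congr (subgroupOfEquivOfLe hD).toEquiv]

omit [Finite G] in
theorem even_of_odd {D : Subgroup (Perm α)} (ho : Odd (Nat.card D)) {σ : Perm α} (hσ : σ ∈ D) :
    σ ∈ alternatingGroup α := by
  rw [mem_alternatingGroup]
  have h1 : Odd (orderOf σ) := Odd.of_dvd_nat ho (Subgroup.orderOf_dvd_natCard _ hσ)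
  have h2 : (Perm.sign σ) ^ orderOf σ = 1 := by
    rw [← map_pow, pow_orderOf_eq_one, map_one]
  rcases Int.units_eq_one_or (Perm.sign σ) with h | h
  · exact h
  · rw [h, Odd.neg_one_pow h1] at h2
    exact absurd h2 (by decide)

/-- an odd subgroup of `N(K) ∩ C(t)` normalized by `C_K(t)` acts on `K` like a subgroup of the core of
`C_{alt S}(t)` -/
theorem phi_mem_core {t : G} (ht : t ∈ normalizer (K : Set G)) (htt : t * t = 1) {D : Subgroup G}
    (ho : Odd (Nat.card D)) (hDN : D ≤ normalizer (K : Set G)) (hDt : ∀ d ∈ D, d * t = t * d)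
    (hn : ∀ k ∈ K, k * t = t * k → ∀ d ∈ D, k * d * k⁻¹ ∈ D) :
    ∀ d ∈ D, M.φ d ∈ core (alt S ⊓ centralizer ({M.φ t} : Set (Perm α))) := by
  have hodd := M.odd_img hDN ho
  have hle : M.img D ≤ alt S ⊓ centralizer ({M.φ t} : Set (Perm α)) := by
    intro σ hσ
    have h1 := even_of_odd hodd hσ
    obtain ⟨d, hd, rfl⟩ := (M.mem_img hDN).mp hσ
    exact ⟨⟨h1, M.mem_sym d (hDN hd)⟩, mem_centralizer_singleton_iff.mpr
      (M.comm (hDN hd) ht (hDt d hd))⟩
  have htn : t ^ 2 ^ 1 = 1 := by rw [pow_one, pow_two]; exact htt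
  have key : ∀ σ ∈ alt S ⊓ centralizer ({M.φ t} : Set (Perm α)), ∀ τ ∈ M.img D,
      σ * τ * σ⁻¹ ∈ M.img D := by
    intro σ hσ τ hτ
    obtain ⟨d, hd, rfl⟩ := (M.mem_img hDN).mp hτ
    obtain ⟨k, hk, htk, rfl⟩ := M.exists_comm_lift ht htn hσ.1
      (mem_centralizer_singleton_iff.mp hσ.2).symm
    rw [← M.conj (le_normalizer hk) (hDN hd)]
    exact (M.mem_img hDN).mpr ⟨_, hn k hk htk.symm d hd, rfl⟩
  have h2 : M.img D ≤ core (alt S ⊓ centralizer ({M.φ t} : Set (Perm α))) := by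
    refine le_core hle ?_ hodd
    intro σ hσ
    rw [mem_normalizer_iff]
    intro τ
    refine ⟨key σ hσ τ, fun h => ?_⟩
    have := key σ⁻¹ (inv_mem hσ) _ h
    convert this using 1
    group
  intro d hd
  exact h2 ((M.mem_img hDN).mpr ⟨d, hd, rfl⟩)

/-- the same if `t` does not have exactly three fixed points: `D` is trivial on `K / O(K)` -/
theorem fixes_of_odd {t : G} (ht : t ∈ normalizer (K : Set G)) (htt : t * t = 1)
    (h3 : (fixIn S (M.φ t)).card ≠ 3) {D : Subgroup G}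
    (ho : Odd (Nat.card D)) (hDN : D ≤ normalizer (K : Set G)) (hDt : ∀ d ∈ D, d * t = t * d)
    (hn : ∀ k ∈ K, k * t = t * k → ∀ d ∈ D, k * d * k⁻¹ ∈ D) {d : G} (hd : d ∈ D) : Fixes d K := by
  rw [← M.fixes_iff (hDN hd)]
  have h1 := M.phi_mem_core ht htt ho hDN hDt hn d hd
  rw [core_cent (M.mem_sym t ht) (M.sq ht htt) h3] at h1
  exact mem_bot.mp h1

end Cfsg.Agent.UAlt.Mod

namespace Cfsg.Agent.UAlt

variable {G : Type*} [Group G] [Finite G] {α : Type*} [Fintype α] [DecidableEq α]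

/-- a triple with alternating 2-component: `x` has exactly three fixed points -/
theorem Mod.card_of_triple {x a : G} {L : Subgroup G} {S : Finset α} (M : Mod L S)
    (T : IsTriple x a L) : (fixIn S (M.φ x)).card = 3 := by
  by_contra h3
  obtain ⟨d, hd, hda, hf⟩ := T.bad
  apply hf
  obtain ⟨D, hD⟩ : ∃ D, D = core (centralizer ({x} : Set G)) ⊓ centralizer ({a} : Set G) := ⟨_, rfl⟩
  have ho : Odd (Nat.card D) := Odd.of_dvd_nat (odd_card_core (centralizer ({x} : Set G)))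
    (by rw [hD]; exact card_dvd_of_le inf_le_left)
  refine M.fixes_of_odd T.x_mem (sq_of_order T.invx) h3 ho ?_ ?_ ?_ (hD ▸ ⟨hd, hda⟩)
  · rw [hD]
    exact fun e he => T.mem_normalizer_of_core he.1 he.2
  · rw [hD]
    exact fun e he => comm_c ((core_le _) he.1)
  · rw [hD]
    intro k hk hkx e he
    have hka : k ∈ centralizer ({a} : Set G) := T.comp.le hk
    exact ⟨conj_core (mem_c hkx) he.1, Subgroup.mul_mem _ (Subgroup.mul_mem _ hka he.2)
      (Subgroup.inv_mem _ hka)⟩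

end Cfsg.Agent.UAlt
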