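import Cfsg.Agent.UAlt.Rig
import Cfsg.Agent.UAlt.CoreAct
import Cfsg.Agent.UAlt.FourConj
import Cfsg.Agent.UAlt.RootRF
import Cfsg.Agent.UAlt.CaseDTwo

/-!
# Case N or case D

`caseN_or_caseD`: the pump-ups in `C(v)` of the 2-components `C_L(v)^∞`, `v` a root of `L`.
-/

set_option autoImplicit false
set_option linter.unusedSectionVars false

namespace Cfsg.Agent.UAlt

open Cfsg Equiv Equiv.Perm Subgroup
open Cfsg.Agent.Intrinsic.Basic Cfsg.Agent.Intrinsic Cfsg.Agent.Intrinsic.Cen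
open Cfsg.Agent.Intrinsic.Diag
open Cfsg.Agent.SignalizersComponents Cfsg.Agent.Lib
open Cfsg.Agent.SignalizersComponents.IntrinsicBasic
open Cfsg.Agent.StdAlt (V4 four4 mem_four4)
open Cfsg.Agent.StdAlt.Roots (IsRoot)
open Cfsg.Agent.UGT.Triple Cfsg.Agent.McLLyComp.Act
open scoped commutatorElement

variable {G : Type*} [Group G] [Finite G] {α : Type*} [Fintype α] [DecidableEq α]
  {L : Subgroup G} {Ω : Finset α} {x a : G}

/-! ### the triple -/

/-- `L` centralises `a` -/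
theorem comm_of_triple (T : IsTriple x a L) {l : G} (hl : l ∈ L) : l * a = a * l :=
  comm_c (T.comp.le hl)

/-- `O(C(x)) ∩ C(a)` acts inside `Alt(Fix x)` -/
theorem Mod.label_core (M : Mod L Ω) (T : IsTriple x a L) {d : G}
    (hd : d ∈ core (centralizer ({x} : Set G))) (hda : d ∈ centralizer ({a} : Set G)) :
    M.φ d ∈ alt (fixIn Ω (M.φ x)) := by
  obtain ⟨D, hD⟩ : ∃ D, D = core (centralizer ({x} : Set G)) ⊓ centralizer ({a} : Set G) := ⟨_, rfl⟩
  have ho : Odd (Nat.card D) := Odd.of_dvd_nat (odd_card_core (centralizer ({x} : Set G)))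
    (by rw [hD]; exact card_dvd_of_le inf_le_left)
  refine UAlt.core_cent_le (M.mem_sym x T.x_mem) (M.sq T.x_mem (sq_of_order T.invx))
    (M.phi_mem_core T.x_mem (sq_of_order T.invx) ho ?_ ?_ ?_ d (hD ▸ ⟨hd, hda⟩))
  · rw [hD]
    exact fun e he => T.mem_normalizer_of_core he.1 he.2
  · rw [hD]
    exact fun e he => comm_c ((core_le _) he.1)
  · rw [hD]
    intro k hk hkx e he
    have hka : k ∈ centralizer ({a} : Set G) := T.comp.le hk
    exact ⟨conj_core (mem_c hkx) he.1, Subgroup.mul_mem _ (Subgroup.mul_mem _ hka he.2)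
      (Subgroup.inv_mem _ hka)⟩

/-- a permutation trivial on `T` commutes with the members of `sym T` -/
theorem comm_sym_of_fix {T : Finset α} {σ τ : Perm α} (hσ : ∀ y ∈ T, σ y = y) (hτ : τ ∈ sym T) :
    σ * τ = τ * σ := comm_of_fix hσ hτ

/-- some `d ∈ O(C(x)) ∩ C(a) ∩ C(c)` acts nontrivially on `L`, `c` an involution commuting with `a`, `x` and fixing
the fixed points of `x` -/
theorem Mod.exists_bad (M : Mod L Ω) (T : IsTriple x a L) {c : G} (hc2 : c * c = 1)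
    (hcL : c ∈ normalizer (L : Set G)) (hca : c * a = a * c) (hcx : c * x = x * c)
    (hfix : ∀ y ∈ fixIn Ω (M.φ x), M.φ c y = y) :
    ∃ d ∈ core (centralizer ({x} : Set G)), d ∈ centralizer ({a} : Set G) ∧
      d ∈ centralizer ({c} : Set G) ∧ d ∈ normalizer (L : Set G) ∧
      M.φ d ∈ alt (fixIn Ω (M.φ x)) ∧ M.φ d ≠ 1 := by
  obtain ⟨d, hd, hda, hf⟩ := T.bad
  obtain ⟨F, hF⟩ : ∃ F : Subgroup G, ∀ e, e ∈ F ↔ e ∈ core (centralizer ({x} : Set G)) ∧
      e ∈ centralizer ({a} : Set G) ∧ Fixes e L := by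
    refine ⟨{ carrier := {e | e ∈ core (centralizer ({x} : Set G)) ∧
        e ∈ centralizer ({a} : Set G) ∧ Fixes e L}
              mul_mem' := ?_
              one_mem' := ?_
              inv_mem' := ?_ }, fun e => Iff.rfl⟩
    · rintro e e' ⟨h1, h2, h3⟩ ⟨h1', h2', h3'⟩
      exact ⟨mul_mem h1 h1', mul_mem h2 h2', fixes_mul h3 h3'⟩
    · exact ⟨one_mem _, one_mem _, fixes_one L⟩
    · rintro e ⟨h1, h2, h3⟩
      exact ⟨inv_mem h1, inv_mem h2, fixes_inv h3⟩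
  have hFodd : Odd (Nat.card F) :=
    Odd.of_dvd_nat (odd_card_core (centralizer ({x} : Set G)))
      (card_dvd_of_le fun e he => ((hF e).mp he).1)
  have hci : c⁻¹ = c := inv_eq_of_mul_eq_one_left hc2
  have hcF : ∀ e ∈ F, c * e * c⁻¹ ∈ F := by
    intro e he
    obtain ⟨h1, h2, h3⟩ := (hF e).mp he
    refine (hF _).mpr ⟨conj_core (mem_c hcx) h1, ?_, fixes_conj h3 hcL⟩
    exact mul_mem (mul_mem (mem_c hca) h2) (inv_mem (mem_c hca))
  have hcn : c ∈ normalizer (F : Set G) := by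
    rw [mem_normalizer_iff]
    intro e
    refine ⟨hcF e, fun h => ?_⟩
    have h1 := hcF _ h
    have h2 : c * (c * e * c⁻¹) * c⁻¹ = e := by
      rw [hci]
      calc c * (c * e * c) * c = (c * c) * e * (c * c) := by group
        _ = e := by rw [hc2]; group
    rwa [h2] at h1
  have hdL : d ∈ normalizer (L : Set G) := T.mem_normalizer_of_core hd hda
  have hdφ := M.label_core T hd hda
  have hcd : M.φ c * M.φ d = M.φ d * M.φ c := comm_of_fix hfix (alt_le_sym _ hdφ)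
  have hcdL : c * d * c⁻¹ ∈ normalizer (L : Set G) := mul_mem (mul_mem hcL hdL) (inv_mem hcL)
  have hmem : d⁻¹ * (c * d * c⁻¹) ∈ F := by
    refine (hF _).mpr ⟨mul_mem (inv_mem hd) (conj_core (mem_c hcx) hd), ?_, ?_⟩
    · exact mul_mem (inv_mem hda) (mul_mem (mul_mem (mem_c hca) hda) (inv_mem (mem_c hca)))
    · rw [← M.fixes_iff (mul_mem (inv_mem hdL) hcdL), M.mul _ _ (inv_mem hdL) hcdL, M.inv hdL,
        M.conj hcL hdL, hcd, mul_inv_cancel_right, inv_mul_cancel]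
  obtain ⟨o, ho, hco⟩ := Intrinsic.Lifting.exists_commute (n := 1) hFodd
    (by rw [pow_one, pow_two, hc2]) hcn hmem
  obtain ⟨h1, h2, h3⟩ := (hF o).mp ho
  have hoL : M.φ o = 1 := (M.fixes_iff h3.1).mpr h3
  have hlab : M.φ (d * o) = M.φ d := by rw [M.mul _ _ hdL h3.1, hoL, mul_one]
  refine ⟨d * o, mul_mem hd h1, mul_mem hda h2, mem_c hco.symm, mul_mem hdL h3.1, ?_, ?_⟩
  · rw [hlab]; exact hdφ
  · rw [hlab]
    intro h
    exact hf ((M.fixes_iff hdL).mp h)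

/-! ### a good root -/

/-- there is a root four-group commuting with `x` with support disjoint from `Fix x` -/
theorem Mod.exists_good (M : Mod L Ω) (T : IsTriple x a L) (h : 7 ≤ Ω.card) :
    ∃ (S : Finset α) (V : Subgroup G), RF M V S ∧ Disjoint S (fixIn Ω (M.φ x)) ∧
      Cm V (zpowers x) := by
  have h3 := M.card_of_triple T
  have hxx : ∀ y, M.φ x (M.φ x y) = y := by
    intro y
    rw [← Perm.mul_apply, M.sq T.x_mem (sq_of_order T.invx)]; rfl
  have hxΩ : ∀ y ∈ Ω, M.φ x y ∈ Ω := fun y hy => mem_of_mem_sym (M.mem_sym x T.x_mem) hy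
  have hmv : (Ω \ fixIn Ω (M.φ x)).card = Ω.card - 3 := by
    rw [Finset.card_sdiff_of_subset (fixIn_subset _ _), h3]
  obtain ⟨p, hp⟩ : (Ω \ fixIn Ω (M.φ x)).Nonempty := Finset.card_pos.mp (by omega)
  obtain ⟨q, hq⟩ : ((Ω \ fixIn Ω (M.φ x)) \ {p, M.φ x p}).Nonempty := by
    apply Finset.card_pos.mp
    have h4 := Finset.le_card_sdiff ({p, M.φ x p} : Finset α) (Ω \ fixIn Ω (M.φ x))
    have h5 : ({p, M.φ x p} : Finset α).card ≤ 2 := Finset.card_le_two
    omega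
  simp only [Finset.mem_sdiff, mem_fixIn, not_and, Finset.mem_insert, Finset.mem_singleton,
    not_or] at hp hq
  obtain ⟨hpΩ, hp⟩ := hp
  obtain ⟨⟨hqΩ, hq⟩, hqp, hqxp⟩ := hq
  have hp' : M.φ x p ≠ p := hp hpΩ
  have hq' : M.φ x q ≠ q := hq hqΩ
  have hnd : [p, M.φ x p, q, M.φ x q].Nodup :=
    StdAlt.PermTypes.nodup_four hp'.symm (Ne.symm hqp) (fun e => hqxp (by rw [e, hxx]))
      (Ne.symm hqxp) (fun e => hqp ((M.φ x).injective e).symm) hq'.symm
  have hsub : four4 p (M.φ x p) q (M.φ x q) ⊆ Ω := by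
    intro y hy
    rcases mem_four4.mp hy with rfl | rfl | rfl | rfl
    · exact hpΩ
    · exact hxΩ _ hpΩ
    · exact hqΩ
    · exact hxΩ _ hqΩ
  have hdis : Disjoint (four4 p (M.φ x p) q (M.φ x q)) (fixIn Ω (M.φ x)) := by
    rw [Finset.disjoint_left]
    intro y hy hy'
    have h5 := (mem_fixIn.mp hy').2
    rcases mem_four4.mp hy with rfl | rfl | rfl | rfl
    · exact hp' h5
    · rw [hxx] at h5; exact hp' h5.symm
    · exact hq' h5
    · rw [hxx] at h5; exact hq' h5.symm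
  have hP : IsPGroup 2 (zpowers x) := by
    refine IsPGroup.of_card (n := 1) ?_
    rw [Nat.card_zpowers, T.invx, pow_one]
  have hPN : zpowers x ≤ normalizer (L : Set G) := by
    rw [zpowers_le]; exact T.x_mem
  -- `φ x` commutes with `four T`
  have hσ : swap p (M.φ x p) * swap q (M.φ x q) ∈ four (four4 p (M.φ x p) q (M.φ x q)) := by
    rw [UAlt.mem_four (card_four4 hnd)]
    exact (V4_iff hnd).mp (Or.inr (Or.inl rfl))
  have hx : ∀ v ∈ four (four4 p (M.φ x p) q (M.φ x q)), M.φ x * v = v * M.φ x := by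
    intro v hv
    -- on the four points `φ x` agrees with a member of the four-group
    have hvc := four_comm (card_four4 hnd) hv hσ
    have hag : ∀ y ∈ four4 p (M.φ x p) q (M.φ x q),
        (swap p (M.φ x p) * swap q (M.φ x q)) y = M.φ x y := by
      obtain ⟨⟨m1, m2, m3⟩, ⟨m4, m5⟩, m6⟩ := StdAlt.PermTypes.of_nodup_four hnd
      intro y hy
      rcases mem_four4.mp hy with rfl | rfl | rfl | rfl
      · rw [Perm.mul_apply, swap_apply_of_ne_of_ne m2 m3, swap_apply_left]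
      · rw [Perm.mul_apply, swap_apply_of_ne_of_ne m4 m5, swap_apply_right, hxx]
      · rw [Perm.mul_apply, swap_apply_left, swap_apply_of_ne_of_ne m3.symm m5.symm]
      · rw [Perm.mul_apply, swap_apply_right, swap_apply_of_ne_of_ne m2.symm m4.symm, hxx]
    ext y
    rw [Perm.mul_apply, Perm.mul_apply]
    by_cases hy : y ∈ four4 p (M.φ x p) q (M.φ x q)
    · have hvy : v y ∈ four4 p (M.φ x p) q (M.φ x q) :=
        mem_of_mem_sym (alt_le_sym _ (four_le_alt (card_four4 hnd) hv)) hy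
      rw [← hag _ hvy, ← hag _ hy, ← Perm.mul_apply, ← Perm.mul_apply, hvc]
    · have hy' : M.φ x y ∉ four4 p (M.φ x p) q (M.φ x q) := by
        intro h5
        apply hy
        have h6 : M.φ x (M.φ x y) ∈ four4 p (M.φ x p) q (M.φ x q) := by
          rw [← hag _ h5]
          exact mem_of_mem_sym (alt_le_sym _ (four_le_alt (card_four4 hnd) hσ)) h5
        rwa [hxx] at h6
      rw [(four_le_alt (card_four4 hnd) hv).2 y hy, (four_le_alt (card_four4 hnd) hv).2 _ hy']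
  obtain ⟨V, hV, hc⟩ := exists_RF M hsub (card_four4 hnd) hP hPN (by
    intro t ht σ h5 h6
    have hσ4 : σ ∈ four (four4 p (M.φ x p) q (M.φ x q)) :=
      (UAlt.mem_four (card_four4 hnd)).mpr ⟨h5, h6⟩
    obtain ⟨n, rfl⟩ := mem_zpowers_iff.mp ht
    have h7 : M.φ (x ^ n) = M.φ x ^ n := map_zpow M.hom ⟨x, T.x_mem⟩ n
    rw [h7]
    exact (Commute.zpow_left (hx σ hσ4) n))
  exact ⟨_, V, hV, hdis, hc⟩

/-- **(0.1)** the pump-up of `C_L(r)^∞` at a good root `r` -/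
theorem Mod.pump_good (M : Mod L Ω) (T : IsTriple x a L) (h : 11 ≤ Ω.card) :
    ∃ r N, M.Rt r ∧ IsTriple x r N ∧ ((a ∈ normalizer (N : Set G) ∧ M.cmp r ≤ N) ∨
      (IntrinsicBasic.cj a N ≠ N ∧ M.cmp r = diag (centralizer ({r} : Set G)) N a)) := by
  obtain ⟨S, V, hV, hdis, hc⟩ := M.exists_good T (by omega)
  obtain ⟨r, hr, hr1⟩ := hV.exists_ne
  have hR := hV.rt hr hr1
  have hrL := hV.le hr
  have hra : r * a = a * r := comm_of_triple T hrL
  have hrx : r * x = x * r := hc r hr x (mem_zpowers x)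
  have hfx : ∀ y ∈ fixIn Ω (M.φ x), M.φ r y = y := fun y hy =>
    (hV.root hr hr1).apply_eq fun h' => Finset.disjoint_left.mp hdis h' hy
  obtain ⟨d, hd, hda, hdr, hdL, hdφ, hd1⟩ := M.exists_bad T hR.sq (le_normalizer hrL) hra hrx hfx
  have h9 : (fixIn Ω (M.φ r)).card = Ω.card - 4 := hR.root.card_fix
  have hE := M.isComp_cmp_of T.comp (le_normalizer hrL) hR.sq (by omega)
  rw [inf_comm] at hE
  have hnf : ¬ Fixes d (M.cmp r) := by
    intro hf
    apply hd1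
    ext y
    by_cases hy : y ∈ fixIn Ω (M.φ x)
    · exact M.apply_of_fixes_cmp (le_normalizer hrL) hR.sq (by omega) hdL hf
        (mem_fixIn.mpr ⟨(mem_fixIn.mp hy).1, hfx y hy⟩)
    · exact hdφ.2 y hy
  obtain ⟨N, hN, -, hor⟩ := UGT.PumpGen.pump T.invx hR.root.order (sq_of_order T.inva) hra hrx hE hd
    hda hdr hnf
  exact ⟨r, N, hR, hN, hor⟩

/-! ### conjugation -/

/-- `cmp` and conjugation -/
theorem Mod.cmp_conj (M : Mod L Ω) {g t : G} (hg : g ∈ normalizer (L : Set G))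
    (ht : t ∈ normalizer (L : Set G)) (htt : t * t = 1) (h5 : 5 ≤ (fixIn Ω (M.φ t)).card) :
    M.cmp (g * t * g⁻¹) = IntrinsicBasic.cj g (M.cmp t) := by
  have h1 := (M.isComp_cmp ht htt h5).cj g
  rw [cj_inf, mem_normalizer_iff_cj.mp hg, cj_centralizer] at h1
  refine ((M.isComp_iff_cmp (mul_mem (mul_mem hg ht) (inv_mem hg)) ?_).mp h1).1.symm
  rw [show g * t * g⁻¹ * (g * t * g⁻¹) = g * (t * t) * g⁻¹ by group, htt]; group

theorem caseD_of_one (M : Mod L Ω) (T : IsTriple x a L) (h : 11 ≤ Ω.card) {r : G} {K : Subgroup G}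
    (hr : M.Rt r) (hK : IsComp (centralizer ({r} : Set G)) K) (hne : IntrinsicBasic.cj a K ≠ K)
    (hd : M.cmp r = diag (centralizer ({r} : Set G)) K a) : CaseD M a := by
  intro v hv
  obtain ⟨g, hg, hgv⟩ := M.exists_conj_root hr.mem hv.mem hr.sq hv.sq hr.isRoot hv.isRoot
  have hga : g * a = a * g := comm_of_triple T hg
  have hgag : g * a * g⁻¹ = a := by rw [hga, mul_inv_cancel_right]
  have h9 : (fixIn Ω (M.φ r)).card = Ω.card - 4 := hr.root.card_fix
  have hC : IntrinsicBasic.cj g (centralizer ({r} : Set G)) = centralizer ({v} : Set G) := by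
    rw [cj_centralizer, hgv]
  refine ⟨IntrinsicBasic.cj g K, ?_, ?_, ?_⟩
  · rw [← hC]; exact hK.cj g
  · intro h1
    apply hne
    apply IntrinsicBasic.cj_injective g
    rw [← IntrinsicBasic.cj_mul, hga, IntrinsicBasic.cj_mul, h1]
  · rw [← hgv, M.cmp_conj (le_normalizer hg) (le_normalizer hr.mem) hr.sq (by omega), hd, cj_diag,
      hgag, hC, hgv]

/-! ### case N -/

theorem subset_of_alt_le {A B : Finset α} (h3 : 3 ≤ A.card) (h : alt A ≤ alt B) : A ⊆ B := by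
  intro p hp
  by_contra hpB
  obtain ⟨q, hq, r, hr, hne⟩ := Finset.one_lt_card.mp
    (show 1 < (A.erase p).card by rw [Finset.card_erase_of_mem hp]; omega)
  rw [Finset.mem_erase] at hq hr
  have h1 := cyc_mem_alt (S := A) hp hq.2 hr.2 hq.1.symm hne
  have h2 := (h h1).2 p hpB
  rw [StdAlt.PermTypes.cyc_apply_fst hr.1.symm hq.1.symm] at h2
  exact hq.1 h2

/-- the transport of the data `KD` by an element of `L` -/
theorem KD.conj {M : Mod L Ω} {X : Finset α} (hdis : Disjoint Ω X) {r g : G} {K : Subgroup G}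
    {Mr : Mod K (fixIn Ω (M.φ r) ∪ X)} (h : KD M a X r K Mr) (hg : g ∈ L) (hga : g * a = a * g)
    (hr : r ∈ normalizer (L : Set G)) (hrr : r * r = 1) (h5 : 5 ≤ (fixIn Ω (M.φ r)).card) :
    ∃ Mv : Mod (IntrinsicBasic.cj g K) (fixIn Ω (M.φ (g * r * g⁻¹)) ∪ X),
      KD M a X (g * r * g⁻¹) (IntrinsicBasic.cj g K) Mv := by
  have hgN : g ∈ normalizer (L : Set G) := le_normalizer hg
  obtain ⟨τ, hτ⟩ : ∃ τ, τ = M.φ g := ⟨_, rfl⟩
  have hτS : τ ∈ sym Ω := hτ ▸ M.mem_sym g hgN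
  have hτX : ∀ y ∈ X, τ y = y := fun y hy => hτS y fun h => Finset.disjoint_left.mp hdis h hy
  have hlab : M.φ (g * r * g⁻¹) = τ * M.φ r * τ⁻¹ := by rw [hτ]; exact M.conj hgN hr
  have hfix : ∀ {S : Finset α} {σ : Perm α}, (fixIn S σ).map τ.toEmbedding =
      fixIn (S.map τ.toEmbedding) (τ * σ * τ⁻¹) := by
    intro S σ
    ext y
    simp only [Finset.mem_map, mem_fixIn, Equiv.coe_toEmbedding]
    constructor
    · rintro ⟨z, ⟨h1, h2⟩, rfl⟩
      refine ⟨⟨z, h1, rfl⟩, ?_⟩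
      rw [Perm.mul_apply, Perm.mul_apply, show τ⁻¹ (τ z) = z by simp, h2]
    · rintro ⟨⟨z, h1, rfl⟩, h2⟩
      refine ⟨z, ⟨h1, ?_⟩, rfl⟩
      rw [Perm.mul_apply, Perm.mul_apply, show τ⁻¹ (τ z) = z by simp] at h2
      exact τ.injective h2
  have hΩ : Ω.map τ.toEmbedding = Ω := by
    ext y
    simp only [Finset.mem_map, Equiv.coe_toEmbedding]
    constructor
    · rintro ⟨z, h1, rfl⟩
      exact mem_of_mem_sym hτS h1
    · intro hy
      exact ⟨τ⁻¹ y, mem_of_mem_sym (inv_mem hτS) hy, by simp⟩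
  have hX : X.map τ.toEmbedding = X := by
    ext y
    simp only [Finset.mem_map, Equiv.coe_toEmbedding]
    constructor
    · rintro ⟨z, h1, rfl⟩
      rw [hτX z h1]; exact h1
    · intro hy
      exact ⟨y, hy, hτX y hy⟩
  have hF : (fixIn Ω (M.φ r)).map τ.toEmbedding = fixIn Ω (M.φ (g * r * g⁻¹)) := by
    rw [hfix, hΩ, hlab]
  have hS : (fixIn Ω (M.φ r) ∪ X).map τ.toEmbedding = fixIn Ω (M.φ (g * r * g⁻¹)) ∪ X := by
    rw [Finset.map_union, hF, hX]
  have key : ∀ (S' : Finset α) (M' : Mod (IntrinsicBasic.cj g K) S'),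
      (∀ y, M'.φ y = τ * Mr.φ (g⁻¹ * y * g) * τ⁻¹) → S' = fixIn Ω (M.φ (g * r * g⁻¹)) ∪ X →
      ∃ Mv : Mod (IntrinsicBasic.cj g K) (fixIn Ω (M.φ (g * r * g⁻¹)) ∪ X),
        ∀ y, Mv.φ y = τ * Mr.φ (g⁻¹ * y * g) * τ⁻¹ := by
    rintro S' M' h1 rfl
    exact ⟨M', h1⟩
  obtain ⟨Mv, hMv⟩ := key _ ((Mr.cj g).relabel τ) (fun y => rfl) hS
  have hcmp := M.cmp_conj hgN hr hrr h5
  refine ⟨Mv, ?_, ?_, ?_, ?_, ?_⟩
  · rw [← cj_centralizer]; exact h.comp.cj g
  · rw [mem_normalizer_iff_cj, ← IntrinsicBasic.cj_mul, ← hga, IntrinsicBasic.cj_mul,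
      mem_normalizer_iff_cj.mp h.norm]
  · rw [hcmp]; exact IntrinsicBasic.cj_mono h.le
  · intro y hy
    rw [hcmp, mem_cj] at hy
    have hyL : g⁻¹ * y * g ∈ L := M.cmp_le r hy
    rw [hMv, h.agree _ hy, hτ, ← M.conj hgN (le_normalizer hyL)]
    congr 1
    group
  · rw [hMv, ← hS, show g⁻¹ * a * g = a by rw [mul_assoc, ← hga]; group, ← hfix, h.fixa, hF]

/-- **(0.2)** case N for one root; `hbig` is the statement on the types -/
theorem exists_KD_aux {n : ℕ} (hn : Odd n) (h13 : 11 ≤ n) (M : Mod L Ω) (T : IsTriple x a L)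
    (hΩ : Ω.card = n) (hα : 4 ≤ Ωᶜ.card) {r : G} {N : Subgroup G} (hr : M.Rt r)
    (hN : IsTriple x r N) (ha : a ∈ normalizer (N : Set G)) (hle : M.cmp r ≤ N)
    (hbig : ∀ {E : Subgroup G}, IsComp (N ⊓ centralizer ({a} : Set G)) E → AltType E (n - 4) →
      ∃ m, Odd m ∧ 7 ≤ m ∧ m ≤ n ∧ AltType N m) :
    ∃ X : Finset α, Disjoint Ω X ∧ (X.card = 0 ∨ X.card = 2 ∨ X.card = 4) ∧
      ∃ Mr : Mod N (fixIn Ω (M.φ r) ∪ X), KD M a X r N Mr := by
  have haa := sq_of_order T.inva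
  have hrN := le_normalizer hr.mem
  have h9 : (fixIn Ω (M.φ r)).card = Ω.card - 4 := hr.root.card_fix
  have hra : r * a = a * r := comm_of_triple T hr.mem
  have hE := M.isComp_cmp_of T.comp hrN hr.sq (by omega)
  rw [inf_comm] at hE
  have hE' : IsComp (N ⊓ centralizer ({a} : Set G)) (M.cmp r) :=
    hE.restrict (inf_le_inf_right _ hN.comp.le) (le_inf hle (hE.le.trans inf_le_right))
  obtain ⟨ME, hME⟩ := M.exists_cmp hrN hr.sq (by omega)
  obtain ⟨m, hm, hm7, hmn, hAT⟩ := hbig hE' (ME.altType_of_card (by omega))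
  -- a labelling of `N` by `m` points
  have hcard : Ω.card + Ωᶜ.card = Fintype.card α := by
    rw [Finset.card_compl]
    have := Finset.card_le_univ Ω
    omega
  obtain ⟨S₀, -, hS₀⟩ : ∃ S₀ ⊆ (Finset.univ : Finset α), S₀.card = m :=
    Finset.exists_subset_card_eq (by rw [Finset.card_univ]; omega)
  obtain ⟨M₀⟩ := hAT.mod_of_card hS₀ hm7
  obtain ⟨e1, e2⟩ := (M₀.isComp_iff_cmp ha haa).mp hE'
  have e3 : (fixIn S₀ (M₀.φ a)).card = Ω.card - 4 := by
    obtain ⟨M1, -⟩ : ∃ M1 : Mod (M₀.cmp a) (fixIn Ω (M.φ r)), ∀ y ∈ M₀.cmp a, M1.φ y = M.φ y := by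
      rw [← e1]; exact ⟨ME, hME⟩
    rw [CaseD.card_fixIn M₀ ha haa e2 M1, h9]
  have e4 : (fixIn S₀ (M₀.φ a)).card ≤ m := by
    rw [← hS₀]; exact Finset.card_le_card (fixIn_subset _ _)
  obtain ⟨X, hX, hXc⟩ : ∃ X ⊆ Ωᶜ, X.card = m - (n - 4) :=
    Finset.exists_subset_card_eq (by omega)
  have hdis : Disjoint Ω X := by
    rw [Finset.disjoint_left]
    intro y hy hy'
    exact (Finset.mem_compl.mp (hX hy')) hy
  have hdis' : Disjoint (fixIn Ω (M.φ r)) X := Finset.disjoint_of_subset_left (fixIn_subset _ _) hdis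
  have hodd := hn
  have hXcard : X.card = 0 ∨ X.card = 2 ∨ X.card = 4 := by
    obtain ⟨i, hi⟩ := hm
    obtain ⟨j, hj⟩ := hodd
    omega
  have hcS : (fixIn Ω (M.φ r) ∪ X).card = m := by
    rw [Finset.card_union_of_disjoint hdis', h9, hXc]; omega
  obtain ⟨M1, hM1⟩ : ∃ M1 : Mod (M₀.cmp a) (fixIn Ω (M.φ r)), ∀ y ∈ M₀.cmp a, M1.φ y = M.φ y := by
    rw [← e1]; exact ⟨ME, hME⟩
  obtain ⟨Mr, hMr⟩ := M₀.exists_relabel_cmp ha haa (by omega) M1
    (S' := fixIn Ω (M.φ r) ∪ X) Finset.subset_union_left (by rw [hS₀, hcS])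
  have hMr' : ∀ y ∈ M.cmp r, Mr.φ y = M.φ y := by
    intro y hy
    rw [e1] at hy
    rw [hMr y hy, hM1 y hy]
  refine ⟨X, hdis, hXcard, Mr, hN.comp, ha, hle, hMr', ?_⟩
  obtain ⟨f1, f2⟩ := (Mr.isComp_iff_cmp ha haa).mp hE'
  apply Finset.Subset.antisymm
  · refine subset_of_alt_le (by omega) fun σ hσ => ?_
    obtain ⟨k, hk, rfl⟩ := Mr.cmp_lift ha haa f2 hσ
    rw [← f1] at hk
    rw [hMr' k hk]
    exact M.cmp_mem_alt hk
  · refine subset_of_alt_le (by omega) fun σ hσ => ?_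
    obtain ⟨k, hk, rfl⟩ := M.cmp_lift hrN hr.sq (by omega) hσ
    rw [← hMr' k hk]
    rw [f1] at hk
    exact Mr.cmp_mem_alt hk

theorem exists_KD {n : ℕ} (H : Hyp G n) (M : Mod L Ω) (T : IsTriple x a L) (hΩ : Ω.card = n)
    (hα : 4 ≤ Ωᶜ.card) {r : G} {N : Subgroup G} (hr : M.Rt r) (hN : IsTriple x r N)
    (ha : a ∈ normalizer (N : Set G)) (hle : M.cmp r ≤ N) :
    ∃ X : Finset α, Disjoint Ω X ∧ (X.card = 0 ∨ X.card = 2 ∨ X.card = 4) ∧
      ∃ Mr : Mod N (fixIn Ω (M.φ r) ∪ X), KD M a X r N Mr := by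
  have h13 := H.h13
  exact exists_KD_aux H.odd (by omega) M T hΩ hα hr hN ha hle
    fun hE hA => H.big hN ha (sq_of_order T.inva) hE (k := n - 4) (by omega) hA

/-- **(0)** case N or case D; `hbig` is the statement on the types -/
theorem caseN_or_caseD_aux {n : ℕ} (hn : Odd n) (h11 : 11 ≤ n) (T : IsTriple x a L) (M : Mod L Ω)
    (hΩ : Ω.card = n) (hα : 4 ≤ Ωᶜ.card)
    (hbig : ∀ {r : G} {N E : Subgroup G}, IsTriple x r N → a ∈ normalizer (N : Set G) →
      IsComp (N ⊓ centralizer ({a} : Set G)) E → AltType E (n - 4) →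
      ∃ m, Odd m ∧ 7 ≤ m ∧ m ≤ n ∧ AltType N m) : (∃ X, CaseN M a X) ∨ CaseD M a := by
  obtain ⟨r, N, hr, hN, hor⟩ := M.pump_good T (by omega)
  rcases hor with ⟨ha, hle⟩ | ⟨hne, hd⟩
  · left
    obtain ⟨X, hdis, hX, Mr, hMr⟩ := exists_KD_aux hn h11 M T hΩ hα hr hN ha hle
      fun hE hA => hbig hN ha hE hA
    refine ⟨X, hdis, hX, fun v hv => ?_⟩
    obtain ⟨g, hg, rfl⟩ := M.exists_conj_root hr.mem hv.mem hr.sq hv.sq hr.isRoot hv.isRoot
    have h9 : (fixIn Ω (M.φ r)).card = Ω.card - 4 := hr.root.card_fix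
    obtain ⟨Mv, hMv⟩ := hMr.conj hdis hg (comm_of_triple T hg) (le_normalizer hr.mem) hr.sq (by omega)
    exact ⟨_, Mv, hMv⟩
  · right
    exact caseD_of_one M T (by omega) hr hN.comp hne hd

/-- **(0)** case N or case D -/
theorem caseN_or_caseD {n : ℕ} (H : Hyp G n) (T : IsTriple x a L) (M : Mod L Ω) (hΩ : Ω.card = n)
    (hα : 4 ≤ Ωᶜ.card) : (∃ X, CaseN M a X) ∨ CaseD M a := by
  have h13 := H.h13
  exact caseN_or_caseD_aux H.odd (by omega) T M hΩ hα fun hN ha hE hA =>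
    H.big hN ha (sq_of_order T.inva) hE (k := n - 4) (by omega) hA

end Cfsg.Agent.UAlt
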