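import Cfsg.Agent.UAlt.AutFive
import Cfsg.Agent.UAlt.Frame
import Cfsg.Agent.UAlt.Root

/-!
# Labellings by at least five, not six, points

The results of `ModExists`, `Bij`, `Root` with `7 ≤ |S|` replaced by `5 ≤ |S|`, `|S| ≠ 6` (`Aut(A₅) = S₅`).
-/

set_option autoImplicit false
set_option linter.unusedSectionVars false

namespace Cfsg.Agent.UAlt

open Cfsg Equiv Equiv.Perm Subgroup
open Cfsg.Agent.Intrinsic.Basic Cfsg.Agent.Intrinsic Cfsg.Agent.Intrinsic.Cen
open Cfsg.Agent.SignalizersComponents Cfsg.Agent.Lib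
open Cfsg.Agent.SignalizersComponents.IntrinsicBasic
open scoped commutatorElement

variable {G : Type*} [Group G] {α : Type*} [Fintype α] [DecidableEq α]

/-- every automorphism of `alt S`, `5 ≤ |S| ≠ 6`, is conjugation by a permutation of `S`, homomorphically -/
theorem exists_altAut_five {S : Finset α} (h5 : 5 ≤ S.card) (h6 : S.card ≠ 6) :
    ∃ ψ : MulAut (alt S) →* Perm α, (∀ f, ψ f ∈ sym S) ∧ ∀ (f : MulAut (alt S)) (x : alt S),
      ((f x : alt S) : Perm α) = ψ f * x * (ψ f)⁻¹ := by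
  obtain ⟨ψ, hψ⟩ := AutFive.exists_autHom_type S (by rw [Fintype.card_coe]; exact h5)
    (by rw [Fintype.card_coe]; exact h6)
  let c : MulAut (alt S) ≃* MulAut (alternatingGroup S) := MulAut.congr (altEquiv S).symm
  refine ⟨((ofSubtype (p := fun x => x ∈ S)).comp ψ).comp c.toMonoidHom, fun f x hx =>
    ofSubtype_apply_of_not_mem _ hx, fun f x => ?_⟩
  obtain ⟨y, rfl⟩ := (altEquiv S).surjective x
  have h1 : c f y = (altEquiv S).symm (f (altEquiv S y)) := rfl
  have h2 : f (altEquiv S y) = altEquiv S (c f y) := by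
    rw [h1, MulEquiv.apply_symm_apply]
  rw [h2, altEquiv_coe, altEquiv_coe, hψ, map_mul, map_mul, map_inv]
  rfl

/-- **Existence of a labelling** extending a given homomorphism of `K` onto `alt S` with kernel `O(K)`. -/
theorem Mod.exists_of_hom_five [Finite G] {K : Subgroup G} {S : Finset α} (h5 : 5 ≤ S.card) (h6 : S.card ≠ 6)
    (ε : ↥K →* Perm α) (hr : ε.range = alt S) (hk : ε.ker = oddCore ↥K) :
    ∃ M : Mod K S, ∀ x : ↥K, M.φ x = ε x := by
  classical
  obtain ⟨ψ, hψS, hψ⟩ := exists_altAut_five h5 h6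
  let ε' : ↥K →* ↥(alt S) := ε.codRestrict (alt S) fun x => by rw [← hr]; exact ⟨x, rfl⟩
  have hε' : Function.Surjective ε' := by
    rintro ⟨σ, hσ⟩
    rw [← hr] at hσ
    obtain ⟨x, rfl⟩ := hσ
    exact ⟨x, rfl⟩
  have hker : ε'.ker = oddCore ↥K := by
    rw [← hk]
    ext x
    rw [MonoidHom.mem_ker, MonoidHom.mem_ker, Subtype.ext_iff]
    rfl
  let e : (↥K ⧸ oddCore ↥K) ≃* ↥(alt S) :=
    (QuotientGroup.quotientMulEquivOfEq hker.symm).trans
      (QuotientGroup.quotientKerEquivOfSurjective _ hε')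
  have he : ∀ x : ↥K, e (QuotientGroup.mk' _ x) = ε' x := fun x => rfl
  let Φ : ↥(normalizer (K : Set G)) →* Perm α :=
    ψ.comp (((MulAut.congr e).toMonoidHom.comp (quotAut K)).comp K.normalizerMonoidHom)
  have hΦS : ∀ x, Φ x ∈ sym S := fun x => hψS _
  have hΦ : ∀ (x : ↥(normalizer (K : Set G))) (y : ↥K),
      ε ⟨(x : G) * y * (x : G)⁻¹, (mem_normalizer_iff.mp x.2 y).mp y.2⟩ =
        Φ x * ε y * (Φ x)⁻¹ := by
    intro x y
    have h1 := hψ (MulAut.congr e (quotAut K (K.normalizerMonoidHom x))) (ε' y)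
    have h2 : MulAut.congr e (quotAut K (K.normalizerMonoidHom x)) (ε' y) =
        ε' ⟨(x : G) * y * (x : G)⁻¹, (mem_normalizer_iff.mp x.2 y).mp y.2⟩ := by
      rw [← he, ← he]
      show e (quotAut K (K.normalizerMonoidHom x) (e.symm (e _))) = _
      rw [MulEquiv.symm_apply_apply]
      rfl
    rw [h2] at h1
    exact h1
  have hΦK : ∀ x : ↥K, Φ ⟨x, le_normalizer x.2⟩ = ε x := by
    intro x
    have h1 : ∀ σ ∈ alt S, ((ε x)⁻¹ * Φ ⟨x, le_normalizer x.2⟩) * σ =
        σ * ((ε x)⁻¹ * Φ ⟨x, le_normalizer x.2⟩) := by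
      intro σ hσ
      rw [← hr] at hσ
      obtain ⟨y, rfl⟩ := hσ
      have h2 := hΦ ⟨x, le_normalizer x.2⟩ y
      have h3 : (⟨(x : G) * y * (x : G)⁻¹, (mem_normalizer_iff.mp (le_normalizer x.2) (y : G)).mp
          y.2⟩ : ↥K) = x * y * x⁻¹ := rfl
      change ε (x * y * x⁻¹) = _ at h2
      rw [map_mul, map_mul, map_inv] at h2
      -- ε x * ε y * (ε x)⁻¹ = Φ * ε y * Φ⁻¹
      have h4 := congrArg (fun z => (ε x)⁻¹ * z * Φ ⟨x, le_normalizer x.2⟩) h2
      calc (ε x)⁻¹ * Φ ⟨x, le_normalizer x.2⟩ * ε y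
          = (ε x)⁻¹ * (Φ ⟨x, le_normalizer x.2⟩ * ε y * (Φ ⟨x, le_normalizer x.2⟩)⁻¹) *
            Φ ⟨x, le_normalizer x.2⟩ := by group
        _ = (ε x)⁻¹ * (ε x * ε y * (ε x)⁻¹) * Φ ⟨x, le_normalizer x.2⟩ := h4.symm
        _ = ε y * ((ε x)⁻¹ * Φ ⟨x, le_normalizer x.2⟩) := by group
    have h2 : (ε x)⁻¹ * Φ ⟨x, le_normalizer x.2⟩ = 1 := by
      ext a
      by_cases ha : a ∈ S
      · exact apply_of_comm_alt (S := S) (by omega) h1 ha
      · have h5' : ε x ∈ alt S := by rw [← hr]; exact ⟨x, rfl⟩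
        exact mul_mem (inv_mem (alt_le_sym S h5')) (hΦS _) a ha
    exact (inv_mul_eq_one.mp h2).symm
  let M : Mod K S :=
    { φ := fun x => if h : x ∈ normalizer (K : Set G) then Φ ⟨x, h⟩ else 1
      mul := by
        intro x y hx hy
        rw [dif_pos (mul_mem hx hy), dif_pos hx, dif_pos hy, ← map_mul]
        rfl
      mem_sym := by
        intro x hx
        rw [dif_pos hx]
        exact hΦS _
      mem_alt := by
        intro x hx
        rw [dif_pos (le_normalizer hx), hΦK ⟨x, hx⟩, ← hr]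
        exact ⟨_, rfl⟩
      lift := by
        intro σ hσ
        rw [← hr] at hσ
        obtain ⟨x, rfl⟩ := hσ
        exact ⟨x, x.2, by rw [dif_pos (le_normalizer x.2), hΦK x]⟩
      core_iff := by
        intro x hx
        rw [dif_pos (le_normalizer hx), hΦK ⟨x, hx⟩, mem_core_iff hx, ← hk, MonoidHom.mem_ker]
      five := by omega }
  refine ⟨M, fun x => ?_⟩
  show (if h : (x : G) ∈ normalizer (K : Set G) then Φ ⟨x, h⟩ else 1) = _
  rw [dif_pos (le_normalizer x.2), hΦK x]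

/-- a labelling from an isomorphism -/
theorem Mod.nonempty_of_equiv_five [Finite G] {K : Subgroup G} {S : Finset α} (h5 : 5 ≤ S.card) (h6 : S.card ≠ 6)
    {Ω : Type*} [Fintype Ω] [DecidableEq Ω] (hΩ : Fintype.card Ω = S.card)
    (e : (↥K ⧸ oddCore ↥K) ≃* alternatingGroup Ω) : Nonempty (Mod K S) := by
  have e1 : Ω ≃ S := Fintype.equivOfCardEq (by rw [hΩ, Fintype.card_coe])
  let e2 : alternatingGroup Ω ≃* alternatingGroup S := Equiv.altCongrHom e1
  let e3 : (↥K ⧸ oddCore ↥K) ≃* ↥(alt S) := (e.trans e2).trans (altEquiv S)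
  obtain ⟨M, -⟩ := Mod.exists_of_hom_five (K := K) (S := S) h5 h6
    (((alt S).subtype.comp e3.toMonoidHom).comp (QuotientGroup.mk' (oddCore ↥K))) (by
      rw [MonoidHom.range_comp, MonoidHom.range_eq_top.mpr (QuotientGroup.mk'_surjective _),
        ← MonoidHom.range_eq_map, MonoidHom.range_comp,
        MonoidHom.range_eq_top.mpr e3.surjective, ← MonoidHom.range_eq_map, Subgroup.range_subtype])
    (by
      ext x
      rw [MonoidHom.mem_ker, MonoidHom.comp_apply, MonoidHom.comp_apply, Subgroup.coe_subtype]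
      constructor
      · intro h
        have h1 : e3 (QuotientGroup.mk' (oddCore ↥K) x) = 1 := Subtype.ext h
        have h2 := (MulEquiv.map_eq_one_iff e3).mp h1
        exact (QuotientGroup.eq_one_iff x).mp h2
      · intro h
        have h2 : QuotientGroup.mk' (oddCore ↥K) x = 1 := (QuotientGroup.eq_one_iff x).mpr h
        rw [h2]
        show ((e3 1 : ↥(alt S)) : Perm α) = 1
        rw [map_one]; rfl)
  exact ⟨M⟩

/-- the labelling of `cmp t` induced by the labelling of `K` -/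
theorem Mod.exists_cmp_five [Finite G] {K : Subgroup G} {S : Finset α} (M : Mod K S) {t : G} (ht : t ∈ normalizer (K : Set G))
    (htt : t * t = 1) (h5 : 5 ≤ (fixIn S (M.φ t)).card) (h6 : (fixIn S (M.φ t)).card ≠ 6) :
    ∃ M' : Mod (M.cmp t) (fixIn S (M.φ t)), ∀ x ∈ M.cmp t, M'.φ x = M.φ x := by
  have hlift : ∀ {σ : Perm α}, σ ∈ alt (fixIn S (M.φ t)) → ∃ k ∈ M.cmp t, M.φ k = σ :=
    fun hσ => M.cmp_lift ht htt (by omega) hσ
  let ε : ↥(M.cmp t) →* Perm α := M.hom.comp (Subgroup.inclusion ((M.cmp_le t).trans le_normalizer))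
  have hε : ∀ x : ↥(M.cmp t), ε x = M.φ x := fun x => rfl
  obtain ⟨M', hM'⟩ := Mod.exists_of_hom_five (K := M.cmp t) (S := fixIn S (M.φ t)) h5 h6 ε (by
    ext σ
    constructor
    · rintro ⟨x, rfl⟩
      exact M.cmp_mem_alt x.2
    · intro hσ
      obtain ⟨k, hk, rfl⟩ := hlift hσ
      exact ⟨⟨k, hk⟩, rfl⟩) (by
    -- the kernel is `cmp t ⊓ core K`
    have hE := M.isComp_cmp ht htt (by omega)
    have hodd : Odd (Nat.card ε.ker) := by
      have h1 : ε.ker.map (M.cmp t).subtype ≤ core K := by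
        rintro _ ⟨m, hm, rfl⟩
        exact (M.core_iff _ (M.cmp_le t m.2)).mp hm
      have h2 := Subgroup.card_dvd_of_le h1
      rw [Subgroup.card_map_of_injective (Subgroup.subtype_injective _)] at h2
      exact Odd.of_dvd_nat (odd_card_core K) h2
    apply le_antisymm
    · exact Cores.le_pPrimeCore inferInstance (Nat.coprime_two_right.mpr hodd)
    · -- the image of the core is an odd normal subgroup of `alt (fixIn ..)`
      intro x hx
      rw [MonoidHom.mem_ker]
      have h1 : (oddCore ↥(M.cmp t)).map ε = ⊥ := by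
        refine eq_bot_of_no_inv (S := fixIn S (M.φ t)) (by omega) ?_ ?_ ?_
        · rintro _ ⟨y, -, rfl⟩
          exact M.cmp_mem_alt y.2
        · intro σ hσ
          obtain ⟨k, hk, rfl⟩ := hlift hσ
          have h2 : (oddCore ↥(M.cmp t)).Normal := Cores.pPrimeCore_normal 2
          have h3 : (((oddCore ↥(M.cmp t)).map ε).subgroupOf ε.range).Normal := by
            have h4 := h2.map ε.rangeRestrict ε.rangeRestrict_surjective
            have h5 : ((oddCore ↥(M.cmp t)).map ε).subgroupOf ε.range =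
                (oddCore ↥(M.cmp t)).map ε.rangeRestrict := by
              rw [← MonoidHom.subtype_comp_rangeRestrict ε, ← Subgroup.map_map]
              exact Subgroup.comap_map_eq_self_of_injective ε.range.subtype_injective _
            rw [h5]; exact h4
          have h4 := (normal_subgroupOf_iff_le_normalizer
            (by rintro _ ⟨y, -, rfl⟩; exact ⟨y, rfl⟩)).mp h3
          exact h4 ⟨⟨k, hk⟩, rfl⟩
        · rintro _ ⟨y, hy, rfl⟩ h2
          have h3 : (y : G) ∈ core (M.cmp t) := (mem_core_iff y.2).mpr hy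
          have h4 : Odd (Nat.card ((core (M.cmp t)).subgroupOf (M.cmp t) : Subgroup _)) := by
            rw [Nat.card_congr (subgroupOfEquivOfLe (core_le _)).toEquiv]
            exact odd_card_core _
          have h5 : Odd (orderOf y) := by
            refine Odd.of_dvd_nat h4 (Subgroup.orderOf_dvd_natCard _ ?_)
            exact h3
          have h6 : Odd (orderOf (ε y)) := Odd.of_dvd_nat h5 (orderOf_map_dvd ε y)
          have h7 : orderOf (ε y) ∣ 2 := orderOf_dvd_of_pow_eq_one (by rw [pow_two]; exact h2)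
          rcases (Nat.dvd_prime Nat.prime_two).mp h7 with h8 | h8
          · exact orderOf_eq_one_iff.mp h8
          · rw [h8] at h6
            exact absurd h6 (by decide)
      have h2 : ε x ∈ (oddCore ↥(M.cmp t)).map ε := ⟨x, hx, rfl⟩
      rw [h1] at h2
      exact mem_bot.mp h2)
  exact ⟨M', fun x hx => hM' ⟨x, hx⟩⟩

/-- **isomorphisms `alt S ≅ alt F` are induced by bijections** -/
theorem exists_bij_five {S F : Finset α} (h5 : 5 ≤ S.card) (h6 : S.card ≠ 6) (e : alt S ≃* alt F) :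
    ∃ τ : Perm α, S.map τ.toEmbedding = F ∧ ∀ x : alt S, (e x : Perm α) = τ * x * τ⁻¹ := by
  have hcard := card_eq_of_equiv (by omega) e
  obtain ⟨τ, -, hτ⟩ := exists_perm_of_card (F := S) (S := S) (F' := F) (S' := F) (le_refl _)
    (le_refl _) hcard hcard (Fintype.equivOfCardEq (by rw [Fintype.card_coe, Fintype.card_coe, hcard]))
  have hconj : ∀ x ∈ alt S, τ * x * τ⁻¹ ∈ alt F := fun x hx =>
    Mod.conj_mem_alt' hx fun a ha => by rw [← hτ]; exact Finset.mem_map.mpr ⟨a, ha, rfl⟩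
  have hconj' : ∀ x ∈ alt F, τ⁻¹ * x * τ ∈ alt S := fun x hx => by
    have := Mod.conj_mem_alt' (τ := τ⁻¹) (T' := S) hx fun a ha => by
      rw [← hτ] at ha
      obtain ⟨b, hb, rfl⟩ := Finset.mem_map.mp ha
      simpa using hb
    rwa [inv_inv] at this
  let c : alt S ≃* alt F :=
    { toFun := fun x => ⟨τ * x * τ⁻¹, hconj x x.2⟩
      invFun := fun x => ⟨τ⁻¹ * x * τ, hconj' x x.2⟩
      left_inv := fun x => Subtype.ext (by
        show τ⁻¹ * (τ * x * τ⁻¹) * τ = x
        group)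
      right_inv := fun x => Subtype.ext (by
        show τ * (τ⁻¹ * x * τ) * τ⁻¹ = x
        group)
      map_mul' := fun x y => Subtype.ext (by
        show τ * (x * y) * τ⁻¹ = τ * x * τ⁻¹ * (τ * y * τ⁻¹)
        group) }
  obtain ⟨ψ, hψS, hψ⟩ := exists_altAut_five h5 h6
  let f : MulAut (alt S) := e.trans c.symm
  refine ⟨τ * ψ f, ?_, fun x => ?_⟩
  · rw [← hτ]
    ext y
    simp only [Finset.mem_map, Equiv.coe_toEmbedding, Perm.mul_apply]
    constructor
    · rintro ⟨x, hx, rfl⟩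
      exact ⟨ψ f x, mem_of_mem_sym (hψS f) hx, rfl⟩
    · rintro ⟨x, hx, rfl⟩
      exact ⟨(ψ f)⁻¹ x, mem_of_mem_sym (inv_mem (hψS f)) hx, by simp⟩
  · have h1 := hψ f x
    have h2 : e x = c (f x) := by
      show e x = c (c.symm (e x))
      rw [MulEquiv.apply_symm_apply]
    rw [h2]
    show τ * (f x : alt S) * τ⁻¹ = _
    rw [h1]
    group

variable {K E : Subgroup G} {S S' F F' : Finset α}

/-- two labellings of `E` differ by a bijection of the points -/
theorem Mod.exists_bij_five (M : Mod E F) (M' : Mod E F') (h5 : 5 ≤ F.card) (h6 : F.card ≠ 6) :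
    ∃ τ : Perm α, F.map τ.toEmbedding = F' ∧
      ∀ x ∈ normalizer (E : Set G), M'.φ x = τ * M.φ x * τ⁻¹ := by
  let e : alt F ≃* alt F' := ((QuotientGroup.quotientKerEquivOfSurjective _ M.homK_surjective).symm.trans
    (QuotientGroup.quotientMulEquivOfEq (M.ker_homK.trans M'.ker_homK.symm))).trans
    (QuotientGroup.quotientKerEquivOfSurjective _ M'.homK_surjective)
  have he : ∀ x : ↥E, e (M.homK x) = M'.homK x := by
    intro x
    have h1 : (QuotientGroup.quotientKerEquivOfSurjective _ M.homK_surjective).symm (M.homK x) =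
        QuotientGroup.mk' _ x := by
      rw [MulEquiv.symm_apply_eq]
      rfl
    show (QuotientGroup.quotientKerEquivOfSurjective _ M'.homK_surjective)
      (QuotientGroup.quotientMulEquivOfEq (M.ker_homK.trans M'.ker_homK.symm)
        ((QuotientGroup.quotientKerEquivOfSurjective _ M.homK_surjective).symm (M.homK x))) = _
    rw [h1]
    rfl
  obtain ⟨τ, hτ, hτ'⟩ := UAlt.exists_bij_five h5 h6 e
  refine ⟨τ, hτ, ?_⟩
  subst hτ
  intro x hx
  have h1 : ∀ y ∈ E, M'.φ y = (M.relabel τ).φ y := by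
    intro y hy
    have h2 := hτ' (M.homK ⟨y, hy⟩)
    rw [he] at h2
    exact h2
  exact Mod.ext_of_K h1 hx

/-- **relabelling**: a labelling of `K` extending a given labelling of a subgroup `E` which has label `alt F` -/
theorem Mod.exists_relabel_five (M : Mod K S) {F : Finset α} (hFS : F ⊆ S) (M₀ : Mod E F)
    (h₀ : ∀ x ∈ E, M₀.φ x = M.φ x) (M' : Mod E F') (hFS' : F' ⊆ S') (h5 : 5 ≤ F.card)
    (h6 : F.card ≠ 6)
    (hcard : S.card = S'.card) :
    ∃ M'' : Mod K S', ∀ x ∈ E, M''.φ x = M'.φ x := by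
  obtain ⟨τ₀, hτ₀, h1⟩ := M₀.exists_bij_five M' h5 h6
  let e : F ≃ F' :=
    { toFun := fun x => ⟨τ₀ x, by rw [← hτ₀]; exact Finset.mem_map.mpr ⟨x, x.2, rfl⟩⟩
      invFun := fun x => ⟨τ₀⁻¹ x, by
        have h2 : (x : α) ∈ F.map τ₀.toEmbedding := by rw [hτ₀]; exact x.2
        obtain ⟨y, hy, h3⟩ := Finset.mem_map.mp h2
        have h4 : τ₀⁻¹ (x : α) = y := by
          rw [← h3]; simp
        rw [h4]; exact hy⟩
      left_inv := fun x => Subtype.ext (by simp)
      right_inv := fun x => Subtype.ext (by simp) }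
  have hFc : F.card = F'.card := by rw [← hτ₀, Finset.card_map]
  obtain ⟨τ, hτ, hτS⟩ := exists_perm_of_card hFS hFS' hFc hcard e
  subst hτS
  refine ⟨M.relabel τ, fun x hx => ?_⟩
  rw [Mod.relabel_φ, h1 x (le_normalizer hx), h₀ x hx]
  -- `τ` and `τ₀` agree on `F`, which contains the support of `M.φ x`
  have h2 : ∀ a ∈ F, τ a = τ₀ a := fun a ha => hτ a ha
  have h3 : M.φ x ∈ alt F := by rw [← h₀ x hx]; exact M₀.mem_alt x hx
  have h4 : τ₀⁻¹ * τ * M.φ x = M.φ x * (τ₀⁻¹ * τ) := by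
    ext a
    simp only [Perm.mul_apply]
    by_cases ha : a ∈ F
    · have h5 : M.φ x a ∈ F := mem_of_mem_sym (alt_le_sym _ h3) ha
      rw [h2 _ h5, h2 a ha]
      simp
    · rw [h3.2 a ha]
      symm
      apply h3.2
      intro h5
      -- `τ a ∈ τ₀ F = τ F`
      have h6 := h2 _ h5
      have h7 : τ₀ (τ₀⁻¹ (τ a)) = τ a := by simp
      rw [h7] at h6
      have h8 := τ.injective h6
      rw [h8] at h5
      exact ha h5
  calc τ * M.φ x * τ⁻¹ = τ₀ * (τ₀⁻¹ * τ * M.φ x) * τ⁻¹ := by group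
    _ = τ₀ * (M.φ x * (τ₀⁻¹ * τ)) * τ⁻¹ := by rw [h4]
    _ = τ₀ * M.φ x * τ₀⁻¹ := by group

/-- relabelling along `cmp t` -/
theorem Mod.exists_relabel_cmp_five [Finite G] (M : Mod K S) {t : G} (ht : t ∈ normalizer (K : Set G))
    (htt : t * t = 1) (h5 : 5 ≤ (fixIn S (M.φ t)).card)
    (h6 : (fixIn S (M.φ t)).card ≠ 6) (M' : Mod (M.cmp t) F') (hFS' : F' ⊆ S')
    (hcard : S.card = S'.card) :
    ∃ M'' : Mod K S', ∀ x ∈ M.cmp t, M''.φ x = M'.φ x := by
  obtain ⟨M₀, h₀⟩ := M.exists_cmp_five ht htt h5 h6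
  exact M.exists_relabel_five (fixIn_subset _ _) M₀ h₀ M' hFS' h5 h6 hcard

/-- a labelling of `K` from a labelling of `E`, `E ⊔ core K = K` -/
theorem Mod.exists_extend_five [Finite G] {E K : Subgroup G} {F : Finset α} (ME : Mod E F) (h5 : 5 ≤ F.card)
    (h6 : F.card ≠ 6)
    (hs : E ⊔ core K = K) : ∃ A : Mod K F, ∀ x ∈ E, A.φ x = ME.φ x := by
  have hEK : E ≤ K := by rw [← hs]; exact le_sup_left
  obtain ⟨e, he⟩ := exists_quotEquiv hs
  let q : (↥E ⧸ oddCore ↥E) ≃* ↥(alt F) :=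
    (QuotientGroup.quotientMulEquivOfEq ME.ker_homK.symm).trans
      (QuotientGroup.quotientKerEquivOfSurjective _ ME.homK_surjective)
  have hq : ∀ x : ↥E, q (QuotientGroup.mk x) = ME.homK x := fun x => rfl
  let g : ↥K →* ↥(alt F) := (e.symm.trans q).toMonoidHom.comp (QuotientGroup.mk' (oddCore ↥K))
  have hg : Function.Surjective g :=
    (e.symm.trans q).surjective.comp (QuotientGroup.mk'_surjective _)
  have hgk : g.ker = oddCore ↥K := by
    ext x
    rw [MonoidHom.mem_ker]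
    show (e.symm.trans q) (QuotientGroup.mk' (oddCore ↥K) x) = 1 ↔ _
    rw [MulEquiv.map_eq_one_iff]
    exact QuotientGroup.eq_one_iff x
  obtain ⟨A, hA⟩ := Mod.exists_of_hom_five (K := K) (S := F) h5 h6 ((alt F).subtype.comp g) (by
      rw [MonoidHom.range_comp, MonoidHom.range_eq_top.mpr hg, ← MonoidHom.range_eq_map,
        Subgroup.range_subtype]) (by
      rw [← hgk]
      ext x
      rw [MonoidHom.mem_ker, MonoidHom.mem_ker, MonoidHom.comp_apply]
      exact ⟨fun h => Subtype.ext h, fun h => by rw [h]; rfl⟩)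
  refine ⟨A, fun x hx => ?_⟩
  have h1 := hA ⟨x, hEK hx⟩
  have h2 : g ⟨x, hEK hx⟩ = ME.homK ⟨x, hx⟩ := by
    rw [← hq]
    show q (e.symm (QuotientGroup.mk ⟨x, hEK hx⟩)) = _
    congr 1
    rw [MulEquiv.symm_apply_eq]
    exact (he x hx (hEK hx)).symm
  rw [h1]
  show ((g ⟨x, hEK hx⟩ : alt F) : Perm α) = _
  rw [h2]
  rfl

/-- the labelling of `cmp v`, `v` a root -/
theorem Root.exists_mod_five [Finite G] {L : Subgroup G} {M : Mod L S} {T : Finset α} {v : G}
    (h : Root M T v) (h9 : 9 ≤ S.card) (h10 : S.card ≠ 10) :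
    ∃ ME : Mod (M.cmp v) (S \ T), ∀ x ∈ M.cmp v, ME.φ x = M.φ x := by
  have h1 := M.exists_cmp_five h.memN h.sq (by rw [h.card_fix]; omega) (by rw [h.card_fix]; omega)
  rw [h.fixIn_eq] at h1
  exact h1

/-- a subgroup which is alternating modulo its odd core has a labelling -/
theorem AltType.mod_five [Finite G] {K : Subgroup G} {m : ℕ} (h : AltType K m) {S : Finset α}
    (hS : S.card = m) (h5 : 5 ≤ m) (h6 : m ≠ 6) : Nonempty (Mod K S) := by
  subst hS
  obtain ⟨e⟩ := h
  exact Mod.nonempty_of_equiv_five h5 h6 (Ω := Fin S.card) (Fintype.card_fin _) e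

end Cfsg.Agent.UAlt
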