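import Cfsg.Agent.UAlt.AltCent
import Cfsg.Agent.Intrinsic.Lifting
import Cfsg.Agent.ClassificationK.PCompTransport
import Cfsg.Agent.StdAlt.Closing

/-!
# Subgroups which are alternating modulo the odd core

`Mod K S`: a labelling of the action of `N(K)` on `K / O(K) ≅ Alt(S)` by permutations of the finite set `S` of
points of the ambient type `α`.
-/

set_option autoImplicit false
set_option linter.unusedSectionVars false

namespace Cfsg.Agent.UAlt

open Cfsg Equiv Equiv.Perm Subgroup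
open Cfsg.Agent.Intrinsic.Basic Cfsg.Agent.Intrinsic
open Cfsg.Agent.SignalizersComponents Cfsg.Agent.Lib
open Cfsg.Agent.SignalizersComponents.IntrinsicBasic
open scoped commutatorElement

variable {G : Type*} [Group G] {α : Type*} [Fintype α] [DecidableEq α]

/-- a labelling of `K / O(K) ≅ Alt(S)` -/
structure Mod (K : Subgroup G) (S : Finset α) where
  /-- the action of `N(K)` on the points -/
  φ : G → Perm α
  mul : ∀ x y, x ∈ normalizer (K : Set G) → y ∈ normalizer (K : Set G) → φ (x * y) = φ x * φ y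
  mem_sym : ∀ x, x ∈ normalizer (K : Set G) → φ x ∈ sym S
  mem_alt : ∀ x ∈ K, φ x ∈ alt S
  lift : ∀ σ ∈ alt S, ∃ x ∈ K, φ x = σ
  core_iff : ∀ x ∈ K, φ x = 1 ↔ x ∈ core K
  five : 5 ≤ S.card

namespace Mod

variable {K : Subgroup G} {S : Finset α} (M : Mod K S)

theorem one : M.φ 1 = 1 := by
  have := M.mul 1 1 (one_mem _) (one_mem _)
  rw [mul_one] at this
  exact (left_eq_mul.mp this)

theorem inv {x : G} (hx : x ∈ normalizer (K : Set G)) : M.φ x⁻¹ = (M.φ x)⁻¹ := by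
  have := M.mul x⁻¹ x (inv_mem hx) hx
  rw [inv_mul_cancel, M.one] at this
  exact (inv_eq_of_mul_eq_one_left this.symm).symm

theorem conj {x y : G} (hx : x ∈ normalizer (K : Set G)) (hy : y ∈ normalizer (K : Set G)) :
    M.φ (x * y * x⁻¹) = M.φ x * M.φ y * (M.φ x)⁻¹ := by
  rw [M.mul _ _ (mul_mem hx hy) (inv_mem hx), M.mul _ _ hx hy, M.inv hx]

theorem pow {x : G} (hx : x ∈ normalizer (K : Set G)) (n : ℕ) : M.φ (x ^ n) = M.φ x ^ n := by
  induction n with
  | zero => rw [pow_zero, pow_zero, M.one]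
  | succ n ih => rw [pow_succ, pow_succ, M.mul _ _ (pow_mem hx n) hx, ih]

theorem comm {x y : G} (hx : x ∈ normalizer (K : Set G)) (hy : y ∈ normalizer (K : Set G))
    (h : x * y = y * x) : M.φ x * M.φ y = M.φ y * M.φ x := by
  rw [← M.mul _ _ hx hy, ← M.mul _ _ hy hx, h]

theorem sq {x : G} (hx : x ∈ normalizer (K : Set G)) (h : x * x = 1) : M.φ x * M.φ x = 1 := by
  rw [← M.mul _ _ hx hx, h, M.one]

theorem eq_iff {x y : G} (hx : x ∈ K) (hy : y ∈ K) : M.φ x = M.φ y ↔ x⁻¹ * y ∈ core K := by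
  rw [← M.core_iff _ (mul_mem (inv_mem hx) hy),
    M.mul _ _ (inv_mem (le_normalizer hx)) (le_normalizer hy), M.inv (le_normalizer hx),
    inv_mul_eq_one]

/-- elements of `N(K)` with the same label differ by an element fixing `K / O(K)` -/
theorem fixes_iff {x : G} (hx : x ∈ normalizer (K : Set G)) : M.φ x = 1 ↔ Fixes x K := by
  have key : ∀ y ∈ K, (⁅x, y⁆ ∈ core K ↔ M.φ x * M.φ y = M.φ y * M.φ x) := by
    intro y hy
    have hyN := le_normalizer (H := K) hy
    have h1 : ⁅x, y⁆ ∈ K := mul_mem ((mem_normalizer_iff.mp hx y).mp hy) (inv_mem hy)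
    rw [← M.core_iff _ h1, commutatorElement_def,
      M.mul _ _ (mul_mem (mul_mem hx hyN) (inv_mem hx)) (inv_mem hyN), M.conj hx hyN,
      M.inv hyN, mul_inv_eq_one, mul_inv_eq_iff_eq_mul]
  constructor
  · intro h
    refine ⟨hx, fun y hy => (key y hy).mpr ?_⟩
    rw [h, one_mul, mul_one]
  · intro h
    ext a
    by_cases ha : a ∈ S
    · refine apply_of_comm_alt (S := S) (by have := M.five; omega) (fun σ hσ => ?_) ha
      obtain ⟨y, hy, rfl⟩ := M.lift σ hσ
      exact (key y hy).mp (h.2 y hy)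
    · exact M.mem_sym x hx a ha

/-- the labelling as a homomorphism -/
def hom : ↥(normalizer (K : Set G)) →* Perm α where
  toFun x := M.φ x
  map_one' := M.one
  map_mul' x y := M.mul x y x.2 y.2

/-- the labelling of `K` -/
def homK : ↥K →* ↥(alt S) where
  toFun x := ⟨M.φ x, M.mem_alt x x.2⟩
  map_one' := Subtype.ext M.one
  map_mul' x y := Subtype.ext (M.mul x y (le_normalizer x.2) (le_normalizer y.2))

theorem homK_surjective : Function.Surjective M.homK := by
  rintro ⟨σ, hσ⟩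
  obtain ⟨x, hx, rfl⟩ := M.lift σ hσ
  exact ⟨⟨x, hx⟩, rfl⟩

theorem ker_homK : M.homK.ker = oddCore ↥K := by
  ext x
  rw [MonoidHom.mem_ker, Subtype.ext_iff]
  exact (M.core_iff x x.2).trans (mem_core_iff x.2)

/-- `K / O(K) ≅ Alt(S)` -/
noncomputable def quotEquiv : (↥K ⧸ oddCore ↥K) ≃* alternatingGroup S :=
  ((QuotientGroup.quotientMulEquivOfEq M.ker_homK.symm).trans
    (QuotientGroup.quotientKerEquivOfSurjective _ M.homK_surjective)).trans (altEquiv S).symm

/-- transport by conjugation -/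
def cj (g : G) : Mod (IntrinsicBasic.cj g K) S where
  φ x := M.φ (g⁻¹ * x * g)
  mul := by
    intro x y hx hy
    have h : ∀ x, x ∈ normalizer (IntrinsicBasic.cj g K : Set G) → g⁻¹ * x * g ∈ normalizer (K : Set G) := by
      intro x hx
      rw [mem_normalizer_iff_cj] at hx ⊢
      rw [IntrinsicBasic.cj_mul, IntrinsicBasic.cj_mul, hx, IntrinsicBasic.cj_inv_cj]
    rw [show g⁻¹ * (x * y) * g = (g⁻¹ * x * g) * (g⁻¹ * y * g) by group,
      M.mul _ _ (h x hx) (h y hy)]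
  mem_sym := by
    intro x hx
    apply M.mem_sym
    rw [mem_normalizer_iff_cj] at hx ⊢
    rw [IntrinsicBasic.cj_mul, IntrinsicBasic.cj_mul, hx, IntrinsicBasic.cj_inv_cj]
  mem_alt := fun x hx => M.mem_alt _ (mem_cj.mp hx)
  lift := by
    intro σ hσ
    obtain ⟨x, hx, rfl⟩ := M.lift σ hσ
    exact ⟨g * x * g⁻¹, conj_mem_cj hx, by rw [show g⁻¹ * (g * x * g⁻¹) * g = x by group]⟩
  core_iff := by
    intro x hx
    rw [M.core_iff _ (mem_cj.mp hx), core_cj, mem_cj]
  five := M.five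

theorem cj_φ (g x : G) : (M.cj g).φ x = M.φ (g⁻¹ * x * g) := rfl

theorem conj_mem_alt' {T : Finset α} {τ : Perm α} {σ : Perm α} (hσ : σ ∈ alt T)
    {T' : Finset α} (hT : ∀ x, x ∈ T → τ x ∈ T') : τ * σ * τ⁻¹ ∈ alt T' := by
  refine ⟨(inferInstance : (alternatingGroup α).Normal).conj_mem _ hσ.1 τ, fun x hx => ?_⟩
  have h1 : τ⁻¹ x ∉ T := fun h => hx (by simpa using hT _ h)
  rw [Perm.mul_apply, Perm.mul_apply, hσ.2 _ h1]
  simp

/-- change of labels -/
def relabel (τ : Perm α) : Mod K (S.map τ.toEmbedding) where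
  φ x := τ * M.φ x * τ⁻¹
  mul := by
    intro x y hx hy
    rw [M.mul _ _ hx hy]; group
  mem_sym := by
    intro x hx a ha
    have h1 : τ⁻¹ a ∉ S := fun h => ha (Finset.mem_map.mpr ⟨_, h, by simp⟩)
    rw [Perm.mul_apply, Perm.mul_apply, M.mem_sym x hx _ h1]
    simp
  mem_alt := fun x hx => conj_mem_alt' (M.mem_alt x hx) fun a ha =>
    Finset.mem_map.mpr ⟨a, ha, rfl⟩
  lift := by
    intro σ hσ
    obtain ⟨x, hx, h⟩ := M.lift (τ⁻¹ * σ * τ) (by
      have := conj_mem_alt' (τ := τ⁻¹) (T' := S) hσ (fun a ha => by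
        obtain ⟨b, hb, rfl⟩ := Finset.mem_map.mp ha
        simpa using hb)
      rwa [inv_inv] at this)
    exact ⟨x, hx, by rw [h]; group⟩
  core_iff := by
    intro x hx
    rw [← M.core_iff x hx]
    constructor
    · intro h
      rw [show M.φ x = τ⁻¹ * (τ * M.φ x * τ⁻¹) * τ by group, h]; group
    · intro h
      rw [h]; group
  five := by rw [Finset.card_map]; exact M.five

theorem relabel_φ (τ : Perm α) (x : G) : (M.relabel τ).φ x = τ * M.φ x * τ⁻¹ := rfl

/-- a labelling is determined by its restriction to `K` -/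
theorem ext_of_K {M M' : Mod K S} (h : ∀ x ∈ K, M.φ x = M'.φ x) {x : G}
    (hx : x ∈ normalizer (K : Set G)) : M.φ x = M'.φ x := by
  have h1 : ∀ σ ∈ alt S, (M'.φ x)⁻¹ * M.φ x * σ = σ * ((M'.φ x)⁻¹ * M.φ x) := by
    intro σ hσ
    obtain ⟨y, hy, rfl⟩ := M.lift σ hσ
    have hyN := le_normalizer (H := K) hy
    have h2 := M.conj hx hyN
    have h3 := M'.conj hx hyN
    rw [h _ ((mem_normalizer_iff.mp hx y).mp hy), h3, ← h y hy] at h2
    -- M' x * y * (M' x)⁻¹ = M x * y * (M x)⁻¹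
    have h4 : (M'.φ x)⁻¹ * (M'.φ x * M.φ y * (M'.φ x)⁻¹) * M.φ x =
        (M'.φ x)⁻¹ * (M.φ x * M.φ y * (M.φ x)⁻¹) * M.φ x := by rw [h2]
    calc (M'.φ x)⁻¹ * M.φ x * M.φ y = (M'.φ x)⁻¹ * (M.φ x * M.φ y * (M.φ x)⁻¹) * M.φ x := by group
      _ = (M'.φ x)⁻¹ * (M'.φ x * M.φ y * (M'.φ x)⁻¹) * M.φ x := h4.symm
      _ = M.φ y * ((M'.φ x)⁻¹ * M.φ x) := by group
  have h2 : (M'.φ x)⁻¹ * M.φ x = 1 := by
    ext a
    by_cases ha : a ∈ S
    · exact apply_of_comm_alt (S := S) (by have := M.five; omega) h1 ha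
    · exact mul_mem (inv_mem (M'.mem_sym x hx)) (M.mem_sym x hx) a ha
  exact (inv_mul_eq_one.mp h2).symm

section

variable [Finite G]

/-- **lifting of commuting elements** -/
theorem exists_comm_lift {t : G} (ht : t ∈ normalizer (K : Set G)) {n : ℕ} (htn : t ^ 2 ^ n = 1)
    {σ : Perm α} (hσ : σ ∈ alt S) (hc : M.φ t * σ = σ * M.φ t) :
    ∃ k ∈ K, t * k = k * t ∧ M.φ k = σ := by
  obtain ⟨m, hm, rfl⟩ := M.lift σ hσ
  have hmN := le_normalizer (H := K) hm
  have h1 : m⁻¹ * (t * m * t⁻¹) ∈ core K := by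
    rw [← M.eq_iff hm ((mem_normalizer_iff.mp ht m).mp hm), M.conj ht hmN, hc,
      mul_inv_cancel_right]
  obtain ⟨o, ho, hto⟩ := Lifting.exists_commute (odd_card_core K) htn
    (normalizer_le_normalizer_core K ht) h1
  refine ⟨m * o, mul_mem hm (core_le K ho), hto, ?_⟩
  rw [M.mul _ _ hmN (le_normalizer (core_le K ho)), (M.core_iff o (core_le K ho)).mpr ho, mul_one]

/-- lifting of involutions commuting with `t` -/
theorem exists_inv_lift {t : G} (ht : t ∈ normalizer (K : Set G)) {n : ℕ} (htn : t ^ 2 ^ n = 1)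
    {σ : Perm α} (hσ : σ ∈ alt S) (hσσ : σ * σ = 1) (hc : M.φ t * σ = σ * M.φ t) :
    ∃ k ∈ K, k * k = 1 ∧ t * k = k * t ∧ M.φ k = σ := by
  obtain ⟨m, hm, rfl⟩ := M.lift σ hσ
  have hmN := le_normalizer (H := K) hm
  have h1 : m⁻¹ * (t * m * t⁻¹) ∈ core K := by
    rw [← M.eq_iff hm ((mem_normalizer_iff.mp ht m).mp hm), M.conj ht hmN, hc,
      mul_inv_cancel_right]
  have h2 : m * m ∈ core K := by
    rw [← M.core_iff _ (mul_mem hm hm), M.mul _ _ hmN hmN, hσσ]
  obtain ⟨o, ho, hoo, hto⟩ := Lifting.exists_involution (odd_card_core K) htn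
    (normalizer_le_normalizer_core K ht) (le_normalizer_core K hm) h2 h1
  refine ⟨m * o, mul_mem hm (core_le K ho), hoo, hto, ?_⟩
  rw [M.mul _ _ hmN (le_normalizer (core_le K ho)), (M.core_iff o (core_le K ho)).mpr ho, mul_one]

/-! ### the 2-component of `C_K(t)` -/

/-- the members of `C_K(t)` with label in `Alt(Fix t)` -/
def pre (t : G) : Subgroup G where
  carrier := {k | k ∈ K ∧ t * k = k * t ∧ M.φ k ∈ alt (fixIn S (M.φ t))}
  mul_mem' {a b} ha hb := by
    refine ⟨mul_mem ha.1 hb.1, ?_, ?_⟩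
    · rw [← mul_assoc, ha.2.1, mul_assoc, hb.2.1, mul_assoc]
    · rw [M.mul _ _ (le_normalizer ha.1) (le_normalizer hb.1)]
      exact mul_mem ha.2.2 hb.2.2
  one_mem' := ⟨one_mem _, by rw [mul_one, one_mul], by rw [M.one]; exact one_mem _⟩
  inv_mem' {a} ha := by
    refine ⟨inv_mem ha.1, ?_, ?_⟩
    · rw [eq_inv_mul_iff_mul_eq, ← mul_assoc, ← ha.2.1, mul_inv_cancel_right]
    · rw [M.inv (le_normalizer ha.1)]
      exact inv_mem ha.2.2

theorem mem_pre {t k : G} : k ∈ M.pre t ↔ k ∈ K ∧ t * k = k * t ∧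
    M.φ k ∈ alt (fixIn S (M.φ t)) := Iff.rfl

/-- the 2-component of `C_K(t)` with label `Alt(Fix t)` -/
def cmp (t : G) : Subgroup G := PComponents.pElem 2 (M.pre t)

theorem cmp_le_pre (t : G) : M.cmp t ≤ M.pre t := PComponents.pElem_le _

theorem cmp_le (t : G) : M.cmp t ≤ K := fun _ h => (M.cmp_le_pre t h).1

theorem cmp_comm {t k : G} (h : k ∈ M.cmp t) : t * k = k * t := (M.cmp_le_pre t h).2.1

theorem cmp_mem_alt {t k : G} (h : k ∈ M.cmp t) : M.φ k ∈ alt (fixIn S (M.φ t)) :=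
  (M.cmp_le_pre t h).2.2

theorem cmp_le_cent (t : G) : M.cmp t ≤ K ⊓ centralizer ({t} : Set G) := fun _ h =>
  ⟨M.cmp_le t h, mem_centralizer_singleton_iff.mpr (M.cmp_comm h).symm⟩

theorem mem_cmp {t k : G} (hk : k ∈ K) (htk : t * k = k * t)
    (h : M.φ k ∈ alt (fixIn S (M.φ t))) {n : ℕ} (hn : k ^ 2 ^ n = 1) : k ∈ M.cmp t :=
  PComponents.mem_pElem (n := n) ⟨hk, htk, h⟩ hn

/-- the labelling of `C_K(t)` -/
def homC {t : G} (ht : t ∈ normalizer (K : Set G)) : ↥(K ⊓ centralizer ({t} : Set G)) →*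
    ↥(alt S ⊓ centralizer ({M.φ t} : Set (Perm α))) where
  toFun x := ⟨M.φ x, M.mem_alt x x.2.1, mem_centralizer_singleton_iff.mpr
    (M.comm (le_normalizer x.2.1) ht (mem_centralizer_singleton_iff.mp x.2.2))⟩
  map_one' := Subtype.ext M.one
  map_mul' x y := Subtype.ext (M.mul x y (le_normalizer x.2.1) (le_normalizer y.2.1))

theorem homC_coe {t : G} (ht : t ∈ normalizer (K : Set G))
    (x : ↥(K ⊓ centralizer ({t} : Set G))) : (M.homC ht x : Perm α) = M.φ x := rfl

theorem homC_surjective {t : G} (ht : t ∈ normalizer (K : Set G)) {n : ℕ} (htn : t ^ 2 ^ n = 1) :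
    Function.Surjective (M.homC ht) := by
  rintro ⟨σ, hσ, hσc⟩
  obtain ⟨k, hk, htk, rfl⟩ := M.exists_comm_lift ht htn hσ
    (mem_centralizer_singleton_iff.mp hσc).symm
  exact ⟨⟨k, hk, mem_centralizer_singleton_iff.mpr htk.symm⟩, rfl⟩

theorem mem_ker_homC {t : G} (ht : t ∈ normalizer (K : Set G))
    {x : ↥(K ⊓ centralizer ({t} : Set G))} : x ∈ (M.homC ht).ker ↔ (x : G) ∈ core K := by
  rw [MonoidHom.mem_ker, Subtype.ext_iff, homC_coe]
  exact M.core_iff _ x.2.1

theorem odd_ker_homC {t : G} (ht : t ∈ normalizer (K : Set G)) :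
    Odd (Nat.card (M.homC ht).ker) := by
  have h1 : (M.homC ht).ker.map (K ⊓ centralizer ({t} : Set G)).subtype ≤ core K := by
    rintro _ ⟨m, hm, rfl⟩
    exact (M.mem_ker_homC ht).mp hm
  have h2 := Subgroup.card_dvd_of_le h1
  rw [Subgroup.card_map_of_injective (Subgroup.subtype_injective _)] at h2
  exact Odd.of_dvd_nat (odd_card_core K) h2

theorem isComponent_subgroupOf {G : Type*} [Group G] [Finite G] {H C : Subgroup G} (hC : C ≤ H)
    (hs : (C.subgroupOf H).IsSubnormal) (hsim : IsSimpleGroup C) (hnc : ¬ IsMulCommutative C) :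
    IsComponent (C.subgroupOf H) :=
  ⟨hs, PCompQuot.quasisimple_congr (subgroupOfEquivOfLe hC).symm
    (IntrinsicDiag.quasisimple_of_simple hsim hnc)⟩

/-- `cmp t` is a 2-component of `C_K(t)` -/
theorem isComp_cmp_aux {t : G} (ht : t ∈ normalizer (K : Set G)) (htt : t * t = 1)
    (h5 : 5 ≤ (fixIn S (M.φ t)).card) :
    IsComp (K ⊓ centralizer ({t} : Set G)) (M.cmp t) ∧
      ∀ σ ∈ alt (fixIn S (M.φ t)), ∃ k ∈ M.cmp t, M.φ k = σ := by
  have htn : t ^ 2 ^ 1 = 1 := by rw [pow_one, pow_two]; exact htt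
  set H := K ⊓ centralizer ({t} : Set G) with hH
  set A := alt S ⊓ centralizer ({M.φ t} : Set (Perm α)) with hA
  set F := alt (fixIn S (M.φ t)) with hF
  have hFA : F ≤ A := alt_fixIn_le_centralizer S (M.φ t)
  have hFn : (F.subgroupOf A).Normal :=
    normal_subgroupOf_of_le_normalizer ((alt_cent_le S _).trans (alt_fixIn_normal S _))
  have hcomp : IsComponent (F.subgroupOf A) :=
    isComponent_subgroupOf hFA hFn.isSubnormal (isSimpleGroup_alt h5) (not_comm_alt (by omega))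
  have h2 : 2 ∣ Nat.card (F.subgroupOf A) := by
    rw [Nat.card_congr (subgroupOfEquivOfLe hFA).toEquiv]
    exact two_dvd_card_alt (by omega)
  obtain ⟨h3, h4⟩ := IntrinsicLift.lift_component (M.homC ht) (M.homC_surjective ht htn)
    (M.odd_ker_homC ht) hcomp h2
  have hpre : ((F.subgroupOf A).comap (M.homC ht)).map H.subtype = M.pre t := by
    ext x
    constructor
    · rintro ⟨y, hy, rfl⟩
      exact ⟨y.2.1, (mem_centralizer_singleton_iff.mp y.2.2).symm, hy⟩
    · rintro ⟨h1, h2, h3⟩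
      exact ⟨⟨x, h1, mem_centralizer_singleton_iff.mpr h2.symm⟩, h3, rfl⟩
  have hcmp : (PComponents.pElem 2 ((F.subgroupOf A).comap (M.homC ht))).map H.subtype =
      M.cmp t := by
    rw [Charac.pElem_map_subtype, hpre]; rfl
  refine ⟨?_, fun σ hσ => ?_⟩
  · rw [← hcmp]
    exact isComp_of_subtype h3
  · have h5 : (⟨σ, hFA hσ⟩ : ↥A) ∈ F.subgroupOf A := hσ
    rw [← h4] at h5
    obtain ⟨y, hy, hyσ⟩ := h5
    refine ⟨y, ?_, ?_⟩
    · rw [← hcmp]
      exact ⟨y, hy, rfl⟩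
    · exact congrArg Subtype.val hyσ

theorem isComp_cmp {t : G} (ht : t ∈ normalizer (K : Set G)) (htt : t * t = 1)
    (h5 : 5 ≤ (fixIn S (M.φ t)).card) : IsComp (K ⊓ centralizer ({t} : Set G)) (M.cmp t) :=
  (M.isComp_cmp_aux ht htt h5).1

theorem cmp_lift {t : G} (ht : t ∈ normalizer (K : Set G)) (htt : t * t = 1)
    (h5 : 5 ≤ (fixIn S (M.φ t)).card) {σ : Perm α} (hσ : σ ∈ alt (fixIn S (M.φ t))) :
    ∃ k ∈ M.cmp t, M.φ k = σ := (M.isComp_cmp_aux ht htt h5).2 σ hσ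

/-- the image of `E ≤ C_K(t)` as a subgroup of `Perm α` -/
theorem comp_image {t : G} (ht : t ∈ normalizer (K : Set G)) (htt : t * t = 1) {E : Subgroup G}
    (hE : IsComp (K ⊓ centralizer ({t} : Set G)) E) :
    5 ≤ (fixIn S (M.φ t)).card ∧ ∀ x ∈ E, M.φ x ∈ alt (fixIn S (M.φ t)) := by
  have htn : t ^ 2 ^ 1 = 1 := by rw [pow_one, pow_two]; exact htt
  have h1 := ClassificationK.PCompTransport.isPComponent_map 2 (M.homC ht)
    (Nat.coprime_two_right.mpr (M.odd_ker_homC ht))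
    (by rw [MonoidHom.range_eq_top.mpr (M.homC_surjective ht htn)]; exact IsSubnormal.top) hE.2
  have h2 := isComp_of_subtype h1
  obtain ⟨h3, h4⟩ := (isComp_iff_alt_fixIn (M.mem_sym t ht) (M.sq ht htt)).mp h2
  refine ⟨h4, fun x hx => ?_⟩
  rw [← h3]
  exact ⟨M.homC ht ⟨x, hE.le hx⟩, ⟨⟨x, hE.le hx⟩, hx, rfl⟩, rfl⟩

/-- **the 2-components of `C_K(t)`** -/
theorem isComp_iff_cmp {t : G} (ht : t ∈ normalizer (K : Set G)) (htt : t * t = 1)
    {E : Subgroup G} : IsComp (K ⊓ centralizer ({t} : Set G)) E ↔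
      E = M.cmp t ∧ 5 ≤ (fixIn S (M.φ t)).card := by
  constructor
  · intro hE
    obtain ⟨h5, h1⟩ := M.comp_image ht htt hE
    refine ⟨?_, h5⟩
    apply hE.eq_of_le (M.isComp_cmp ht htt h5)
    rw [← hE.pElem_eq]
    exact PComponents.pElem_mono fun x hx => ⟨(hE.le hx).1,
      (mem_centralizer_singleton_iff.mp (hE.le hx).2).symm, h1 x hx⟩
  · rintro ⟨rfl, h5⟩
    exact M.isComp_cmp ht htt h5

/-- **the core of `C_K(t)`** -/
theorem core_cent_le {t : G} (ht : t ∈ normalizer (K : Set G)) (htt : t * t = 1)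
    (h3 : (fixIn S (M.φ t)).card ≠ 3) : core (K ⊓ centralizer ({t} : Set G)) ≤ core K := by
  have htn : t ^ 2 ^ 1 = 1 := by rw [pow_one, pow_two]; exact htt
  set H := K ⊓ centralizer ({t} : Set G) with hH
  set A := alt S ⊓ centralizer ({M.φ t} : Set (Perm α)) with hA
  intro x hx
  have hxH := core_le H hx
  rw [← M.core_iff x hxH.1]
  set N := (((core H).subgroupOf H).map (M.homC ht)).map A.subtype with hN
  have hodd : Odd (Nat.card N) := by
    have h1 : Nat.card N ∣ Nat.card (core H) :=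
      (Subgroup.card_map_dvd _ _).trans ((Subgroup.card_map_dvd _ _).trans
        (by rw [Nat.card_congr (subgroupOfEquivOfLe (core_le H)).toEquiv]))
    exact Odd.of_dvd_nat (odd_card_core H) h1
  have hle : N ≤ core A := by
    refine le_core_of_subnormal (map_subtype_le _) ?_ hodd
    have h1 : ((core H).subgroupOf H).Normal :=
      normal_subgroupOf_of_le_normalizer (le_normalizer_core H)
    have h2 : (((core H).subgroupOf H).map (M.homC ht)).Normal :=
      h1.map _ (M.homC_surjective ht htn)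
    have h3 : N.subgroupOf A = ((core H).subgroupOf H).map (M.homC ht) := by
      exact Subgroup.comap_map_eq_self_of_injective A.subtype_injective _
    rw [h3]
    exact h2.isSubnormal
  rw [core_cent (M.mem_sym t ht) (M.sq ht htt) h3] at hle
  have hmem : M.φ x ∈ N := ⟨M.homC ht ⟨x, hxH⟩, ⟨⟨x, hxH⟩, hx, rfl⟩, rfl⟩
  exact mem_bot.mp (hle hmem)

/-- `cmp t` as a 2-component of `C_X(t)` for a 2-component `K` of `X` -/
theorem isComp_cmp_of {X : Subgroup G} (hK : IsComp X K) {t : G}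
    (ht : t ∈ normalizer (K : Set G)) (htt : t * t = 1) (h5 : 5 ≤ (fixIn S (M.φ t)).card) :
    IsComp (X ⊓ centralizer ({t} : Set G)) (M.cmp t) := by
  refine (M.isComp_cmp ht htt h5).extend (inf_le_inf_right _ hK.le) ?_
  have h1 := hK.2.1.comap (Subgroup.inclusion (inf_le_left : X ⊓ centralizer ({t} : Set G) ≤ X))
  convert h1 using 1
  ext x
  simp only [mem_subgroupOf, mem_comap, mem_inf, coe_inclusion]
  exact ⟨fun h => h.1, fun h => ⟨h, x.2.2⟩⟩

end

end Mod

end Cfsg.Agent.UAlt
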