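import Cfsg.Agent.UAlt.AltCentT
import Cfsg.Agent.UAlt.Root

/-!
# The 2-component of `C_K(T)`, `K / O(K)` alternating, `T` a 2-group
-/

set_option autoImplicit false
set_option linter.unusedSectionVars false

namespace Cfsg.Agent.UAlt

open Cfsg Equiv Equiv.Perm Subgroup
open Cfsg.Agent.Intrinsic.Basic Cfsg.Agent.Intrinsic
open Cfsg.Agent.SignalizersComponents Cfsg.Agent.Lib
open Cfsg.Agent.SignalizersComponents.IntrinsicBasic
open scoped commutatorElement

variable {G : Type*} [Group G] {α : Type*} [Fintype α] [DecidableEq α]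

namespace Mod

variable {K : Subgroup G} {S : Finset α} (M : Mod K S)

/-- the labels of the members of `T ∩ N(K)` -/
def imgT (T : Subgroup G) : Subgroup (Perm α) := (T.subgroupOf (normalizer (K : Set G))).map M.hom

theorem mem_imgT {T : Subgroup G} {σ : Perm α} :
    σ ∈ M.imgT T ↔ ∃ t ∈ T, t ∈ normalizer (K : Set G) ∧ M.φ t = σ := by
  constructor
  · rintro ⟨x, hx, rfl⟩
    exact ⟨x, mem_subgroupOf.1 hx, x.2, rfl⟩
  · rintro ⟨x, hx, hxN, rfl⟩
    exact ⟨⟨x, hxN⟩, mem_subgroupOf.2 hx, rfl⟩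

theorem imgT_le (T : Subgroup G) : M.imgT T ≤ sym S := by
  intro σ hσ
  obtain ⟨t, -, ht, rfl⟩ := M.mem_imgT.mp hσ
  exact M.mem_sym t ht

theorem isPGroup_imgT {T : Subgroup G} (hT : IsPGroup 2 T) : IsPGroup 2 (M.imgT T) := by
  rintro ⟨σ, hσ⟩
  obtain ⟨t, ht, htN, rfl⟩ := M.mem_imgT.mp hσ
  obtain ⟨n, hn⟩ := hT ⟨t, ht⟩
  refine ⟨n, Subtype.ext ?_⟩
  change M.φ t ^ 2 ^ n = 1
  rw [← M.pow htN, show t ^ 2 ^ n = 1 from congrArg Subtype.val hn, M.one]

/-- the points of `S` fixed by `T` -/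
noncomputable def FT (T : Subgroup G) : Finset α := fixT S (M.imgT T)

theorem mem_FT {T : Subgroup G} (hTN : T ≤ normalizer (K : Set G)) {x : α} :
    x ∈ M.FT T ↔ x ∈ S ∧ ∀ t ∈ T, M.φ t x = x := by
  unfold FT
  rw [mem_fixT]
  refine and_congr_right fun _ => ?_
  constructor
  · intro h t ht
    exact h _ (M.mem_imgT.mpr ⟨t, ht, hTN ht, rfl⟩)
  · intro h σ hσ
    obtain ⟨t, ht, -, rfl⟩ := M.mem_imgT.mp hσ
    exact h t ht

theorem FT_subset (T : Subgroup G) : M.FT T ⊆ S := fixT_subset _ _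

/-- the members of `C_K(T)` with label in `Alt(Fix T)` -/
def preT (T : Subgroup G) : Subgroup G where
  carrier := {k | k ∈ K ∧ (∀ t ∈ T, t * k = k * t) ∧ M.φ k ∈ alt (M.FT T)}
  mul_mem' {a b} ha hb := by
    refine ⟨mul_mem ha.1 hb.1, fun t ht => ?_, ?_⟩
    · rw [← mul_assoc, ha.2.1 t ht, mul_assoc, hb.2.1 t ht, mul_assoc]
    · rw [M.mul _ _ (le_normalizer ha.1) (le_normalizer hb.1)]
      exact mul_mem ha.2.2 hb.2.2
  one_mem' := ⟨one_mem _, fun t _ => by rw [mul_one, one_mul], by rw [M.one]; exact one_mem _⟩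
  inv_mem' {a} ha := by
    refine ⟨inv_mem ha.1, fun t ht => ?_, ?_⟩
    · rw [eq_inv_mul_iff_mul_eq, ← mul_assoc, ← ha.2.1 t ht, mul_inv_cancel_right]
    · rw [M.inv (le_normalizer ha.1)]
      exact inv_mem ha.2.2

/-- the 2-component of `C_K(T)` with label `Alt(Fix T)` -/
def cmpT (T : Subgroup G) : Subgroup G := PComponents.pElem 2 (M.preT T)

variable {T : Subgroup G}

theorem cmpT_le_preT (T : Subgroup G) : M.cmpT T ≤ M.preT T := PComponents.pElem_le _

theorem cmpT_le (T : Subgroup G) : M.cmpT T ≤ K := fun _ h => (M.cmpT_le_preT T h).1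

theorem cmpT_comm {t k : G} (h : k ∈ M.cmpT T) (ht : t ∈ T) : t * k = k * t :=
  (M.cmpT_le_preT T h).2.1 t ht

theorem cmpT_mem_alt {k : G} (h : k ∈ M.cmpT T) : M.φ k ∈ alt (M.FT T) :=
  (M.cmpT_le_preT T h).2.2

theorem cmpT_le_cent (T : Subgroup G) : M.cmpT T ≤ K ⊓ centralizer (T : Set G) := fun _ h =>
  ⟨M.cmpT_le T h, fun _ ht => M.cmpT_comm h ht⟩

theorem mem_cmpT {k : G} (hk : k ∈ K) (htk : ∀ t ∈ T, t * k = k * t)
    (h : M.φ k ∈ alt (M.FT T)) {n : ℕ} (hn : k ^ 2 ^ n = 1) : k ∈ M.cmpT T :=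
  PComponents.mem_pElem (n := n) ⟨hk, htk, h⟩ hn

/-- the labelling of `C_K(T)` -/
def homT (T : Subgroup G) : ↥(K ⊓ centralizer (T : Set G)) →*
    ↥(alt S ⊓ centralizer (M.imgT T : Set (Perm α))) where
  toFun x := ⟨M.φ x, M.mem_alt x x.2.1, by
    intro σ hσ
    obtain ⟨t, ht, htN, rfl⟩ := M.mem_imgT.mp hσ
    exact M.comm htN (le_normalizer x.2.1) (x.2.2 t ht)⟩
  map_one' := Subtype.ext M.one
  map_mul' x y := Subtype.ext (M.mul x y (le_normalizer x.2.1) (le_normalizer y.2.1))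

theorem homT_coe (x : ↥(K ⊓ centralizer (T : Set G))) : (M.homT T x : Perm α) = M.φ x := rfl

variable [Finite G]

theorem homT_surjective (hT : IsPGroup 2 T) (hTN : T ≤ normalizer (K : Set G)) :
    Function.Surjective (M.homT T) := by
  rintro ⟨σ, hσ, hσc⟩
  obtain ⟨k, hk, hkT, rfl⟩ := M.exists_fix_lift hT hTN hσ fun p hp =>
    hσc _ (M.mem_imgT.mpr ⟨p, hp, hTN hp, rfl⟩)
  exact ⟨⟨k, hk, fun t ht => (hkT t ht).symm⟩, rfl⟩

theorem mem_ker_homT {x : ↥(K ⊓ centralizer (T : Set G))} :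
    x ∈ (M.homT T).ker ↔ (x : G) ∈ core K := by
  rw [MonoidHom.mem_ker, Subtype.ext_iff, homT_coe]
  exact M.core_iff _ x.2.1

theorem odd_ker_homT (T : Subgroup G) : Odd (Nat.card (M.homT T).ker) := by
  have h1 : (M.homT T).ker.map (K ⊓ centralizer (T : Set G)).subtype ≤ core K := by
    rintro _ ⟨m, hm, rfl⟩
    exact M.mem_ker_homT.mp hm
  have h2 := Subgroup.card_dvd_of_le h1
  rw [Subgroup.card_map_of_injective (Subgroup.subtype_injective _)] at h2
  exact Odd.of_dvd_nat (odd_card_core K) h2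

theorem isComp_cmpT_aux (hT : IsPGroup 2 T) (hTN : T ≤ normalizer (K : Set G))
    (h5 : 5 ≤ (M.FT T).card) :
    IsComp (K ⊓ centralizer (T : Set G)) (M.cmpT T) ∧
      ∀ σ ∈ alt (M.FT T), ∃ k ∈ M.cmpT T, M.φ k = σ := by
  set H := K ⊓ centralizer (T : Set G) with hH
  set A := alt S ⊓ centralizer (M.imgT T : Set (Perm α)) with hA
  set F := alt (M.FT T) with hF
  have hFA : F ≤ A := alt_fixT_le S (M.imgT T)
  have hFn : (F.subgroupOf A).Normal :=
    normal_subgroupOf_of_le_normalizer ((alt_centT_le S _).trans (alt_fixT_normal S _))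
  have hcomp : IsComponent (F.subgroupOf A) :=
    isComponent_subgroupOf hFA hFn.isSubnormal (isSimpleGroup_alt h5) (not_comm_alt (by omega))
  have h2 : 2 ∣ Nat.card (F.subgroupOf A) := by
    rw [Nat.card_congr (subgroupOfEquivOfLe hFA).toEquiv]
    exact two_dvd_card_alt (by omega)
  obtain ⟨h3, h4⟩ := IntrinsicLift.lift_component (M.homT T) (M.homT_surjective hT hTN)
    (M.odd_ker_homT T) hcomp h2
  have hpre : ((F.subgroupOf A).comap (M.homT T)).map H.subtype = M.preT T := by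
    ext x
    constructor
    · rintro ⟨y, hy, rfl⟩
      exact ⟨y.2.1, fun t ht => y.2.2 t ht, hy⟩
    · rintro ⟨h1, h2, h3⟩
      exact ⟨⟨x, h1, fun t ht => h2 t ht⟩, h3, rfl⟩
  have hcmp : (PComponents.pElem 2 ((F.subgroupOf A).comap (M.homT T))).map H.subtype =
      M.cmpT T := by
    rw [Charac.pElem_map_subtype, hpre]; rfl
  refine ⟨?_, fun σ hσ => ?_⟩
  · rw [← hcmp]
    exact isComp_of_subtype h3
  · have h5 : (⟨σ, hFA hσ⟩ : ↥A) ∈ F.subgroupOf A := hσ
    rw [← h4] at h5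
    obtain ⟨y, hy, hyσ⟩ := h5
    refine ⟨y, ?_, ?_⟩
    · rw [← hcmp]
      exact ⟨y, hy, rfl⟩
    · exact congrArg Subtype.val hyσ

theorem isComp_cmpT (hT : IsPGroup 2 T) (hTN : T ≤ normalizer (K : Set G))
    (h5 : 5 ≤ (M.FT T).card) : IsComp (K ⊓ centralizer (T : Set G)) (M.cmpT T) :=
  (M.isComp_cmpT_aux hT hTN h5).1

theorem cmpT_lift (hT : IsPGroup 2 T) (hTN : T ≤ normalizer (K : Set G))
    (h5 : 5 ≤ (M.FT T).card) {σ : Perm α} (hσ : σ ∈ alt (M.FT T)) :
    ∃ k ∈ M.cmpT T, M.φ k = σ := (M.isComp_cmpT_aux hT hTN h5).2 σ hσ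

theorem compT_image (hT : IsPGroup 2 T) (hTN : T ≤ normalizer (K : Set G)) {E : Subgroup G}
    (hE : IsComp (K ⊓ centralizer (T : Set G)) E) :
    5 ≤ (M.FT T).card ∧ ∀ x ∈ E, M.φ x ∈ alt (M.FT T) := by
  have h1 := ClassificationK.PCompTransport.isPComponent_map 2 (M.homT T)
    (Nat.coprime_two_right.mpr (M.odd_ker_homT T))
    (by rw [MonoidHom.range_eq_top.mpr (M.homT_surjective hT hTN)]; exact IsSubnormal.top) hE.2
  have h2 := isComp_of_subtype h1
  obtain ⟨h3, h4⟩ := (isComp_iff_alt_fixT (M.imgT_le T) (M.isPGroup_imgT hT)).mp h2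
  refine ⟨h4, fun x hx => ?_⟩
  have h5 : M.φ x ∈ alt (fixT S (M.imgT T)) := by
    rw [← h3]
    exact ⟨M.homT T ⟨x, hE.le hx⟩, ⟨⟨x, hE.le hx⟩, hx, rfl⟩, rfl⟩
  exact h5

/-- **the 2-components of `C_K(T)`** -/
theorem isComp_iff_cmpT (hT : IsPGroup 2 T) (hTN : T ≤ normalizer (K : Set G))
    {E : Subgroup G} : IsComp (K ⊓ centralizer (T : Set G)) E ↔
      E = M.cmpT T ∧ 5 ≤ (M.FT T).card := by
  constructor
  · intro hE
    obtain ⟨h5, h1⟩ := M.compT_image hT hTN hE
    refine ⟨?_, h5⟩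
    apply hE.eq_of_le (M.isComp_cmpT hT hTN h5)
    rw [← hE.pElem_eq]
    exact PComponents.pElem_mono fun x hx => ⟨(hE.le hx).1, fun t ht => (hE.le hx).2 t ht, h1 x hx⟩
  · rintro ⟨rfl, h5⟩
    exact M.isComp_cmpT hT hTN h5

/-- **the core of `C_K(T)`** -/
theorem core_centT_le (hT : IsPGroup 2 T) (hTN : T ≤ normalizer (K : Set G))
    (h3 : (M.FT T).card ≠ 3) : core (K ⊓ centralizer (T : Set G)) ≤ core K := by
  set H := K ⊓ centralizer (T : Set G) with hH
  set A := alt S ⊓ centralizer (M.imgT T : Set (Perm α)) with hA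
  intro x hx
  have hxH := core_le H hx
  rw [← M.core_iff x hxH.1]
  set N := (((core H).subgroupOf H).map (M.homT T)).map A.subtype with hN
  have hodd : Odd (Nat.card N) := by
    have h1 : Nat.card N ∣ Nat.card (core H) :=
      (Subgroup.card_map_dvd _ _).trans ((Subgroup.card_map_dvd _ _).trans
        (by rw [Nat.card_congr (subgroupOfEquivOfLe (core_le H)).toEquiv]))
    exact Odd.of_dvd_nat (odd_card_core H) h1
  have hle : N ≤ core A := by
    refine le_core_of_subnormal (map_subtype_le _) ?_ hodd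
    have h1 : ((core H).subgroupOf H).Normal :=
      normal_subgroupOf_of_le_normalizer (le_normalizer_core H)
    have h2 : (((core H).subgroupOf H).map (M.homT T)).Normal :=
      h1.map _ (M.homT_surjective hT hTN)
    have h3 : N.subgroupOf A = ((core H).subgroupOf H).map (M.homT T) := by
      exact Subgroup.comap_map_eq_self_of_injective A.subtype_injective _
    rw [h3]
    exact h2.isSubnormal
  rw [core_centT (M.imgT_le T) (M.isPGroup_imgT hT) h3] at hle
  have hmem : M.φ x ∈ N := ⟨M.homT T ⟨x, hxH⟩, ⟨⟨x, hxH⟩, hx, rfl⟩, rfl⟩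
  exact mem_bot.mp (hle hmem)

/-- `cmpT T` as a 2-component of `C_X(T)` for a 2-component `K` of `X` -/
theorem isComp_cmpT_of {X : Subgroup G} (hK : IsComp X K) (hT : IsPGroup 2 T)
    (hTN : T ≤ normalizer (K : Set G)) (h5 : 5 ≤ (M.FT T).card) :
    IsComp (X ⊓ centralizer (T : Set G)) (M.cmpT T) := by
  refine (M.isComp_cmpT hT hTN h5).extend (inf_le_inf_right _ hK.le) ?_
  have h1 := hK.2.1.comap (Subgroup.inclusion (inf_le_left : X ⊓ centralizer (T : Set G) ≤ X))
  convert h1 using 1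
  ext x
  simp only [mem_subgroupOf, mem_comap, mem_inf, coe_inclusion]
  exact ⟨fun h => h.1, fun h => ⟨h, x.2.2⟩⟩

/-- the kernel of the labelling on a 2-component with label `alt F` -/
theorem exists_sub {E : Subgroup G} {F : Finset α} (h7 : 7 ≤ F.card) (hEK : E ≤ K)
    (hmem : ∀ x ∈ E, M.φ x ∈ alt F) (hlift : ∀ σ ∈ alt F, ∃ k ∈ E, M.φ k = σ) :
    ∃ M' : Mod E F, ∀ x ∈ E, M'.φ x = M.φ x := by
  let ε : ↥E →* Perm α := M.hom.comp (Subgroup.inclusion (hEK.trans le_normalizer))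
  have hε : ∀ x : ↥E, ε x = M.φ x := fun x => rfl
  obtain ⟨M', hM'⟩ := Mod.exists_of_hom (K := E) (S := F) h7 ε (by
    ext σ
    constructor
    · rintro ⟨x, rfl⟩
      exact hmem _ x.2
    · intro hσ
      obtain ⟨k, hk, rfl⟩ := hlift σ hσ
      exact ⟨⟨k, hk⟩, rfl⟩) (by
    have hodd : Odd (Nat.card ε.ker) := by
      have h1 : ε.ker.map E.subtype ≤ core K := by
        rintro _ ⟨m, hm, rfl⟩
        exact (M.core_iff _ (hEK m.2)).mp hm
      have h2 := Subgroup.card_dvd_of_le h1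
      rw [Subgroup.card_map_of_injective (Subgroup.subtype_injective _)] at h2
      exact Odd.of_dvd_nat (odd_card_core K) h2
    apply le_antisymm
    · exact Cores.le_pPrimeCore inferInstance (Nat.coprime_two_right.mpr hodd)
    · intro x hx
      rw [MonoidHom.mem_ker]
      have h1 : (oddCore ↥E).map ε = ⊥ := by
        refine eq_bot_of_no_inv (S := F) (by omega) ?_ ?_ ?_
        · rintro _ ⟨y, -, rfl⟩
          exact hmem _ y.2
        · intro σ hσ
          obtain ⟨k, hk, rfl⟩ := hlift σ hσ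
          have h2 : (oddCore ↥E).Normal := Cores.pPrimeCore_normal 2
          have h3 : (((oddCore ↥E).map ε).subgroupOf ε.range).Normal := by
            have h4 := h2.map ε.rangeRestrict ε.rangeRestrict_surjective
            have h5 : ((oddCore ↥E).map ε).subgroupOf ε.range =
                (oddCore ↥E).map ε.rangeRestrict := by
              rw [← MonoidHom.subtype_comp_rangeRestrict ε, ← Subgroup.map_map]
              exact Subgroup.comap_map_eq_self_of_injective ε.range.subtype_injective _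
            rw [h5]; exact h4
          have h4 := (normal_subgroupOf_iff_le_normalizer
            (by rintro _ ⟨y, -, rfl⟩; exact ⟨y, rfl⟩)).mp h3
          exact h4 ⟨⟨k, hk⟩, rfl⟩
        · rintro _ ⟨y, hy, rfl⟩ h2
          have h3 : (y : G) ∈ core E := (mem_core_iff y.2).mpr hy
          have h4 : Odd (Nat.card ((core E).subgroupOf E : Subgroup _)) := by
            rw [Nat.card_congr (subgroupOfEquivOfLe (core_le _)).toEquiv]
            exact odd_card_core _
          have h5 : Odd (orderOf y) := by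
            refine Odd.of_dvd_nat h4 (Subgroup.orderOf_dvd_natCard _ ?_)
            exact h3
          have h6 : Odd (orderOf (ε y)) := Odd.of_dvd_nat h5 (orderOf_map_dvd ε y)
          have h7 : orderOf (ε y) ∣ 2 := orderOf_dvd_of_pow_eq_one (by rw [pow_two]; exact h2)
          rcases (Nat.dvd_prime Nat.prime_two).mp h7 with h8 | h8
          · exact orderOf_eq_one_iff.mp h8
          · rw [h8] at h6
            exact absurd h6 (by decide)
      have h2 : ε x ∈ (oddCore ↥E).map ε := ⟨x, hx, rfl⟩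
      rw [h1] at h2
      exact mem_bot.mp h2)
  exact ⟨M', fun x hx => hM' ⟨x, hx⟩⟩

/-- the labelling of `cmpT T` induced by the labelling of `K` -/
theorem exists_cmpT (hT : IsPGroup 2 T) (hTN : T ≤ normalizer (K : Set G))
    (h7 : 7 ≤ (M.FT T).card) :
    ∃ M' : Mod (M.cmpT T) (M.FT T), ∀ x ∈ M.cmpT T, M'.φ x = M.φ x :=
  M.exists_sub h7 (M.cmpT_le T) (fun _ hx => M.cmpT_mem_alt hx) fun _ hσ =>
    M.cmpT_lift hT hTN (by omega) hσ

/-- `C_{cmpT A}(B) = cmpT (A ⊔ B)`: the 2-components of `C(B)` in `cmpT A` -/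
theorem cmpT_cmpT {A B : Subgroup G} (hA : IsPGroup 2 A) (hB : IsPGroup 2 B)
    (hAB : ∀ a ∈ A, ∀ b ∈ B, a * b = b * a) (hAN : A ≤ normalizer (K : Set G))
    (hBN : B ≤ normalizer (K : Set G)) {M' : Mod (M.cmpT A) (M.FT A)}
    (hM' : ∀ x ∈ M.cmpT A, M'.φ x = M.φ x) :
    M'.cmpT B = M.cmpT (A ⊔ B) ∧ M'.FT B = M.FT (A ⊔ B) := by
  have hBN' : B ≤ normalizer (M.cmpT A : Set G) := by
    -- `B` normalizes `preT A`
    refine le_trans ?_ (PComponents.normalizer_le_normalizer_pElem (M.preT A))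
    have key : ∀ b ∈ B, ∀ k ∈ M.preT A, b * k * b⁻¹ ∈ M.preT A := by
      intro b hb k hk
      refine ⟨(mem_normalizer_iff.mp (hBN hb) k).mp hk.1, fun t ht => ?_, ?_⟩
      · have h1 := hk.2.1 t ht
        have h2 := hAB t ht b hb
        have h3 : t * b⁻¹ = b⁻¹ * t := by
          rw [eq_inv_mul_iff_mul_eq, ← mul_assoc, ← h2, mul_inv_cancel_right]
        calc t * (b * k * b⁻¹) = (t * b) * k * b⁻¹ := by group
          _ = b * (t * k) * b⁻¹ := by rw [h2]; group
          _ = b * k * (t * b⁻¹) := by rw [h1]; group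
          _ = b * k * b⁻¹ * t := by rw [h3]; group
      · rw [M.conj (hBN hb) (le_normalizer hk.1)]
        refine conj_mem_alt (fun x => ?_) hk.2.2
        rw [M.mem_FT hAN, M.mem_FT hAN, mem_iff_of_mem_sym (M.mem_sym b (hBN hb))]
        refine and_congr_right fun _ => forall_congr' fun t => forall_congr' fun ht => ?_
        have h4 := M.comm (hAN ht) (hBN hb) (hAB t ht b hb)
        have h5 : M.φ t (M.φ b x) = M.φ b (M.φ t x) := by
          rw [← Perm.mul_apply, h4, Perm.mul_apply]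
        rw [h5]
        exact (M.φ b).injective.eq_iff
    intro b hb
    rw [mem_normalizer_iff]
    intro k
    refine ⟨key b hb k, fun h => ?_⟩
    have := key b⁻¹ (inv_mem hb) _ h
    convert this using 1
    group
  have hABN : A ⊔ B ≤ normalizer (K : Set G) := sup_le hAN hBN
  have hFT : M'.FT B = M.FT (A ⊔ B) := by
    ext x
    rw [M'.mem_FT hBN', M.mem_FT hABN, M.mem_FT hAN]
    constructor
    · rintro ⟨⟨h1, h2⟩, h3⟩
      have hx : x ∈ M.FT A := (M.mem_FT hAN).mpr ⟨h1, h2⟩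
      refine ⟨h1, fun t ht => ?_⟩
      refine Subgroup.closure_induction (p := fun t _ => t ∈ A ⊔ B → M.φ t x = x) ?_ ?_ ?_ ?_
        (show t ∈ closure ((A : Set G) ∪ B) from by rwa [Subgroup.closure_union, Subgroup.closure_eq, Subgroup.closure_eq]) ht
      · rintro y (hy | hy) -
        · exact h2 y hy
        · rw [← M.compat M' (M.cmpT_le A) hM' (hBN hy) (hBN' hy) hx]
          exact h3 y hy
      · intro _
        rw [M.one]; rfl
      · intro y z hy hz ihy ihz _
        rw [Subgroup.closure_union, Subgroup.closure_eq, Subgroup.closure_eq] at hy hz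
        rw [M.mul _ _ (hABN hy) (hABN hz), Perm.mul_apply, ihz hz, ihy hy]
      · intro y hy ihy _
        rw [Subgroup.closure_union, Subgroup.closure_eq, Subgroup.closure_eq] at hy
        rw [M.inv (hABN hy), Perm.inv_eq_iff_eq, ihy hy]
    · rintro ⟨h1, h2⟩
      have h3 : ∀ t ∈ A, M.φ t x = x := fun t ht => h2 t (mem_sup_left ht)
      have hx : x ∈ M.FT A := (M.mem_FT hAN).mpr ⟨h1, h3⟩
      refine ⟨⟨h1, h3⟩, fun t ht => ?_⟩
      rw [M.compat M' (M.cmpT_le A) hM' (hBN ht) (hBN' ht) hx]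
      exact h2 t (mem_sup_right ht)
  refine ⟨?_, hFT⟩
  -- both are generated by the 2-elements of `K` commuting with `A`, `B` with labels in `alt (FT)`
  apply le_antisymm
  · refine PComponents.pElem_mono fun k hk => ?_
    have h1 := M.cmpT_le_preT A hk.1
    refine ⟨h1.1, fun t ht => ?_, ?_⟩
    · refine Subgroup.closure_induction (p := fun t _ => t * k = k * t) ?_ ?_ ?_ ?_
        (show t ∈ closure ((A : Set G) ∪ B) from by rwa [Subgroup.closure_union, Subgroup.closure_eq, Subgroup.closure_eq])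
      · rintro y (hy | hy)
        · exact h1.2.1 y hy
        · exact hk.2.1 y hy
      · rw [one_mul, mul_one]
      · intro y z _ _ ihy ihz
        rw [mul_assoc, ihz, ← mul_assoc, ihy, mul_assoc]
      · intro y _ ihy
        rw [inv_mul_eq_iff_eq_mul, ← mul_assoc, ihy, mul_inv_cancel_right]
    · rw [← hFT, ← hM' k hk.1]
      exact hk.2.2
  · refine (Subgroup.closure_le _).mpr ?_
    rintro k ⟨hk, n, hn⟩
    have h1 : k ∈ M.cmpT A := M.mem_cmpT hk.1 (fun t ht => hk.2.1 t (mem_sup_left ht)) (by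
      have h2 := hk.2.2
      refine alt_mono (fun x hx => ?_) h2
      rw [M.mem_FT hABN] at hx
      rw [M.mem_FT hAN]
      exact ⟨hx.1, fun t ht => hx.2 t (mem_sup_left ht)⟩) hn
    refine M'.mem_cmpT h1 (fun t ht => hk.2.1 t (mem_sup_right ht)) ?_ hn
    rw [hM' k h1, hFT]
    exact hk.2.2

/-- the case of one involution -/
theorem cmpT_zpowers {t : G} (ht : t ∈ normalizer (K : Set G)) :
    M.cmpT (zpowers t) = M.cmp t ∧ M.FT (zpowers t) = fixIn S (M.φ t) := by
  have htN : zpowers t ≤ normalizer (K : Set G) := by rwa [zpowers_le]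
  have hF : M.FT (zpowers t) = fixIn S (M.φ t) := by
    ext x
    rw [M.mem_FT htN, mem_fixIn]
    refine and_congr_right fun _ => ⟨fun h => h t (mem_zpowers t), fun h s hs => ?_⟩
    have h1 : zpowers t ≤ ((MulAction.stabilizer (Perm α) x).comap M.hom).map
        (normalizer (K : Set G)).subtype := by
      rw [zpowers_le]
      exact ⟨⟨t, ht⟩, h, rfl⟩
    obtain ⟨y, hy, rfl⟩ := h1 hs
    exact hy
  refine ⟨?_, hF⟩
  show PComponents.pElem 2 _ = PComponents.pElem 2 _
  congr 1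
  ext k
  constructor
  · rintro ⟨h1, h2, h3⟩
    exact ⟨h1, h2 t (mem_zpowers t), by rw [← hF]; exact h3⟩
  · rintro ⟨h1, h2, h3⟩
    refine ⟨h1, fun s hs => ?_, by rw [hF]; exact h3⟩
    obtain ⟨n, rfl⟩ := mem_zpowers_iff.mp hs
    exact ((show Commute t k from h2).zpow_left n).eq

end Mod

end Cfsg.Agent.UAlt
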