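import Cfsg.Agent.UAlt.Mod
import Cfsg.Agent.UGT.PumpGen

/-!
# Three commuting families of root four-groups, (7')(ii)-(iv)

`Rig V K S`: for `i : ι` (at least three indices) `V i` is an elementary abelian 2-group, the `V i` commute, for
`v ∈ V i`, `v ≠ 1`, `K v` is a 2-component of `C(v)` with a labelling `M i v : Mod (K v) (S v)`; for `j ≠ i` the group
`V j` lies in `K v`, all its members `≠ 1` have the same support in `S v`, with at least 5 fixed points, and these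
supports are disjoint for different `j`; for `w ∈ V j` the 2-components of `C_{K v}(w)` and of `C_{K w}(v)` are the same
group `K_{v,w}`.

* `Rig.fixes_K` : `V i` centralizes `K v / O(K v)`, `v ∈ V i`;
* `Rig.fixes_other` : `V i`, `V j` centralize `J / O(J)`, `J ≠ K v` a 2-component of `C(v)`, `v ∈ V i`, `i ≠ j`;
* `Rig.fixes_cmp` : `V i`, `V j` centralize `K_{v,w}` modulo the core;
* `Rig.fixes_prod` : `V i`, `V j` centralize `J / O(J)`, `J` a 2-component of `C(vw)` different from the pump-up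
  of `K_{v,w}` in `C(vw)` and its conjugate under `v`.
-/

set_option autoImplicit false
set_option linter.unusedSectionVars false

namespace Cfsg.Agent.UAlt

open Cfsg Equiv Equiv.Perm Subgroup
open Cfsg.Agent.Intrinsic.Basic Cfsg.Agent.Intrinsic Cfsg.Agent.Intrinsic.Cen Cfsg.Agent.Intrinsic.Diag
open Cfsg.Agent.SignalizersComponents Cfsg.Agent.Lib
open Cfsg.Agent.SignalizersComponents.IntrinsicBasic
open Cfsg.Agent.McLLyComp.Act
open Cfsg.Agent.UGT.Triple Cfsg.Agent.UGT.LemG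
open scoped commutatorElement

section general

variable {G : Type*} [Group G] [Finite G]

/-- `w ∈ X` normalizing a 2-component `M` (of anything) contained in the 2-component `J` of `X` normalizes `J` -/
theorem mem_normalizer_of_le {X H J M : Subgroup G} (hJ : IsComp X J) (hM : IsComp H M) (hMJ : M ≤ J) {w : G}
    (hw : w ∈ X) (hwM : w ∈ normalizer (M : Set G)) : w ∈ normalizer (J : Set G) := by
  rw [mem_normalizer_iff_cj] at hwM ⊢
  refine hM.unique (isComp_cj_of_mem hJ hw) hJ ?_ hMJ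
  rw [← hwM]
  exact Subgroup.map_mono hMJ

/-- `O(X) ∩ C(s) ≤ O(C_X(s))` -/
theorem core_inf_le {X : Subgroup G} {s d : G} (hd : d ∈ core X) (hds : d ∈ centralizer ({s} : Set G)) :
    d ∈ core (X ⊓ centralizer ({s} : Set G)) := by
  obtain ⟨N, hN⟩ : ∃ N, N = core X ⊓ centralizer ({s} : Set G) := ⟨_, rfl⟩
  have hNle : N ≤ X ⊓ centralizer ({s} : Set G) := by
    rw [hN]
    exact inf_le_inf_right _ (core_le _)
  have h1 : N ≤ core (X ⊓ centralizer ({s} : Set G)) := by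
    refine le_core hNle ?_ ?_
    · intro g hg
      have h1 : g ∈ normalizer (core X : Set G) := le_normalizer_core _ hg.1
      have h2 : g ∈ normalizer (centralizer ({s} : Set G) : Set G) := le_normalizer hg.2
      rw [mem_normalizer_iff_cj] at h1 h2 ⊢
      rw [hN, cj_inf, h1, h2]
    · refine Odd.of_dvd_nat (odd_card_core X) ?_
      rw [hN]
      exact card_dvd_of_le inf_le_left
  exact h1 (hN ▸ ⟨hd, hds⟩)

/-- `w ∈ X ∩ C(s)` fixing the 2-component `J` of `X` fixes the 2-components `Z ≤ J` of `C_X(s)` -/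
theorem fixes_of_le {X J Z : Subgroup G} {s w : G} (hJ : IsComp X J)
    (hZ : IsComp (X ⊓ centralizer ({s} : Set G)) Z) (hZJ : Z ≤ J) (hw : w ∈ X)
    (hws : w ∈ centralizer ({s} : Set G)) (hf : Fixes w J) : Fixes w Z := by
  refine fixes_of_comm_core hZ ⟨hw, hws⟩ fun m hm => ?_
  have hms := (hZ.le hm).2
  apply core_inf_le (hJ.core_le_core (hf.2 m (hZJ hm)))
  rw [commutatorElement_def]
  exact mul_mem (mul_mem (mul_mem hws hms) (inv_mem hws)) (inv_mem hms)

/-- `w ∈ X ∩ C(s)` fixing the 2-component `cen J s` of `C_X(s)` (`J` a 2-component of `X` fixed by `s`) fixes `J` -/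
theorem fixes_of_cen {X J : Subgroup G} {s w : G} (hJ : IsComp X J) (hs : s ∈ X) (hss : s * s = 1)
    (hsJ : Fixes s J) (hw : w ∈ X) (hf : Fixes w (cen J s)) : Fixes w J := by
  obtain ⟨h1, h2⟩ := isComp_cen hJ hs hss hsJ
  exact (fixes_iff_of_sup h2 hf.1 (mem_normalizer_of_le hJ h1 (cen_le J s) hw hf.1)).mp hf

/-- L-balance for an involution normalizing all 2-components -/
theorem exists_comp_ge {X Z : Subgroup G} {s : G} (hs : s ∈ X) (hss : s * s = 1)
    (hn : ∀ J, IsComp X J → s ∈ normalizer (J : Set G))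
    (hZ : IsComp (X ⊓ centralizer ({s} : Set G)) Z) : ∃ J, IsComp X J ∧ Z ≤ J := by
  obtain ⟨J, hJ, -, h⟩ := McLLyComp.PumpT.exists_pump hs hss hZ
  rcases h with ⟨-, h⟩ | ⟨h, -⟩
  · exact ⟨J, hJ, h⟩
  · exact absurd (mem_normalizer_iff_cj.mp (hn J hJ)) h

/-- members of a 2-component normalize all 2-components -/
theorem mem_normalizer_of_comp {X J K : Subgroup G} (hJ : IsComp X J) (hK : IsComp X K) {s : G} (hs : s ∈ K) :
    s ∈ normalizer (J : Set G) := hJ.L2_le_normalizer (hK.le_L2 hs)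

/-- 2-components of `X` commuting modulo `O(X)` are different -/
theorem not_le_core {X Z : Subgroup G} (hZ : IsComp X Z) : ¬ Z ≤ core X :=
  hZ.not_odd (odd_card_core X)

omit [Finite G] in
/-- `C(v) ∩ C(w) = C(vw) ∩ C(v)` -/
theorem cent_mul_eq (v w : G) :
    centralizer ({v} : Set G) ⊓ centralizer ({w} : Set G) =
      centralizer ({v * w} : Set G) ⊓ centralizer ({v} : Set G) := by
  ext x
  simp only [mem_inf, mem_centralizer_singleton_iff]
  constructor
  · rintro ⟨h1, h2⟩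
    exact ⟨by rw [← mul_assoc, h1, mul_assoc, h2, mul_assoc], h1⟩
  · rintro ⟨h1, h2⟩
    refine ⟨h2, ?_⟩
    have h3 : v * (x * w) = v * (w * x) := by
      rw [← mul_assoc, ← h2, mul_assoc, h1, mul_assoc]
    exact mul_left_cancel h3

end general

section mod

variable {G : Type*} [Group G] [Finite G] {α : Type*} [Fintype α] [DecidableEq α]

/-- `w ∈ X ∩ C(t)` normalizing `K` and trivial on the fixed points of `t` fixes `K_t`. -/
theorem Mod.fixes_cmp {X K : Subgroup G} {S : Finset α} (M : Mod K S) (hK : IsComp X K) {t w : G}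
    (ht : t ∈ normalizer (K : Set G)) (htt : t * t = 1)
    (h5 : 5 ≤ (fixIn S (M.φ t)).card) (hwX : w ∈ X) (hwK : w ∈ normalizer (K : Set G))
    (hwt : w ∈ centralizer ({t} : Set G)) (h : ∀ p ∈ fixIn S (M.φ t), M.φ w p = p) :
    Fixes w (M.cmp t) := by
  have hZ := M.isComp_cmp_of hK ht htt h5
  refine fixes_of_comm_core hZ ⟨hwX, hwt⟩ fun m hm => ?_
  have hms := (hZ.le hm).2
  have hmK := M.cmp_le t hm
  have hmem : ⁅w, m⁆ ∈ centralizer ({t} : Set G) := by
    rw [commutatorElement_def]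
    exact mul_mem (mul_mem (mul_mem hwt hms) (inv_mem hwt)) (inv_mem hms)
  apply core_inf_le (hK.core_le_core _) hmem
  have hcm : M.φ w * M.φ m = M.φ m * M.φ w := by
    have h1 := M.cmp_mem_alt hm
    ext p
    rw [Perm.mul_apply, Perm.mul_apply]
    by_cases hp : p ∈ fixIn S (M.φ t)
    · rw [h p hp, h _ (mem_of_mem_sym (alt_le_sym _ h1) hp)]
    · rw [h1.2 p hp]
      symm
      apply h1.2
      intro hq
      have h2 := h _ hq
      have h3 := (M.φ w).injective h2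
      rw [h3] at hq
      exact hp hq
  have h1 : ⁅w, m⁆ ∈ K := mul_mem ((mem_normalizer_iff.mp hwK m).mp hmK) (inv_mem hmK)
  rw [← M.core_iff _ h1, commutatorElement_def,
    M.mul _ _ (mul_mem (mul_mem hwK (le_normalizer hmK)) (inv_mem hwK)) (inv_mem (le_normalizer hmK)),
    M.conj hwK (le_normalizer hmK), M.inv (le_normalizer hmK), mul_inv_eq_one, mul_inv_eq_iff_eq_mul]
  exact hcm

/-- `O(K_t) ≤ O(K)` -/
theorem Mod.core_cmp_le_rig {K : Subgroup G} {S : Finset α} (M : Mod K S) {t : G}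
    (ht : t ∈ normalizer (K : Set G)) (htt : t * t = 1)
    (h5 : 5 ≤ (fixIn S (M.φ t)).card) : core (M.cmp t) ≤ core K := by
  obtain ⟨N, hN⟩ : ∃ N, N = ((core (M.cmp t)).subgroupOf (normalizer (K : Set G))).map M.hom := ⟨_, rfl⟩
  have hmem : ∀ x ∈ core (M.cmp t), M.φ x ∈ N := by
    intro x hx
    rw [hN]
    exact ⟨⟨x, le_normalizer (M.cmp_le t (core_le _ hx))⟩, hx, rfl⟩
  have hof : ∀ σ ∈ N, ∃ x ∈ core (M.cmp t), M.φ x = σ := by
    intro σ hσ
    rw [hN] at hσ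
    obtain ⟨x, hx, rfl⟩ := hσ
    exact ⟨x, hx, rfl⟩
  have hbot : N = ⊥ := by
    refine eq_bot_of_no_inv (S := fixIn S (M.φ t)) (by omega) ?_ ?_ ?_
    · intro σ hσ
      obtain ⟨x, hx, rfl⟩ := hof σ hσ
      exact M.cmp_mem_alt (core_le _ hx)
    · intro σ hσ
      obtain ⟨k, hk, rfl⟩ := M.cmp_lift ht htt h5 hσ
      have key : ∀ k ∈ M.cmp t, ∀ τ ∈ N, M.φ k * τ * (M.φ k)⁻¹ ∈ N := by
        intro k hk τ hτ
        obtain ⟨x, hx, rfl⟩ := hof τ hτ
        rw [← M.conj (le_normalizer (M.cmp_le t hk)) (le_normalizer (M.cmp_le t (core_le _ hx)))]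
        exact hmem _ (conj_mem_core (le_normalizer hk) hx)
      rw [mem_normalizer_iff]
      intro τ
      refine ⟨key k hk τ, fun h => ?_⟩
      have h1 := key k⁻¹ (inv_mem hk) _ h
      rw [M.inv (le_normalizer (M.cmp_le t hk))] at h1
      convert h1 using 1
      group
    · intro σ hσ h2
      obtain ⟨x, hx, rfl⟩ := hof σ hσ
      have h5 : Odd (orderOf x) :=
        Odd.of_dvd_nat (odd_card_core _) (Subgroup.orderOf_dvd_natCard _ hx)
      have hxN := le_normalizer (M.cmp_le t (core_le _ hx))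
      have h6 : Odd (orderOf (M.hom ⟨x, hxN⟩)) := by
        refine Odd.of_dvd_nat h5 ?_
        have := orderOf_map_dvd M.hom ⟨x, hxN⟩
        rwa [Subgroup.orderOf_mk] at this
      have h7 : orderOf (M.hom ⟨x, hxN⟩) ∣ 2 := orderOf_dvd_of_pow_eq_one (by rw [pow_two]; exact h2)
      rcases (Nat.dvd_prime Nat.prime_two).mp h7 with h8 | h8
      · exact orderOf_eq_one_iff.mp h8
      · rw [h8] at h6
        exact absurd h6 (by decide)
  intro x hx
  rw [← M.core_iff x (M.cmp_le t (core_le _ hx))]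
  have := hmem x hx
  rw [hbot] at this
  exact mem_bot.mp this

/-- `w` fixing `K_t` is trivial on the fixed points of `t` -/
theorem Mod.apply_of_fixes_cmp {K : Subgroup G} {S : Finset α} (M : Mod K S) {t w : G}
    (ht : t ∈ normalizer (K : Set G)) (htt : t * t = 1)
    (h5 : 5 ≤ (fixIn S (M.φ t)).card) (hwK : w ∈ normalizer (K : Set G))
    (hw : Fixes w (M.cmp t)) {p : α} (hp : p ∈ fixIn S (M.φ t)) : M.φ w p = p := by
  refine apply_of_comm_alt (S := fixIn S (M.φ t)) (by omega) (fun σ hσ => ?_) hp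
  obtain ⟨m, hm, rfl⟩ := M.cmp_lift ht htt h5 hσ
  have hmK := M.cmp_le t hm
  have h1 : ⁅w, m⁆ ∈ core K := M.core_cmp_le_rig ht htt h5 (hw.2 m hm)
  have h2 : ⁅w, m⁆ ∈ K := core_le K h1
  rw [← M.core_iff _ h2, commutatorElement_def,
    M.mul _ _ (mul_mem (mul_mem hwK (le_normalizer hmK)) (inv_mem hwK)) (inv_mem (le_normalizer hmK)),
    M.conj hwK (le_normalizer hmK), M.inv (le_normalizer hmK), mul_inv_eq_one, mul_inv_eq_iff_eq_mul] at h1
  exact h1

end mod

section rig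

variable {G : Type*} [Group G] {α : Type*} [Fintype α] [DecidableEq α] {ι : Type*}

/-- commuting families of root four-groups -/
structure Rig (V : ι → Subgroup G) (K : G → Subgroup G) (S : G → Finset α) where
  third : ∀ i j : ι, ∃ k, k ≠ i ∧ k ≠ j
  nt : ∀ i, ∃ v ∈ V i, v ≠ 1
  inv : ∀ i, ∀ v ∈ V i, v * v = 1
  comm : ∀ i j, ∀ v ∈ V i, ∀ w ∈ V j, v * w = w * v
  comp : ∀ i, ∀ v ∈ V i, v ≠ 1 → IsComp (centralizer ({v} : Set G)) (K v)
  M : ∀ i, ∀ v ∈ V i, v ≠ 1 → Mod (K v) (S v)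
  mem : ∀ i j, i ≠ j → ∀ v ∈ V i, v ≠ 1 → V j ≤ K v
  supp : ∀ i j, i ≠ j → ∀ v (hv : v ∈ V i) (h1 : v ≠ 1), ∀ w ∈ V j, w ≠ 1 → ∀ w' ∈ V j,
    ∀ p ∈ fixIn (S v) ((M i v hv h1).φ w), (M i v hv h1).φ w' p = p
  disj : ∀ i j k, i ≠ j → i ≠ k → j ≠ k → ∀ v (hv : v ∈ V i) (h1 : v ≠ 1), ∀ w ∈ V j,
    ∀ w' ∈ V k, ∀ p, (M i v hv h1).φ w p = p ∨ (M i v hv h1).φ w' p = p
  five : ∀ i j, i ≠ j → ∀ v (hv : v ∈ V i) (h1 : v ≠ 1), ∀ w ∈ V j, w ≠ 1 →
    5 ≤ (fixIn (S v) ((M i v hv h1).φ w)).card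
  cmp_eq : ∀ i j, i ≠ j → ∀ v (hv : v ∈ V i) (h1 : v ≠ 1), ∀ w (hw : w ∈ V j) (h2 : w ≠ 1),
    (M i v hv h1).cmp w = (M j w hw h2).cmp v

namespace Rig

variable [Finite G] {V : ι → Subgroup G} {K : G → Subgroup G} {S : G → Finset α} (R : Rig V K S)
  {i j : ι} {v w : G}

include R

omit [Finite G] in
theorem mem_c (hv : v ∈ V i) (hw : w ∈ V j) :
    w ∈ centralizer ({v} : Set G) := mem_centralizer_singleton_iff.mpr (R.comm j i w hw v hv)

/-- `V j ≤ N(K v)` for `j ≠ i` -/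
theorem mem_n (hij : i ≠ j) (hv : v ∈ V i) (h1 : v ≠ 1) (hw : w ∈ V j) :
    w ∈ normalizer (K v : Set G) := le_normalizer (R.mem i j hij v hv h1 hw)

/-- `K_{v,w}` is a 2-component of `C(v) ∩ C(w)` -/
theorem isComp_cmp (hij : i ≠ j) (hv : v ∈ V i) (h1 : v ≠ 1) (hw : w ∈ V j) (h2 : w ≠ 1) :
    IsComp (centralizer ({v} : Set G) ⊓ centralizer ({w} : Set G)) ((R.M i v hv h1).cmp w) :=
  (R.M i v hv h1).isComp_cmp_of (R.comp i v hv h1) (R.mem_n hij hv h1 hw) (R.inv j w hw)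
    (R.five i j hij v hv h1 w hw h2)

/-- **(7')(iv), first part** -/
theorem fixes_cmp_left (hij : i ≠ j) (hv : v ∈ V i) (h1 : v ≠ 1) (hw : w ∈ V j) (h2 : w ≠ 1) {u : G}
    (hu : u ∈ V i) : Fixes u ((R.M i v hv h1).cmp w) := by
  rw [R.cmp_eq i j hij v hv h1 w hw h2]
  exact (R.M j w hw h2).fixes_cmp (R.comp j w hw h2) (R.mem_n hij.symm hw h2 hv) (R.inv i v hv)
    (R.five j i hij.symm w hw h2 v hv h1) (R.mem_c hw hu) (R.mem_n hij.symm hw h2 hu) (R.mem_c hv hu)
    (R.supp j i hij.symm w hw h2 v hv h1 u hu)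

theorem fixes_cmp_right (hij : i ≠ j) (hv : v ∈ V i) (h1 : v ≠ 1) (hw : w ∈ V j) (h2 : w ≠ 1) {u : G}
    (hu : u ∈ V j) : Fixes u ((R.M i v hv h1).cmp w) := by
  rw [R.cmp_eq i j hij v hv h1 w hw h2]
  exact R.fixes_cmp_left hij.symm hw h2 hv h1 hu

/-- **(7')(ii)** `V i` centralizes `K v / O(K v)` for `v ∈ V i` -/
theorem fixes_K (hv : v ∈ V i) (h1 : v ≠ 1) {u : G} (hu : u ∈ V i) :
    u ∈ normalizer (K v : Set G) ∧ (R.M i v hv h1).φ u = 1 ∧ Fixes u (K v) := by
  obtain ⟨j, hji, -⟩ := R.third i i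
  obtain ⟨k, hki, hkj⟩ := R.third i j
  obtain ⟨w, hw, h2⟩ := R.nt j
  obtain ⟨z, hz, h3⟩ := R.nt k
  have hn : u ∈ normalizer (K v : Set G) :=
    mem_normalizer_of_le (R.comp i v hv h1) (R.isComp_cmp hji.symm hv h1 hw h2)
      ((R.M i v hv h1).cmp_le w) (R.mem_c hv hu) (R.fixes_cmp_left hji.symm hv h1 hw h2 hu).1
  have key : ∀ j, i ≠ j → ∀ w ∈ V j, w ≠ 1 → ∀ p ∈ fixIn (S v) ((R.M i v hv h1).φ w),
      (R.M i v hv h1).φ u p = p := by
    intro j hij w hw h2 p hp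
    exact (R.M i v hv h1).apply_of_fixes_cmp (R.mem_n hij hv h1 hw) (R.inv j w hw)
      (R.five i j hij v hv h1 w hw h2) hn (R.fixes_cmp_left hij hv h1 hw h2 hu) hp
  have hφ : (R.M i v hv h1).φ u = 1 := by
    ext p
    rw [Perm.one_apply]
    by_cases hp : p ∈ S v
    · rcases R.disj i j k hji.symm hki.symm hkj.symm v hv h1 w hw z hz p with h | h
      · exact key j hji.symm w hw h2 p (mem_fixIn.mpr ⟨hp, h⟩)
      · exact key k hki.symm z hz h3 p (mem_fixIn.mpr ⟨hp, h⟩)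
    · exact (R.M i v hv h1).mem_sym u hn p hp
  exact ⟨hn, hφ, ((R.M i v hv h1).fixes_iff hn).mp hφ⟩

/-- **(7')(iii)** for `V j`, `j ≠ i` -/
theorem fixes_other_right (hij : i ≠ j) (hv : v ∈ V i) (h1 : v ≠ 1) {J : Subgroup G}
    (hJ : IsComp (centralizer ({v} : Set G)) J) (hne : J ≠ K v) {w : G} (hw : w ∈ V j) : Fixes w J :=
  hJ.fixes_of_mem (R.comp i v hv h1) hne (R.mem i j hij v hv h1 hw)

/-- **(7')(iii)** for `V i` -/
theorem fixes_other_left (hv : v ∈ V i) (h1 : v ≠ 1) {J : Subgroup G}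
    (hJ : IsComp (centralizer ({v} : Set G)) J) (hne : J ≠ K v) {u : G} (hu : u ∈ V i) : Fixes u J := by
  obtain ⟨j, hji, -⟩ := R.third i i
  have hij := hji.symm
  obtain ⟨w, hw, h2⟩ := R.nt j
  have hwJ := R.fixes_other_right hij hv h1 hJ hne hw
  have hwv := R.mem_c hv hw
  have hvw := R.mem_c hw hv
  obtain ⟨hZ, -⟩ := isComp_cen hJ hwv (R.inv j w hw) hwJ
  have hZ' := hZ
  rw [inf_comm] at hZ'
  have hKw := R.comp j w hw h2
  obtain ⟨J', hJ', hle⟩ := exists_comp_ge hvw (R.inv i v hv)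
    (fun J hJ => mem_normalizer_of_comp hJ hKw (R.mem j i hji w hw h2 hv)) hZ'
  have hne' : J' ≠ K w := by
    rintro rfl
    have h3 := isComp_inf hZ' hJ' hle
    obtain ⟨h4, -⟩ := ((R.M j w hw h2).isComp_iff_cmp (R.mem_n hji hw h2 hv) (R.inv i v hv)).mp h3
    rw [← R.cmp_eq i j hij v hv h1 w hw h2] at h4
    apply hne
    refine hZ.unique hJ (R.comp i v hv h1) (cen_le J w) ?_
    rw [h4]
    exact (R.M i v hv h1).cmp_le w
  have h5 : Fixes u J' := hJ'.fixes_of_mem hKw hne' (R.mem j i hji w hw h2 hu)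
  have h6 : Fixes u (cen J w) := fixes_of_le hJ' hZ' hle (R.mem_c hw hu) (R.mem_c hv hu) h5
  exact fixes_of_cen hJ hwv (R.inv j w hw) hwJ (R.mem_c hv hu) h6

/-- **(7')(iii)** -/
theorem fixes_other (hv : v ∈ V i) (h1 : v ≠ 1) {J : Subgroup G}
    (hJ : IsComp (centralizer ({v} : Set G)) J) (hne : J ≠ K v) {j : ι} {u : G} (hu : u ∈ V j) :
    Fixes u J := by
  by_cases h : i = j
  · subst h
    exact R.fixes_other_left hv h1 hJ hne hu
  · exact R.fixes_other_right h hv h1 hJ hne hu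

/-- a third four-group lies in `K_{v,w}` -/
theorem mem_cmp {k : ι} (hij : i ≠ j) (hik : i ≠ k) (hjk : j ≠ k) (hv : v ∈ V i) (h1 : v ≠ 1) (hw : w ∈ V j)
    {z : G} (hz : z ∈ V k) : z ∈ (R.M i v hv h1).cmp w := by
  have hzK := R.mem i k hik v hv h1 hz
  refine (R.M i v hv h1).mem_cmp (n := 1) hzK (R.comm j k w hw z hz) ?_
    (by rw [pow_one, pow_two, R.inv k z hz])
  have h3 := (R.M i v hv h1).mem_alt z hzK
  refine ⟨h3.1, fun p hp => ?_⟩
  by_cases hpS : p ∈ S v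
  · rcases R.disj i j k hij hik hjk v hv h1 w hw z hz p with h | h
    · exact absurd (mem_fixIn.mpr ⟨hpS, h⟩) hp
    · exact h
  · exact h3.2 p hpS

/-- the pump-up of `K_{v,w}` in `C(vw)` -/
theorem exists_prod (hij : i ≠ j) (hv : v ∈ V i) (h1 : v ≠ 1) (hw : w ∈ V j) (h2 : w ≠ 1) :
    ∃ N, IsComp (centralizer ({v * w} : Set G)) N ∧
      ((v ∈ normalizer (N : Set G) ∧ (R.M i v hv h1).cmp w ≤ N) ∨
        (IntrinsicBasic.cj v N ≠ N ∧
          (R.M i v hv h1).cmp w = diag (centralizer ({v * w} : Set G)) N v)) := by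
  have hZ := R.isComp_cmp hij hv h1 hw h2
  rw [cent_mul_eq] at hZ
  obtain ⟨N, hN, -, h⟩ := McLLyComp.PumpT.exists_pump (X := centralizer ({v * w} : Set G)) (s := v)
    (mem_centralizer_singleton_iff.mpr (by rw [mul_assoc, R.comm i j v hv w hw])) (R.inv i v hv) hZ
  exact ⟨N, hN, h⟩

/-- **(7')(iv)**: `J` a 2-component of `C(vw)` different from the pump-up `N` of `K_{v,w}` and from `N^v` is
centralized modulo `O(J)` by all `V k`. -/
theorem fixes_prod (hij : i ≠ j) (hv : v ∈ V i) (h1 : v ≠ 1) (hw : w ∈ V j) (h2 : w ≠ 1) {N : Subgroup G}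
    (hN : IsComp (centralizer ({v * w} : Set G)) N)
    (h : (v ∈ normalizer (N : Set G) ∧ (R.M i v hv h1).cmp w ≤ N) ∨
        (IntrinsicBasic.cj v N ≠ N ∧
          (R.M i v hv h1).cmp w = diag (centralizer ({v * w} : Set G)) N v))
    {J : Subgroup G} (hJ : IsComp (centralizer ({v * w} : Set G)) J) (hJN : J ≠ N)
    (hJN' : J ≠ IntrinsicBasic.cj v N) {k : ι} {e : G} (he : e ∈ V k) : Fixes e J := by
  have hvw := R.comm i j v hv w hw
  have hcf : ∀ {x : G}, x * v = v * x → x * w = w * x → x ∈ centralizer ({v * w} : Set G) :=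
    fun {x} h3 h4 => mem_centralizer_singleton_iff.mpr (by
      rw [← mul_assoc, h3, mul_assoc, h4, mul_assoc])
  have hcf' : ∀ {k : ι} {x : G}, x ∈ V k → x ∈ centralizer ({v * w} : Set G) :=
    fun {k x} hx => hcf (R.comm k i x hx v hv) (R.comm k j x hx w hw)
  have hff : v * w * (v * w) = 1 := by
    rw [mul_assoc, ← mul_assoc w v w, ← hvw, mul_assoc v w w, R.inv j w hw, mul_one, R.inv i v hv]
  -- the third four-groups
  have third : ∀ {k : ι}, k ≠ i → k ≠ j → ∀ {z : G}, z ∈ V k → Fixes z J := by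
    intro k hki hkj z hz
    have hz' := R.mem_cmp hij hki.symm hkj.symm hv h1 hw hz
    rcases h with ⟨-, h⟩ | ⟨hne, h⟩
    · exact hJ.fixes_of_mem hN hJN (h hz')
    · rw [h] at hz'
      exact fixes_of_comm_core hJ (hcf' hz) fun l hl =>
        comm_diag_of_ne hN (hcf' hv) (R.inv i v hv) hne hJ hJN hJN' hz' hl
  obtain ⟨l, hli, hlj⟩ := R.third i j
  obtain ⟨z, hz, h3⟩ := R.nt l
  by_cases hk : k ≠ i ∧ k ≠ j
  · exact third hk.1 hk.2 he
  have hlk : l ≠ k := by
    rintro rfl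
    exact hk ⟨hli, hlj⟩
  have hzJ := third hli hlj hz
  have hzz := R.inv l z hz
  have hzf := hcf' hz
  obtain ⟨hJ1, -⟩ := isComp_cen hJ hzf hzz hzJ
  have hJ1' := hJ1
  rw [inf_comm] at hJ1'
  have hKz := R.comp l z hz h3
  have hvKz := R.mem l i hli z hz h3 hv
  have hwKz := R.mem l j hlj z hz h3 hw
  have hfKz : v * w ∈ K z := mul_mem hvKz hwKz
  have hfz : v * w ∈ centralizer ({z} : Set G) := hKz.le hfKz
  have hez : e ∈ centralizer ({z} : Set G) := R.mem_c hz he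
  have hef := hcf' he
  refine fixes_of_cen hJ hzf hzz hzJ hef ?_
  obtain ⟨J'', hJ'', hle⟩ := exists_comp_ge hfz hff
    (fun J hJ => mem_normalizer_of_comp hJ hKz hfKz) hJ1'
  by_cases hne : J'' = K z
  · -- `J1` is the 2-component of `C_{K z}(f)`
    subst hne
    obtain ⟨h4, h5⟩ := ((R.M l z hz h3).isComp_iff_cmp (le_normalizer hfKz) hff).mp
      (isComp_inf hJ1' hJ'' hle)
    have hvJ1 : Fixes v (cen J z) := by
      rw [h4]
      refine (R.M l z hz h3).fixes_cmp hKz (le_normalizer hfKz) hff h5 (hKz.le hvKz)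
        (le_normalizer hvKz) (hcf' hv) fun p hp => ?_
      have hp' := (mem_fixIn.mp hp).2
      rw [(R.M l z hz h3).mul _ _ (le_normalizer hvKz) (le_normalizer hwKz), Perm.mul_apply] at hp'
      rcases R.disj l i j hli hlj hij z hz h3 v hv w hw p with h6 | h6
      · exact h6
      · rwa [h6] at hp'
    have hvH : v ∈ centralizer ({v * w} : Set G) ⊓ centralizer ({z} : Set G) := ⟨hcf' hv, hKz.le hvKz⟩
    obtain ⟨hJ2, -⟩ := isComp_cen hJ1 hvH (R.inv i v hv) hvJ1
    -- `C(f) ∩ C(z) ∩ C(v) = C(v) ∩ C(w) ∩ C(z)`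
    have heq : centralizer ({v * w} : Set G) ⊓ centralizer ({z} : Set G) ⊓ centralizer ({v} : Set G) =
        centralizer ({v} : Set G) ⊓ centralizer ({w} : Set G) ⊓ centralizer ({z} : Set G) := by
      rw [cent_mul_eq v w, inf_right_comm]
    have hJ2' := hJ2
    rw [heq] at hJ2'
    have hZ := R.isComp_cmp hij hv h1 hw h2
    have hzZ := R.mem_cmp hij hli.symm hlj.symm hv h1 hw hz
    obtain ⟨J2', hJ2'', hle2⟩ := exists_comp_ge (hZ.le hzZ) hzz
      (fun J hJ => mem_normalizer_of_comp hJ hZ hzZ) hJ2'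
    have hKv := R.comp i v hv h1
    have hwKv := R.mem i j hij v hv h1 hw
    obtain ⟨J3, hJ3, hle3⟩ := exists_comp_ge (hKv.le hwKv) (R.inv j w hw)
      (fun J hJ => mem_normalizer_of_comp hJ hKv hwKv) hJ2''
    by_cases hne3 : J3 = K v
    · exfalso
      subst hne3
      obtain ⟨h6, -⟩ := ((R.M i v hv h1).isComp_iff_cmp (le_normalizer hwKv) (R.inv j w hw)).mp
        (isComp_inf hJ2'' hJ3 hle3)
      have h7 : cen (cen J z) v ≤ (R.M i v hv h1).cmp w := h6 ▸ hle2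
      have h8 : cen (cen J z) v ≤ J := (cen_le _ _).trans (cen_le _ _)
      rcases h with ⟨-, h⟩ | ⟨hne, h⟩
      · exact hJN (hJ2.unique hJ hN h8 (h7.trans h))
      · rw [h] at h7
        refine hJ2.not_odd (odd_card_core (centralizer ({v * w} : Set G))) ?_
        rw [← hJ2.perfect, commutator_le]
        intro a ha b hb
        exact comm_diag_of_ne hN (hcf' hv) (R.inv i v hv) hne hJ hJN hJN' (h7 ha) (h8 hb)
    · have h6 : Fixes e J3 := R.fixes_other hv h1 hJ3 hne3 he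
      have hev : e ∈ centralizer ({v} : Set G) := R.mem_c hv he
      have hew : e ∈ centralizer ({w} : Set G) := R.mem_c hw he
      have h7 : Fixes e J2' := fixes_of_le hJ3 hJ2'' hle3 hev hew h6
      have h8 : Fixes e (cen (cen J z) v) := fixes_of_le hJ2'' hJ2' hle2 ⟨hev, hew⟩ hez h7
      exact fixes_of_cen hJ1 hvH (R.inv i v hv) hvJ1 ⟨hef, hez⟩ h8
  · exact fixes_of_le hJ'' hJ1' hle hez hef
      (hJ''.fixes_of_mem hKz hne (R.mem l k hlk z hz h3 he))

end Rig

end rig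

end Cfsg.Agent.UAlt
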