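import Cfsg.Agent.UAlt.RootRF
import Cfsg.Agent.UAlt.CoreAct
import Cfsg.Agent.UAlt.FourConj

/-!
# Case D: general lemmas

* `pump_of_not_le`: the 2-components of `C_X(s)` acting nontrivially on a given 2-component of `X`.
* `exists_mod_diag`: labelling of `K` from a labelling of `diag X K a`.
* `exists_split`: splitting an involution of the diagonal.
* `Mod.mem_normalizer_cmp`: elements normalizing `cmp t`.
-/

set_option autoImplicit false
set_option linter.unusedSectionVars false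

namespace Cfsg.Agent.UAlt

open Cfsg Equiv Equiv.Perm Subgroup
open Cfsg.Agent.Intrinsic.Basic Cfsg.Agent.Intrinsic
open Cfsg.Agent.Intrinsic.Cen Cfsg.Agent.Intrinsic.Diag
open Cfsg.Agent.SignalizersComponents Cfsg.Agent.Lib
open Cfsg.Agent.SignalizersComponents.IntrinsicBasic
open Cfsg.Agent.SignalizersComponents.IntrinsicIntr
open Cfsg.Agent.SignalizersComponents.PLayerAut
open Cfsg.Agent.UGT.Triple
open scoped commutatorElement

variable {G : Type*} [Group G] {α : Type*} [Fintype α] [DecidableEq α]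

/-! ### the diagonal -/

section diag

variable [Finite G]

/-- a 2-component `Z` of `C_X(s)` acting nontrivially on the 2-component `J` of `X` -/
theorem pump_of_not_le {X Z J : Subgroup G} {s : G} (hsX : s ∈ X) (hs : s * s = 1)
    (hZ : IsComp (X ⊓ centralizer ({s} : Set G)) Z) (hJ' : IsComp X J) (hJn : ¬ Z ≤ cenMod X J) :
    (s ∈ normalizer (J : Set G) ∧ Z ≤ J) ∨ (cj s J ≠ J ∧ Z = diag X J s) := by
  have hJ := hJ'.tc
  by_cases hsJ : cj s J = J
  · left
    have hn : s ∈ normalizer (J : Set G) := mem_normalizer_iff_cj.mpr hsJ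
    exact ⟨hn, (McLLyComp.PumpT.tc_le_or hsX hs hZ.tc hJ hn).resolve_right hJn⟩
  · right
    refine ⟨hsJ, ?_⟩
    by_contra hne
    apply hJn
    obtain ⟨hD, -, -, -⟩ := exists_diag hJ' hsX hs hsJ
    have hZX : Z ≤ X := hZ.le.trans inf_le_left
    have hbal := IntrinsicBalance.balance hsX hs hZ.tc hJ
    have hJs : TC X (cj s J) := (isComp_cj_of_mem hJ' hsX).tc
    have hbal' := IntrinsicBalance.balance hsX hs hZ.tc hJs
    intro g hg
    have h1 : Fixes g J := by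
      refine fixes_of_comm_diag hJ' hsX hs hsJ (hZX hg)
        (IntrinsicBalance.sup_le_normalizer hJ (hbal hg))
        (IntrinsicBalance.sup_le_normalizer hJs (hbal' hg)) fun m hm => ?_
      have h2 : ⁅g, m⁆ ∈ core Z ⊓ core (diag X J s) :=
        hZ.comm_le_core hD hne (commutator_mem_commutator hg hm)
      obtain ⟨-, -, -, h4, -⟩ := exists_diag hJ' hsX hs hsJ
      rw [h4] at h2
      exact h2.2.2
    exact (hJ'.fixes_iff (hZX hg)).mp h1

/-- members of the diagonal normalize `K` and act on it like members of `K` -/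
theorem diag_act {X K : Subgroup G} {a : G} (hK : IsComp X K) (haX : a ∈ X) (ha : a * a = 1)
    (hne : cj a K ≠ K) {m : G} (hm : m ∈ diag X K a) :
    ∃ k ∈ K, m⁻¹ * (k * (a * k * a⁻¹)) ∈ core X ∧ Fixes (k⁻¹ * m) K ∧
      m ∈ normalizer (K : Set G) := by
  obtain ⟨h1, h2, -, -⟩ := exists_diag hK haX ha hne
  obtain ⟨k, hk, hmk⟩ := h2 m hm
  have h3 := fixes_inv_mul hK haX hne hk (h1.le hm).1 hmk
  refine ⟨k, hk, hmk, h3, ?_⟩
  have h4 : m = k * (k⁻¹ * m) := by group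
  rw [h4]
  exact mul_mem (le_normalizer hk) h3.1

theorem cj_diag_self {X K : Subgroup G} {a : G} (haX : a ∈ X) :
    diag X (cj a K) a = diag X K a := by
  have h1 : cj a (diag X K a) = diag X (cj a K) a := by
    rw [cj_diag, cj_eq_self_of_mem haX, mul_inv_cancel_right]
  rw [← h1]
  ext y
  rw [mem_cj]
  have key : ∀ z ∈ diag X K a, a * z = z * a := by
    intro z hz
    have : diag X K a ≤ centralizer ({a} : Set G) := by
      refine (closure_le _).mpr ?_
      rintro m ⟨-, h2, -⟩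
      exact mem_centralizer_singleton_iff.mpr h2
    exact (mem_centralizer_singleton_iff.mp (this hz)).symm
  constructor
  · intro h
    have h2 := key _ h
    have h3 : y = a⁻¹ * y * a := by
      have : a * (a⁻¹ * y * a) * a⁻¹ = a⁻¹ * y * a := by rw [h2, mul_inv_cancel_right]
      rw [← this]; group
    rw [h3]; exact h
  · intro h
    have h2 := key _ h
    have h3 : a⁻¹ * y * a = y := by rw [mul_assoc, ← h2, inv_mul_cancel_left]
    rw [h3]; exact h

/-- the pairs `{K, K^a}` with the same diagonal are the same -/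
theorem eq_or_of_diag_eq {X K J : Subgroup G} {a : G} (hK : IsComp X K) (haX : a ∈ X)
    (ha : a * a = 1) (hne : cj a K ≠ K) (hJ : IsComp X J) (hJa : cj a J ≠ J)
    (h : diag X J a = diag X K a) : J = K ∨ J = cj a K := by
  by_contra hcon
  push Not at hcon
  exact diag_ne hK haX ha hne hJ hJa hcon.1 hcon.2 h

/-- a labelling of the diagonal gives a labelling of `K` -/
theorem exists_mod_diag {X K : Subgroup G} {a : G} (hK : IsComp X K) (haX : a ∈ X)
    (ha : a * a = 1) (hne : cj a K ≠ K) (hs : IsSimpleGroup (↥K ⧸ oddCore ↥K)) {S : Finset α}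
    (h7 : 7 ≤ S.card) {N : Subgroup G} (hN : N = diag X K a) (MN : Mod N S) :
    ∃ MK : Mod K S, ∀ m ∈ N, MK.φ m = MN.φ m := by
  subst hN
  obtain ⟨h1, h2, h3, h4, f, hf, hfk, hfe, -⟩ := exists_diag hK haX ha hne
  let q : (↥(diag X K a) ⧸ oddCore ↥(diag X K a)) ≃* ↥(alt S) :=
    (QuotientGroup.quotientMulEquivOfEq MN.ker_homK.symm).trans
      (QuotientGroup.quotientKerEquivOfSurjective _ MN.homK_surjective)
  have hq : ∀ x : ↥(diag X K a), q (QuotientGroup.mk' _ x) = MN.homK x := fun x => rfl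
  have hfi : Function.Injective f := by
    rw [← MonoidHom.ker_eq_bot_iff]
    rcases hs.eq_bot_or_eq_top_of_normal f.ker inferInstance with h | h
    · exact h
    · exfalso
      have h5 : ∀ y, y = (1 : ↥(diag X K a) ⧸ oddCore ↥(diag X K a)) := by
        intro y
        obtain ⟨x, rfl⟩ := hf y
        have : x ∈ f.ker := by rw [h]; trivial
        exact this
      obtain ⟨σ, hσ, -, hσ1⟩ := exists_inv_alt (S := S) (by omega)
      obtain ⟨y, hy⟩ := q.surjective ⟨σ, hσ⟩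
      rw [h5 y, map_one] at hy
      exact hσ1 (congrArg Subtype.val hy).symm
  let g : ↥K →* ↥(alt S) := (q.toMonoidHom.comp f).comp (QuotientGroup.mk' (oddCore ↥K))
  have hg : Function.Surjective g := (q.surjective.comp hf).comp (QuotientGroup.mk'_surjective _)
  have hgk : g.ker = oddCore ↥K := by
    ext x
    rw [MonoidHom.mem_ker]
    show q (f (QuotientGroup.mk' (oddCore ↥K) x)) = 1 ↔ _
    rw [MulEquiv.map_eq_one_iff, map_eq_one_iff f hfi]
    exact QuotientGroup.eq_one_iff x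
  obtain ⟨A, hA⟩ := Mod.exists_of_hom (K := K) (S := S) h7 ((alt S).subtype.comp g) (by
      rw [MonoidHom.range_comp, MonoidHom.range_eq_top.mpr hg, ← MonoidHom.range_eq_map,
        Subgroup.range_subtype]) (by
      rw [← hgk]
      ext x
      rw [MonoidHom.mem_ker, MonoidHom.mem_ker, MonoidHom.comp_apply]
      exact ⟨fun h => Subtype.ext h, fun h => by rw [h]; rfl⟩)
  refine ⟨A, fun m hm => ?_⟩
  obtain ⟨k, hk, hmk, hfx, hmN⟩ := diag_act hK haX ha hne hm
  have e1 : A.φ (k⁻¹ * m) = 1 := (A.fixes_iff hfx.1).mpr hfx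
  rw [A.mul _ _ (inv_mem (le_normalizer hk)) hmN, A.inv (le_normalizer hk), inv_mul_eq_one] at e1
  have e2 : A.φ k = ((g ⟨k, hk⟩ : alt S) : Perm α) := hA ⟨k, hk⟩
  have e3 : g ⟨k, hk⟩ = MN.homK ⟨m, hm⟩ := by
    show q (f (QuotientGroup.mk' (oddCore ↥K) ⟨k, hk⟩)) = _
    rw [hfe ⟨k, hk⟩ ⟨m, hm⟩ hmk, hq]
  rw [← e1, e2, e3]
  rfl

end diag

/-! ### `cmp t` -/

namespace Mod

variable {K : Subgroup G} {S : Finset α} (M : Mod K S)

theorem map_iff {g : G} (hg : g ∈ normalizer (K : Set G)) (x : α) : M.φ g x ∈ S ↔ x ∈ S :=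
  mem_iff_of_mem_sym (M.mem_sym g hg)

variable [Finite G]

/-- elements of `N(K)` commuting with `t` normalize `cmp t` -/
theorem mem_normalizer_cmp {t g : G} (ht : t ∈ normalizer (K : Set G))
    (hg : g ∈ normalizer (K : Set G)) (hc : g * t = t * g) :
    g ∈ normalizer (M.cmp t : Set G) := by
  have key : ∀ g ∈ normalizer (K : Set G), g * t = t * g → ∀ y ∈ M.cmp t, g * y * g⁻¹ ∈ M.cmp t := by
    intro g hg hc y hy
    refine closure_induction (p := fun y _ => g * y * g⁻¹ ∈ M.cmp t) ?_ ?_ ?_ ?_ hy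
    · rintro y ⟨⟨hyK, hyt, hyl⟩, n, hn⟩
      refine M.mem_cmp ((mem_normalizer_iff.mp hg y).mp hyK) ?_ ?_ (n := n) ?_
      · calc t * (g * y * g⁻¹) = (t * g) * y * g⁻¹ := by group
          _ = g * (t * y) * g⁻¹ := by rw [← hc]; group
          _ = g * y * (t * g⁻¹) := by rw [hyt]; group
          _ = g * y * (g⁻¹ * (g * t) * g⁻¹) := by group
          _ = g * y * (g⁻¹ * (t * g) * g⁻¹) := by rw [hc]
          _ = _ := by group
      · rw [M.conj hg (le_normalizer hyK)]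
        refine conj_mem_alt (fun x => ?_) hyl
        exact apply_mem_fixIn (M.map_iff hg) (M.comm hg ht hc)
      · rw [conj_pow, hn, mul_one, mul_inv_cancel]
    · rw [mul_one, mul_inv_cancel]; exact one_mem _
    · intro a b _ _ ha hb
      have : g * (a * b) * g⁻¹ = (g * a * g⁻¹) * (g * b * g⁻¹) := by group
      rw [this]; exact mul_mem ha hb
    · intro a _ ha
      have : g * a⁻¹ * g⁻¹ = (g * a * g⁻¹)⁻¹ := by group
      rw [this]; exact inv_mem ha
  rw [mem_normalizer_iff]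
  intro y
  refine ⟨key g hg hc y, fun h => ?_⟩
  have h1 := key g⁻¹ (inv_mem hg) (by rw [inv_mul_eq_iff_eq_mul, ← mul_assoc, hc, mul_inv_cancel_right]) _ h
  convert h1 using 1
  group

theorem core_cmp_le {t : G} (ht : t ∈ normalizer (K : Set G)) (htt : t * t = 1)
    (h5 : 5 ≤ (fixIn S (M.φ t)).card) : core (M.cmp t) ≤ core K :=
  ((M.isComp_cmp ht htt h5).core_le_core).trans (M.core_cent_le ht htt (by omega))

/-- `g ∈ N(K)` commuting with the labels of a group `E` with label `alt F` fixes the points of `F` -/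
theorem apply_of_comm {g : G} (hg : g ∈ normalizer (K : Set G)) {E : Subgroup G}
    (hE : E ≤ normalizer (K : Set G)) {F : Finset α} (h4 : 4 ≤ F.card)
    (hl : ∀ σ ∈ alt F, ∃ e ∈ E, M.φ e = σ) (hc : ∀ e ∈ E, M.φ ⁅g, e⁆ = 1) {y : α} (hy : y ∈ F) :
    M.φ g y = y := by
  refine apply_of_comm_alt h4 (fun σ hσ => ?_) hy
  obtain ⟨e, he, rfl⟩ := hl σ hσ
  have h1 := hc e he
  rw [commutatorElement_def, M.mul _ _ (mul_mem (mul_mem hg (hE he)) (inv_mem hg)) (inv_mem (hE he)),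
    M.conj hg (hE he), M.inv (hE he), mul_inv_eq_one, mul_inv_eq_iff_eq_mul] at h1
  exact h1

end Mod

/-! ### the splitting lemma -/

/-- an involution `v = k₀ k₀^a` modulo the odd group `W` is equal to `k k^a`, `k ≡ k₀` an involution -/
theorem exists_split [Finite G] {W : Subgroup G} (hW : Odd (Nat.card W)) {a v k₀ : G}
    (ha : a * a = 1) (hv : v * v = 1) (hav : a * v = v * a) (haW : a ∈ normalizer (W : Set G))
    (hkW : k₀ ∈ normalizer (W : Set G)) (hk : k₀ * k₀ = 1)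
    (hc : ⁅a * k₀ * a⁻¹, k₀⁆ ∈ W) (h : v⁻¹ * (k₀ * (a * k₀ * a⁻¹)) ∈ W) :
    ∃ k, k * k = 1 ∧ k₀⁻¹ * k ∈ W ∧ k * (a * k * a⁻¹) = v := by
  have hai : a⁻¹ = a := inv_eq_of_mul_eq_one_left ha
  have hki : k₀⁻¹ = k₀ := inv_eq_of_mul_eq_one_left hk
  -- make `k₀` commute with its conjugate
  have h4 : (a * k₀) ^ 2 ^ 2 ∈ W := by
    have h0 : ⁅a * k₀ * a⁻¹, k₀⁆ = (a * k₀) ^ 2 ^ 2 := by
      rw [commutatorElement_def, hai, mul_inv_rev, mul_inv_rev, hai, hki,
        show (2 : ℕ) ^ 2 = 4 by norm_num]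
      simp only [pow_succ, pow_zero, one_mul, mul_assoc]
    rw [← h0]
    exact hc
  obtain ⟨n, hn1, hn2⟩ := Lifting.exists_two_part hW h4
  have h6 : a * (a * k₀) ^ n * a = ((a * k₀) ^ n)⁻¹ := by
    have e1 : a * (a * k₀) * a⁻¹ = (a * k₀)⁻¹ := by
      rw [mul_inv_rev, hki, hai, ← mul_assoc, ha, one_mul]
    have e2 : a * (a * k₀) ^ n * a⁻¹ = ((a * k₀)⁻¹) ^ n := by rw [← e1, conj_pow]
    rw [hai, inv_pow] at e2
    exact e2
  obtain ⟨t, ht⟩ : ∃ t, t = (a * k₀) ^ n := ⟨_, rfl⟩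
  rw [← ht] at hn1 hn2 h6
  have hx2 : (a * t) * (a * t) = 1 := by
    calc (a * t) * (a * t) = (a * t * a) * t := by group
      _ = 1 := by rw [h6, inv_mul_cancel]
  have hcore : k₀⁻¹ * (a * t) ∈ W := by
    have : k₀⁻¹ * (a * t) = (a * k₀)⁻¹ * t := by
      rw [mul_inv_rev, hai, mul_assoc]
    rw [this]; exact hn2
  obtain ⟨k₁, hk₁⟩ : ∃ k₁, k₁ = a * t := ⟨_, rfl⟩
  rw [← hk₁] at hx2 hcore
  have h7 : t * t * (t * t) = 1 := by
    have : t ^ 2 ^ 2 = t * t * (t * t) := by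
      rw [show (2 : ℕ) ^ 2 = 4 by norm_num]
      simp only [pow_succ, pow_zero, one_mul, mul_assoc]
    rw [← this]; exact hn1
  have h8 : a * k₁ * a⁻¹ = t * a := by
    rw [hai, hk₁, ← mul_assoc, ha, one_mul]
  -- `v₁ = k₁ k₁^a`
  obtain ⟨v₁, hv₁⟩ : ∃ v₁, v₁ = k₁ * (a * k₁ * a⁻¹) := ⟨_, rfl⟩
  have h9 : k₁ * (a * k₁ * a⁻¹) = (a * k₁ * a⁻¹) * k₁ := by
    have e1 : a * t = t⁻¹ * a := by
      calc a * t = (a * t * a) * a⁻¹ := by group
        _ = t⁻¹ * a := by rw [h6, hai]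
    have e2 : t * a = a * t⁻¹ := by
      rw [← h6]
      calc t * a = (a * a) * t * a := by rw [ha, one_mul]
        _ = a * (a * t * a) := by group
    rw [h8, hk₁]
    calc a * t * (t * a) = t⁻¹ * a * (a * t⁻¹) := by rw [← e1, ← e2]
      _ = t⁻¹ * (a * a) * t⁻¹ := by group
      _ = t⁻¹ * t⁻¹ := by rw [ha, mul_one]
      _ = t * t := by
        rw [← mul_inv_rev]
        exact inv_eq_of_mul_eq_one_left h7
      _ = t * (a * a) * t := by rw [ha, mul_one]
      _ = t * a * (a * t) := by group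
  have haa : a * (a * k₁ * a⁻¹) * a⁻¹ = k₁ := by
    calc a * (a * k₁ * a⁻¹) * a⁻¹ = (a * a) * k₁ * (a * a)⁻¹ := by group
      _ = k₁ := by rw [ha]; group
  have hv₁a : a * v₁ * a⁻¹ = v₁ := by
    calc a * v₁ * a⁻¹ = (a * k₁ * a⁻¹) * (a * (a * k₁ * a⁻¹) * a⁻¹) := by rw [hv₁]; group
      _ = (a * k₁ * a⁻¹) * k₁ := by rw [haa]
      _ = v₁ := by rw [hv₁, h9]
  have hv₁2 : v₁ * v₁ = 1 := by
    calc v₁ * v₁ = k₁ * ((a * k₁ * a⁻¹) * k₁) * (a * k₁ * a⁻¹) := by rw [hv₁]; group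
      _ = (k₁ * k₁) * (a * (k₁ * k₁) * a⁻¹) := by rw [← h9]; group
      _ = 1 := by rw [hx2]; group
  -- `v ≡ v₁`
  have hkm : k₁ = k₀ * (k₀⁻¹ * k₁) := by group
  have hkW' : k₁ ∈ normalizer (W : Set G) := by
    rw [hkm]; exact mul_mem hkW (le_normalizer hcore)
  have hkaW : a * k₀ * a⁻¹ ∈ normalizer (W : Set G) := mul_mem (mul_mem haW hkW) (inv_mem haW)
  have e5 : v₁⁻¹ * v ∈ W := by
    have e6 : a * (k₀⁻¹ * k₁) * a⁻¹ ∈ W := (mem_normalizer_iff.mp haW _).mp hcore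
    have e7 : (a * k₀ * a⁻¹)⁻¹ * (k₀⁻¹ * k₁) * (a * k₀ * a⁻¹) ∈ W := by
      have := (mem_normalizer_iff.mp (inv_mem hkaW) _).mp hcore
      rwa [inv_inv] at this
    have e8 : v⁻¹ * v₁ = (v⁻¹ * (k₀ * (a * k₀ * a⁻¹))) *
        ((a * k₀ * a⁻¹)⁻¹ * (k₀⁻¹ * k₁) * (a * k₀ * a⁻¹)) * (a * (k₀⁻¹ * k₁) * a⁻¹) := by
      rw [hv₁]; group
    have e9 : v⁻¹ * v₁ ∈ W := by
      rw [e8]; exact mul_mem (mul_mem h e7) e6
    have := inv_mem e9
    rwa [mul_inv_rev, inv_inv] at this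
  have hv₁W : v₁ ∈ normalizer (W : Set G) := by
    rw [hv₁]
    exact mul_mem hkW' (mul_mem (mul_mem haW hkW') (inv_mem haW))
  obtain ⟨o, ho, hoa, hov⟩ := Lifting.exists_conj_commute (v := a) (n := 1) (m := 1) hW
    (by rw [pow_one, pow_two]; exact hv₁2) (by rw [pow_one, pow_two]; exact hv) hv₁W
    (by
      calc v₁ * a = (a * v₁ * a⁻¹) * a := by rw [hv₁a]
        _ = a * v₁ := by group) hav.symm e5
  refine ⟨o * k₁ * o⁻¹, ?_, ?_, ?_⟩
  · calc o * k₁ * o⁻¹ * (o * k₁ * o⁻¹) = o * (k₁ * k₁) * o⁻¹ := by group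
      _ = 1 := by rw [hx2]; group
  · have e10 : k₀⁻¹ * o * k₀ ∈ W := by
      have := (mem_normalizer_iff.mp (inv_mem hkW) _).mp ho
      rwa [inv_inv] at this
    have e11 : k₀⁻¹ * (o * k₁ * o⁻¹) = (k₀⁻¹ * o * k₀) * (k₀⁻¹ * k₁) * o⁻¹ := by group
    rw [e11]
    exact mul_mem (mul_mem e10 hcore) (inv_mem ho)
  · have e12 : a * (o * k₁ * o⁻¹) * a⁻¹ = o * (a * k₁ * a⁻¹) * o⁻¹ := by
      calc a * (o * k₁ * o⁻¹) * a⁻¹ = (a * o) * k₁ * (a * o)⁻¹ := by group
        _ = (o * a) * k₁ * (o * a)⁻¹ := by rw [hoa]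
        _ = _ := by group
    rw [e12, ← hov, hv₁]
    group

end Cfsg.Agent.UAlt
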