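import Cfsg.Agent.UAlt.AltOn
import Cfsg.Agent.StdAlt.Carm
import Cfsg.Agent.StdAlt.Roots

/-!
# Identification of an alternating group from the centralizers of roots

`Data Ω A M`: a copy `ι` of `Alt(Ω)` in `M` and for every root `v` of `Ω` a copy `κ v` of `Alt(A \ supp v)`, where
`Ω ⊆ A`, compatible with each other. `Data.exists_hom`: they generate a copy of `Alt(A)`.
-/

set_option autoImplicit false
set_option linter.unusedSectionVars false

namespace Cfsg.Agent.UAlt.Ident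

open Equiv Equiv.Perm Subgroup
open Cfsg.Agent.StdAlt.PermTypes (cyc)
open Cfsg.Agent.StdAlt.Roots (IsRoot)

variable {α : Type*} [Fintype α] [DecidableEq α]

/-- roots of `Alt(Ω)`: products of two disjoint transpositions of `Ω` -/
def Rt (Ω : Finset α) (v : Perm α) : Prop := IsRoot v ∧ v ∈ sym Ω

theorem Rt.mem_alt {Ω : Finset α} {v : Perm α} (h : Rt Ω v) : v ∈ alt Ω :=
  ⟨h.1.mem_alternatingGroup, h.2⟩

theorem Rt.support_subset {Ω : Finset α} {v : Perm α} (h : Rt Ω v) : v.support ⊆ Ω := by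
  intro x hx
  by_contra hn
  exact mem_support.1 hx (h.2 x hn)

theorem Rt.apply_of_notMem {Ω : Finset α} {v : Perm α} (h : Rt Ω v) {x : α} (hx : x ∉ Ω) : v x = x :=
  h.2 x hx

theorem Rt.conj {Ω : Finset α} {v : Perm α} (h : Rt Ω v) {g : Perm α} (hg : g ∈ sym Ω) :
    Rt Ω (g * v * g⁻¹) :=
  ⟨h.1.conj g, mul_mem (mul_mem hg h.2) (inv_mem hg)⟩

/-- a root avoiding a given set -/
theorem exists_root {Ω T : Finset α} (h : T.card + 4 ≤ Ω.card) :
    ∃ v, Rt Ω v ∧ ∀ x ∈ T, v x = x := by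
  have h1 : 4 ≤ (Ω \ T).card := by
    have := Finset.le_card_sdiff T Ω
    omega
  obtain ⟨t, hts, htc⟩ := Finset.exists_subset_card_eq h1
  obtain ⟨x, y, z, w, hxy, hxz, hxw, hyz, hyw, hzw, rfl⟩ := Finset.card_eq_four.1 htc
  have hm : ∀ u ∈ ({x, y, z, w} : Finset α), u ∈ Ω ∧ u ∉ T := fun u hu => Finset.mem_sdiff.1 (hts hu)
  have hx := hm x (by simp)
  have hy := hm y (by simp)
  have hz := hm z (by simp)
  have hw := hm w (by simp)
  have hout : ∀ u, u ≠ x → u ≠ y → u ≠ z → u ≠ w → (swap x y * swap z w) u = u := by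
    intro u h1 h2 h3 h4
    rw [Perm.mul_apply, swap_apply_of_ne_of_ne h3 h4, swap_apply_of_ne_of_ne h1 h2]
  refine ⟨swap x y * swap z w, ⟨Cfsg.Agent.StdAlt.Roots.isRoot_swap_mul hxy hxz hxw hyz hyw hzw, ?_⟩, ?_⟩
  · intro u hu
    refine hout u ?_ ?_ ?_ ?_
    · rintro rfl; exact hu hx.1
    · rintro rfl; exact hu hy.1
    · rintro rfl; exact hu hz.1
    · rintro rfl; exact hu hw.1
  · intro u hu
    refine hout u ?_ ?_ ?_ ?_
    · rintro rfl; exact hx.2 hu
    · rintro rfl; exact hy.2 hu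
    · rintro rfl; exact hz.2 hu
    · rintro rfl; exact hw.2 hu

/-- `Alt(S)` is generated by the cycles `(i c d)` -/
theorem alt_le_of_cyc_two {S : Finset α} {c d : α} (hc : c ∈ S) (hd : d ∈ S) (hcd : c ≠ d)
    (h3 : 3 ≤ S.card) {H : Subgroup (Perm α)}
    (h : ∀ i ∈ S, i ≠ c → i ≠ d → cyc i c d ∈ H) : alt S ≤ H := by
  have h1 := Cfsg.Agent.StdAlt.Carm.eq_top_of_cyc (Ω := S) (c := ⟨c, hc⟩) (d := ⟨d, hd⟩)
    (fun e => hcd (congrArg Subtype.val e)) (by rw [Fintype.card_coe]; exact h3)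
    (H.comap ((ofSubtype (p := fun x => x ∈ S)).comp (alternatingGroup S).subtype)) (by
      intro σ i hic hid hσ
      show ofSubtype (σ : Perm S) ∈ H
      rw [hσ]
      have : (ofSubtype (cyc i ⟨c, hc⟩ ⟨d, hd⟩) : Perm α) = cyc (i : α) c d := by
        unfold Cfsg.Agent.StdAlt.PermTypes.cyc
        rw [map_mul, ofSubtype_swap_eq, ofSubtype_swap_eq]
      rw [this]
      exact h i i.2 (fun e => hic (Subtype.ext e)) (fun e => hid (Subtype.ext e)))
  intro g hg
  obtain ⟨g', hg'⟩ := (altEquiv S).surjective ⟨g, hg⟩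
  have h2 : g = ofSubtype (g' : Perm S) := by rw [← altEquiv_coe, hg']
  have h3 : g' ∈ H.comap ((ofSubtype (p := fun x => x ∈ S)).comp (alternatingGroup S).subtype) := by
    rw [h1]; exact mem_top _
  rw [h2]
  exact h3

/-- agreement of two partial homomorphisms on `Alt(S)` -/
theorem agree {M : Type*} [Group M] {S : Finset α} {f g : Perm α → M}
    (hf : ∀ σ ∈ alt S, ∀ τ ∈ alt S, f (σ * τ) = f σ * f τ)
    (hg : ∀ σ ∈ alt S, ∀ τ ∈ alt S, g (σ * τ) = g σ * g τ)
    {P : Perm α → Prop} (hP : ∀ H : Subgroup (Perm α), (∀ σ ∈ alt S, P σ → σ ∈ H) → alt S ≤ H)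
    (h : ∀ σ ∈ alt S, P σ → f σ = g σ) : ∀ σ ∈ alt S, f σ = g σ := by
  have f1 : f 1 = 1 := by
    have := hf 1 (one_mem _) 1 (one_mem _)
    rw [mul_one] at this
    exact left_eq_mul.1 this
  have g1 : g 1 = 1 := by
    have := hg 1 (one_mem _) 1 (one_mem _)
    rw [mul_one] at this
    exact left_eq_mul.1 this
  have fi : ∀ σ ∈ alt S, f σ⁻¹ = (f σ)⁻¹ := by
    intro σ hσ
    have := hf σ⁻¹ (inv_mem hσ) σ hσ
    rw [inv_mul_cancel, f1] at this
    exact eq_inv_of_mul_eq_one_left this.symm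
  have gi : ∀ σ ∈ alt S, g σ⁻¹ = (g σ)⁻¹ := by
    intro σ hσ
    have := hg σ⁻¹ (inv_mem hσ) σ hσ
    rw [inv_mul_cancel, g1] at this
    exact eq_inv_of_mul_eq_one_left this.symm
  let H : Subgroup (Perm α) :=
    { carrier := {σ | σ ∈ alt S ∧ f σ = g σ}
      mul_mem' := by
        rintro a b ⟨ha, ha'⟩ ⟨hb, hb'⟩
        exact ⟨mul_mem ha hb, by rw [hf a ha b hb, hg a ha b hb, ha', hb']⟩
      one_mem' := ⟨one_mem _, by rw [f1, g1]⟩
      inv_mem' := by
        rintro a ⟨ha, ha'⟩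
        exact ⟨inv_mem ha, by rw [fi a ha, gi a ha, ha']⟩ }
  have h1 : alt S ≤ H := hP H fun σ hσ hPσ => ⟨hσ, h σ hσ hPσ⟩
  exact fun σ hσ => (h1 hσ).2

theorem fixIn_mono {S T : Finset α} (h : S ⊆ T) (v : Perm α) : fixIn S v ⊆ fixIn T v := by
  intro x hx
  rw [mem_fixIn] at hx ⊢
  exact ⟨h hx.1, hx.2⟩

theorem cyc_sq {i j c d : α} (hic : i ≠ c) (hid : i ≠ d) (hjc : j ≠ c) (hjd : j ≠ d) (hcd : c ≠ d)
    (hij : i ≠ j) : (cyc i c d * cyc j c d) ^ 2 = 1 := by
  have e : ∀ x, (cyc i c d * cyc j c d) ((cyc i c d * cyc j c d) x) = x := by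
    intro x
    have hj1 : cyc j c d j = c := StdAlt.PermTypes.cyc_apply_fst hjd hjc
    have hj2 : cyc j c d c = d := StdAlt.PermTypes.cyc_apply_snd hjd hcd
    have hj3 : cyc j c d d = j := StdAlt.PermTypes.cyc_apply_thd
    have hi1 : cyc i c d i = c := StdAlt.PermTypes.cyc_apply_fst hid hic
    have hi2 : cyc i c d c = d := StdAlt.PermTypes.cyc_apply_snd hid hcd
    have hi3 : cyc i c d d = i := StdAlt.PermTypes.cyc_apply_thd
    have hij' : cyc i c d j = j := StdAlt.PermTypes.cyc_apply_of_ne (Ne.symm hij) hjc hjd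
    have hji' : cyc j c d i = i := StdAlt.PermTypes.cyc_apply_of_ne hij hic hid
    simp only [Perm.mul_apply]
    by_cases h1 : x = i
    · subst h1; rw [hji', hi1, hj2, hi3]
    by_cases h2 : x = j
    · subst h2; rw [hj1, hi2, hj3, hij']
    by_cases h3 : x = c
    · subst h3; rw [hj2, hi3, hji', hi1]
    by_cases h4 : x = d
    · subst h4; rw [hj3, hij', hj1, hi2]
    rw [StdAlt.PermTypes.cyc_apply_of_ne h2 h3 h4, StdAlt.PermTypes.cyc_apply_of_ne h1 h3 h4,
      StdAlt.PermTypes.cyc_apply_of_ne h2 h3 h4, StdAlt.PermTypes.cyc_apply_of_ne h1 h3 h4]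
  ext x
  rw [pow_two, Perm.mul_apply, e]
  rfl

variable {M : Type*} [Group M]

/-- the input of the identification -/
structure Data (Ω A : Finset α) (ι : Perm α → M) (κ : Perm α → Perm α → M) : Prop where
  sub : Ω ⊆ A
  card : 13 ≤ Ω.card
  ι_mul : ∀ σ ∈ alt Ω, ∀ τ ∈ alt Ω, ι (σ * τ) = ι σ * ι τ
  κ_mul : ∀ v, Rt Ω v → ∀ σ ∈ alt (fixIn A v), ∀ τ ∈ alt (fixIn A v), κ v (σ * τ) = κ v σ * κ v τ
  κ_inj : ∀ v, Rt Ω v → ∀ σ ∈ alt (fixIn A v), κ v σ = 1 → σ = 1
  nat : ∀ v, Rt Ω v → ∀ σ ∈ alt (fixIn Ω v), κ v σ = ι σ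
  glue : ∀ v w, Rt Ω v → Rt Ω w → (∀ x, v x = x ∨ w x = x) →
    ∀ σ ∈ alt (fixIn (fixIn A v) w), κ v σ = κ w σ

namespace Data

variable {Ω A : Finset α} {ι : Perm α → M} {κ : Perm α → Perm α → M}

theorem κ_one (D : Data Ω A ι κ) {v : Perm α} (hv : Rt Ω v) : κ v 1 = 1 := by
  have := D.κ_mul v hv 1 (one_mem _) 1 (one_mem _)
  rw [mul_one] at this
  exact left_eq_mul.1 this

theorem ι_one (D : Data Ω A ι κ) : ι 1 = 1 := by
  have := D.ι_mul 1 (one_mem _) 1 (one_mem _)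
  rw [mul_one] at this
  exact left_eq_mul.1 this

theorem κ_pow (D : Data Ω A ι κ) {v : Perm α} (hv : Rt Ω v) {σ : Perm α} (hσ : σ ∈ alt (fixIn A v))
    (n : ℕ) : κ v (σ ^ n) = κ v σ ^ n := by
  induction n with
  | zero => rw [pow_zero, pow_zero, D.κ_one hv]
  | succ n ih => rw [pow_succ, pow_succ, D.κ_mul v hv _ (pow_mem hσ n) _ hσ, ih]

/-- the value of `κ v` on a 3-cycle with two points outside `Ω` does not depend on `v` -/
theorem κ_eq (D : Data Ω A ι κ) {c d : α} (hc : c ∈ A) (hd : d ∈ A) (hcΩ : c ∉ Ω) (hdΩ : d ∉ Ω)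
    (hcd : c ≠ d) {v w : Perm α} (hv : Rt Ω v) (hw : Rt Ω w) {y : α} (hy : y ∈ A) (hyc : y ≠ c)
    (hyv : v y = y) (hyw : w y = y) : κ v (cyc y c d) = κ w (cyc y c d) := by
  obtain ⟨u, hu, hu'⟩ := exists_root (Ω := Ω) (T := insert y (v.support ∪ w.support)) (by
    have h1 := Finset.card_insert_le y (v.support ∪ w.support)
    have h2 := Finset.card_union_le v.support w.support
    rw [hv.1.2, hw.1.2] at h2
    have := D.card
    omega)
  have hfc : ∀ {x : Perm α}, Rt Ω x → x c = c := fun hx => hx.apply_of_notMem hcΩ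
  have hfd : ∀ {x : Perm α}, Rt Ω x → x d = d := fun hx => hx.apply_of_notMem hdΩ
  have huy : u y = y := hu' y (by simp)
  have hm : ∀ {x : Perm α}, Rt Ω x → x y = y → cyc y c d ∈ alt (fixIn (fixIn A x) u) := by
    intro x hx hxy
    refine cyc_mem_alt ?_ ?_ ?_ hyc hcd <;> rw [mem_fixIn, mem_fixIn]
    · exact ⟨⟨hy, hxy⟩, huy⟩
    · exact ⟨⟨hc, hfc hx⟩, hfc hu⟩
    · exact ⟨⟨hd, hfd hx⟩, hfd hu⟩
  have d1 : ∀ x, v x = x ∨ u x = x := by
    intro x
    by_cases hx : v x = x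
    · exact Or.inl hx
    · exact Or.inr (hu' x (by simp [hx]))
  have d2 : ∀ x, w x = x ∨ u x = x := by
    intro x
    by_cases hx : w x = x
    · exact Or.inl hx
    · exact Or.inr (hu' x (by simp [hx]))
  rw [D.glue v u hv hu d1 _ (hm hv hyv), D.glue w u hw hu d2 _ (hm hw hyw)]

theorem nonempty_root (D : Data Ω A ι κ) : ∃ v, Rt Ω v := by
  obtain ⟨v, hv, -⟩ := exists_root (Ω := Ω) (T := ∅) (by have := D.card; simp; omega)
  exact ⟨v, hv⟩

/-- **Identification.** -/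
theorem exists_hom (D : Data Ω A ι κ) (h1 : (A \ Ω).card ≠ 1) :
    ∃ f : Perm α → M, (∀ σ ∈ alt A, ∀ τ ∈ alt A, f (σ * τ) = f σ * f τ) ∧
      (∀ σ ∈ alt A, f σ = 1 → σ = 1) ∧ (∀ σ ∈ alt Ω, f σ = ι σ) ∧
      ∀ v, Rt Ω v → ∀ σ ∈ alt (fixIn A v), f σ = κ v σ := by
  have h13 := D.card
  by_cases h0 : A \ Ω = ∅
  · -- nothing to do
    have hA : A = Ω := Finset.Subset.antisymm (Finset.sdiff_eq_empty_iff_subset.1 h0) D.sub
    subst hA
    refine ⟨ι, D.ι_mul, ?_, fun _ _ => rfl, fun v hv σ hσ => (D.nat v hv σ hσ).symm⟩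
    -- simplicity
    let g : ↥(alt A) →* M :=
      { toFun := fun σ => ι σ
        map_one' := D.ι_one
        map_mul' := fun a b => D.ι_mul a a.2 b b.2 }
    have hs : IsSimpleGroup ↥(alt A) := isSimpleGroup_alt (by omega)
    obtain ⟨v, hv⟩ := D.nonempty_root
    obtain ⟨i, j, k, hi, hj, hk, hij, hik, hjk⟩ :
        ∃ i j k, i ∈ fixIn A v ∧ j ∈ fixIn A v ∧ k ∈ fixIn A v ∧ i ≠ j ∧ i ≠ k ∧ j ≠ k := by
      have h2 : 3 ≤ (fixIn A v).card := by
        have h3 : A \ v.support ⊆ fixIn A v := by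
          intro x hx
          rw [Finset.mem_sdiff] at hx
          rw [mem_fixIn]
          exact ⟨hx.1, notMem_support.1 hx.2⟩
        have h4 := Finset.card_le_card h3
        have h5 := Finset.le_card_sdiff v.support A
        rw [hv.1.2] at h5
        omega
      obtain ⟨t, hts, htc⟩ := Finset.exists_subset_card_eq h2
      obtain ⟨i, j, k, hij, hik, hjk, rfl⟩ := Finset.card_eq_three.1 htc
      exact ⟨i, j, k, hts (by simp), hts (by simp), hts (by simp), hij, hik, hjk⟩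
    have hm := cyc_mem_alt hi hj hk hij hjk
    have hne : g ⟨cyc i j k, alt_fixIn_le _ _ hm⟩ ≠ 1 := by
      intro h
      have h2 : κ v (cyc i j k) = 1 := by rw [D.nat v hv _ hm]; exact h
      have h3 := D.κ_inj v hv _ hm h2
      have h4 := StdAlt.PermTypes.cyc_apply_fst hik hij
      rw [h3] at h4
      exact hij h4
    have hker : g.ker = ⊥ := by
      rcases hs.eq_bot_or_eq_top_of_normal g.ker inferInstance with h | h
      · exact h
      · exfalso
        apply hne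
        rw [← MonoidHom.mem_ker, h]
        exact mem_top _
    intro σ hσ hσ1
    have : (⟨σ, hσ⟩ : ↥(alt A)) ∈ g.ker := hσ1
    rw [hker, mem_bot] at this
    exact congrArg Subtype.val this
  · -- two points outside `Ω`
    have h2 : 1 < (A \ Ω).card := by
      have : (A \ Ω).card ≠ 0 := by rw [Ne, Finset.card_eq_zero]; exact h0
      omega
    obtain ⟨c, hc, d, hd, hcd⟩ := Finset.one_lt_card.1 h2
    rw [Finset.mem_sdiff] at hc hd
    obtain ⟨hc, hcΩ⟩ := hc
    obtain ⟨hd, hdΩ⟩ := hd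
    have hT : ∀ y : α, ∃ v, Rt Ω v ∧ v y = y := by
      intro y
      obtain ⟨v, hv, hv'⟩ := exists_root (Ω := Ω) (T := {y}) (by simp; omega)
      exact ⟨v, hv, hv' y (by simp)⟩
    choose r hr hry using hT
    -- 3-cycles through `c`, `d`
    have hmem : ∀ {v : Perm α} {y : α}, Rt Ω v → v y = y → y ∈ A → y ≠ c →
        cyc y c d ∈ alt (fixIn A v) := by
      intro v y hv hvy hyA hyc
      refine cyc_mem_alt ?_ ?_ ?_ hyc hcd <;> rw [mem_fixIn]
      · exact ⟨hyA, hvy⟩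
      · exact ⟨hc, hv.apply_of_notMem hcΩ⟩
      · exact ⟨hd, hv.apply_of_notMem hdΩ⟩
    have hTv : ∀ {v : Perm α} {y : α}, Rt Ω v → v y = y → y ∈ A → y ≠ c →
        κ (r y) (cyc y c d) = κ v (cyc y c d) := fun {v y} hv hvy hyA hyc =>
      D.κ_eq hc hd hcΩ hdΩ hcd (hr y) hv hyA hyc (hry y) hvy
    have hcardA : Ω.card ≤ A.card := Finset.card_le_card D.sub
    obtain ⟨g, hg⟩ := Cfsg.Agent.StdAlt.Carm.exists_hom (G := M) (Ω := A) (c := ⟨c, hc⟩) (d := ⟨d, hd⟩)
      (fun e => hcd (congrArg Subtype.val e)) (by rw [Fintype.card_coe]; omega)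
      (y := fun i => κ (r (i : α)) (cyc (i : α) c d)) (by
        intro i hic hid
        have hic' : (i : α) ≠ c := fun e => hic (Subtype.ext e)
        have hid' : (i : α) ≠ d := fun e => hid (Subtype.ext e)
        show κ (r (i : α)) (cyc (i : α) c d) ^ 3 = 1
        rw [← D.κ_pow (hr _) (hmem (hr _) (hry _) i.2 hic'),
          StdAlt.PermTypes.cyc_pow_three hic' hcd hid', D.κ_one (hr _)]) (by
        intro i j hic hid hjc hjd hij
        have hic' : (i : α) ≠ c := fun e => hic (Subtype.ext e)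
        have hid' : (i : α) ≠ d := fun e => hid (Subtype.ext e)
        have hjc' : (j : α) ≠ c := fun e => hjc (Subtype.ext e)
        have hjd' : (j : α) ≠ d := fun e => hjd (Subtype.ext e)
        have hij' : (i : α) ≠ j := fun e => hij (Subtype.ext e)
        obtain ⟨v, hv, hv'⟩ := exists_root (Ω := Ω) (T := {(i : α), (j : α)}) (by
          have := Finset.card_le_two (a := (i : α)) (b := (j : α))
          omega)
        have hvi : v (i : α) = i := hv' _ (by simp)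
        have hvj : v (j : α) = j := hv' _ (by simp)
        have m1 := hmem hv hvi i.2 hic'
        have m2 := hmem hv hvj j.2 hjc'
        show (κ (r (i : α)) (cyc (i : α) c d) * κ (r (j : α)) (cyc (j : α) c d)) ^ 2 = 1
        rw [hTv hv hvi i.2 hic', hTv hv hvj j.2 hjc', ← D.κ_mul v hv _ m1 _ m2,
          ← D.κ_pow hv (mul_mem m1 m2), cyc_sq hic' hid' hjc' hjd' hcd hij', D.κ_one hv])
    -- the function
    classical
    let f : Perm α → M := fun σ => if h : σ ∈ alt A then g ((altEquiv A).symm ⟨σ, h⟩) else 1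
    have hf : ∀ (σ : Perm α) (h : σ ∈ alt A), f σ = g ((altEquiv A).symm ⟨σ, h⟩) := fun σ h => dif_pos h
    have hfmul : ∀ σ ∈ alt A, ∀ τ ∈ alt A, f (σ * τ) = f σ * f τ := by
      intro σ hσ τ hτ
      rw [hf _ (mul_mem hσ hτ), hf _ hσ, hf _ hτ, ← map_mul, ← map_mul]
      rfl
    have hfcyc : ∀ y ∈ A, y ≠ c → y ≠ d → f (cyc y c d) = κ (r y) (cyc y c d) := by
      intro y hy hyc hyd
      have hm : cyc y c d ∈ alt A := cyc_mem_alt hy hc hd hyc hcd
      rw [hf _ hm]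
      have e : (((altEquiv A).symm ⟨cyc y c d, hm⟩ : alternatingGroup A) : Perm A) =
          cyc ⟨y, hy⟩ ⟨c, hc⟩ ⟨d, hd⟩ := by
        apply ofSubtype_injective
        have h3 : (ofSubtype (cyc ⟨y, hy⟩ ⟨c, hc⟩ ⟨d, hd⟩ : Perm A) : Perm α) = cyc y c d := by
          unfold Cfsg.Agent.StdAlt.PermTypes.cyc
          rw [map_mul, ofSubtype_swap_eq, ofSubtype_swap_eq]
        rw [h3, ← altEquiv_coe, MulEquiv.apply_symm_apply]
      exact hg _ ⟨y, hy⟩ (fun e => hyc (congrArg Subtype.val e)) (fun e => hyd (congrArg Subtype.val e)) e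
    have hfκ : ∀ v, Rt Ω v → ∀ σ ∈ alt (fixIn A v), f σ = κ v σ := by
      intro v hv
      have hcv : c ∈ fixIn A v := mem_fixIn.2 ⟨hc, hv.apply_of_notMem hcΩ⟩
      have hdv : d ∈ fixIn A v := mem_fixIn.2 ⟨hd, hv.apply_of_notMem hdΩ⟩
      apply agree (fun σ hσ τ hτ => hfmul σ (alt_fixIn_le _ _ hσ) τ (alt_fixIn_le _ _ hτ))
        (D.κ_mul v hv) (P := fun σ => ∃ y ∈ fixIn A v, y ≠ c ∧ y ≠ d ∧ σ = cyc y c d)
      · intro H hH
        refine alt_le_of_cyc_two hcv hdv hcd ?_ ?_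
        · have h3 : A \ v.support ⊆ fixIn A v := by
            intro x hx
            rw [Finset.mem_sdiff] at hx
            rw [mem_fixIn]
            exact ⟨hx.1, notMem_support.1 hx.2⟩
          have h4 := Finset.card_le_card h3
          have h5 := Finset.le_card_sdiff v.support A
          rw [hv.1.2] at h5
          omega
        · intro y hy hyc hyd
          exact hH _ (cyc_mem_alt hy hcv hdv hyc hcd) ⟨y, hy, hyc, hyd, rfl⟩
      · rintro σ hσ ⟨y, hy, hyc, hyd, rfl⟩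
        rw [mem_fixIn] at hy
        rw [hfcyc y hy.1 hyc hyd, hTv hv hy.2 hy.1 hyc]
    refine ⟨f, hfmul, ?_, ?_, hfκ⟩
    · have hs : IsSimpleGroup (alternatingGroup A) :=
        alternatingGroup.isSimpleGroup (by rw [Nat.card_eq_fintype_card, Fintype.card_coe]; omega)
      obtain ⟨y, hy, hyΩ⟩ : ∃ y ∈ A, y ∈ Ω := by
        obtain ⟨y, hy⟩ := Finset.card_pos.1 (show 0 < Ω.card by omega)
        exact ⟨y, D.sub hy, hy⟩
      have hyc : y ≠ c := fun e => hcΩ (e ▸ hyΩ)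
      have hyd : y ≠ d := fun e => hdΩ (e ▸ hyΩ)
      have hm : cyc y c d ∈ alt A := cyc_mem_alt hy hc hd hyc hcd
      have hne : f (cyc y c d) ≠ 1 := by
        intro h
        rw [hfcyc y hy hyc hyd] at h
        have h3 := D.κ_inj _ (hr y) _ (hmem (hr y) (hry y) hy hyc) h
        have h4 := StdAlt.PermTypes.cyc_apply_fst hyd hyc
        rw [h3] at h4
        exact hyc h4
      have hker : g.ker = ⊥ := by
        rcases hs.eq_bot_or_eq_top_of_normal g.ker inferInstance with h | h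
        · exact h
        · exfalso
          apply hne
          rw [hf _ hm, ← MonoidHom.mem_ker, h]
          exact mem_top _
      intro σ hσ hσ1
      rw [hf _ hσ] at hσ1
      have h3 : (altEquiv A).symm ⟨σ, hσ⟩ ∈ g.ker := hσ1
      rw [hker, mem_bot] at h3
      have h4 : (⟨σ, hσ⟩ : ↥(alt A)) = 1 := by
        rw [← map_one (altEquiv A).symm] at h3
        exact (altEquiv A).symm.injective h3
      exact congrArg Subtype.val h4
    · apply agree (fun σ hσ τ hτ => hfmul σ (alt_mono D.sub hσ) τ (alt_mono D.sub hτ)) D.ι_mul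
        (P := fun σ => ∃ i ∈ Ω, ∃ j ∈ Ω, ∃ k ∈ Ω, i ≠ j ∧ j ≠ k ∧ i ≠ k ∧ σ = cyc i j k)
      · intro H hH
        refine alt_le_of_cyc fun i j k hi hj hk hij hjk hik => ?_
        exact hH _ (cyc_mem_alt hi hj hk hij hjk) ⟨i, hi, j, hj, k, hk, hij, hjk, hik, rfl⟩
      · rintro σ hσ ⟨i, hi, j, hj, k, hk, hij, hjk, hik, rfl⟩
        obtain ⟨v, hv, hv'⟩ := exists_root (Ω := Ω) (T := {i, j, k}) (by
          have := Finset.card_le_three (a := i) (b := j) (c := k)
          omega)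
        have hm : cyc i j k ∈ alt (fixIn Ω v) := by
          refine cyc_mem_alt ?_ ?_ ?_ hij hjk <;> rw [mem_fixIn]
          · exact ⟨hi, hv' _ (by simp)⟩
          · exact ⟨hj, hv' _ (by simp)⟩
          · exact ⟨hk, hv' _ (by simp)⟩
        rw [hfκ v hv _ (alt_mono (fixIn_mono D.sub v) hm), D.nat v hv _ hm]

end Data

end Cfsg.Agent.UAlt.Ident
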