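import Cfsg.Agent.UAlt.Root

/-!
# Case N: the 2-component `K_v` is normal in `C(v)`

`normal_K` : `v`, `w` commuting involutions, `K`, `K'` 2-components of `C(v)`, `C(w)`, `v ∈ K'`, `w ∈ K`,
`K' / O(K')` alternating, `v` nontrivial on `K'`, `C_{K'}(v)^∞ ≤ K`.  Then `K` is normal in `C(v)`.
-/

set_option autoImplicit false
set_option linter.unusedSectionVars false

open Cfsg Subgroup Equiv Equiv.Perm
open Cfsg.Agent.SignalizersComponents Cfsg.Agent.Lib
open Cfsg.Agent.SignalizersComponents.IntrinsicBasic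
open Cfsg.Agent.SignalizersComponents.PLayerAut
open Cfsg.Agent.Intrinsic Cfsg.Agent.Intrinsic.Basic Cfsg.Agent.Intrinsic.Cen Cfsg.Agent.Intrinsic.Diag
open scoped commutatorElement

namespace Cfsg.Agent.UAlt

variable {G : Type*} [Group G] [Finite G] {α : Type*} [Fintype α] [DecidableEq α]

/-- the labelling of a covering subgroup -/
theorem Mod.exists_restrict {E K : Subgroup G} {F : Finset α} (M : Mod K F) (h7 : 7 ≤ F.card)
    (hs : E ⊔ core K = K) : ∃ A : Mod E F, ∀ x ∈ E, A.φ x = M.φ x := by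
  have hEK : E ≤ K := by rw [← hs]; exact le_sup_left
  have hc := core_of_sup hs
  let ε : ↥E →* Perm α := M.hom.comp (Subgroup.inclusion (hEK.trans le_normalizer))
  obtain ⟨A, hA⟩ := Mod.exists_of_hom (K := E) (S := F) h7 ε (by
    ext σ
    constructor
    · rintro ⟨x, rfl⟩
      exact M.mem_alt _ (hEK x.2)
    · intro hσ
      obtain ⟨k, hk, rfl⟩ := M.lift σ hσ
      obtain ⟨j, hj, hjk⟩ := exists_mul_of_sup hs hk
      exact ⟨⟨j, hj⟩, (M.eq_iff (hEK hj) hk).mpr hjk⟩) (by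
    ext x
    rw [MonoidHom.mem_ker, ← mem_core_iff x.2, hc]
    constructor
    · intro h
      exact ⟨x.2, (M.core_iff _ (hEK x.2)).mp h⟩
    · intro h
      exact (M.core_iff _ (hEK x.2)).mpr h.2)
  exact ⟨A, fun x hx => hA ⟨x, hx⟩⟩

/-- comparison of `cmp v` for two labellings -/
theorem Mod.cmp_le_of {E K : Subgroup G} {F : Finset α} (A : Mod E F) (M : Mod K F) (hEK : E ≤ K)
    {v : G} (hv : A.φ v = M.φ v) (h : ∀ x ∈ E, A.φ x = M.φ x) : A.cmp v ≤ M.cmp v := by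
  refine PComponents.pElem_mono fun x hx => ?_
  obtain ⟨h1, h2, h3⟩ := A.mem_pre.mp hx
  rw [hv, h x h1] at h3
  exact M.mem_pre.mpr ⟨hEK h1, h2, h3⟩

section normal

variable {v w : G} {K K' : Subgroup G} {P : Finset α}

/-- step A -/
theorem fixes_other_side (hv2 : v * v = 1) (hw2 : w * w = 1) (hvw : v * w = w * v)
    (hK : IsComp (centralizer ({v} : Set G)) K) (hK' : IsComp (centralizer ({w} : Set G)) K')
    (hvK' : v ∈ K') (hwK : w ∈ K) (M : Mod K' P) (hle : M.cmp v ≤ K) {J : Subgroup G}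
    (hJ : IsComp (centralizer ({v} : Set G)) J) (hne : J ≠ K) {j : G} (hj : j ∈ J) (hj2 : j * j = 1)
    (hjw : j * w = w * j) : Fixes j K' := by
  have hwJ : Fixes w J := hJ.fixes_of_mem hK hne hwK
  have hwv : w ∈ centralizer ({v} : Set G) := memC_iff.mpr hvw.symm
  have hE := (isComp_cen hJ hwv hw2 hwJ).1
  have hn : ¬ cen J w ≤ K' := by
    intro hle'
    have h1 : IsComp (K' ⊓ centralizer ({v} : Set G)) (cen J w) := by
      refine isComp_inf (H := centralizer ({w} : Set G)) ?_ hK' hle'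
      rw [inf_comm]; exact hE
    obtain ⟨h2, -⟩ := (M.isComp_iff_cmp (le_normalizer hvK') hv2).mp h1
    exact hne (hE.unique hJ hK (cen_le J w) (by rw [h2]; exact hle))
  obtain ⟨J', hJ', hne', h1, -⟩ := jump hv2 hw2 hvw hJ hwJ hK' hvK' hn
  have h2 : j ∈ J' := by
    have h3 := mem_cen_of_sq hj hjw hj2
    rw [h1] at h3
    exact cen_le J' v h3
  exact hK'.fixes_of_mem hJ' hne'.symm h2

/-- **`K` is normal in `C(v)`** -/
theorem normal_K (hv2 : v * v = 1) (hw2 : w * w = 1) (hvw : v * w = w * v)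
    (hK : IsComp (centralizer ({v} : Set G)) K) (hK' : IsComp (centralizer ({w} : Set G)) K')
    (hvK' : v ∈ K') (hwK : w ∈ K) (M : Mod K' P) (hv1 : M.φ v ≠ 1) (h7 : 7 ≤ P.card)
    (h5 : 5 ≤ (fixIn P (M.φ v)).card) (hle : M.cmp v ≤ K) :
    centralizer ({v} : Set G) ≤ normalizer (K : Set G) := by
  intro g hg
  rw [mem_normalizer_iff_cj]
  by_contra hne
  have hJ : IsComp (centralizer ({v} : Set G)) (cj g K) := isComp_cj_of_mem hK hg
  have hwJ : Fixes w (cj g K) := hJ.fixes_of_mem hK hne hwK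
  have hj0 : g * w * g⁻¹ ∈ cj g K := conj_mem_cj hwK
  have hj02 : g * w * g⁻¹ * (g * w * g⁻¹) = 1 := by
    calc g * w * g⁻¹ * (g * w * g⁻¹) = g * (w * w) * g⁻¹ := by group
      _ = 1 := by rw [hw2]; group
  -- correction of `g`
  obtain ⟨o, ho, ho2, hoc⟩ := Lifting.exists_involution (n := 1) (odd_card_core (cj g K))
    (by rw [pow_one, pow_two, hw2] : w ^ 2 ^ 1 = 1) (normalizer_le_normalizer_core _ hwJ.1)
    (le_normalizer_core _ hj0) (by rw [hj02]; exact one_mem _)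
    ((fixes_iff_conj.mp hwJ).2 _ hj0)
  obtain ⟨z, hz, hzj⟩ := Lifting.exists_conj_eq (n := 1) (m := 1) (odd_card_core (cj g K))
    (v := g * w * g⁻¹) (v' := g * w * g⁻¹ * o) (by rw [pow_one, pow_two, hj02])
    (by rw [pow_one, pow_two, ho2]) (le_normalizer_core _ hj0) (by
      rw [inv_mul_cancel_left]; exact ho)
  have hzJ : z ∈ cj g K := core_le _ hz
  obtain ⟨g', hg'⟩ : ∃ g', g' = z * g := ⟨_, rfl⟩
  have hgv : g' * v = v * g' := by
    have h1 : z * v = v * z := memC_iff.mp (hJ.le hzJ)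
    rw [hg', mul_assoc, memC_iff.mp hg, ← mul_assoc, h1, mul_assoc]
  have hcjJ : cj g' K = cj g K := by
    rw [hg', cj_mul, cj_eq_self_of_mem hzJ]
  have hj : g' * w * g'⁻¹ = g * w * g⁻¹ * o := by
    rw [← hzj, hg']; group
  obtain ⟨j, hjd⟩ : ∃ j, j = g' * w * g'⁻¹ := ⟨_, rfl⟩
  have hj2 : j * j = 1 := by rw [hjd, hj]; exact ho2
  have hjw : j * w = w * j := by rw [hjd, hj]; exact hoc.symm
  have hvg : g'⁻¹ * v = v * g'⁻¹ := by
    rw [inv_mul_eq_iff_eq_mul, ← mul_assoc, hgv, mul_inv_cancel_right]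
  have hgv' : g' * v * g'⁻¹ = v := by rw [hgv, mul_inv_cancel_right]
  have hgv'' : g'⁻¹ * v * g' = v := by rw [hvg, inv_mul_cancel_right]
  have hjv : j * v = v * j := by
    have h1 : g' * (w * v) * g'⁻¹ = g' * (v * w) * g'⁻¹ := by rw [hvw]
    calc j * v = g' * w * g'⁻¹ * (g' * v * g'⁻¹) := by rw [hjd, hgv']
      _ = g' * (w * v) * g'⁻¹ := by group
      _ = g' * (v * w) * g'⁻¹ := h1
      _ = (g' * v * g'⁻¹) * (g' * w * g'⁻¹) := by group
      _ = v * j := by rw [hjd, hgv']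
  rw [← hcjJ] at hJ hne
  -- `j` fixes `K'`
  have hf1 : Fixes j K' := fixes_other_side hv2 hw2 hvw hK hK' hvK' hwK M hle hJ hne
    (by rw [hjd]; exact conj_mem_cj hwK) hj2 hjw
  -- `w` fixes `K'^g`
  have hf2 : Fixes w (cj g' K') := by
    have hJ2 : IsComp (centralizer ({v} : Set G)) (cj g'⁻¹ K) :=
      isComp_cj_of_mem hK (memC_iff.mpr hvg)
    have hne2 : cj g'⁻¹ K ≠ K := by
      intro h
      apply hne
      conv_lhs => rw [← h]
      rw [cj_cj_inv]
    have hm : g'⁻¹ * w * g' ∈ cj g'⁻¹ K := by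
      have := conj_mem_cj (g := g'⁻¹) hwK
      rwa [inv_inv] at this
    have h2 : g'⁻¹ * w * g' * (g'⁻¹ * w * g') = 1 := by
      calc g'⁻¹ * w * g' * (g'⁻¹ * w * g') = g'⁻¹ * (w * w) * g' := by group
        _ = 1 := by rw [hw2]; group
    have h3 : g'⁻¹ * w * g' * w = w * (g'⁻¹ * w * g') := by
      have h4 : g'⁻¹ * (w * j) * g' = g'⁻¹ * (j * w) * g' := by rw [hjw]
      calc g'⁻¹ * w * g' * w = g'⁻¹ * (w * (g' * w * g'⁻¹)) * g' := by group
        _ = g'⁻¹ * (j * w) * g' := by rw [← hjd, h4]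
        _ = w * (g'⁻¹ * w * g') := by rw [hjd]; group
    have h5 := (fixes_other_side hv2 hw2 hvw hK hK' hvK' hwK M hle hJ2 hne2 hm h2 h3).cj g'
    have h6 : g' * (g'⁻¹ * w * g') * g'⁻¹ = w := by group
    rwa [h6] at h5
  have hK'' : IsComp (centralizer ({j} : Set G)) (cj g' K') := by
    have := hK'.cj g'
    rwa [cj_centralizer, ← hjd] at this
  obtain ⟨hI1, hs1⟩ := isComp_cen hK' (memC_iff.mpr hjw) hj2 hf1
  obtain ⟨hI2, hs2⟩ := isComp_cen hK'' (memC_iff.mpr hjw.symm) hw2 hf2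
  rw [inf_comm] at hI2
  have hv1' : v ∈ cen K' j := mem_cen_of_sq hvK' hjv.symm hv2
  have hvK'' : v ∈ cj g' K' := by
    have := conj_mem_cj (g := g') hvK'
    rwa [hgv'] at this
  have hv2' : v ∈ cen (cj g' K') w := mem_cen_of_sq hvK'' hvw hv2
  have heq : cen K' j = cen (cj g' K') w := by
    by_contra hne3
    have h1 := hI1.fixes_of_mem hI2 hne3 hv2'
    have h2 := (fixes_iff_of_sup hs1 h1.1 (le_normalizer hvK')).mp h1
    exact hv1 ((M.fixes_iff (le_normalizer hvK')).mpr h2)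
  obtain ⟨A1, hA1⟩ := M.exists_restrict h7 hs1
  obtain ⟨A2, hA2⟩ := (M.cj g').exists_restrict h7 hs2
  have e1 : A1.φ v = M.φ v := hA1 v hv1'
  have e2 : A2.φ v = M.φ v := by
    rw [hA2 v hv2', Mod.cj_φ, hgv'']
  have c1 : IsComp (cen K' j ⊓ centralizer ({v} : Set G)) (A1.cmp v) :=
    A1.isComp_cmp (le_normalizer hv1') hv2 (by rw [e1]; exact h5)
  have c2 : IsComp (cen (cj g' K') w ⊓ centralizer ({v} : Set G)) (A2.cmp v) :=
    A2.isComp_cmp (le_normalizer hv2') hv2 (by rw [e2]; exact h5)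
  have l1 : A1.cmp v ≤ K := (A1.cmp_le_of M (cen_le K' j) e1 hA1).trans hle
  have l2 : A2.cmp v ≤ cj g' K := by
    refine (A2.cmp_le_of (M.cj g') (cen_le _ w) (hA2 v hv2') hA2).trans ?_
    have h8 : PComponents.pElem 2 ((M.cj g').pre v) ≤ cj g' (M.cmp v) := by
      refine (Subgroup.closure_le _).mpr ?_
      rintro y ⟨hy, n, hn⟩
      obtain ⟨h1, h2, h3⟩ := (M.cj g').mem_pre.mp hy
      have h4 : (g'⁻¹ * y * g') ^ 2 ^ n = 1 := by
        have := conj_pow (a := g'⁻¹) (b := y) (i := 2 ^ n)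
        rw [inv_inv] at this
        rw [this, hn]; group
      have h5 : g'⁻¹ * y * g' ∈ M.cmp v := by
        refine M.mem_cmp (mem_cj.mp h1) ?_ ?_ h4
        · have h6 : g'⁻¹ * (v * y) * g' = g'⁻¹ * (y * v) * g' := by rw [h2]
          calc v * (g'⁻¹ * y * g') = (g'⁻¹ * v * g') * (g'⁻¹ * y * g') := by rw [hgv'']
            _ = g'⁻¹ * (v * y) * g' := by group
            _ = g'⁻¹ * (y * v) * g' := h6
            _ = (g'⁻¹ * y * g') * (g'⁻¹ * v * g') := by group
            _ = _ := by rw [hgv'']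
        · rw [Mod.cj_φ, Mod.cj_φ, hgv''] at h3
          exact h3
      exact mem_cj.mpr h5
    exact h8.trans (cj_mono hle)
  have h9 : A2.cmp v = A1.cmp v := by
    have c2' : IsComp (cen K' j ⊓ centralizer ({v} : Set G)) (A2.cmp v) := by
      rw [heq]; exact c2
    exact ((A1.isComp_iff_cmp (le_normalizer hv1') hv2).mp c2').1
  rw [h9] at l2
  exact hne (c1.unique hJ hK l2 l1)

end normal

end Cfsg.Agent.UAlt
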