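import Cfsg.Agent.UAlt.Frame
import Cfsg.Agent.UAlt.RootRF
import Cfsg.Agent.UAlt.FourConj

/-!
# Conjugacy of root four-groups, Frattini arguments

* `Mod.Rt.conj`: the roots of `L` are `L`-conjugate.
* `RF.exists_conj`: root four-groups of `L` are `L`-conjugate.
* `RF.exists_conj_of`: the same inside `C_L(P)`, with prescribed label `σ` of the conjugating element.
* `RF.exists_normalizing`: elements of `N_L(V) ∩ C(P)` with prescribed label.
* `RF.frattini`.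
-/

set_option autoImplicit false
set_option linter.unusedSectionVars false

open Cfsg Equiv Equiv.Perm Subgroup
open Cfsg.Agent.Intrinsic.Basic Cfsg.Agent.Intrinsic
open Cfsg.Agent.SignalizersComponents Cfsg.Agent.Lib
open Cfsg.Agent.SignalizersComponents.IntrinsicBasic
open Cfsg.Agent.StdAlt.Roots (IsRoot)
open scoped commutatorElement

namespace Cfsg.Agent.UAlt

variable {G : Type*} [Group G] {α : Type*} [Fintype α] [DecidableEq α]
  {L V V' P : Subgroup G} {Ω S S' : Finset α} {M : Mod L Ω}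

theorem RF.mem_four (h : RF M V S) {v : G} (hv : v ∈ V) : M.φ v ∈ four S :=
  (UAlt.mem_four h.card).mpr ⟨h.mem v hv, M.sq (le_normalizer (h.le hv)) (h.sq v hv)⟩

theorem RF.exists_of_four (h : RF M V S) {σ : Perm α} (hσ : σ ∈ four S) : ∃ v ∈ V, M.φ v = σ :=
  h.lift σ (four_le_alt h.card hσ) (four_sq h.card hσ)

theorem RF.two_group (h : RF M V S) : IsPGroup 2 V := by
  rintro ⟨v, hv⟩
  exact ⟨1, Subtype.ext (by show v ^ 2 ^ 1 = 1; rw [pow_one, pow_two]; exact h.sq v hv)⟩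

/-- a 2-group with label `four S` is a root four-group -/
theorem RF.of_two [Finite G] (hV : V ≤ L) (hS : S ⊆ Ω) (hc : S.card = 4) (h2 : IsPGroup 2 V)
    (hm : ∀ v ∈ V, M.φ v ∈ four S) (hl : ∀ σ ∈ four S, ∃ v ∈ V, M.φ v = σ) : RF M V S := by
  refine ⟨hV, hS, hc, fun v hv => ?_, fun v hv => four_le_alt hc (hm v hv), fun σ h1 h2 =>
    hl σ ((UAlt.mem_four hc).mpr ⟨h1, h2⟩)⟩
  have h1 : v * v ∈ core L := by
    rw [← M.core_iff _ (mul_mem (hV hv) (hV hv)),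
      M.mul _ _ (le_normalizer (hV hv)) (le_normalizer (hV hv))]
    exact four_sq hc (hm v hv)
  obtain ⟨n, hn⟩ := h2 ⟨v * v, mul_mem hv hv⟩
  exact eq_one_of_mem_core h1 (congrArg Subtype.val hn)

/-- conjugates of root four-groups -/
theorem RF.cj [Finite G] (h : RF M V S) {g : G} (hg : g ∈ normalizer (L : Set G)) :
    RF M (IntrinsicBasic.cj g V) (S.map (M.φ g).toEmbedding) := by
  have hgL : ∀ v ∈ IntrinsicBasic.cj g V, v ∈ L := by
    intro v hv
    have h1 := h.le (mem_cj.mp hv)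
    have h2 := (mem_normalizer_iff.mp hg _).mp h1
    rw [show g * (g⁻¹ * v * g) * g⁻¹ = v by group] at h2
    exact h2
  have key : ∀ v ∈ IntrinsicBasic.cj g V, M.φ v = M.φ g * M.φ (g⁻¹ * v * g) * (M.φ g)⁻¹ := by
    intro v hv
    rw [← M.conj hg (le_normalizer (h.le (mem_cj.mp hv)))]
    congr 1
    group
  refine RF.of_two hgL ?_ (by rw [Finset.card_map]; exact h.card) ?_ (fun v hv => ?_)
    (fun σ hσ => ?_)
  · intro x hx
    obtain ⟨y, hy, rfl⟩ := Finset.mem_map.mp hx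
    exact mem_of_mem_sym (M.mem_sym g hg) (h.sub hy)
  · exact h.two_group.map _
  · rw [key v hv]
    exact (conj_four h.card (M.φ g)).mpr (h.mem_four (mem_cj.mp hv))
  · have h1 : (M.φ g)⁻¹ * σ * M.φ g ∈ four S := by
      rw [← conj_four h.card (M.φ g)]
      rw [show M.φ g * ((M.φ g)⁻¹ * σ * M.φ g) * (M.φ g)⁻¹ = σ by group]
      exact hσ
    obtain ⟨v, hv, hvσ⟩ := h.exists_of_four h1
    refine ⟨g * v * g⁻¹, conj_mem_cj hv, ?_⟩
    rw [M.conj hg (le_normalizer (h.le hv)), hvσ]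
    group

/-- **(F3)** the roots of `L` are `L`-conjugate -/
theorem Mod.Rt.conj [Finite G] {u v : G} (hu : M.Rt u) (hv : M.Rt v) :
    ∃ k ∈ L, k * u * k⁻¹ = v :=
  M.exists_conj_root hu.1 hv.1 hu.2.1 hv.2.1 hu.2.2 hv.2.2

theorem Mod.Rt.of_conj [Finite G] {u g : G} (hu : M.Rt u) (hg : g ∈ normalizer (L : Set G)) :
    M.Rt (g * u * g⁻¹) := by
  refine ⟨(mem_normalizer_iff.mp hg u).mp hu.1, ?_, ?_⟩
  · rw [show g * u * g⁻¹ * (g * u * g⁻¹) = g * (u * u) * g⁻¹ by group, hu.2.1]; group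
  · rw [M.conj hg (le_normalizer hu.1)]
    exact hu.2.2.conj _

/-- **conjugacy of root four-groups with prescribed label**, inside `C_L(P)` -/
theorem RF.exists_conj_of [Finite G] (h : RF M V S) (h' : RF M V' S') (hP : IsPGroup 2 P)
    (hPN : P ≤ normalizer (L : Set G)) (hPV : ∀ p ∈ P, ∀ v ∈ V, p * v = v * p)
    (hPV' : ∀ p ∈ P, ∀ v ∈ V', p * v = v * p) {σ : Perm α} (hσ : σ ∈ alt Ω)
    (hσS : S.map σ.toEmbedding = S') (hσP : ∀ p ∈ P, M.φ p * σ = σ * M.φ p) :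
    ∃ k ∈ L, (∀ p ∈ P, p * k = k * p) ∧ M.φ k = σ ∧ IntrinsicBasic.cj k V = V' := by
  obtain ⟨k, hk, hkP, hkσ⟩ := M.exists_fix_lift hP hPN hσ hσP
  have h1 := h.cj (le_normalizer hk)
  rw [hkσ, hσS] at h1
  have h2 : ∀ p ∈ P, ∀ v ∈ IntrinsicBasic.cj k V, p * v = v * p := by
    intro p hp v hv
    have h3 := hPV p hp _ (mem_cj.mp hv)
    have h4 := hkP p hp
    have h5 : v = k * (k⁻¹ * v * k) * k⁻¹ := by group
    set w := k⁻¹ * v * k with hw
    have h6 : p * k⁻¹ = k⁻¹ * p := by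
      rw [eq_inv_mul_iff_mul_eq, ← mul_assoc, h4, mul_inv_cancel_right]
    rw [h5]
    calc p * (k * w * k⁻¹) = (p * k) * w * k⁻¹ := by group
      _ = k * (p * w) * k⁻¹ := by rw [← h4]; group
      _ = k * w * (p * k⁻¹) := by rw [h3]; group
      _ = k * w * k⁻¹ * p := by rw [h6]; group
  obtain ⟨o, ho, hoP, hoV⟩ := M.exists_conj_two (V := IntrinsicBasic.cj k V) (V' := V') (P := P)
    (T := four S') h1.le h'.le h1.two_group h'.two_group h2 hPV'
    (fun σ hσ => h1.exists_of_four hσ) (fun σ hσ => h'.exists_of_four hσ)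
    (fun v hv => h1.mem_four hv) (fun v hv => h'.mem_four hv)
  refine ⟨o * k, mul_mem (core_le L ho) hk, fun p hp => ?_, ?_, ?_⟩
  · rw [← mul_assoc, hoP p hp, mul_assoc, ← hkP p hp, mul_assoc]
  · rw [M.mul _ _ (le_normalizer (core_le L ho)) (le_normalizer hk), hkσ,
      (M.core_iff o (core_le L ho)).mpr ho, one_mul]
  · rw [IntrinsicBasic.cj_mul]; exact hoV

/-- **(F3)** root four-groups are conjugate; corresponding involutions can be prescribed -/
theorem RF.exists_conj' [Finite G] (h : RF M V S) (h' : RF M V' S') {v v' : G} (hv : v ∈ V)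
    (hv1 : v ≠ 1) (hv' : v' ∈ V') (hv1' : v' ≠ 1) :
    ∃ k ∈ L, k * v * k⁻¹ = v' ∧ IntrinsicBasic.cj k V = V' := by
  have hne : ∀ {V S v}, RF M V S → v ∈ V → v ≠ 1 → M.φ v ≠ 1 := by
    intro V S v h hv hv1 e
    exact hv1 (eq_one_of_mem_core_sq ((M.core_iff v (h.le hv)).mp e) (h.sq v hv))
  obtain ⟨σ, hσ, hσS, hσv⟩ := exists_alt_conj h.sub h'.sub h.card h'.card (h.mem_four hv)
    (hne h hv hv1) (h'.mem_four hv') (hne h' hv' hv1')
  obtain ⟨k, hk, -, hkσ, hkV⟩ := h.exists_conj_of h' (P := ⊥) (IsPGroup.of_bot) bot_le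
    (fun p hp v _ => by rw [mem_bot.mp hp, one_mul, mul_one])
    (fun p hp v _ => by rw [mem_bot.mp hp, one_mul, mul_one]) hσ hσS
    (fun p hp => by rw [mem_bot.mp hp, M.one, one_mul, mul_one])
  refine ⟨k, hk, ?_, hkV⟩
  -- `k v k⁻¹` and `v'` lie in `V'` and have the same label
  have h1 : k * v * k⁻¹ ∈ V' := by rw [← hkV]; exact conj_mem_cj hv
  have h2 : M.φ (k * v * k⁻¹) = M.φ v' := by
    rw [M.conj (le_normalizer hk) (le_normalizer (h.le hv)), hkσ, hσv]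
  have h3 : (k * v * k⁻¹)⁻¹ * v' ∈ core L := (M.eq_iff (h'.le h1) (h'.le hv')).mp h2
  have h4 := eq_one_of_mem_core_sq h3 (h'.sq _ (mul_mem (inv_mem h1) hv'))
  exact inv_mul_eq_one.mp h4

theorem RF.exists_conj [Finite G] (h : RF M V S) (h' : RF M V' S') :
    ∃ k ∈ L, IntrinsicBasic.cj k V = V' := by
  obtain ⟨v, hv, hv1⟩ := h.exists_ne
  obtain ⟨v', hv', hv1'⟩ := h'.exists_ne
  obtain ⟨k, hk, -, h2⟩ := h.exists_conj' h' hv hv1 hv' hv1'
  exact ⟨k, hk, h2⟩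

/-- **elements of `N_L(V)` with prescribed label**, centralizing `P` -/
theorem RF.exists_normalizing [Finite G] (h : RF M V S) (hP : IsPGroup 2 P)
    (hPN : P ≤ normalizer (L : Set G)) (hPV : ∀ p ∈ P, ∀ v ∈ V, p * v = v * p) {σ : Perm α}
    (hσ : σ ∈ alt Ω) (hσS : ∀ x ∈ S, σ x ∈ S) (hσP : ∀ p ∈ P, M.φ p * σ = σ * M.φ p) :
    ∃ k ∈ L, (∀ p ∈ P, p * k = k * p) ∧ M.φ k = σ ∧ k ∈ normalizer (V : Set G) := by
  have h1 : S.map σ.toEmbedding = S := by
    apply Finset.eq_of_subset_of_card_le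
    · intro x hx
      obtain ⟨y, hy, rfl⟩ := Finset.mem_map.mp hx
      exact hσS y hy
    · rw [Finset.card_map]
  obtain ⟨k, hk, hkP, hkσ, hkV⟩ := h.exists_conj_of h hP hPN hPV hPV hσ h1 hσP
  exact ⟨k, hk, hkP, hkσ, mem_normalizer_iff_cj.mpr hkV⟩

/-- the same with an element of odd order, if the label has odd order -/
theorem RF.exists_normalizing_odd [Finite G] (h : RF M V S) (hP : IsPGroup 2 P)
    (hPN : P ≤ normalizer (L : Set G)) (hPV : ∀ p ∈ P, ∀ v ∈ V, p * v = v * p) {σ : Perm α}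
    (hσ : σ ∈ alt Ω) (hσS : ∀ x ∈ S, σ x ∈ S) (hσP : ∀ p ∈ P, M.φ p * σ = σ * M.φ p)
    (hodd : Odd (orderOf σ)) :
    ∃ k ∈ L, (∀ p ∈ P, p * k = k * p) ∧ M.φ k = σ ∧ k ∈ normalizer (V : Set G) ∧
      Odd (orderOf k) := by
  obtain ⟨k, hk, hkP, hkσ, hkV⟩ := h.exists_normalizing hP hPN hPV hσ hσS hσP
  -- `m = 2 ^ a * b`, `b` odd; take the odd part of `k`
  obtain ⟨a, b, hb, hab⟩ := Nat.exists_eq_two_pow_mul_odd (n := orderOf k) (orderOf_pos k).ne'
  have hcop : Nat.Coprime (2 ^ a) (orderOf σ) := Nat.Coprime.pow_left a hodd.coprime_two_left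
  have hcop' : Nat.Coprime (2 ^ a) (b * orderOf σ) :=
    Nat.Coprime.pow_left a (hb.mul hodd).coprime_two_left
  -- `r ≡ 1 mod b * |σ|`, `r ≡ 0 mod 2 ^ a`
  obtain ⟨r, hr1, hr2⟩ := Nat.chineseRemainder hcop'.symm 1 0
  have hr2' : 2 ^ a ∣ r := (Nat.modEq_zero_iff_dvd).mp hr2
  refine ⟨k ^ r, pow_mem hk r, fun p hp => ?_, ?_, pow_mem hkV r, ?_⟩
  · exact ((show Commute p k from hkP p hp).pow_right r).eq
  · rw [M.pow (le_normalizer hk), hkσ]
    have h1 : r ≡ 1 [MOD orderOf σ] := hr1.of_mul_left b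
    calc σ ^ r = σ ^ 1 := pow_eq_pow_iff_modEq.mpr h1
      _ = σ := pow_one σ
  · have h1 : orderOf (k ^ r) ∣ b := by
      apply orderOf_dvd_of_pow_eq_one
      rw [← pow_mul]
      obtain ⟨c, rfl⟩ := hr2'
      rw [show 2 ^ a * c * b = (2 ^ a * b) * c by ring, ← hab, pow_mul, pow_orderOf_eq_one, one_pow]
    exact Odd.of_dvd_nat hb h1

/-- **Frattini argument** for root four-groups -/
theorem RF.frattini [Finite G] (h : RF M V S) {g : G} (hg : g ∈ normalizer (L : Set G)) :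
    ∃ k ∈ L, k * g ∈ normalizer (V : Set G) := by
  obtain ⟨k, hk, hkV⟩ := (h.cj hg).exists_conj h
  refine ⟨k, hk, mem_normalizer_iff_cj.mpr ?_⟩
  rw [IntrinsicBasic.cj_mul]
  exact hkV

/-- Frattini argument for roots -/
theorem Mod.Rt.frattini [Finite G] {u g : G} (hu : M.Rt u) (hg : g ∈ normalizer (L : Set G)) :
    ∃ k ∈ L, (k * g) * u = u * (k * g) := by
  obtain ⟨k, hk, h1⟩ := (hu.of_conj hg).conj hu
  refine ⟨k, hk, ?_⟩
  rw [← mul_inv_eq_iff_eq_mul]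
  calc k * g * u * (k * g)⁻¹ = k * (g * u * g⁻¹) * k⁻¹ := by group
    _ = u := h1

/-- the labels of the two labellings of `L` and of `E ≤ L` -/
theorem RF.restrict {E : Subgroup G} {F : Finset α} {M' : Mod E F} (h : RF M V S)
    (hag : ∀ y ∈ E, M'.φ y = M.φ y) (hV : V ≤ E) (hS : S ⊆ F) : RF M' V S := by
  refine ⟨hV, hS, h.card, h.sq, fun v hv => ?_, fun σ h1 h2 => ?_⟩
  · rw [hag v (hV hv)]; exact h.mem v hv
  · obtain ⟨v, hv, hvσ⟩ := h.lift σ h1 h2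
    exact ⟨v, hv, by rw [hag v (hV hv)]; exact hvσ⟩

theorem RF.extend {E : Subgroup G} {F : Finset α} {M' : Mod E F} (h : RF M' V S) (hEL : E ≤ L)
    (hag : ∀ y ∈ E, M'.φ y = M.φ y) (hF : F ⊆ Ω) : RF M V S := by
  refine ⟨h.le.trans hEL, h.sub.trans hF, h.card, h.sq, fun v hv => ?_, fun σ h1 h2 => ?_⟩
  · rw [← hag v (h.le hv)]; exact h.mem v hv
  · obtain ⟨v, hv, hvσ⟩ := h.lift σ h1 h2
    exact ⟨v, hv, by rw [← hag v (h.le hv)]; exact hvσ⟩

end Cfsg.Agent.UAlt
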