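import Cfsg.Agent.UAlt.CaseNBal
import Cfsg.Agent.UAlt.Case0
import Cfsg.Agent.UAlt.RFConj
import Cfsg.Agent.UAlt.NormK
import Cfsg.Agent.UAlt.Ident
import Cfsg.Agent.Intrinsic.Functor

/-!
# Case N: the completion `W` of the functor `e ↦ O(C(e))` and its normalizer, (7')(vi)

* `Duo.W_main`, `Duo.W_eq_left`: `W = ⟨O(C(e)) : e ∈ (V × V')#⟩` has odd order, `W ∩ C(e) = O(C(e))`.
* `Duo.cent_le_K`, `Duo.K_le`, `Duo.cent_le`: `K_v` is normal in `C(v)`, `C(v)` normalizes `W`.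
* `Duo.L_le`: `L` normalizes `W`.
* `Duo.caseN_W` (from `Bal V V'`), `caseN_W` (`13 ≤ n`).
-/

set_option autoImplicit false
set_option linter.unusedSectionVars false

open Cfsg Subgroup Equiv Equiv.Perm
open Cfsg.Agent.SignalizersComponents Cfsg.Agent.Lib
open Cfsg.Agent.SignalizersComponents.IntrinsicBasic
open Cfsg.Agent.Intrinsic Cfsg.Agent.Intrinsic.Basic Cfsg.Agent.Intrinsic.Cen Cfsg.Agent.Intrinsic.Diag
open Cfsg.Agent.UGT.Triple
open scoped commutatorElement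

namespace Cfsg.Agent.UAlt

/-- `Alt(A ∪ B)` is generated by `Alt(A)` and `Alt(B)` if `|A ∩ B| ≥ 2` -/
theorem alt_union_le {α : Type*} [Fintype α] [DecidableEq α] {A B : Finset α} {c d : α}
    (hc : c ∈ A ∩ B) (hd : d ∈ A ∩ B) (hcd : c ≠ d) (h3 : 3 ≤ (A ∪ B).card) {Q : Subgroup (Perm α)}
    (hA : alt A ≤ Q) (hB : alt B ≤ Q) : alt (A ∪ B) ≤ Q := by
  rw [Finset.mem_inter] at hc hd
  refine Ident.alt_le_of_cyc_two (Finset.mem_union_left _ hc.1) (Finset.mem_union_left _ hd.1) hcd h3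
    fun i hi hic hid => ?_
  rcases Finset.mem_union.mp hi with h | h
  · exact hA (cyc_mem_alt h hc.1 hd.1 hic hcd)
  · exact hB (cyc_mem_alt h hc.2 hd.2 hic hcd)

variable {G : Type*} [Group G] [Finite G] {α : Type*} [Fintype α] [DecidableEq α]
  {L : Subgroup G} {Ω X : Finset α} {M : Mod L Ω} {a : G} {n : ℕ}
  {V V' : Subgroup G} {T T' : Finset α}

/-- balance on `(V × V')#` -/
def Bal (V V' : Subgroup G) : Prop := ∀ {e f : G}, e ∈ V ⊔ V' → e ≠ 1 → f ∈ V ⊔ V' → f ≠ 1 →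
  core (centralizer ({e} : Set G)) ⊓ centralizer ({f} : Set G) ≤ core (centralizer ({f} : Set G))

theorem Bal.swap (h : Bal V V') : Bal V' V := by
  intro e f he h1 hf h2
  rw [sup_comm] at he hf
  exact h he h1 hf h2

theorem Duo.inf_eq_bot (h : Duo M V V' T T') : V ⊓ V' = ⊥ := by
  rw [eq_bot_iff_forall]
  rintro z ⟨h1, h2⟩
  by_contra hz
  have h3 := (h.r1.root h1 hz).supp (h.r2.root h2 hz) rfl
  obtain ⟨y, hy⟩ := (h.r1.root h1 hz).exists_mem
  exact Finset.disjoint_left.mp h.d hy (h3 ▸ hy)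

theorem Duo.card_le (h : Duo M V V' T T') : 8 ≤ Nat.card ↥(V ⊔ V') := by
  have h1 := Functor.card_sup_le h.inf_eq_bot
  rw [h.r1.natCard, h.r2.natCard] at h1
  omega

theorem normalizer_of_comm {E : Subgroup G} (h : ∀ x ∈ E, ∀ y ∈ E, x * y = y * x) {V : Subgroup G}
    (hV : V ≤ E) : E ≤ normalizer (V : Set G) := by
  intro x hx
  apply centralizer_le_normalizer
  rw [mem_centralizer_iff]
  exact fun v hv => h v (hV hv) x hx

section pair

variable (FT : Functor.OddSol G) (h : Duo M V V' T T') (hB : Bal V V')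

include FT h hB

theorem Duo.W_main : Odd (Nat.card (Functor.W (V ⊔ V'))) ∧ ∀ e ∈ V ⊔ V', e ≠ 1 →
    Functor.W (V ⊔ V') ⊓ centralizer ({e} : Set G) = core (centralizer ({e} : Set G)) :=
  Functor.closure_of_rank FT (fun e he f hf => h.comm he hf)
    (fun e he => by rw [pow_two]; exact h.sq he) h.card_le
    (fun e he h1 f hf h1' => hB he h1 hf h1')

theorem Duo.W_norm : V ⊔ V' ≤ normalizer (Functor.W (V ⊔ V') : Set G) :=
  le_normalizer.trans (Functor.normalizer_le _)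

theorem Duo.W_eq_left : Functor.W (V ⊔ V') = Functor.W V := by
  obtain ⟨h1, h2⟩ := Duo.W_main FT h hB
  apply le_antisymm
  · refine Functor.gen_le (F := V) (fun a ha b hb => h.r1.comm ha hb) (fun a ha => h.r1.sq a ha)
      (by rw [h.r1.natCard]) h1 (le_sup_left.trans (Duo.W_norm FT h hB)) fun f hf hf1 => ?_
    rw [h2 f (mem_sup_left hf) hf1]
    exact Functor.le_W hf hf1
  · exact Functor.W_le fun a ha ha1 => Functor.le_W (mem_sup_left ha) ha1

theorem Duo.W_eq_right : Functor.W (V ⊔ V') = Functor.W V' := by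
  rw [sup_comm]
  exact Duo.W_eq_left FT h.swap hB.swap

theorem Duo.norm_left : normalizer (V : Set G) ≤ normalizer (Functor.W (V ⊔ V') : Set G) := by
  rw [Duo.W_eq_left FT h hB]
  exact Functor.normalizer_le V

theorem Duo.norm_right : normalizer (V' : Set G) ≤ normalizer (Functor.W (V ⊔ V') : Set G) := by
  rw [Duo.W_eq_right FT h hB]
  exact Functor.normalizer_le V'

variable (h11 : 11 ≤ Ω.card) (hX : 13 ≤ Ω.card + X.card) (hN : CaseN M a X)
  {v : G} (hv : v ∈ V) (h1 : v ≠ 1) {K : Subgroup G} {Mv : Mod K (fixIn Ω (M.φ v) ∪ X)}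
  (hK : KD M a X v K Mv)

include h11 hX hN hv h1 hK

/-- `K_v ≤ N(W)` -/
theorem Duo.K_le : K ≤ normalizer (Functor.W (V ⊔ V') : Set G) := by
  have hfix : ∀ u ∈ V, u ∈ normalizer (K : Set G) ∧ Mv.φ u = 1 := fun u hu =>
    ⟨(CaseN.fixes_K' h11 hX hN h.r1 hv h1 hK hu).1, (CaseN.fixes_K' h11 hX hN h.r1 hv h1 hK hu).2.1⟩
  intro y hy
  obtain ⟨k, hk, hkV, hkφ⟩ := Mv.exists_fix_lift h.r1.isPGroup (fun u hu => (hfix u hu).1)
    (Mv.mem_alt y hy) (fun u hu => by rw [(hfix u hu).2, one_mul, mul_one])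
  have h2 : k⁻¹ * y ∈ core K := (Mv.eq_iff hk hy).mp hkφ
  have h3 : k⁻¹ * y ∈ Functor.W (V ⊔ V') := by
    have h4 := hK.comp.core_le_core h2
    rw [← (Duo.W_main FT h hB).2 v (mem_sup_left hv) h1] at h4
    exact h4.1
  have h4 : k ∈ normalizer (Functor.W (V ⊔ V') : Set G) := by
    apply Duo.norm_left FT h hB
    apply centralizer_le_normalizer
    rw [mem_centralizer_iff]
    exact fun u hu => (hkV u hu).symm
  have h5 := mul_mem h4 (le_normalizer h3)
  rwa [mul_inv_cancel_left] at h5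

omit FT hB in
/-- `K_v` is normal in `C(v)` -/
theorem Duo.cent_le_K : centralizer ({v} : Set G) ≤ normalizer (K : Set G) := by
  obtain ⟨w, hw, hw1⟩ := h.r2.exists_ne
  obtain ⟨K', Mw, hK'⟩ := hN.ex w (h.r2.rt hw hw1)
  have hcmp : Mv.cmp w = Mw.cmp v := pair_cmp_eq h11 hX hN h.r1 h.r2 h.d h.c hv h1 hw hw1 hK hK'
  have hvK' : v ∈ K' := pair_mem_K h.r2 h.r1 h.swap.d h.swap.c hw hw1 hv hK'
  have hwK : w ∈ K := pair_mem_K h.r1 h.r2 h.d h.c hv h1 hw hK
  have hφ : Mw.φ v = M.φ v := pair_φ h.r2 h.r1 h.swap.d h.swap.c hw hw1 hv hK'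
  refine normal_K (h.r1.sq v hv) (h.r2.sq w hw) (h.c v hv w hw) hK.comp hK'.comp hvK' hwK Mw ?_ ?_ ?_ ?_
  · rw [hφ]; exact (h.r1.root hv h1).φ_ne_one
  · have h7 := Finset.card_le_card (Finset.subset_union_left (s₁ := fixIn Ω (M.φ w)) (s₂ := X))
    rw [(h.r2.rt hw hw1).card_fix] at h7
    omega
  · exact pair_five h.r2 h.r1 h.swap.d h.swap.c hw hw1 hv hK' h1 hN.disj hX
  · rw [← hcmp]; exact Mv.cmp_le w

/-- `C(v) ≤ N(W)` -/
theorem Duo.cent_le : centralizer ({v} : Set G) ≤ normalizer (Functor.W (V ⊔ V') : Set G) := by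
  intro g hg
  have hgK := Duo.cent_le_K h h11 hX hN hv h1 hK hg
  have hV'K : V' ≤ K := fun w hw => pair_mem_K h.r1 h.r2 h.d h.c hv h1 hw hK
  have hφ : ∀ w ∈ V', Mv.φ w = M.φ w := fun w hw => pair_φ h.r1 h.r2 h.d h.c hv h1 hw hK
  have hRF : RF Mv V' T' := by
    refine ⟨hV'K, ?_, h.r2.card, h.r2.sq, fun w hw => ?_, fun σ hσ hσσ => ?_⟩
    · intro y hy
      apply Finset.mem_union_left
      rw [h.r1.fixIn_eq hv h1, Finset.mem_sdiff]
      exact ⟨h.r2.sub hy, fun hyT => Finset.disjoint_left.mp h.d hyT hy⟩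
    · rw [hφ w hw]; exact h.r2.mem w hw
    · obtain ⟨w, hw, hwσ⟩ := h.r2.lift σ hσ hσσ
      exact ⟨w, hw, by rw [hφ w hw]; exact hwσ⟩
  obtain ⟨k, hk, hkg⟩ := hRF.frattini hgK
  have h2 := Duo.norm_right FT h hB hkg
  have h3 := Duo.K_le FT h hB h11 hX hN hv h1 hK hk
  have h4 := mul_mem (inv_mem h3) h2
  rwa [inv_mul_cancel_left] at h4

end pair

section final

variable (FT : Functor.OddSol G) (h : Duo M V V' T T') (hB : Bal V V')
  (h11 : 11 ≤ Ω.card) (hX : 13 ≤ Ω.card + X.card) (hN : CaseN M a X)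

include FT h hB h11 hX hN

/-- `L ≤ N(W)` -/
theorem Duo.L_le : L ≤ normalizer (Functor.W (V ⊔ V') : Set G) := by
  have hcv : ∀ v ∈ V, v ≠ 1 → centralizer ({v} : Set G) ≤ normalizer (Functor.W (V ⊔ V') : Set G) := by
    intro v hv h1
    obtain ⟨K, Mv, hK⟩ := hN.ex v (h.r1.rt hv h1)
    exact Duo.cent_le FT h hB h11 hX hN hv h1 hK
  have hcv' : ∀ v ∈ V', v ≠ 1 → centralizer ({v} : Set G) ≤ normalizer (Functor.W (V ⊔ V') : Set G) := by
    intro v hv h1
    obtain ⟨K, Mv, hK⟩ := hN.ex v (h.r2.rt hv h1)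
    have h2 := Duo.cent_le FT h.swap hB.swap h11 hX hN hv h1 hK
    rwa [sup_comm] at h2
  have hcore : core L ≤ normalizer (Functor.W (V ⊔ V') : Set G) := by
    refine Functor.gen_le (F := V) (fun a ha b hb => h.r1.comm ha hb) (fun a ha => h.r1.sq a ha)
      (by rw [h.r1.natCard]) (odd_card_core L) (h.r1.le.trans (le_normalizer_core L)) fun f hf hf1 => ?_
    exact inf_le_right.trans (hcv f hf hf1)
  -- the labels of `L ⊓ N(W)`
  obtain ⟨Q, hQ⟩ : ∃ Q : Subgroup (Perm α), ∀ σ, σ ∈ Q ↔ ∃ z ∈ L,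
      z ∈ normalizer (Functor.W (V ⊔ V') : Set G) ∧ M.φ z = σ := by
    refine ⟨((L ⊓ normalizer (Functor.W (V ⊔ V') : Set G)).subgroupOf (normalizer (L : Set G))).map
      M.hom, fun σ => ?_⟩
    constructor
    · rintro ⟨z, hz, rfl⟩
      exact ⟨z, hz.1, hz.2, rfl⟩
    · rintro ⟨z, hz, hz', rfl⟩
      exact ⟨⟨z, le_normalizer hz⟩, ⟨hz, hz'⟩, rfl⟩
  have hfixQ : ∀ v, M.Rt v → centralizer ({v} : Set G) ≤ normalizer (Functor.W (V ⊔ V') : Set G) →
      alt (fixIn Ω (M.φ v)) ≤ Q := by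
    intro v hv hc σ hσ
    obtain ⟨k, hk, rfl⟩ := M.cmp_lift (le_normalizer hv.1) hv.2.1 (by rw [hv.card_fix]; omega) hσ
    exact (hQ _).mpr ⟨k, M.cmp_le v hk, hc (M.cmp_le_cent v hk).2, rfl⟩
  obtain ⟨v, hv, h1⟩ := h.r1.exists_ne
  obtain ⟨v', hv', h1'⟩ := h.r2.exists_ne
  have hA := hfixQ v (h.r1.rt hv h1) (hcv v hv h1)
  have hB := hfixQ v' (h.r2.rt hv' h1') (hcv' v' hv' h1')
  rw [h.r1.fixIn_eq hv h1] at hA
  rw [h.r2.fixIn_eq hv' h1'] at hB
  have hun : (Ω \ T) ∪ (Ω \ T') = Ω := by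
    ext y
    simp only [Finset.mem_union, Finset.mem_sdiff]
    constructor
    · rintro (h | h) <;> exact h.1
    · intro hy
      by_cases hyT : y ∈ T
      · exact Or.inr ⟨hy, fun h' => Finset.disjoint_left.mp h.d hyT h'⟩
      · exact Or.inl ⟨hy, hyT⟩
  have hint : 2 ≤ ((Ω \ T) ∩ (Ω \ T')).card := by
    have h2 : (Ω \ T) ∩ (Ω \ T') = (Ω \ T) \ T' := by
      ext y
      simp only [Finset.mem_inter, Finset.mem_sdiff]
      tauto
    rw [h2]
    have h6 := Finset.le_card_sdiff T' (Ω \ T)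
    have h7 := Finset.le_card_sdiff T Ω
    have h8 := h.r1.card
    have h9 := h.r2.card
    omega
  obtain ⟨c, hc, d, hd, hcd⟩ := Finset.one_lt_card.mp (by omega : 1 < ((Ω \ T) ∩ (Ω \ T')).card)
  have hall : alt Ω ≤ Q := by
    have h2 := alt_union_le hc hd hcd (by rw [hun]; omega) hA hB
    rwa [hun] at h2
  intro y hy
  obtain ⟨z, hz, hzW, hzφ⟩ := (hQ _).mp (hall (M.mem_alt y hy))
  have h2 : z⁻¹ * y ∈ core L := (M.eq_iff hz hy).mp hzφ
  have h3 := mul_mem hzW (hcore h2)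
  rwa [mul_inv_cancel_left] at h3

/-- (7')(vi) -/
theorem Duo.main {v : G} {K : Subgroup G} {Mv : Mod K (fixIn Ω (M.φ v) ∪ X)} (hv : M.Rt v)
    (hK : KD M a X v K Mv) :
    centralizer ({v} : Set G) ≤ normalizer (Functor.W (V ⊔ V') : Set G) ∧
    centralizer ({v} : Set G) ≤ normalizer (K : Set G) ∧
    Functor.W (V ⊔ V') ⊓ centralizer ({v} : Set G) = core (centralizer ({v} : Set G)) ∧
    K ≤ normalizer (Functor.W (V ⊔ V') : Set G) := by
  obtain ⟨v0, hv0, h1⟩ := h.r1.exists_ne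
  obtain ⟨K0, Mv0, hK0⟩ := hN.ex v0 (h.r1.rt hv0 h1)
  obtain ⟨l, hl, hlv⟩ := hv.conj (h.r1.rt hv0 h1)
  have hlW := Duo.L_le FT h hB h11 hX hN hl
  have hcjW := mem_normalizer_iff_cj.mp hlW
  have hcjC : cj l (centralizer ({v} : Set G)) = centralizer ({v0} : Set G) := by
    rw [cj_centralizer, hlv]
  have hcjK : cj l K = K0 := by
    have h2 : IsComp (centralizer ({v0} : Set G)) (cj l K) := by
      rw [← hcjC]; exact hK.comp.cj l
    have h3 : M.cmp v0 = cj l (M.cmp v) := by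
      rw [← hlv]
      exact M.cmp_conj (le_normalizer hl) (le_normalizer hv.1) hv.2.1 (by rw [hv.card_fix]; omega)
    have h4 : M.cmp v0 ≤ cj l K := by
      rw [h3]; exact cj_mono hK.le
    have h0 := h.r1.rt hv0 h1
    exact (M.isComp_cmp (le_normalizer h0.1) h0.2.1 (by rw [h0.card_fix]; omega)).unique h2 hK0.comp
      h4 hK0.le
  have c1 := Duo.cent_le FT h hB h11 hX hN hv0 h1 hK0
  have c2 := Duo.cent_le_K h h11 hX hN hv0 h1 hK0
  have c3 := (Duo.W_main FT h hB).2 v0 (mem_sup_left hv0) h1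
  have c4 := Duo.K_le FT h hB h11 hX hN hv0 h1 hK0
  refine ⟨fun g hg => ?_, fun g hg => ?_, ?_, fun k hk => ?_⟩
  · have h2 : l * g * l⁻¹ ∈ centralizer ({v0} : Set G) := by
      rw [← hcjC]; exact conj_mem_cj hg
    have h3 := mul_mem (mul_mem (inv_mem hlW) (c1 h2)) hlW
    rwa [show l⁻¹ * (l * g * l⁻¹) * l = g by group] at h3
  · have h2 : l * g * l⁻¹ ∈ centralizer ({v0} : Set G) := by
      rw [← hcjC]; exact conj_mem_cj hg
    have h3 := c2 h2
    rw [mem_normalizer_iff_cj, ← hcjK, ← cj_mul, show l * g * l⁻¹ * l = l * g by group, cj_mul] at h3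
    exact mem_normalizer_iff_cj.mpr (cj_injective l h3)
  · apply cj_injective l
    rw [cj_inf, hcjW, hcjC, c3, ← core_cj, hcjC]
  · have h2 : l * k * l⁻¹ ∈ K0 := by
      rw [← hcjK]; exact conj_mem_cj hk
    have h3 := mul_mem (mul_mem (inv_mem hlW) (c4 h2)) hlW
    rwa [show l⁻¹ * (l * k * l⁻¹) * l = k by group] at h3

end final

/-- existence of two disjoint commuting root four-groups -/
theorem exists_duo (M : Mod L Ω) (h8 : 8 ≤ Ω.card) :
    ∃ (V V' : Subgroup G) (T T' : Finset α), Duo M V V' T T' := by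
  obtain ⟨T, hT, hTc⟩ := Finset.exists_subset_card_eq (s := Ω) (n := 4) (by omega)
  have h1 := Finset.le_card_sdiff T Ω
  obtain ⟨T', hT', hTc'⟩ := Finset.exists_subset_card_eq (s := Ω \ T) (n := 4) (by omega)
  have d1 : Disjoint T T' := Finset.disjoint_left.mpr fun y hy hy' => (Finset.mem_sdiff.mp (hT' hy')).2 hy
  have s1 : T' ⊆ Ω := fun y hy => (Finset.mem_sdiff.mp (hT' hy)).1
  obtain ⟨V, hV⟩ := exists_RF' M hT hTc
  obtain ⟨V', hV', c1⟩ := exists_RF_fix M s1 hTc' hV.isPGroup (hV.le.trans le_normalizer)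
    (fun v hv y hy => (hV.mem v hv).2 y fun h => Finset.disjoint_left.mp d1 h hy)
  exact ⟨V, V', T, T', hV, hV', d1, fun x hx y hy => (c1 y hy x hx).symm⟩

/-- the conclusion of (N2) -/
def ConcW (M : Mod L Ω) (a : G) (X : Finset α) (W : Subgroup G) : Prop :=
  Odd (Nat.card W) ∧ L ≤ normalizer (W : Set G) ∧
    ∀ (v : G) (K : Subgroup G) (Mv : Mod K (fixIn Ω (M.φ v) ∪ X)), M.Rt v → KD M a X v K Mv →
      centralizer ({v} : Set G) ≤ normalizer (W : Set G) ∧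
      centralizer ({v} : Set G) ≤ normalizer (K : Set G) ∧
      W ⊓ centralizer ({v} : Set G) = core (centralizer ({v} : Set G)) ∧
      K ≤ normalizer (W : Set G)

/-- **(N2)** from balance on `(V × V')#` -/
theorem Duo.caseN_W (FT : Functor.OddSol G) (h : Duo M V V' T T') (hB : Bal V V') (h11 : 11 ≤ Ω.card)
    (hX : 13 ≤ Ω.card + X.card) (hN : CaseN M a X) : ConcW M a X (Functor.W (V ⊔ V')) :=
  ⟨(Duo.W_main FT h hB).1, Duo.L_le FT h hB h11 hX hN,
    fun _ _ _ hv hK => Duo.main FT h hB h11 hX hN hv hK⟩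

/-- **(N2)** from the alternatives `SmallAlt` for the triples `(e, v v', J)` -/
theorem caseN_W_of_small (FT : Functor.OddSol G) (M : Mod L Ω) (h11 : 11 ≤ Ω.card) (hodd : Odd Ω.card)
    (hX : 13 ≤ Ω.card + X.card) (hN : CaseN M a X)
    (hS : ∀ {V V' : Subgroup G} {T T' : Finset α}, Duo M V V' T T' → Duo.Sm M a X V V') :
    ∃ W : Subgroup G, ConcW M a X W := by
  obtain ⟨V, V', T, T', h⟩ := exists_duo M (by omega : 8 ≤ Ω.card)
  exact ⟨_, h.caseN_W FT (fun he h1 hf h2 => Duo.balance h11 hX hN h hodd (hS h) he h1 hf h2) h11 hX hN⟩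

/-- **(N2)** -/
theorem caseN_W (FT : Functor.OddSol G) (H : Hyp G n) (M : Mod L Ω) (hΩ : Ω.card = n)
    (hN : CaseN M a X) : ∃ W : Subgroup G, Odd (Nat.card W) ∧ L ≤ normalizer (W : Set G) ∧
      ∀ (v : G) (K : Subgroup G) (Mv : Mod K (fixIn Ω (M.φ v) ∪ X)), M.Rt v → KD M a X v K Mv →
        centralizer ({v} : Set G) ≤ normalizer (W : Set G) ∧
        centralizer ({v} : Set G) ≤ normalizer (K : Set G) ∧
        W ⊓ centralizer ({v} : Set G) = core (centralizer ({v} : Set G)) ∧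
        K ≤ normalizer (W : Set G) := by
  have h13 : 13 ≤ Ω.card := by rw [hΩ]; exact H.h13
  exact caseN_W_of_small FT M (by omega) (by rw [hΩ]; exact H.odd) (by omega) hN
    fun h => Duo.sm_of_hyp hΩ H hN h

end Cfsg.Agent.UAlt
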