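import Cfsg.Agent.UAlt.Frame
import Cfsg.Agent.UAlt.RootRF
import Cfsg.Agent.UGT.SL.FactsL2
import Cfsg.Agent.UGT.Iface

/-!
# Supply of `Hyp`: 2-components of type `PSL(2,q)`, `q` odd

* `no_perfect`: an involution of `PGL(2,q)` centralizes no nontrivial perfect subgroup of `PSL(2,q)`.
* `small_of_l2`: a four-group normalizing `J`, `J / O(J) = PSL(2,q)`, which is trivial on a 2-component of
  `C_J(t)`, contains an involution which is trivial on `J / O(J)`.
* `big_of_l2`: no subgroup `E` of `J` has `E / O(E) = Alt(S)`, `|S| ≥ 8`.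
-/

set_option autoImplicit false

open Cfsg Equiv Equiv.Perm Subgroup
open Cfsg.Agent.Intrinsic.Basic Cfsg.Agent.Intrinsic.Diag Cfsg.Agent.Intrinsic.Cen
open Cfsg.Agent.SignalizersComponents Cfsg.Agent.Lib
open Cfsg.Agent.SignalizersComponents.IntrinsicBasic
open Cfsg.Agent.McLLyComp.Act
open Cfsg.Agent.UGT.Triple Cfsg.Agent.UGT.PumpGen
open Cfsg.Agent.GH.L2Aut
open scoped commutatorElement

namespace Cfsg.Agent.UAlt.Supply

section rep

variable {F : Type*} [Field F] [Finite F] {L : Type*} [Group L] (R : Cfsg.Agent.GH.L2Aut.Rep F L)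

/-- an involution of `PGL(2,q)` centralizes no nontrivial perfect subgroup of `PSL(2,q)` -/
theorem no_perfect {φ : MulAut L} (h1 : φ ∈ R.PGL) (hne : φ ≠ 1) (h3 : φ * φ = 1) {D : Subgroup L}
    (hD : ⁅D, D⁆ = D) (hf : ∀ d ∈ D, φ d = d) : D = ⊥ := by
  obtain ⟨A, hA, hφA, hcomm, huniq, hcov⟩ := R.inv_cent h1 hne h3
  have hcov' : ∀ x ∈ D, MulAut.conj x ∈ A ∨ (MulAut.conj x * MulAut.conj x = 1 ∧
      ∀ y ∈ A, MulAut.conj x * y * (MulAut.conj x)⁻¹ = y⁻¹) := by
    intro x hx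
    exact hcov _ (R.conj_mem_PGL x) (by rw [Rep.conj_comm_iff, hf x hx])
  have hle : ⁅D, D⁆ ≤ A.comap (MulAut.conj : L →* MulAut L) := by
    rw [commutator_le]
    intro x hx y hy
    change MulAut.conj ⁅x, y⁆ ∈ A
    rw [map_commutatorElement]
    obtain ⟨X, hX⟩ : ∃ X : MulAut L, X = MulAut.conj x := ⟨_, rfl⟩
    obtain ⟨Y, hY⟩ : ∃ Y : MulAut L, Y = MulAut.conj y := ⟨_, rfl⟩
    have hcx := hcov' x hx
    have hcy := hcov' y hy
    have hcxy := hcov' (x * y) (D.mul_mem hx hy)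
    rw [map_mul] at hcxy
    rw [← hX, ← hY] at *
    rw [commutatorElement_def]
    rcases hcx with h4 | ⟨h4, h4'⟩
    · rcases hcy with h5 | ⟨h5, h5'⟩
      · exact A.mul_mem (A.mul_mem (A.mul_mem h4 h5) (A.inv_mem h4)) (A.inv_mem h5)
      · have e1 : X * Y * X⁻¹ * Y⁻¹ = X * (Y * X⁻¹ * Y⁻¹) := by group
        rw [e1, h5' _ (A.inv_mem h4), inv_inv]
        exact A.mul_mem h4 h4
    · rcases hcy with h5 | ⟨h5, h5'⟩
      · rw [h4' _ h5]
        exact A.mul_mem (A.inv_mem h5) (A.inv_mem h5)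
      · have e1 : X⁻¹ = X := inv_eq_of_mul_eq_one_left h4
        have e2 : Y⁻¹ = Y := inv_eq_of_mul_eq_one_left h5
        rw [e1, e2, mul_assoc]
        rcases hcxy with h6 | ⟨h6, -⟩
        · exact A.mul_mem h6 h6
        · rw [h6]
          exact A.one_mem
  rw [hD] at hle
  rw [eq_bot_iff, ← hD, commutator_le]
  intro x hx y hy
  rw [Subgroup.mem_bot]
  apply R.conj_injective
  rw [map_commutatorElement, map_one, commutatorElement_eq_one_iff_mul_comm]
  exact hcomm _ (hle hx) _ (hle hy)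

include R in
/-- the product of two commuting involutions outside `PGL` is in `PGL` -/
theorem mul_mem_pgl {α β : MulAut L} (hα : α * α = 1) (hβ : β * β = 1) (h1 : α ∉ R.PGL)
    (h2 : β ∉ R.PGL) : α * β ∈ R.PGL := by
  rw [R.mem_PGL_iff_fld] at h1 h2 ⊢
  have h3 : R.fld α = R.fld β :=
    Cfsg.Agent.UGT.SL.ringAut_involution_unique (by rw [← map_mul, hα, map_one])
      (by rw [← map_mul, hβ, map_one]) h1 h2
  rw [map_mul, h3, ← map_mul, hβ, map_one]

end rep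

section group

variable {G : Type*} [Group G] [Finite G]

/-- `u` is trivial on `E`, hence the image of `E` in `J / O(J)` contains a nontrivial perfect subgroup centralized
by `u` -/
theorem exists_perfect {f t u : G} {J E : Subgroup G} (hJ : IsComp (centralizer ({f} : Set G)) J)
    (hE : IsComp (J ⊓ centralizer ({t} : Set G)) E) (huf : u ∈ centralizer ({f} : Set G))
    (hut : u * t = t * u) (huu : u * u = 1) (huJ : u ∈ normalizer (J : Set G)) (hf : Fixes u E) :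
    ∃ D : Subgroup (↥J ⧸ oddCore ↥J), ⁅D, D⁆ = D ∧ D ≠ ⊥ ∧ ∀ d ∈ D, act J ⟨u, huJ⟩ d = d := by
  have hE' := isComp_of_inf hJ hE
  obtain ⟨h1, -⟩ := isComp_cen hE' ⟨huf, mem_centralizer_singleton_iff.mpr hut⟩ huu hf
  have hle : cen E u ≤ J := (cen_le E u).trans (hE.le.trans inf_le_left)
  refine ⟨((cen E u).subgroupOf J).map (QuotientGroup.mk' (oddCore ↥J)), ?_, ?_, ?_⟩
  · rw [← Subgroup.map_commutator]
    congr 1
    have h2 := h1.perfect
    apply Subgroup.map_injective J.subtype_injective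
    rw [Subgroup.map_commutator, subgroupOf_map_subtype, inf_of_le_left hle, h2]
  · intro hbot
    rw [Subgroup.map_eq_bot_iff, QuotientGroup.ker_mk'] at hbot
    apply h1.not_odd (odd_card_core J)
    intro y hy
    have h3 : (⟨y, hle hy⟩ : ↥J) ∈ (cen E u).subgroupOf J := hy
    exact (mem_core_iff (hle hy)).mpr (hbot h3)
  · rintro _ ⟨⟨y, hyJ⟩, hy, rfl⟩
    have h3 : y * u = u * y := comm_of_mem_cen hy
    change act J ⟨u, huJ⟩ (QuotientGroup.mk ⟨y, hyJ⟩) = QuotientGroup.mk ⟨y, hyJ⟩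
    rw [act_mk huJ hyJ]
    congr 1
    apply Subtype.ext
    change u * y * u⁻¹ = y
    rw [← h3]
    group

/-- **small**, type `PSL(2,q)` -/
theorem small_of_l2 {F : Type*} [Field F] [Finite F] {f t : G} {J E : Subgroup G}
    (R : Cfsg.Agent.GH.L2Aut.Rep F (↥J ⧸ oddCore ↥J))
    (hJ : IsComp (centralizer ({f} : Set G)) J)
    (hE : IsComp (J ⊓ centralizer ({t} : Set G)) E) {U : Subgroup G}
    (hU : U ≤ centralizer ({f} : Set G)) (hsq : ∀ u ∈ U, u * u = 1) (h4 : Nat.card U = 4)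
    (h : ∀ u ∈ U, u ∈ normalizer (J : Set G) ∧ u * t = t * u ∧ Fixes u E) :
    ∃ u ∈ U, u ≠ 1 ∧ Fixes u J := by
  by_contra hcon
  push Not at hcon
  have key : ∀ u (hu : u ∈ U), u ≠ 1 → act J ⟨u, (h u hu).1⟩ ∉ R.PGL := by
    intro u hu hu1 hP
    obtain ⟨D, hD1, hD2, hD3⟩ := exists_perfect hJ hE (hU hu) (h u hu).2.1 (hsq u hu)
      (h u hu).1 (h u hu).2.2
    refine hD2 (no_perfect R hP ?_ ?_ hD1 hD3)
    · intro h5
      exact hcon u hu hu1 ((act_eq_one_iff _).mp h5)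
    · rw [← act_mul, act_congr (mul_mem (h u hu).1 (h u hu).1) (hsq u hu)]
      exact map_one _
  obtain ⟨u, v, hu, hv, hu1, hv1, huv⟩ : ∃ u v, u ∈ U ∧ v ∈ U ∧ u ≠ 1 ∧ v ≠ 1 ∧ u * v ≠ 1 := by
    have hnt : Nontrivial U := by
      have : 1 < Nat.card U := by omega
      exact Finite.one_lt_card_iff_nontrivial.mp this
    obtain ⟨⟨u, hu⟩, hu1⟩ := exists_ne (1 : U)
    have hu1' : u ≠ 1 := fun e => hu1 (Subtype.ext e)
    by_contra hno
    push Not at hno
    have h5 : U ≤ zpowers u := by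
      intro v hv
      by_cases hv1 : v = 1
      · rw [hv1]
        exact one_mem _
      · have h6 := hno u v hu hv hu1' hv1
        have h7 : v = u := by
          have h8 := hsq u hu
          exact mul_left_cancel (h6.trans h8.symm)
        rw [h7]
        exact mem_zpowers u
    have h6 := Subgroup.card_dvd_of_le h5
    rw [Nat.card_zpowers, h4] at h6
    have h7 : orderOf u ∣ 2 := orderOf_dvd_of_pow_eq_one (by rw [pow_two]; exact hsq u hu)
    have h8 := Nat.le_of_dvd (by norm_num) (h6.trans h7)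
    omega
  have hsqa : ∀ w (hw : w ∈ U), act J ⟨w, (h w hw).1⟩ * act J ⟨w, (h w hw).1⟩ = 1 := by
    intro w hw
    rw [← act_mul, act_congr (mul_mem (h w hw).1 (h w hw).1) (hsq w hw)]
    exact map_one _
  have h5 := mul_mem_pgl R (hsqa u hu) (hsqa v hv) (key u hu hu1) (key v hv hv1)
  rw [← act_mul] at h5
  exact key (u * v) (mul_mem hu hv) huv h5

variable {α : Type*} [Fintype α] [DecidableEq α]

omit [Finite G] in
theorem one_of_odd {N : Subgroup G} (hN : Odd (Nat.card N)) {x : G} (hx : x ∈ N) (hxx : x * x = 1) :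
    x = 1 := by
  have h1 : orderOf x ∣ 2 := orderOf_dvd_of_pow_eq_one (by rw [pow_two]; exact hxx)
  have h2 : orderOf x ∣ Nat.card N := by
    have := orderOf_dvd_natCard (⟨x, hx⟩ : N)
    rwa [Subgroup.orderOf_mk] at this
  have h3 : orderOf x ∣ 1 := by
    have := Nat.dvd_gcd h1 h2
    rwa [Nat.Coprime.gcd_eq_one (Nat.coprime_two_left.mpr hN)] at this
  exact orderOf_eq_one_iff.mp (Nat.dvd_one.mp h3)

/-- **big**, type `PSL(2,q)` -/
theorem big_of_l2 {F : Type*} [Field F] [Finite F] {J E : Subgroup G}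
    (R : Cfsg.Agent.GH.L2Aut.Rep F (↥J ⧸ oddCore ↥J)) (hE : E ≤ J) {S : Finset α} (M : Mod E S)
    (h8 : 8 ≤ S.card) : False := by
  obtain ⟨T, hT, hT4⟩ := Finset.exists_subset_card_eq (s := S) (n := 4) (by omega)
  obtain ⟨T', hT', hT4'⟩ := Finset.exists_subset_card_eq (s := S \ T) (n := 4) (by
    rw [Finset.card_sdiff_of_subset hT, hT4]; omega)
  have hdisj : ∀ x ∈ T', x ∉ T := fun x hx => (Finset.mem_sdiff.mp (hT' hx)).2
  obtain ⟨V, hV⟩ := exists_RF' M hT hT4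
  obtain ⟨V', hV', hc⟩ := exists_RF_fix M (hT'.trans Finset.sdiff_subset) hT4' hV.isPGroup
    (fun v hv => hV.memN hv) (fun v hv x hx => (hV.mem v hv).2 x (hdisj x hx))
  obtain ⟨v', hv', hv'1⟩ := hV'.exists_ne
  obtain ⟨v, hv, hv1⟩ := hV.exists_ne
  obtain ⟨w, hw, hw1, hvw⟩ : ∃ w ∈ V, w ≠ 1 ∧ v ≠ w := by
    by_contra hno
    push Not at hno
    have h1 : V ≤ zpowers v := by
      intro w hw
      by_cases hw1 : w = 1
      · rw [hw1]
        exact one_mem _
      · rw [← hno w hw hw1]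
        exact mem_zpowers v
    have h2 := Subgroup.card_dvd_of_le h1
    rw [Nat.card_zpowers, hV.natCard] at h2
    have h3 : orderOf v ∣ 2 := orderOf_dvd_of_pow_eq_one (by rw [pow_two]; exact hV.sq v hv)
    have h4 := Nat.le_of_dvd (by norm_num) (h2.trans h3)
    omega
  have hJv := hE (hV.le hv)
  have hJw := hE (hV.le hw)
  have hJv' := hE (hV'.le hv')
  have hodd := odd_card_core J
  obtain ⟨a, ha⟩ : ∃ a : ↥J ⧸ oddCore ↥J, a = QuotientGroup.mk ⟨v, hJv⟩ := ⟨_, rfl⟩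
  obtain ⟨b, hb⟩ : ∃ a : ↥J ⧸ oddCore ↥J, a = QuotientGroup.mk ⟨w, hJw⟩ := ⟨_, rfl⟩
  obtain ⟨c, hcc⟩ : ∃ a : ↥J ⧸ oddCore ↥J, a = QuotientGroup.mk ⟨v', hJv'⟩ := ⟨_, rfl⟩
  have key : ∀ (x y : G) (hx : x ∈ J) (hy : y ∈ J), (QuotientGroup.mk (⟨x, hx⟩ : ↥J) : ↥J ⧸ oddCore ↥J) *
      QuotientGroup.mk (⟨y, hy⟩ : ↥J) = QuotientGroup.mk ⟨x * y, mul_mem hx hy⟩ := fun x y hx hy => rfl
  have hFour : Four a b := by
    refine ⟨?_, ?_, ?_, ?_, ?_, ?_⟩
    · rw [ha, key, mk_eq_one_iff, hV.sq v hv]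
      exact one_mem _
    · rw [hb, key, mk_eq_one_iff, hV.sq w hw]
      exact one_mem _
    · rw [ha, Ne, mk_eq_one_iff]
      exact fun h => hv1 (one_of_odd hodd h (hV.sq v hv))
    · rw [hb, Ne, mk_eq_one_iff]
      exact fun h => hw1 (one_of_odd hodd h (hV.sq w hw))
    · rw [ha, hb, Ne, mk_eq_iff]
      intro h
      have h1 := one_of_odd hodd h (hV.sq _ (mul_mem (inv_mem hv) hw))
      exact hvw (inv_mul_eq_one.mp h1)
    · rw [ha, hb, key, key]
      congr 1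
      exact Subtype.ext (hV.comm hv hw)
  have hca : ∀ (x : G) (hx : x ∈ V), MulAut.conj c (QuotientGroup.mk (⟨x, hE (hV.le hx)⟩ : ↥J)) =
      QuotientGroup.mk (⟨x, hE (hV.le hx)⟩ : ↥J) := by
    intro x hx
    rw [MulAut.conj_apply, mul_inv_eq_iff_eq_mul, hcc, key, key]
    congr 1
    exact Subtype.ext (hc v' hv' x hx)
  have h1 := R.fix_four hFour (R.conj_mem_PGL c) (by rw [ha]; exact hca v hv)
    (by rw [hb]; exact hca w hw)
  obtain ⟨v₀, hv₀, h2⟩ : ∃ v₀, ∃ h : v₀ ∈ V, c = QuotientGroup.mk (⟨v₀, hE (hV.le h)⟩ : ↥J) := by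
    rcases h1 with h1 | h1 | h1 | h1
    · exact ⟨1, one_mem _, R.conj_injective (by rw [h1]; exact (map_one _).symm)⟩
    · exact ⟨v, hv, by rw [← ha]; exact R.conj_injective h1⟩
    · exact ⟨w, hw, by rw [← hb]; exact R.conj_injective h1⟩
    · refine ⟨v * w, mul_mem hv hw, ?_⟩
      rw [R.conj_injective h1, ha, hb, key]
  rw [hcc, mk_eq_iff] at h2
  have h3 : v' * v₀ = v₀ * v' := hc v' hv' v₀ hv₀
  have h4 : v'⁻¹ * v₀ = 1 := by
    refine one_of_odd hodd h2 ?_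
    have e1 : v'⁻¹ = v' := inv_eq_of_mul_eq_one_left (hV'.sq v' hv')
    rw [e1]
    calc v' * v₀ * (v' * v₀) = v' * (v₀ * v') * v₀ := by group
      _ = (v' * v') * (v₀ * v₀) := by rw [← h3]; group
      _ = 1 := by rw [hV'.sq v' hv', hV.sq v₀ hv₀, one_mul]
  have h5 : v' = v₀ := inv_mul_eq_one.mp h4
  apply hv'1
  apply hV'.eq_one hv'
  ext x
  by_cases hx : x ∈ T'
  · rw [h5]
    exact (hV.mem v₀ hv₀).2 x (hdisj x hx)
  · exact (hV'.mem v' hv').2 x hx

end group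

end Cfsg.Agent.UAlt.Supply
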