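import Cfsg.Agent.UAlt.CoreAct
import Cfsg.Agent.UAlt.ClSys

/-!
# Elimination of 2-components of type `He`

* `isSolvable_cent`: the centralizer in `sym S` of an involution with at most four fixed points and at most four
  two-cycles is solvable.
* `heKill`: a 2-component `J` of `C(f)` such that every involution `w ∈ J` lies in a perfect subgroup of `C_J(w)`
  cannot contain a small alternating 2-component `I` of `C(v) ∩ C(f)` if, for some `w ∈ I`, `v` and `f` lie in an
  alternating 2-component `K` of `C(w)` on which the centralizer of `f` is solvable.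
-/

set_option autoImplicit false
set_option linter.unusedSectionVars false

open Cfsg Equiv Equiv.Perm Subgroup
open Cfsg.Agent.Intrinsic.Basic Cfsg.Agent.Intrinsic.Diag
open Cfsg.Agent.SignalizersComponents Cfsg.Agent.Lib
open Cfsg.Agent.SignalizersComponents.IntrinsicBasic
open Cfsg.Agent.UGT.Triple
open scoped commutatorElement

namespace Cfsg.Agent.UAlt.HeKill

section general

/-- a solvable group generated by its commutators and a normal subgroup `O` is equal to `O` -/
theorem le_of_solvable {A : Type*} [Group A] {R O : Subgroup A} (hs : Group.IsSolvable R) (hO : O ≤ R)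
    (hn : R ≤ normalizer (O : Set A)) (h : R ≤ ⁅R, R⁆ ⊔ O) : R ≤ O := by
  have hn' : (O.subgroupOf R).Normal := ⟨fun n hn1 g => by
    rw [mem_subgroupOf] at hn1 ⊢
    exact (mem_normalizer_iff.mp (hn g.2) _).mp hn1⟩
  have hQ : Group.IsSolvable (↥R ⧸ O.subgroupOf R) :=
    Group.isSolvable_of_surjective (QuotientGroup.mk'_surjective (O.subgroupOf R))
  have h1 : (⊤ : Subgroup R) = commutator R ⊔ O.subgroupOf R := by
    apply Subgroup.map_injective R.subtype_injective
    rw [Subgroup.map_sup, map_subgroupOf_eq_of_le hO, commutator_def, Subgroup.map_commutator,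
      ← MonoidHom.range_eq_map, R.range_subtype]
    exact le_antisymm h (sup_le (commutator_le_self R) hO)
  by_contra hne
  have hnt : Nontrivial (↥R ⧸ O.subgroupOf R) := by
    rw [QuotientGroup.nontrivial_iff]
    intro h2
    exact hne (subgroupOf_eq_top.mp h2)
  have h2 := Group.IsSolvable.commutator_lt_top_of_nontrivial (G := ↥R ⧸ O.subgroupOf R)
  apply h2.ne
  have h3 := congrArg (Subgroup.map (QuotientGroup.mk' (O.subgroupOf R))) h1
  rw [Subgroup.map_sup, commutator_def, Subgroup.map_commutator, ← MonoidHom.range_eq_map,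
    MonoidHom.range_eq_top.mpr (QuotientGroup.mk'_surjective _), QuotientGroup.map_mk'_self, sup_bot_eq] at h3
  rw [commutator_def]
  exact h3.symm

variable {α : Type*} [Fintype α] [DecidableEq α]

/-- a permutation of prime order `p ≥ 5` does not commute with an involution with at most four fixed points and at most
four two-cycles -/
theorem prime_lt {S : Finset α} {σ : Perm α} (hS : σ ∈ sym S) (hσ : σ * σ = 1)
    (h4 : (fixIn S σ).card ≤ 4) (h8 : S.card ≤ (fixIn S σ).card + 8) {g : Perm α} (hg : g ∈ sym S)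
    (hc : g * σ = σ * g) {p : ℕ} (hp : p.Prime) (ho : orderOf g = p) : p < 5 := by
  by_contra h5
  have hF : Fact p.Prime := ⟨hp⟩
  have hpow : g ^ p = 1 := by rw [← ho, pow_orderOf_eq_one]
  have hcom : ∀ i, g (σ i) = σ (g i) := fun i => by
    rw [← Perm.mul_apply, hc, Perm.mul_apply]
  have hσσ : ∀ i, σ (σ i) = i := fun i => by
    rw [← Perm.mul_apply, hσ, Perm.one_apply]
  -- the orbits of `g` on non-fixed points have length `p`
  have key : ∀ T : Finset α, (∀ i ∈ T, g i ∈ T) → (∀ i ∈ T, g i ≠ i) → p ∣ T.card := by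
    intro T hT hfix
    have h1 : ∀ i, i ∈ T ↔ g i ∈ T := by
      intro i
      refine ⟨hT i, fun hi => ?_⟩
      have h2 : ∀ n : ℕ, (g ^ n) (g i) ∈ T := by
        intro n
        induction n with
        | zero => exact hi
        | succ n ih => rw [pow_succ', Perm.mul_apply]; exact hT _ ih
      have h3 := h2 (p - 1)
      rw [← Perm.mul_apply, ← pow_succ, Nat.sub_add_cancel hp.one_le, hpow, Perm.one_apply] at h3
      exact h3
    have h2 := card_compl_support_modEq (n := 1) (σ := g.subtypePerm (p := fun i => i ∈ T) (fun i => (h1 i).symm))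
      (p := p) (by
        ext i
        rw [pow_one, Perm.subtypePerm_pow]
        simp [hpow])
    have h3 : (g.subtypePerm (p := fun i => i ∈ T) (fun i => (h1 i).symm)).supportᶜ = ∅ := by
      ext i
      simp only [Finset.mem_compl, Perm.mem_support, ne_eq, not_not, Finset.notMem_empty, iff_false]
      intro h4
      exact hfix i.1 i.2 (congrArg Subtype.val h4)
    rw [h3, Finset.card_empty, Fintype.card_coe] at h2
    exact (Nat.modEq_zero_iff_dvd).mp h2.symm
  have hne : ∀ i, g i ≠ i → g (g i) ≠ g i := fun i hi h => hi (g.injective h)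
  -- `g` is trivial on the fixed points of `σ`
  have hT1 : ((fixIn S σ).filter fun i => g i ≠ i).card = 0 := by
    by_contra h0
    have h1 := key ((fixIn S σ).filter fun i => g i ≠ i) (fun i hi => by
      rw [Finset.mem_filter, mem_fixIn] at hi ⊢
      exact ⟨⟨mem_of_mem_sym hg hi.1.1, by rw [← hcom, hi.1.2]⟩, hne i hi.2⟩)
      (fun i hi => (Finset.mem_filter.mp hi).2)
    have h2 := Nat.le_of_dvd (Nat.pos_of_ne_zero h0) h1
    have h3 := Finset.card_filter_le (fixIn S σ) fun i => g i ≠ i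
    omega
  have hT2 : ((S \ fixIn S σ).filter fun i => g i ≠ i).card = 0 := by
    by_contra h0
    have hmem : ∀ i, i ∈ (S \ fixIn S σ).filter (fun i => g i ≠ i) ↔ i ∈ S ∧ σ i ≠ i ∧ g i ≠ i := by
      intro i
      rw [Finset.mem_filter, Finset.mem_sdiff, mem_fixIn]
      tauto
    have h1 := key ((S \ fixIn S σ).filter fun i => g i ≠ i) (fun i hi => by
      rw [hmem] at hi ⊢
      refine ⟨mem_of_mem_sym hg hi.1, fun h => hi.2.1 ?_, hne i hi.2.2⟩
      rw [← hcom] at h
      exact g.injective h)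
      (fun i hi => (Finset.mem_filter.mp hi).2)
    have h2 := Nat.le_of_dvd (Nat.pos_of_ne_zero h0) h1
    have h3 := Finset.card_filter_le (S \ fixIn S σ) fun i => g i ≠ i
    have h6 := Finset.card_sdiff_of_subset (fixIn_subset S σ)
    have h7 : ((S \ fixIn S σ).filter fun i => g i ≠ i).card = p := by
      obtain ⟨k, hk⟩ := h1
      rcases k with _ | _ | k
      · rw [hk] at h0; omega
      · rw [hk]; omega
      · exfalso
        have : p * 2 ≤ p * (k + 1 + 1) := Nat.mul_le_mul_left _ (by omega)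
        omega
    have h8' : (∑ i ∈ (S \ fixIn S σ).filter (fun i => g i ≠ i), (1 : ZMod 2)) = 0 := by
      refine Finset.sum_involution (fun i _ => σ i) (fun _ _ => by decide) (fun i hi _ => ?_)
        (fun i hi => ?_) (fun i _ => hσσ i)
      · exact ((hmem i).mp hi).2.1
      · rw [hmem] at hi ⊢
        refine ⟨mem_of_mem_sym hS hi.1, fun h => hi.2.1 (σ.injective h), fun h => hi.2.2 ?_⟩
        rw [hcom] at h
        exact σ.injective h
    rw [Finset.sum_const, nsmul_one, h7, ZMod.natCast_eq_zero_iff] at h8'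
    have := (Nat.prime_dvd_prime_iff_eq Nat.prime_two hp).mp h8'
    omega
  have h1 : g = 1 := by
    ext i
    rw [Perm.one_apply]
    by_contra hi
    by_cases hiS : i ∈ S
    · by_cases hσi : σ i = i
      · have h3 : i ∈ (fixIn S σ).filter fun i => g i ≠ i :=
          Finset.mem_filter.mpr ⟨mem_fixIn.mpr ⟨hiS, hσi⟩, hi⟩
        rw [Finset.card_eq_zero.mp hT1] at h3
        exact absurd h3 (Finset.notMem_empty _)
      · have h3 : i ∈ (S \ fixIn S σ).filter fun i => g i ≠ i :=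
          Finset.mem_filter.mpr ⟨Finset.mem_sdiff.mpr ⟨hiS, fun h => hσi (mem_fixIn.mp h).2⟩, hi⟩
        rw [Finset.card_eq_zero.mp hT2] at h3
        exact absurd h3 (Finset.notMem_empty _)
    · exact hi (hg i hiS)
  rw [h1, orderOf_one] at ho
  exact hp.one_lt.ne ho

/-- the centralizer in `sym S` of an involution with at most four fixed points and at most four two-cycles is
solvable -/
theorem isSolvable_cent {S : Finset α} {σ : Perm α} (hS : σ ∈ sym S) (hσ : σ * σ = 1)
    (h4 : (fixIn S σ).card ≤ 4) (h8 : S.card ≤ (fixIn S σ).card + 8) :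
    Group.IsSolvable ↥(sym S ⊓ centralizer ({σ} : Set (Perm α))) := by
  obtain ⟨n, hn⟩ : ∃ n, n = Nat.card ↥(sym S ⊓ centralizer ({σ} : Set (Perm α))) := ⟨_, rfl⟩
  have hn0 : n ≠ 0 := by rw [hn]; exact Nat.card_pos.ne'
  have key : ∀ p, p.Prime → p ∣ n → p = 2 ∨ p = 3 := by
    intro p hp hpn
    have hF : Fact p.Prime := ⟨hp⟩
    rw [hn] at hpn
    obtain ⟨g, hg⟩ := exists_prime_orderOf_dvd_card' p hpn
    have h1 := prime_lt hS hσ h4 h8 g.2.1 (mem_centralizer_singleton_iff.mp g.2.2) hp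
      (by rw [← hg]; exact Subgroup.orderOf_coe g)
    have h2 := hp.two_le
    interval_cases p
    · exact Or.inl rfl
    · exact Or.inr rfl
    · exact absurd hp (by decide)
  obtain ⟨a, m, hm, rfl⟩ := Nat.exists_eq_pow_mul_and_not_dvd hn0 2 (by decide)
  have hm0 : m ≠ 0 := by rintro rfl; exact hm (dvd_zero 2)
  obtain ⟨b, k, hk, rfl⟩ := Nat.exists_eq_pow_mul_and_not_dvd hm0 3 (by decide)
  have hk1 : k = 1 := by
    by_contra h
    obtain ⟨p, hp, hpk⟩ := Nat.exists_prime_and_dvd h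
    rcases key p hp (hpk.trans (Dvd.intro_left _ (by ring : (2 ^ a * 3 ^ b) * k = _))) with rfl | rfl
    · exact hm (hpk.trans (Dvd.intro_left _ rfl))
    · exact hk hpk
  subst hk1
  rw [mul_one] at hn
  exact Cfsg.Agent.S0144.result 2 3 a b Nat.prime_two Nat.prime_three hn.symm

end general

section kill

variable {G : Type*} [Group G] [Finite G] {α : Type*} [Fintype α] [DecidableEq α]

/-- `c ∈ X` commuting with `f ∈ K`, `f` not trivial on `K / O(K)`, normalizes the 2-component `K` -/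
theorem mem_normalizer_of_comm {X K : Subgroup G} (hK : IsComp X K) {S : Finset α} (M : Mod K S) {f c : G}
    (hf : f ∈ K) (hf1 : M.φ f ≠ 1) (hc : c ∈ X) (hcf : c * f = f * c) : c ∈ normalizer (K : Set G) := by
  rw [mem_normalizer_iff_cj]
  by_contra hne
  have h1 : f ∈ IntrinsicBasic.cj c K := by
    refine ⟨f, hf, ?_⟩
    change c * f * c⁻¹ = f
    rw [hcf, mul_inv_cancel_right]
  have h2 := hK.fixes_of_mem (isComp_cj_of_mem hK hc) (Ne.symm hne) h1
  exact hf1 ((M.fixes_iff (le_normalizer hf)).mpr h2)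

omit [Finite G] in
theorem eq_of_mem_zpowers {v t : G} (hv : v * v = 1) (ht : t ∈ zpowers v) : t = 1 ∨ t = v := by
  obtain ⟨k, rfl⟩ := mem_zpowers_iff.mp ht
  have h2 : v ^ (2 : ℤ) = 1 := by rw [zpow_ofNat, pow_two, hv]
  rcases Int.even_or_odd' k with ⟨m, rfl | rfl⟩
  · left
    rw [zpow_mul, h2, one_zpow]
  · right
    rw [zpow_add, zpow_mul, h2, one_zpow, one_mul, zpow_one]

theorem heKill {f v w : G} {J K I : Subgroup G} {S T : Finset α} (MK : Mod K S) (MI : Mod I T)
    (hf : f * f = 1) (hv : v * v = 1) (hw : w * w = 1)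
    (hvw : v * w = w * v) (hJ : IsComp (centralizer ({f} : Set G)) J)
    (hvJ : v ∈ normalizer (J : Set G)) (hK : IsComp (centralizer ({w} : Set G)) K) (hfK : f ∈ K) (hvK : v ∈ K)
    (hf1 : MK.φ f ≠ 1) (h4 : (fixIn S (MK.φ f)).card ≤ 4) (h8 : S.card ≤ (fixIn S (MK.φ f)).card + 8)
    (hI : IsComp (centralizer ({v} : Set G) ⊓ centralizer ({f} : Set G)) I) (hIJ : I ≤ J)
    (hwI : w ∈ I) (hw1 : MI.φ w ≠ 1) (h4' : (fixIn T (MI.φ w)).card ≤ 4)
    (h8' : T.card ≤ (fixIn T (MI.φ w)).card + 8)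
    (he : ∀ w ∈ J, w * w = 1 → ∃ P : Subgroup G, P ≤ J ⊓ centralizer ({w} : Set G) ∧ ⁅P, P⁆ = P ∧ w ∈ P) :
    False := by
  obtain ⟨P, hP, hPP, hwP⟩ := he w (hIJ hwI) hw
  have hPJ : P ≤ J := fun p hp => (hP hp).1
  have hPw : P ≤ centralizer ({w} : Set G) := fun p hp => (hP hp).2
  have hJf : ∀ j ∈ J, j * f = f * j := fun j hj => comm_c (hJ.le hj)
  -- `P` normalizes `K` and is trivial on it
  have hPK : P ≤ normalizer (K : Set G) := fun p hp =>
    mem_normalizer_of_comm hK MK hfK hf1 (hPw hp) (hJf p (hPJ hp))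
  have hfN := le_normalizer (H := K) hfK
  have hsolK := isSolvable_cent (MK.mem_sym f hfN) (MK.sq hfN hf) h4 h8
  have hPK1 : ∀ p ∈ P, MK.φ p = 1 := by
    intro p hp
    let F : P →* ↥(sym S ⊓ centralizer ({MK.φ f} : Set (Perm α))) :=
      { toFun := fun q => ⟨MK.φ q, MK.mem_sym q (hPK q.2), mem_centralizer_singleton_iff.mpr
          (MK.comm (hPK q.2) hfN (hJf q (hPJ q.2)))⟩
        map_one' := Subtype.ext MK.one
        map_mul' := fun q r => Subtype.ext (MK.mul _ _ (hPK q.2) (hPK r.2)) }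
    have h1 := Schreier.Tools.hom_eq_one hPP F ⟨p, hp⟩
    exact congrArg Subtype.val h1
  have hPf : ∀ p ∈ P, Fixes p K := fun p hp => (MK.fixes_iff (hPK hp)).mp (hPK1 p hp)
  have hvN := le_normalizer (H := K) hvK
  -- `D`
  obtain ⟨D, hD⟩ : ∃ D, D = core K ⊓ J := ⟨_, rfl⟩
  have hDodd : Odd (Nat.card D) := Odd.of_dvd_nat (odd_card_core K) (by rw [hD]; exact card_dvd_of_le inf_le_left)
  have hDw : D ≤ centralizer ({w} : Set G) := by
    rw [hD]
    exact fun d hd => hK.le (core_le K hd.1)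
  have hDJ : D ≤ J := by rw [hD]; exact inf_le_right
  have hDN : ∀ x, x ∈ normalizer (K : Set G) → x ∈ normalizer (J : Set G) → x ∈ normalizer (D : Set G) := by
    intro x h1 h2
    have h3 := normalizer_le_normalizer_core K h1
    rw [mem_normalizer_iff_cj] at h2 h3 ⊢
    rw [hD, cj_inf, h2, h3]
  have hPD : ∀ p ∈ P, p ∈ normalizer (D : Set G) := fun p hp => hDN p (hPK hp) (le_normalizer (hPJ hp))
  have hvD : v ∈ normalizer (D : Set G) := hDN v hvN hvJ
  have hvi : v⁻¹ = v := inv_eq_of_mul_eq_one_left hv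
  have hcomm : ∀ p ∈ P, p⁻¹ * (v * p * v⁻¹) ∈ D := by
    intro p hp
    have h1 : p⁻¹ * (v * p * v⁻¹) ∈ core K := by
      have h2 := (hPf p⁻¹ (inv_mem hp)).2 v hvK
      rw [commutatorElement_def, inv_inv] at h2
      have e : p⁻¹ * (v * p * v⁻¹) = p⁻¹ * v * p * v⁻¹ := by group
      rw [e]
      exact h2
    rw [hD]
    exact ⟨h1, J.mul_mem (J.inv_mem (hPJ hp)) ((mem_normalizer_iff.mp hvJ p).mp (hPJ hp))⟩
  -- `C`
  obtain ⟨C, hC⟩ : ∃ C, C = (P ⊔ D) ⊓ centralizer ({v} : Set G) := ⟨_, rfl⟩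
  have hcov : ∀ p ∈ P, ∃ d ∈ D, v * (p * d) = p * d * v := by
    intro p hp
    obtain ⟨d, hd, h1⟩ := ClSys.coset_fix (V := D) (T := zpowers v) hDodd
      (fun t => ⟨1, Subtype.ext (by
        rw [pow_one, pow_two]
        change (t : G) * t = 1
        rcases eq_of_mem_zpowers hv t.2 with h | h <;> rw [h]
        · exact one_mul 1
        · exact hv)⟩)
      (fun t ht d hd => by
        rcases eq_of_mem_zpowers hv ht with rfl | rfl
        · rw [one_mul, inv_one, mul_one]; exact hd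
        · exact (mem_normalizer_iff.mp hvD d).mp hd) (x := p)
      (fun t ht => by
        rcases eq_of_mem_zpowers hv ht with rfl | rfl
        · rw [one_mul, inv_one, mul_one, inv_mul_cancel]; exact D.one_mem
        · exact hcomm p hp)
    exact ⟨d, hd, h1 v (mem_zpowers v)⟩
  have hCJ : C ≤ J := by
    rw [hC]
    exact inf_le_left.trans (sup_le hPJ hDJ)
  have hCw : C ≤ centralizer ({w} : Set G) := by
    rw [hC]
    exact inf_le_left.trans (sup_le hPw hDw)
  have hCv : C ≤ centralizer ({v} : Set G) := by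
    rw [hC]
    exact inf_le_right
  have hCI : C ≤ normalizer (I : Set G) := fun c hc =>
    mem_normalizer_of_comm hI MI hwI hw1 ⟨hCv hc, hJ.le (hCJ hc)⟩ (comm_c (hCw hc))
  have hwC : w ∈ C := by
    rw [hC]
    exact ⟨mem_sup_left hwP, mem_c hvw.symm⟩
  have hPDN : P ⊔ D ≤ normalizer (D : Set G) := sup_le hPD le_normalizer
  have hCD : C ≤ normalizer (D : Set G) := by
    rw [hC]
    exact inf_le_left.trans hPDN
  have hDC : ∀ x ∈ normalizer (D : Set G), ∀ d ∈ D, x * d * x⁻¹ ∈ D := fun x hx d hd =>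
    (mem_normalizer_iff.mp hx d).mp hd
  -- `P ≤ C' D`
  have hP1 : P ≤ ⁅C, C⁆ ⊔ D := by
    rw [← hPP, commutator_le]
    intro p hp q hq
    obtain ⟨d, hd, h1⟩ := hcov p hp
    obtain ⟨e, he, h2⟩ := hcov q hq
    have hc1 : p * d ∈ C := by
      rw [hC]
      exact ⟨mul_mem (mem_sup_left hp) (mem_sup_right hd), mem_c h1.symm⟩
    have hc2 : q * e ∈ C := by
      rw [hC]
      exact ⟨mul_mem (mem_sup_left hq) (mem_sup_right he), mem_c h2.symm⟩
    obtain ⟨c, hcdef⟩ : ∃ c, c = p * d := ⟨_, rfl⟩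
    obtain ⟨b, hbdef⟩ : ∃ b, b = q * e := ⟨_, rfl⟩
    rw [← hcdef] at hc1
    rw [← hbdef] at hc2
    have hp' : p = c * d⁻¹ := by rw [hcdef, mul_inv_cancel_right]
    have hq' : q = b * e⁻¹ := by rw [hbdef, mul_inv_cancel_right]
    have hid : ⁅p, q⁆ = ⁅c, b⁆ * (b * (c * (b⁻¹ * d⁻¹ * b * (e⁻¹ * d)) * c⁻¹ * e) * b⁻¹) := by
      rw [hp', hq', commutatorElement_def, commutatorElement_def]
      group
    rw [hid]
    refine mul_mem (mem_sup_left (commutator_mem_commutator hc1 hc2)) (mem_sup_right ?_)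
    refine hDC b (hCD hc2) _ (D.mul_mem (hDC c (hCD hc1) _ (D.mul_mem ?_ (D.mul_mem (D.inv_mem he) hd))) he)
    have := hDC b⁻¹ (inv_mem (hCD hc2)) _ (D.inv_mem hd)
    rwa [inv_inv] at this
  have hC1 : ∀ c ∈ C, ∃ a ∈ ⁅C, C⁆, ∃ d ∈ C ⊓ D, c = a * d := by
    intro c hc
    have h1 : c ∈ ⁅C, C⁆ ⊔ D := by
      have h2 := hc
      rw [hC] at h2
      exact (sup_le hP1 le_sup_right : P ⊔ D ≤ ⁅C, C⁆ ⊔ D) h2.1
    have h3 := coe_mul_of_left_le_normalizer_right ⁅C, C⁆ D ((commutator_le_self C).trans hCD)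
    have h4 : c ∈ ((⁅C, C⁆ ⊔ D : Subgroup G) : Set G) := h1
    rw [h3, Set.mem_mul] at h4
    obtain ⟨a, ha, d, hd, rfl⟩ := h4
    refine ⟨a, ha, d, ⟨?_, hd⟩, rfl⟩
    have h5 := C.mul_mem (C.inv_mem (commutator_le_self C ha)) hc
    rwa [inv_mul_cancel_left] at h5
  -- the image in `Perm α`
  have hwN : w ∈ normalizer (I : Set G) := le_normalizer hwI
  have hsol := isSolvable_cent (MI.mem_sym w hwN) (MI.sq hwN hw) h4' h8'
  obtain ⟨R, hR⟩ : ∃ R, R = MI.img C := ⟨_, rfl⟩
  obtain ⟨O, hO⟩ : ∃ O, O = MI.img (C ⊓ D) := ⟨_, rfl⟩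
  have hCDI : C ⊓ D ≤ normalizer (I : Set G) := inf_le_left.trans hCI
  have hRmem : ∀ c ∈ C, MI.φ c ∈ R := fun c hc => by
    rw [hR]
    exact (MI.mem_img hCI).mpr ⟨c, hc, rfl⟩
  have hRle : R ≤ sym T ⊓ centralizer ({MI.φ w} : Set (Perm α)) := by
    intro σ hσ
    rw [hR] at hσ
    obtain ⟨c, hc, rfl⟩ := (MI.mem_img hCI).mp hσ
    exact ⟨MI.mem_sym c (hCI hc), mem_centralizer_singleton_iff.mpr
      (MI.comm (hCI hc) hwN (comm_c (hCw hc)))⟩
  have hRs : Group.IsSolvable R :=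
    Group.isSolvable_of_isSolvable_injective (Subgroup.inclusion_injective hRle)
  have hOR : O ≤ R := by
    intro σ hσ
    rw [hO] at hσ
    obtain ⟨c, hc, rfl⟩ := (MI.mem_img hCDI).mp hσ
    exact hRmem c hc.1
  have hRO : R ≤ normalizer (O : Set (Perm α)) := by
    have key : ∀ σ ∈ R, ∀ τ ∈ O, σ * τ * σ⁻¹ ∈ O := by
      intro σ hσ τ hτ
      rw [hR] at hσ
      rw [hO] at hτ ⊢
      obtain ⟨c, hc, rfl⟩ := (MI.mem_img hCI).mp hσ
      obtain ⟨d, hd, rfl⟩ := (MI.mem_img hCDI).mp hτ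
      rw [← MI.conj (hCI hc) (hCI hd.1)]
      exact (MI.mem_img hCDI).mpr ⟨_, ⟨C.mul_mem (C.mul_mem hc hd.1) (C.inv_mem hc),
        hDC c (hCD hc) d hd.2⟩, rfl⟩
    intro σ hσ
    rw [mem_normalizer_iff]
    intro τ
    refine ⟨key σ hσ τ, fun h => ?_⟩
    have := key σ⁻¹ (inv_mem hσ) _ h
    convert this using 1
    group
  have hcomR : ∀ a ∈ ⁅C, C⁆, MI.φ a ∈ ⁅R, R⁆ := by
    intro a ha
    have h1 : C = (C.subgroupOf (normalizer (I : Set G))).map (normalizer (I : Set G)).subtype :=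
      (map_subgroupOf_eq_of_le hCI).symm
    rw [h1, ← Subgroup.map_commutator] at ha
    obtain ⟨a', ha', rfl⟩ := ha
    rw [hR, Mod.img, ← Subgroup.map_commutator]
    exact ⟨a', ha', rfl⟩
  have hRR : R ≤ ⁅R, R⁆ ⊔ O := by
    intro σ hσ
    rw [hR] at hσ
    obtain ⟨c, hc, rfl⟩ := (MI.mem_img hCI).mp hσ
    obtain ⟨a, ha, d, hd, rfl⟩ := hC1 c hc
    rw [MI.mul _ _ (hCI (commutator_le_self C ha)) (hCI hd.1)]
    refine mul_mem (mem_sup_left (hcomR a ha)) (mem_sup_right ?_)
    rw [hO]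
    exact (MI.mem_img hCDI).mpr ⟨d, hd, rfl⟩
  have h1 := le_of_solvable hRs hOR hRO hRR (hRmem w hwC)
  rw [hO] at h1
  have h2 : Odd (Nat.card ↥(MI.img (C ⊓ D))) :=
    MI.odd_img hCDI (Odd.of_dvd_nat hDodd (card_dvd_of_le inf_le_right))
  have h3 : orderOf (MI.φ w) ∣ Nat.card ↥(MI.img (C ⊓ D)) := Subgroup.orderOf_dvd_natCard _ h1
  have h4 : orderOf (MI.φ w) ∣ 2 := orderOf_dvd_of_pow_eq_one (by rw [pow_two]; exact MI.sq hwN hw)
  have h5 : orderOf (MI.φ w) = 1 :=
    Nat.eq_one_of_dvd_coprimes (Nat.coprime_two_right.mpr h2) h3 h4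
  exact hw1 (orderOf_eq_one_iff.mp h5)

end kill

end Cfsg.Agent.UAlt.HeKill
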