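import Cfsg.Agent.UAlt.AltOn
import Cfsg.Agent.Intrinsic.AnThree
import Cfsg.Agent.Schreier.Tools
import Cfsg.Agent.SignalizersComponents.IntrinsicDiag

/-!
# The centralizer of an involution in an alternating group: 2-components and core

`isComp_iff_alt_fixIn`: the 2-components of `C_{alt S}(σ)`; `core_cent`: its odd core.
-/

set_option autoImplicit false
set_option linter.unusedSectionVars false

namespace Cfsg.Agent.UAlt

open Cfsg Equiv Equiv.Perm Subgroup
open Cfsg.Agent.Intrinsic.Basic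
open Cfsg.Agent.SignalizersComponents Cfsg.Agent.Lib
open Cfsg.Agent.StdAlt.PermTypes (cyc)
open scoped commutatorElement

variable {α : Type*} [Fintype α] [DecidableEq α]

section

variable {σ : Perm α}

/-- the permutations commuting with `σ` and acting on every orbit of `σ` as `1` or `σ` -/
def RR (σ : Perm α) (hσ : ∀ i, σ (σ i) = i) : Subgroup (Perm α) where
  carrier := {y | (∀ i, y i = i ∨ y i = σ i) ∧ y * σ = σ * y}
  mul_mem' {a b} ha hb := by
    refine ⟨fun i => ?_, ?_⟩
    · rw [Perm.mul_apply]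
      rcases hb.1 i with h1 | h1
      · rw [h1]; exact ha.1 i
      · rw [h1]
        rcases ha.1 (σ i) with h2 | h2
        · exact Or.inr h2
        · left; rw [h2, hσ]
    · rw [mul_assoc, hb.2, ← mul_assoc, ha.2, mul_assoc]
  one_mem' := ⟨fun i => Or.inl rfl, by rw [one_mul, mul_one]⟩
  inv_mem' {a} ha := by
    refine ⟨fun i => ?_, ?_⟩
    · rcases ha.1 i with h1 | h1
      · left; rw [Perm.inv_eq_iff_eq]; exact h1.symm
      · right
        rw [Perm.inv_eq_iff_eq]
        rcases ha.1 (σ i) with h2 | h2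
        · have h3 := a.injective (h1.trans h2.symm)
          rw [h2, ← h3]
        · rw [h2, hσ]
    · rw [inv_mul_eq_iff_eq_mul, ← mul_assoc, ha.2, mul_inv_cancel_right]

theorem mem_RR {hσ : ∀ i, σ (σ i) = i} {y : Perm α} :
    y ∈ RR σ hσ ↔ (∀ i, y i = i ∨ y i = σ i) ∧ y * σ = σ * y := Iff.rfl

theorem RR_sq {hσ : ∀ i, σ (σ i) = i} {y : Perm α} (hy : y ∈ RR σ hσ) : y * y = 1 := by
  ext i
  rw [Perm.mul_apply, Perm.one_apply]
  rcases hy.1 i with h | h
  · rw [h, h]
  · rcases hy.1 (σ i) with h2 | h2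
    · have h3 := y.injective (h.trans h2.symm)
      rw [h, h2, ← h3]
    · rw [h, h2, hσ]

theorem isPGroup_RR (hσ : ∀ i, σ (σ i) = i) : IsPGroup 2 ↥(RR σ hσ) := by
  rintro ⟨y, hy⟩
  refine ⟨1, Subtype.ext ?_⟩
  change y ^ 2 ^ 1 = 1
  rw [pow_one, pow_two]
  exact RR_sq hy

theorem RR_le_sym {hσ : ∀ i, σ (σ i) = i} {S : Finset α} (hS : σ ∈ sym S) : RR σ hσ ≤ sym S := by
  intro y hy x hx
  rcases hy.1 x with h | h
  · exact h
  · rw [h]; exact hS x hx

theorem RR_le (hσ : ∀ i, σ (σ i) = i) : RR σ hσ ≤ centralizer ({σ} : Set (Perm α)) :=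
  fun _ hy => mem_centralizer_singleton_iff.mpr hy.2

theorem RR_normal (hσ : ∀ i, σ (σ i) = i) :
    centralizer ({σ} : Set (Perm α)) ≤ normalizer (RR σ hσ : Set (Perm α)) := by
  have key : ∀ c ∈ centralizer ({σ} : Set (Perm α)), ∀ y ∈ RR σ hσ, c * y * c⁻¹ ∈ RR σ hσ := by
    intro c hc y hy
    rw [mem_centralizer_singleton_iff] at hc
    refine ⟨fun i => ?_, ?_⟩
    · rw [Perm.mul_apply, Perm.mul_apply]
      have h2 : c (c⁻¹ i) = i := by simp
      rcases hy.1 (c⁻¹ i) with h | h
      · left; rw [h, h2]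
      · right
        rw [h, ← Perm.mul_apply, hc, Perm.mul_apply, h2]
    · have h3 : c⁻¹ * σ = σ * c⁻¹ := by
        rw [inv_mul_eq_iff_eq_mul, ← mul_assoc, hc, mul_inv_cancel_right]
      calc c * y * c⁻¹ * σ = c * y * (c⁻¹ * σ) := by group
        _ = c * (y * σ) * c⁻¹ := by rw [h3]; group
        _ = c * σ * y * c⁻¹ := by rw [hy.2]; group
        _ = σ * (c * y * c⁻¹) := by rw [hc]; group
  intro c hc
  rw [mem_normalizer_iff]
  intro y
  refine ⟨key c hc y, fun h => ?_⟩
  have := key c⁻¹ (inv_mem hc) _ h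
  convert this using 1
  group

/-- the 2-cycles of `σ` -/
theorem swap_mem_RR (hσ : ∀ i, σ (σ i) = i) (a : α) : swap a (σ a) ∈ RR σ hσ := by
  refine ⟨fun i => ?_, StdAlt.PermTypes.comm_swap_pair (Equiv.ext hσ) a⟩
  by_cases i1 : i = a
  · right; rw [i1, swap_apply_left]
  by_cases i2 : i = σ a
  · right; rw [i2, swap_apply_right, hσ]
  · left; rw [swap_apply_of_ne_of_ne i1 i2]

/-- a permutation commuting with the 2-cycles of `σ` preserves them -/
theorem blk_of_comm (hσ : ∀ i, σ (σ i) = i) {g : Perm α} (hg : ∀ r ∈ RR σ hσ, g * r = r * g)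
    {a : α} (ha : σ a ≠ a) : g a = a ∨ g a = σ a := by
  have h1 := congrArg (fun f : Perm α => f a) (hg _ (swap_mem_RR hσ a))
  simp only [Perm.mul_apply] at h1
  rw [swap_apply_left] at h1
  by_contra hcon
  push Not at hcon
  rw [swap_apply_of_ne_of_ne hcon.1 hcon.2] at h1
  exact ha (g.injective h1)

/-- the even part has normal index in the centralizer -/
theorem cent_normal (S : Finset α) (σ : Perm α) :
    ((alt S ⊓ centralizer ({σ} : Set (Perm α))).subgroupOf
      (sym S ⊓ centralizer ({σ} : Set (Perm α)))).Normal := by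
  constructor
  rintro ⟨a, ha1, ha2⟩ ha ⟨g, hg1, hg2⟩
  rw [mem_subgroupOf] at ha ⊢
  exact ⟨conj_mem_alt (fun x => mem_iff_of_mem_sym hg1) ha.1,
    Subgroup.mul_mem _ (Subgroup.mul_mem _ hg2 ha2) (Subgroup.inv_mem _ hg2)⟩

theorem alt_cent_le (S : Finset α) (σ : Perm α) : alt S ⊓ centralizer ({σ} : Set (Perm α)) ≤
    sym S ⊓ centralizer ({σ} : Set (Perm α)) := inf_le_inf_right _ (alt_le_sym S)

/-- a 2-component of `C_{alt S}(σ)` fixes the points moved by `σ` -/
theorem comp_fix {S : Finset α} (hS : σ ∈ sym S) (hσ : ∀ i, σ (σ i) = i) {E : Subgroup (Perm α)}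
    (hE : IsComp (alt S ⊓ centralizer ({σ} : Set (Perm α))) E) {e : Perm α} (he : e ∈ E) {a : α}
    (ha : σ a ≠ a) : e a = a := by
  have hE' : IsComp (sym S ⊓ centralizer ({σ} : Set (Perm α))) E :=
    hE.extend (alt_cent_le S σ) (cent_normal S σ).isSubnormal
  have hblk : ∀ e ∈ E, ∀ a : α, σ a ≠ a → e a = a ∨ e a = σ a := by
    intro e he a ha
    refine blk_of_comm hσ (fun r hr => ?_) ha
    exact Intrinsic.AnThree.comm_of_normal_two hE' (le_inf (RR_le_sym hS) (RR_le hσ))
      (inf_le_right.trans (RR_normal hσ)) (isPGroup_RR hσ) he hr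
  have hcomm : ∀ e ∈ E, ∀ i, e (σ i) = σ (e i) := by
    intro e he i
    rw [← Perm.mul_apply, ← Perm.mul_apply, mem_centralizer_singleton_iff.mp (hE.le he).2]
  have h1 : E ≤ MulAction.stabilizer (Perm α) a := by
    rw [← hE.perfect, Subgroup.commutator_le]
    intro e1 he1 e2 he2
    rw [MulAction.mem_stabilizer_iff, Perm.smul_def]
    have hfg : ∀ f ∈ E, ∀ g ∈ E, f (g a) = g (f a) := by
      intro f hf g hg
      rcases hblk f hf a ha with h | h <;> rcases hblk g hg a ha with h' | h'
      · rw [h', h, h']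
      · rw [h', hcomm f hf, h, h']
      · rw [h', h, hcomm g hg, h']
      · rw [h', hcomm f hf, h, hσ, hcomm g hg, h', hσ]
    have h5 := hfg e1⁻¹ (inv_mem he1) e2⁻¹ (inv_mem he2)
    rw [commutatorElement_def, Perm.mul_apply, Perm.mul_apply, Perm.mul_apply, h5]
    simp
  exact h1 he

end

theorem not_solvable_of_perfect {G : Type*} [Group G] {E : Subgroup G} (hE : ⁅E, E⁆ = E)
    (hne : E ≠ ⊥) (hs : Group.IsSolvable E) : False := by
  have h6 : Nontrivial ↥E := (Subgroup.nontrivial_iff_ne_bot E).mpr hne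
  have h7 := Group.IsSolvable.commutator_lt_top_of_nontrivial ↥E
  apply h7.ne
  have h9 : (_root_.commutator ↥E).map E.subtype = (⊤ : Subgroup ↥E).map E.subtype := by
    rw [_root_.commutator_def, Subgroup.map_commutator, ← MonoidHom.range_eq_map,
      Subgroup.range_subtype]
    exact hE
  exact Subgroup.map_injective E.subtype_injective h9

/-- a nonabelian simple subnormal subgroup of even order is a 2-component -/
theorem isComp_of_simple {G : Type*} [Group G] [Finite G] {H K : Subgroup G} (hK : K ≤ H)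
    (hs : (K.subgroupOf H).IsSubnormal) (hsim : IsSimpleGroup K) (hnc : ¬ IsMulCommutative K)
    (h2 : 2 ∣ Nat.card K) : IsComp H K := by
  have hp2 : Fact (Nat.Prime 2) := ⟨Nat.prime_two⟩
  have hcore : oddCore ↥K = ⊥ := by
    rcases hsim.eq_bot_or_eq_top_of_normal (oddCore ↥K) (by unfold oddCore; infer_instance)
      with h | h
    · exact h
    · exfalso
      have h3 := odd_card_core K
      rw [core, h, ← MonoidHom.range_eq_map, Subgroup.range_subtype] at h3
      exact (Nat.not_even_iff_odd.mpr h3) (even_iff_two_dvd.mpr h2)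
  have hq : IsQuasisimple K := IntrinsicDiag.quasisimple_of_simple hsim hnc
  rw [isComp_iff]
  refine ⟨hK, hs, ?_, ?_⟩
  · exact PCompQuot.quasisimple_congr
      ((QuotientGroup.quotientMulEquivOfEq hcore).trans QuotientGroup.quotientBot).symm hq
  · apply le_antisymm (PComponents.pElem_le K)
    have hn : ((PComponents.pElem 2 K).subgroupOf K).Normal := PComponents.pElem_normal_subgroupOf K
    rcases hsim.eq_bot_or_eq_top_of_normal _ hn with h | h
    · exfalso
      obtain ⟨x, hx⟩ := exists_prime_orderOf_dvd_card' 2 h2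
      have h3 : (x : G) ∈ PComponents.pElem 2 K := by
        refine PComponents.mem_pElem x.2 (n := 1) ?_
        rw [pow_one, ← Subgroup.coe_pow, ← hx, pow_orderOf_eq_one]
        rfl
      have h4 : x ∈ (PComponents.pElem 2 K).subgroupOf K := h3
      rw [h, mem_bot] at h4
      rw [h4, orderOf_one] at hx
      omega
    · exact Subgroup.subgroupOf_eq_top.mp h

/-! ### the group `alt S` -/

theorem exists_inv_alt {S : Finset α} (h4 : 4 ≤ S.card) :
    ∃ x ∈ alt S, x * x = 1 ∧ x ≠ 1 := by
  obtain ⟨T, hTS, hT⟩ := Finset.exists_subset_card_eq h4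
  obtain ⟨a, b, c, d, h1, h2, h3, h4, h5, h6, rfl⟩ := Finset.card_eq_four.mp hT
  have hnd : [a, b, c, d].Nodup := StdAlt.PermTypes.nodup_four h1 h2 h3 h4 h5 h6
  refine ⟨swap a b * swap c d, ⟨StdAlt.PermTypes.swap_mul_mem h1 h6, fun x hx => ?_⟩,
    StdAlt.d1_sq hnd, StdAlt.d1_ne hnd⟩
  have hx' : x ∉ ({a, b, c, d} : Finset α) := fun h => hx (hTS h)
  simp only [Finset.mem_insert, Finset.mem_singleton, not_or] at hx'
  exact StdAlt.d1_fix hx'.1 hx'.2.1 hx'.2.2.1 hx'.2.2.2

theorem two_dvd_card_alt {S : Finset α} (h4 : 4 ≤ S.card) : 2 ∣ Nat.card (alt S) := by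
  obtain ⟨x, hx, hxx, hx1⟩ := exists_inv_alt h4
  have h1 : orderOf (⟨x, hx⟩ : alt S) = 2 := by
    apply orderOf_eq_prime
    · rw [pow_two]; exact Subtype.ext hxx
    · exact fun h => hx1 (congrArg Subtype.val h)
  rw [← h1]
  exact orderOf_dvd_natCard _

theorem not_comm_alt {S : Finset α} (h4 : 4 ≤ S.card) : ¬ IsMulCommutative (alt S) := by
  rintro ⟨⟨h⟩⟩
  obtain ⟨x, hx, hxx, hx1⟩ := exists_inv_alt h4
  apply hx1
  ext a
  by_cases ha : a ∈ S
  · exact apply_of_comm_alt h4 (fun σ hσ => congrArg Subtype.val (h ⟨x, hx⟩ ⟨σ, hσ⟩)) ha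
  · exact hx.2 a ha

theorem isComp_alt {S : Finset α} (h5 : 5 ≤ S.card) {H : Subgroup (Perm α)} (hS : alt S ≤ H)
    (hn : ((alt S).subgroupOf H).IsSubnormal) : IsComp H (alt S) :=
  isComp_of_simple hS hn (isSimpleGroup_alt h5) (not_comm_alt (by omega))
    (two_dvd_card_alt (by omega))

theorem isSolvable_of_le_sym {S : Finset α} (h4 : S.card ≤ 4) {E : Subgroup (Perm α)}
    (hE : E ≤ sym S) : Group.IsSolvable E := by
  have h1 : Group.IsSolvable (Perm S) := Schreier.Tools.isSolvable_perm_of_card_le_four S (by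
    rw [Nat.card_eq_fintype_card, Fintype.card_coe]; exact h4)
  have h2 : Group.IsSolvable (sym S) :=
    Group.isSolvable_of_surjective (f := (symEquiv S).toMonoidHom) (symEquiv S).surjective
  exact Group.isSolvable_of_isSolvable_injective (f := Subgroup.inclusion hE) (Subgroup.inclusion_injective hE)

/-- `alt S` has no nontrivial normal subgroup without involutions, unless `|S| = 3` -/
theorem eq_bot_of_no_inv {S : Finset α} (h3 : S.card ≠ 3) {M : Subgroup (Perm α)} (hM : M ≤ alt S)
    (hn : alt S ≤ normalizer (M : Set (Perm α))) (h2 : ∀ m ∈ M, m * m = 1 → m = 1) : M = ⊥ := by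
  rcases lt_or_ge S.card 4 with h4 | h4
  · -- `alt S` is trivial
    rw [eq_bot_iff]
    intro m hm
    rw [mem_bot]
    have hcard : S.card ≤ 2 := by omega
    have hm' := hM hm
    -- `m` fixes all points
    have hsupp : m.support ⊆ S := fun x hx => by
      by_contra h
      exact mem_support.mp hx (hm'.2 x h)
    by_contra h1
    have h5 : 2 ≤ m.support.card := two_le_card_support_of_ne_one h1
    have h6 := Finset.card_le_card hsupp
    have h7 : m.support.card = 2 := by omega
    have h8 := (card_support_eq_two.mp h7).sign_eq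
    rw [mem_alternatingGroup.mp hm'.1] at h8
    exact absurd h8 (by decide)
  · have hM' : ((M.subgroupOf (alt S)).comap (altEquiv S).toMonoidHom).Normal := by
      have : (M.subgroupOf (alt S)).Normal := normal_subgroupOf_of_le_normalizer hn
      exact this.comap _
    have h5 := StdAlt.eq_bot_of_no_inv (β := S) (by rw [Fintype.card_coe]; exact h4)
      ((M.subgroupOf (alt S)).comap (altEquiv S).toMonoidHom) (fun m hm hmm => by
        have h6 : ((altEquiv S m : alt S) : Perm α) ∈ M := hm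
        have h7 := h2 _ h6 (by rw [← Subgroup.coe_mul, ← map_mul, hmm, map_one]; rfl)
        exact (altEquiv S).injective (by rw [map_one]; exact Subtype.ext h7))
    rw [eq_bot_iff]
    intro m hm
    obtain ⟨m', hm'⟩ := (altEquiv S).surjective ⟨m, hM hm⟩
    have h6 : m' ∈ (M.subgroupOf (alt S)).comap (altEquiv S).toMonoidHom := by
      show ((altEquiv S m' : alt S) : Perm α) ∈ M
      rw [hm']; exact hm
    rw [h5, mem_bot] at h6
    rw [h6, map_one] at hm'
    rw [mem_bot]
    exact (congrArg Subtype.val hm').symm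

/-! ### the centralizer of an involution -/

section

variable {σ : Perm α} {S : Finset α}

theorem alt_fixIn_normal (S : Finset α) (σ : Perm α) :
    sym S ⊓ centralizer ({σ} : Set (Perm α)) ≤ normalizer (alt (fixIn S σ) : Set (Perm α)) := by
  intro c hc
  rw [mem_normalizer_iff]
  have h1 : ∀ c ∈ sym S ⊓ centralizer ({σ} : Set (Perm α)), ∀ y ∈ alt (fixIn S σ),
      c * y * c⁻¹ ∈ alt (fixIn S σ) := fun c hc y hy =>
    conj_mem_alt (fun x => apply_mem_fixIn (fun x => mem_iff_of_mem_sym hc.1)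
      (mem_centralizer_singleton_iff.mp hc.2)) hy
  intro y
  refine ⟨h1 c hc y, fun h => ?_⟩
  have := h1 c⁻¹ (inv_mem hc) _ h
  convert this using 1
  group

/-- a 2-component of `C_{alt S}(σ)` lies in `alt (fixIn S σ)` -/
theorem comp_le_alt (hS : σ ∈ sym S) (hσ : σ * σ = 1) {E : Subgroup (Perm α)}
    (hE : IsComp (alt S ⊓ centralizer ({σ} : Set (Perm α))) E) : E ≤ alt (fixIn S σ) := by
  intro e he
  refine ⟨(hE.le he).1.1, fun x hx => ?_⟩
  rw [mem_fixIn, not_and] at hx
  by_cases h : x ∈ S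
  · exact comp_fix hS (StdAlt.PermTypes.app_app hσ) hE he (hx h)
  · exact (hE.le he).1.2 x h

/-- **(T1)** the 2-components of `C_{alt S}(σ)`, `σ * σ = 1` -/
theorem isComp_iff_alt_fixIn (hS : σ ∈ sym S) (hσ : σ * σ = 1) {E : Subgroup (Perm α)} :
    IsComp (alt S ⊓ centralizer ({σ} : Set (Perm α))) E ↔
      E = alt (fixIn S σ) ∧ 5 ≤ (fixIn S σ).card := by
  have hcomp : 5 ≤ (fixIn S σ).card →
      IsComp (alt S ⊓ centralizer ({σ} : Set (Perm α))) (alt (fixIn S σ)) := fun h5 => by
    refine isComp_alt h5 (alt_fixIn_le_centralizer S σ) ?_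
    have : ((alt (fixIn S σ)).subgroupOf (alt S ⊓ centralizer ({σ} : Set (Perm α)))).Normal :=
      normal_subgroupOf_of_le_normalizer ((alt_cent_le S σ).trans (alt_fixIn_normal S σ))
    exact this.isSubnormal
  constructor
  · intro hE
    have h1 := comp_le_alt hS hσ hE
    have h5 : 5 ≤ (fixIn S σ).card := by
      by_contra hcon
      exact not_solvable_of_perfect hE.perfect hE.ne_bot
        (isSolvable_of_le_sym (S := fixIn S σ) (by omega) (h1.trans (alt_le_sym _)))
    exact ⟨hE.eq_of_le (hcomp h5) h1, h5⟩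
  · rintro ⟨rfl, h5⟩
    exact hcomp h5

/-- **(T2)** the odd core of `C_{alt S}(σ)` is trivial unless `σ` has three fixed points -/
theorem core_cent_le (hS : σ ∈ sym S) (hσ : σ * σ = 1) :
    core (alt S ⊓ centralizer ({σ} : Set (Perm α))) ≤ alt (fixIn S σ) := by
  have hσ' := StdAlt.PermTypes.app_app hσ
  set H := alt S ⊓ centralizer ({σ} : Set (Perm α)) with hH
  set H' := sym S ⊓ centralizer ({σ} : Set (Perm α)) with hH'
  have hsub : core H ≤ core H' := by
    refine le_core ((core_le H).trans (alt_cent_le S σ)) ?_ (odd_card_core H)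
    refine le_trans ?_ (normalizer_le_normalizer_core H)
    exact normal_subgroupOf_iff_le_normalizer (alt_cent_le S σ) |>.mp (cent_normal S σ)
  intro g hg
  have hgH := core_le H hg
  have hcomm : ∀ r ∈ RR σ hσ', g * r = r * g := by
    intro r hr
    have hrH' : r ∈ H' := ⟨RR_le_sym hS hr, RR_le hσ' hr⟩
    have h1 : ⁅g, r⁆ ∈ core H' := by
      have h2 : r * g⁻¹ * r⁻¹ ∈ core H' :=
        conj_mem_core (le_normalizer hrH') (inv_mem (hsub hg))
      have h3 := mul_mem (hsub hg) h2
      rw [commutatorElement_def]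
      convert h3 using 1
      group
    have h2 : ⁅g, r⁆ ∈ RR σ hσ' := by
      have h5 : g * r * g⁻¹ ∈ RR σ hσ' :=
        (mem_normalizer_iff.mp (RR_normal hσ' hgH.2) r).mp hr
      exact mul_mem h5 (inv_mem hr)
    have h3 := eq_one_of_mem_core_sq h1 (RR_sq h2)
    rwa [commutatorElement_eq_one_iff_mul_comm] at h3
  refine ⟨hgH.1.1, fun x hx => ?_⟩
  rw [mem_fixIn, not_and] at hx
  by_cases h : x ∈ S
  · have hm := hx h
    have h1 : ∀ x, σ x ≠ x → g (g x) = x := by
      intro x hm
      have hgσ : g (σ x) = σ (g x) := by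
        rw [← Perm.mul_apply, ← Perm.mul_apply, mem_centralizer_singleton_iff.mp hgH.2]
      rcases blk_of_comm hσ' hcomm hm with h1 | h1
      · rw [h1, h1]
      · rw [h1, hgσ, h1, hσ']
    -- `g` has odd order
    obtain ⟨k, hk⟩ := odd_card_core H
    have h2 : g ^ (2 * k + 1) = 1 := by
      rw [← hk]
      have := pow_card_eq_one' (x := (⟨g, hg⟩ : core H))
      exact congrArg Subtype.val this
    have h3 : ∀ n : ℕ, (g ^ (2 * n)) x = x := by
      intro n
      induction n with
      | zero => rw [mul_zero, pow_zero]; rfl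
      | succ n ih =>
        rw [show 2 * (n + 1) = 2 * n + 1 + 1 by ring, pow_succ, pow_succ, Perm.mul_apply,
          Perm.mul_apply, h1 x hm, ih]
    have h4 := congrArg (fun f : Perm α => f x) h2
    simp only [Perm.one_apply] at h4
    rw [pow_succ', Perm.mul_apply, h3] at h4
    exact h4
  · exact hgH.1.2 x h

theorem core_cent (hS : σ ∈ sym S) (hσ : σ * σ = 1) (h3 : (fixIn S σ).card ≠ 3) :
    core (alt S ⊓ centralizer ({σ} : Set (Perm α))) = ⊥ := by
  refine eq_bot_of_no_inv h3 (core_cent_le hS hσ) ?_ fun m hm hmm => eq_one_of_mem_core_sq hm hmm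
  exact (alt_fixIn_le_centralizer S σ).trans (le_normalizer_core _)

end

end Cfsg.Agent.UAlt
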