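import Cfsg.Agent.UAlt.AltCent

/-!
# The centralizer of a 2-group of permutations in an alternating group: 2-components and core
-/

set_option autoImplicit false
set_option linter.unusedSectionVars false

namespace Cfsg.Agent.UAlt

open Cfsg Equiv Equiv.Perm Subgroup
open Cfsg.Agent.Intrinsic.Basic
open Cfsg.Agent.SignalizersComponents Cfsg.Agent.Lib
open scoped commutatorElement

variable {α : Type*} [Fintype α] [DecidableEq α]

/-- the points of `S` fixed by the group `T` -/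
noncomputable def fixT (S : Finset α) (T : Subgroup (Perm α)) : Finset α :=
  @Finset.filter _ (fun x => ∀ t ∈ T, t x = x) (Classical.decPred _) S

theorem mem_fixT {S : Finset α} {T : Subgroup (Perm α)} {x : α} :
    x ∈ fixT S T ↔ x ∈ S ∧ ∀ t ∈ T, t x = x := by
  unfold fixT
  exact @Finset.mem_filter _ _ (Classical.decPred _) _ _

theorem fixT_subset (S : Finset α) (T : Subgroup (Perm α)) : fixT S T ⊆ S := fun _ h =>
  (mem_fixT.mp h).1

section

variable {S : Finset α} {T : Subgroup (Perm α)}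

theorem alt_fixT_le (S : Finset α) (T : Subgroup (Perm α)) :
    alt (fixT S T) ≤ alt S ⊓ centralizer (T : Set (Perm α)) := by
  intro g hg
  refine ⟨alt_mono (fixT_subset S T) hg, fun t ht => ?_⟩
  ext x
  rw [Perm.mul_apply, Perm.mul_apply]
  by_cases hx : x ∈ fixT S T
  · rw [(mem_fixT.mp hx).2 t ht, (mem_fixT.mp (mem_of_mem_sym (alt_le_sym _ hg) hx)).2 t ht]
  · rw [hg.2 x hx]
    symm
    apply hg.2
    intro h
    have h1 : t⁻¹ (t x) = t x := (mem_fixT.mp h).2 _ (inv_mem ht)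
    rw [show t⁻¹ (t x) = x by simp] at h1
    rw [← h1] at h
    exact hx h

/-- the permutations commuting with `T` and acting on every orbit of `T` as an element of `T` -/
def RT (T : Subgroup (Perm α)) : Subgroup (Perm α) where
  carrier := {g | (∀ y, ∃ t ∈ T, ∀ s ∈ T, g (s y) = t (s y)) ∧ ∀ t ∈ T, g * t = t * g}
  mul_mem' {a b} ha hb := by
    refine ⟨fun y => ?_, fun t ht => ?_⟩
    · obtain ⟨t, ht, h1⟩ := ha.1 y
      obtain ⟨t', ht', h2⟩ := hb.1 y
      refine ⟨t * t', mul_mem ht ht', fun s hs => ?_⟩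
      rw [Perm.mul_apply, h2 s hs, ← Perm.mul_apply t' s, h1 _ (mul_mem ht' hs), Perm.mul_apply t t',
        Perm.mul_apply t' s]
    · rw [mul_assoc, hb.2 t ht, ← mul_assoc, ha.2 t ht, mul_assoc]
  one_mem' := ⟨fun y => ⟨1, one_mem _, fun _ _ => rfl⟩, fun t _ => by rw [one_mul, mul_one]⟩
  inv_mem' {a} ha := by
    refine ⟨fun y => ?_, fun t ht => ?_⟩
    · obtain ⟨t, ht, h1⟩ := ha.1 y
      refine ⟨t⁻¹, inv_mem ht, fun s hs => ?_⟩
      rw [Perm.inv_eq_iff_eq, ← Perm.mul_apply t⁻¹ s, h1 _ (mul_mem (inv_mem ht) hs),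
        Perm.mul_apply t⁻¹ s]
      simp
    · rw [inv_mul_eq_iff_eq_mul, ← mul_assoc, ha.2 t ht, mul_inv_cancel_right]

theorem mem_RT {g : Perm α} : g ∈ RT T ↔ (∀ y, ∃ t ∈ T, ∀ s ∈ T, g (s y) = t (s y)) ∧
    ∀ t ∈ T, g * t = t * g := Iff.rfl

theorem isPGroup_RT (hT : IsPGroup 2 T) : IsPGroup 2 (RT T) := by
  obtain ⟨n, hn⟩ := IsPGroup.iff_card.mp hT
  rintro ⟨g, hg⟩
  refine ⟨n, Subtype.ext ?_⟩
  change g ^ 2 ^ n = 1
  ext y
  obtain ⟨t, ht, h1⟩ := hg.1 y
  have h2 : ∀ k : ℕ, (g ^ k) y = (t ^ k) y := by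
    intro k
    induction k with
    | zero => rfl
    | succ k ih =>
      rw [pow_succ', pow_succ', Perm.mul_apply, Perm.mul_apply, ih, h1 _ (pow_mem ht k)]
  rw [h2]
  have h3 : t ^ 2 ^ n = 1 := by
    rw [← hn]
    have := pow_card_eq_one' (x := (⟨t, ht⟩ : T))
    exact congrArg Subtype.val this
  rw [h3]

theorem RT_le : RT T ≤ centralizer (T : Set (Perm α)) := fun _ hg t ht => (hg.2 t ht).symm

theorem RT_normal : centralizer (T : Set (Perm α)) ≤ normalizer (RT T : Set (Perm α)) := by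
  have key : ∀ c ∈ centralizer (T : Set (Perm α)), ∀ y ∈ RT T, c * y * c⁻¹ ∈ RT T := by
    intro c hc g hg
    have hc' : ∀ s ∈ T, ∀ x, c (s x) = s (c x) := fun s hs x => by
      rw [← Perm.mul_apply, ← Perm.mul_apply, hc s hs]
    have hci : ∀ s ∈ T, ∀ x, c⁻¹ (s x) = s (c⁻¹ x) := fun s hs x => by
      rw [Perm.inv_eq_iff_eq, hc' s hs]
      simp
    refine ⟨fun y => ?_, fun t ht => ?_⟩
    · obtain ⟨t, ht, h1⟩ := hg.1 (c⁻¹ y)
      refine ⟨t, ht, fun s hs => ?_⟩
      rw [Perm.mul_apply, Perm.mul_apply, hci s hs, h1 s hs, hc' t ht, hc' s hs]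
      simp
    · have h1 := hg.2 t ht
      have h2 : t * c = c * t := hc t ht
      calc c * g * c⁻¹ * t = c * g * (c⁻¹ * (t * c)) * c⁻¹ := by group
        _ = c * (g * t) * c⁻¹ := by rw [h2]; group
        _ = (c * t) * g * c⁻¹ := by rw [h1]; group
        _ = t * (c * g * c⁻¹) := by rw [← h2]; group
  intro c hc
  rw [mem_normalizer_iff]
  intro y
  refine ⟨key c hc y, fun h => ?_⟩
  have := key c⁻¹ (inv_mem hc) _ h
  convert this using 1
  group

/-- for a point `x` not fixed by the 2-group `T` there is `z ∈ RT T` moving exactly the points of the orbit -/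
theorem exists_RT (hT : IsPGroup 2 T) {x : α} (hx : ∃ t ∈ T, t x ≠ x) :
    ∃ z ∈ RT T, ∀ y, z y ≠ y ↔ ∃ s ∈ T, s x = y := by
  classical
  -- the action on the orbit
  have hp2 : Fact (Nat.Prime 2) := ⟨Nat.prime_two⟩
  let P : α → Prop := fun y => ∃ s ∈ T, s x = y
  have hP : ∀ t ∈ T, ∀ y, P (t y) ↔ P y := by
    intro t ht y
    constructor
    · rintro ⟨s, hs, h⟩
      refine ⟨t⁻¹ * s, mul_mem (inv_mem ht) hs, ?_⟩
      rw [Perm.mul_apply, h]; simp
    · rintro ⟨s, hs, rfl⟩
      exact ⟨t * s, mul_mem ht hs, rfl⟩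
  let f : T →* Perm {y // P y} :=
    { toFun := fun t => (t : Perm α).subtypePerm (p := P) (hP t t.2)
      map_one' := rfl
      map_mul' := fun a b => rfl }
  have hpr : IsPGroup 2 f.range := hT.of_surjective f.rangeRestrict f.rangeRestrict_surjective
  have hne : Nontrivial f.range := by
    rw [Subgroup.nontrivial_iff_ne_bot, Ne, MonoidHom.range_eq_bot_iff]
    intro h
    obtain ⟨t, ht, htx⟩ := hx
    have h1 : f ⟨t, ht⟩ = 1 := by rw [h]; rfl
    have h2 := congrArg (fun g : Perm {y // P y} => ((g ⟨x, 1, one_mem _, rfl⟩ : {y // P y}) : α)) h1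
    exact htx h2
  have hc : Nontrivial (center f.range) := hpr.center_nontrivial
  obtain ⟨⟨⟨w, hw⟩, hwc⟩, hw1⟩ := exists_ne (1 : center f.range)
  obtain ⟨t, rfl⟩ := hw
  have hcomm : ∀ s ∈ T, ∀ y, P y → (t : Perm α) (s y) = s ((t : Perm α) y) := by
    intro s hs y hy
    have h1 := mem_center_iff.mp hwc ⟨f ⟨s, hs⟩, ⟨⟨s, hs⟩, rfl⟩⟩
    have h2 := congrArg (fun g : f.range => (((g : Perm {y // P y}) ⟨y, hy⟩ : {y // P y}) : α)) h1
    exact h2.symm
  have htx : (t : Perm α) x ≠ x := by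
    intro h
    apply hw1
    apply Subtype.ext
    apply Subtype.ext
    apply Equiv.ext
    rintro ⟨y, s, hs, rfl⟩
    apply Subtype.ext
    show (t : Perm α) (s x) = s x
    rw [hcomm s hs x ⟨1, one_mem _, rfl⟩, h]
  refine ⟨ofSubtype (f t), ⟨fun y => ?_, fun s hs => ?_⟩, fun y => ?_⟩
  · by_cases hy : P y
    · refine ⟨t, t.2, fun s hs => ?_⟩
      rw [ofSubtype_apply_of_mem _ ((hP s hs y).mpr hy)]
      rfl
    · refine ⟨1, one_mem _, fun s hs => ?_⟩
      rw [ofSubtype_apply_of_not_mem _ (fun h => hy ((hP s hs y).mp h))]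
      rfl
  · ext y
    rw [Perm.mul_apply, Perm.mul_apply]
    by_cases hy : P y
    · rw [ofSubtype_apply_of_mem _ ((hP s hs y).mpr hy), ofSubtype_apply_of_mem _ hy]
      exact hcomm s hs y hy
    · rw [ofSubtype_apply_of_not_mem _ (fun h => hy ((hP s hs y).mp h)),
        ofSubtype_apply_of_not_mem _ hy]
  · constructor
    · intro h
      by_contra hy
      exact h (ofSubtype_apply_of_not_mem _ hy)
    · rintro ⟨s, hs, rfl⟩
      rw [ofSubtype_apply_of_mem _ (show P (s x) from ⟨s, hs, rfl⟩)]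
      show (t : Perm α) (s x) ≠ s x
      rw [hcomm s hs x ⟨1, one_mem _, rfl⟩]
      exact fun h => htx (s.injective h)

/-- a permutation centralizing `T` and `RT T` preserves the nontrivial orbits of `T` -/
theorem exists_of_comm_RT (hT : IsPGroup 2 T) {g : Perm α} (hg : ∀ r ∈ RT T, g * r = r * g) {x : α}
    (hx : ∃ t ∈ T, t x ≠ x) : ∃ s ∈ T, g x = s x := by
  obtain ⟨z, hz, hz'⟩ := exists_RT hT hx
  have h1 : z x ≠ x := (hz' x).mpr ⟨1, one_mem _, rfl⟩
  have h2 : z (g x) ≠ g x := by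
    rw [← Perm.mul_apply, ← hg z hz, Perm.mul_apply]
    exact fun h => h1 (g.injective h)
  obtain ⟨s, hs, hsx⟩ := (hz' _).mp h2
  exact ⟨s, hs, hsx.symm⟩

/-- such a permutation acts as a 2-element on the orbit -/
theorem pow_apply_of_comm_RT (hT : IsPGroup 2 T) {g : Perm α} (hg : ∀ r ∈ RT T, g * r = r * g)
    (hc : ∀ t ∈ T, t * g = g * t) {x : α} (hx : ∃ t ∈ T, t x ≠ x) :
    ∃ n : ℕ, ∀ y, (∃ s ∈ T, s x = y) → (g ^ 2 ^ n) y = y := by
  obtain ⟨s, hs, hsx⟩ := exists_of_comm_RT hT hg hx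
  obtain ⟨n, hn⟩ := hT ⟨s, hs⟩
  have hn' : s ^ 2 ^ n = 1 := congrArg Subtype.val hn
  have hc' : ∀ t ∈ T, ∀ y, g (t y) = t (g y) := fun t ht y => by
    rw [← Perm.mul_apply, ← Perm.mul_apply, hc t ht]
  have h2 : ∀ k : ℕ, (g ^ k) x = (s ^ k) x := by
    intro k
    induction k with
    | zero => rfl
    | succ k ih =>
      rw [pow_succ', Perm.mul_apply, ih, hc' _ (pow_mem hs k), hsx, pow_succ, Perm.mul_apply]
  have hcg : ∀ k : ℕ, ∀ t ∈ T, ∀ y, (g ^ k) (t y) = t ((g ^ k) y) := by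
    intro k
    induction k with
    | zero => exact fun _ _ _ => rfl
    | succ k ih =>
      intro t ht y
      rw [pow_succ', Perm.mul_apply, Perm.mul_apply, ih t ht, hc' t ht]
  refine ⟨n, ?_⟩
  rintro y ⟨t, ht, rfl⟩
  rw [hcg _ t ht, h2, hn']; rfl

/-- the even part has normal index in the centralizer -/
theorem centT_normal (S : Finset α) (T : Subgroup (Perm α)) :
    ((alt S ⊓ centralizer (T : Set (Perm α))).subgroupOf
      (sym S ⊓ centralizer (T : Set (Perm α)))).Normal := by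
  constructor
  rintro ⟨a, ha1, ha2⟩ ha ⟨g, hg1, hg2⟩
  rw [mem_subgroupOf] at ha ⊢
  exact ⟨conj_mem_alt (fun x => mem_iff_of_mem_sym hg1) ha.1,
    Subgroup.mul_mem _ (Subgroup.mul_mem _ hg2 ha2) (Subgroup.inv_mem _ hg2)⟩

theorem alt_centT_le (S : Finset α) (T : Subgroup (Perm α)) :
    alt S ⊓ centralizer (T : Set (Perm α)) ≤ sym S ⊓ centralizer (T : Set (Perm α)) :=
  inf_le_inf_right _ (alt_le_sym S)

theorem RT_le_sym (hS : T ≤ sym S) : RT T ≤ sym S := by
  intro g hg x hx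
  obtain ⟨t, ht, h⟩ := hg.1 x
  have := h 1 (one_mem _)
  rw [Perm.one_apply] at this
  rw [this]
  exact hS ht x hx

/-- a 2-component of `C_{alt S}(T)` fixes the points moved by `T` -/
theorem compT_fix (hS : T ≤ sym S) (hT : IsPGroup 2 T) {E : Subgroup (Perm α)}
    (hE : IsComp (alt S ⊓ centralizer (T : Set (Perm α))) E) {e : Perm α} (he : e ∈ E) {x : α}
    (hx : ∃ t ∈ T, t x ≠ x) : e x = x := by
  classical
  have hE' : IsComp (sym S ⊓ centralizer (T : Set (Perm α))) E :=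
    hE.extend (alt_centT_le S T) (centT_normal S T).isSubnormal
  have hcomm : ∀ e ∈ E, ∀ r ∈ RT T, e * r = r * e := fun e he r hr =>
    Intrinsic.AnThree.comm_of_normal_two hE' (le_inf (RT_le_sym hS) RT_le)
      (inf_le_right.trans RT_normal) (isPGroup_RT hT) he hr
  have hcT : ∀ e ∈ E, ∀ t ∈ T, t * e = e * t := fun e he t ht => (hE.le he).2 t ht
  let P : α → Prop := fun y => ∃ s ∈ T, s x = y
  have hP1 : ∀ e ∈ E, ∀ y, P y → P (e y) := by
    rintro e he y ⟨s, hs, rfl⟩
    obtain ⟨t, ht, h⟩ := exists_of_comm_RT hT (hcomm e he) hx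
    refine ⟨s * t, mul_mem hs ht, ?_⟩
    rw [Perm.mul_apply, ← h, ← Perm.mul_apply, ← Perm.mul_apply, hcT e he s hs]
  have hP : ∀ e ∈ E, ∀ y, P (e y) ↔ P y := by
    intro e he y
    refine ⟨fun h => ?_, hP1 e he y⟩
    have := hP1 e⁻¹ (inv_mem he) _ h
    simpa using this
  let f : E →* Perm {y // P y} :=
    { toFun := fun t => (t : Perm α).subtypePerm (p := P) (hP t t.2)
      map_one' := rfl
      map_mul' := fun a b => rfl }
  have hpr : IsPGroup 2 f.range := by
    rintro ⟨_, ⟨e, he⟩, rfl⟩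
    obtain ⟨n, hn⟩ := pow_apply_of_comm_RT hT (hcomm e he) (hcT e he) hx
    refine ⟨n, Subtype.ext ?_⟩
    show f ⟨e, he⟩ ^ 2 ^ n = 1
    rw [← map_pow]
    apply Equiv.ext
    rintro ⟨y, hy⟩
    apply Subtype.ext
    exact hn y hy
  have hp2 : Fact (Nat.Prime 2) := ⟨Nat.prime_two⟩
  have hnil : Group.IsNilpotent f.range := hpr.isNilpotent
  have hsol : Group.IsSolvable f.range := inferInstance
  have hbot : f.range = ⊥ := by
    by_contra hne
    refine not_solvable_of_perfect ?_ hne hsol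
    have h1 : ⁅(⊤ : Subgroup E), (⊤ : Subgroup E)⁆ = ⊤ := by
      apply Subgroup.map_injective E.subtype_injective
      rw [Subgroup.map_commutator, ← MonoidHom.range_eq_map, Subgroup.range_subtype]
      exact hE.perfect
    rw [MonoidHom.range_eq_map, ← Subgroup.map_commutator, h1]
  have h1 : f ⟨e, he⟩ = 1 := by
    have : f ⟨e, he⟩ ∈ f.range := ⟨_, rfl⟩
    rw [hbot] at this
    exact mem_bot.mp this
  have h2 := congrArg (fun g : Perm {y // P y} => ((g ⟨x, 1, one_mem _, rfl⟩ : {y // P y}) : α)) h1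
  exact h2

theorem alt_fixT_normal (S : Finset α) (T : Subgroup (Perm α)) :
    sym S ⊓ centralizer (T : Set (Perm α)) ≤ normalizer (alt (fixT S T) : Set (Perm α)) := by
  have h1 : ∀ c ∈ sym S ⊓ centralizer (T : Set (Perm α)), ∀ y ∈ alt (fixT S T),
      c * y * c⁻¹ ∈ alt (fixT S T) := fun c hc y hy => by
    refine conj_mem_alt (fun x => ?_) hy
    rw [mem_fixT, mem_fixT, mem_iff_of_mem_sym hc.1]
    refine and_congr_right fun _ => forall_congr' fun t => forall_congr' fun ht => ?_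
    have h2 : t (c x) = c (t x) := by rw [← Perm.mul_apply, ← Perm.mul_apply, hc.2 t ht]
    rw [h2]
    exact c.injective.eq_iff
  intro c hc
  rw [mem_normalizer_iff]
  intro y
  refine ⟨h1 c hc y, fun h => ?_⟩
  have := h1 c⁻¹ (inv_mem hc) _ h
  convert this using 1
  group

/-- **the 2-components of `C_{alt S}(T)`**, `T` a 2-group -/
theorem isComp_iff_alt_fixT (hS : T ≤ sym S) (hT : IsPGroup 2 T) {E : Subgroup (Perm α)} :
    IsComp (alt S ⊓ centralizer (T : Set (Perm α))) E ↔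
      E = alt (fixT S T) ∧ 5 ≤ (fixT S T).card := by
  have hcomp : 5 ≤ (fixT S T).card →
      IsComp (alt S ⊓ centralizer (T : Set (Perm α))) (alt (fixT S T)) := fun h5 => by
    refine isComp_alt h5 (alt_fixT_le S T) ?_
    have : ((alt (fixT S T)).subgroupOf (alt S ⊓ centralizer (T : Set (Perm α)))).Normal :=
      normal_subgroupOf_of_le_normalizer ((alt_centT_le S T).trans (alt_fixT_normal S T))
    exact this.isSubnormal
  constructor
  · intro hE
    have h1 : E ≤ alt (fixT S T) := by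
      intro e he
      refine ⟨(hE.le he).1.1, fun x hx => ?_⟩
      rw [mem_fixT, not_and] at hx
      by_cases h : x ∈ S
      · have h2 := hx h
        push Not at h2
        exact compT_fix hS hT hE he h2
      · exact (hE.le he).1.2 x h
    have h5 : 5 ≤ (fixT S T).card := by
      by_contra hcon
      exact not_solvable_of_perfect hE.perfect hE.ne_bot
        (isSolvable_of_le_sym (S := fixT S T) (by omega) (h1.trans (alt_le_sym _)))
    exact ⟨hE.eq_of_le (hcomp h5) h1, h5⟩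
  · rintro ⟨rfl, h5⟩
    exact hcomp h5

/-- the odd core of `C_{alt S}(T)` is trivial unless `T` has three fixed points -/
theorem core_centT_le (hS : T ≤ sym S) (hT : IsPGroup 2 T) :
    core (alt S ⊓ centralizer (T : Set (Perm α))) ≤ alt (fixT S T) := by
  set H := alt S ⊓ centralizer (T : Set (Perm α)) with hH
  set H' := sym S ⊓ centralizer (T : Set (Perm α)) with hH'
  have hsub : core H ≤ core H' := by
    refine le_core ((core_le H).trans (alt_centT_le S T)) ?_ (odd_card_core H)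
    refine le_trans ?_ (normalizer_le_normalizer_core H)
    exact normal_subgroupOf_iff_le_normalizer (alt_centT_le S T) |>.mp (centT_normal S T)
  intro g hg
  have hgH := core_le H hg
  have hcomm : ∀ r ∈ RT T, g * r = r * g := by
    intro r hr
    have hrH' : r ∈ H' := ⟨RT_le_sym hS hr, RT_le hr⟩
    have h1 : ⁅g, r⁆ ∈ core H' := by
      have h2 : r * g⁻¹ * r⁻¹ ∈ core H' :=
        conj_mem_core (le_normalizer hrH') (inv_mem (hsub hg))
      have h3 := mul_mem (hsub hg) h2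
      rw [commutatorElement_def]
      convert h3 using 1
      group
    have h2 : ⁅g, r⁆ ∈ RT T := by
      have h5 : g * r * g⁻¹ ∈ RT T := (mem_normalizer_iff.mp (RT_normal hgH.2) r).mp hr
      exact mul_mem h5 (inv_mem hr)
    obtain ⟨n, hn⟩ := isPGroup_RT hT ⟨_, h2⟩
    have h3 := eq_one_of_mem_core h1 (congrArg Subtype.val hn)
    rwa [commutatorElement_eq_one_iff_mul_comm] at h3
  refine ⟨hgH.1.1, fun x hx => ?_⟩
  rw [mem_fixT, not_and] at hx
  by_cases h : x ∈ S
  · have h2 := hx h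
    push Not at h2
    obtain ⟨n, hn⟩ := pow_apply_of_comm_RT hT hcomm (fun t ht => hgH.2 t ht) h2
    have h3 := hn x ⟨1, one_mem _, rfl⟩
    -- `g` has odd order
    have h4 : Odd (orderOf g) := Odd.of_dvd_nat (odd_card_core H) (Subgroup.orderOf_dvd_natCard _ hg)
    have h5 : Nat.Coprime (2 ^ n) (orderOf g) := Nat.Coprime.pow_left n h4.coprime_two_left
    obtain ⟨k, hk⟩ := exists_pow_eq_self_of_coprime h5
    -- `g = (g ^ 2 ^ n) ^ k`
    have h6 : ∀ k : ℕ, ((g ^ 2 ^ n) ^ k) x = x := by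
      intro k
      induction k with
      | zero => rfl
      | succ k ih => rw [pow_succ, Perm.mul_apply, h3, ih]
    rw [← hk]
    exact h6 k
  · exact hgH.1.2 x h

theorem core_centT (hS : T ≤ sym S) (hT : IsPGroup 2 T) (h3 : (fixT S T).card ≠ 3) :
    core (alt S ⊓ centralizer (T : Set (Perm α))) = ⊥ := by
  refine eq_bot_of_no_inv h3 (core_centT_le hS hT) ?_ fun m hm hmm => eq_one_of_mem_core_sq hm hmm
  exact (alt_fixT_le S T).trans (le_normalizer_core _)

end

end Cfsg.Agent.UAlt
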