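import Cfsg.Agent.UAlt.CaseDA

/-!
# Case D: the 2-components `K_r`

* `DD M a T r K MK`: `K` is a 2-component of `C(r)` moved by `a` with `C_L(r)^∞` diagonal in `K K^a`, labelled
  compatibly.
* `DD.pair`: (6.0), `DD.fixes`: (6.1).
* `good_triple`: the triple `(x, r, K)` for roots `r` in good position with respect to `x`.
-/

set_option autoImplicit false
set_option linter.unusedSectionVars false

namespace Cfsg.Agent.UAlt

open Cfsg Equiv Equiv.Perm Subgroup
open Cfsg.Agent.Intrinsic.Basic Cfsg.Agent.Intrinsic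
open Cfsg.Agent.Intrinsic.Cen Cfsg.Agent.Intrinsic.Diag
open Cfsg.Agent.SignalizersComponents Cfsg.Agent.Lib
open Cfsg.Agent.SignalizersComponents.IntrinsicBasic
open Cfsg.Agent.SignalizersComponents.IntrinsicIntr
open Cfsg.Agent.SignalizersComponents.PLayerAut
open Cfsg.Agent.UGT.Triple
open Cfsg.Agent.StdAlt.Roots (IsRoot)
open scoped commutatorElement

variable {G : Type*} [Group G] {α : Type*} [Fintype α] [DecidableEq α]
variable {L : Subgroup G} {Ω T T' : Finset α}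

/-- `K` is a 2-component of `C(r)` moved by `a`, `C_L(r)^∞` is diagonal in `K K^a`, `K` is labelled compatibly -/
structure DD (M : Mod L Ω) (a : G) (T : Finset α) (r : G) (K : Subgroup G) (MK : Mod K (Ω \ T)) :
    Prop where
  root : Root M T r
  comp : IsComp (centralizer ({r} : Set G)) K
  ne : cj a K ≠ K
  eq : M.cmp r = diag (centralizer ({r} : Set G)) K a
  agree : ∀ y ∈ M.cmp r, MK.φ y = M.φ y

section

variable [Finite G] {M : Mod L Ω} {a r s : G}

theorem Mod.cj_cmp {K : Subgroup G} {S : Finset α} (M : Mod K S) {g t : G}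
    (hg : g ∈ normalizer (K : Set G)) (ht : t ∈ normalizer (K : Set G)) (htt : t * t = 1)
    (h5 : 5 ≤ (fixIn S (M.φ t)).card) : IntrinsicBasic.cj g (M.cmp t) = M.cmp (g * t * g⁻¹) := by
  have ht' : g * t * g⁻¹ ∈ normalizer (K : Set G) := mul_mem (mul_mem hg ht) (inv_mem hg)
  have htt' : g * t * g⁻¹ * (g * t * g⁻¹) = 1 := by
    calc g * t * g⁻¹ * (g * t * g⁻¹) = g * (t * t) * g⁻¹ := by group
      _ = 1 := by rw [htt]; group
  have h1 : IsComp (K ⊓ centralizer ({g * t * g⁻¹} : Set G)) (IntrinsicBasic.cj g (M.cmp t)) := by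
    have h2 := (M.isComp_cmp ht htt h5).cj g
    rwa [cj_inf, cj_centralizer, mem_normalizer_iff_cj.mp hg] at h2
  exact ((M.isComp_iff_cmp ht' htt').mp h1).1

theorem Mod.cj_cmp' {K : Subgroup G} {S : Finset α} (M : Mod K S) {g t : G}
    (ht : t ∈ normalizer (K : Set G)) (htt : t * t = 1)
    (h5 : 5 ≤ (fixIn S (M.φ t)).card) : (M.cj g).cmp (g * t * g⁻¹) = IntrinsicBasic.cj g (M.cmp t) := by
  have ht' : g * t * g⁻¹ ∈ normalizer (IntrinsicBasic.cj g K : Set G) := by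
    rw [mem_normalizer_iff_cj, ← IntrinsicBasic.cj_mul, show g * t * g⁻¹ * g = g * t by group,
      IntrinsicBasic.cj_mul, mem_normalizer_iff_cj.mp ht]
  have htt' : g * t * g⁻¹ * (g * t * g⁻¹) = 1 := by
    calc g * t * g⁻¹ * (g * t * g⁻¹) = g * (t * t) * g⁻¹ := by group
      _ = 1 := by rw [htt]; group
  have h1 : IsComp (IntrinsicBasic.cj g K ⊓ centralizer ({g * t * g⁻¹} : Set G)) (IntrinsicBasic.cj g (M.cmp t)) := by
    have h2 := (M.isComp_cmp ht htt h5).cj g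
    rwa [cj_inf, cj_centralizer] at h2
  exact (((M.cj g).isComp_iff_cmp ht' htt').mp h1).1.symm

/-- members of `L` commute with `a` -/
theorem comm_of_comp (hL : IsComp (centralizer ({a} : Set G)) L) {y : G} (hy : y ∈ L) :
    y * a = a * y := mem_centralizer_singleton_iff.mp (hL.le hy)

theorem card_sdiff_sdiff (h13 : 13 ≤ Ω.card) (hT : T ⊆ Ω) (hT4 : T.card = 4) (hT' : T' ⊆ Ω)
    (hT4' : T'.card = 4) (hd : Disjoint T T') : 5 ≤ ((Ω \ T) \ T').card := by
  have h1 : T' ⊆ Ω \ T := fun x hx => Finset.mem_sdiff.mpr ⟨hT' hx, Finset.disjoint_right.mp hd hx⟩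
  rw [Finset.card_sdiff_of_subset h1, Finset.card_sdiff_of_subset hT]
  omega

theorem fixIn_sdiff (hs : Root M T' s) : fixIn (Ω \ T) (M.φ s) = (Ω \ T) \ T' := by
  ext x
  rw [mem_fixIn, Finset.mem_sdiff (s := Ω \ T), Finset.mem_sdiff]
  exact ⟨fun h => ⟨h.1, (hs.fix x h.1.1).mp h.2⟩, fun h => ⟨h.1, (hs.fix x h.1.1).mpr h.2⟩⟩

/-- `s ∈ C_L(r)^∞` for commuting roots with disjoint supports -/
theorem Root.mem_cmp_root (hr : Root M T r) (hs : Root M T' s) (hrs : r * s = s * r)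
    (hd : Disjoint T T') : s ∈ M.cmp r :=
  hr.mem_cmp hs.mem hrs (fun _ hx => hs.apply_eq (Finset.disjoint_left.mp hd hx)) (n := 1)
    (by rw [pow_one, pow_two]; exact hs.sq)

namespace DD

variable {K J : Subgroup G} {MK : Mod K (Ω \ T)} {MJ : Mod J (Ω \ T')}

theorem aC (h : DD M a T r K MK) (hL : IsComp (centralizer ({a} : Set G)) L) :
    a ∈ centralizer ({r} : Set G) :=
  mem_centralizer_singleton_iff.mpr (comm_of_comp hL h.root.mem).symm

/-- `DD` for `K^a` -/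
theorem swap (h : DD M a T r K MK) (hL : IsComp (centralizer ({a} : Set G)) L) (ha : a * a = 1) :
    DD M a T r (cj a K) (MK.cj a) where
  root := h.root
  comp := isComp_cj_of_mem h.comp (h.aC hL)
  ne := fun e => h.ne (by
    rw [← IntrinsicBasic.cj_mul, ha, cj_one] at e
    exact e.symm)
  eq := by rw [h.eq, cj_diag_self (h.aC hL)]
  agree := by
    intro y hy
    rw [Mod.cj_φ, ← h.agree y hy]
    congr 1
    have h1 := comm_of_comp hL (M.cmp_le r hy)
    rw [mul_assoc, h1, inv_mul_cancel_left]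

theorem memN (h : DD M a T r K MK) (hL : IsComp (centralizer ({a} : Set G)) L) (ha : a * a = 1)
    {y : G} (hy : y ∈ M.cmp r) : y ∈ normalizer (K : Set G) := by
  rw [h.eq] at hy
  obtain ⟨-, -, -, -, h1⟩ := diag_act h.comp (h.aC hL) ha h.ne hy
  exact h1

section pair

variable (h13 : 13 ≤ Ω.card) (hL : IsComp (centralizer ({a} : Set G)) L) (ha : a * a = 1)
  (h : DD M a T r K MK) (hs : Root M T' s) (hrs : r * s = s * r) (hd : Disjoint T T')

include h13 hL ha h hs hrs hd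

theorem fixIn_s : fixIn (Ω \ T) (MK.φ s) = (Ω \ T) \ T' := by
  rw [h.agree s (h.root.mem_cmp_root hs hrs hd)]
  exact fixIn_sdiff hs

theorem five_s : 5 ≤ (fixIn (Ω \ T) (MK.φ s)).card := by
  rw [fixIn_s h13 hL ha h hs hrs hd]
  exact card_sdiff_sdiff h13 h.root.sub h.root.card hs.sub hs.card hd

theorem sN : s ∈ normalizer (K : Set G) := h.memN hL ha (h.root.mem_cmp_root hs hrs hd)

/-- `K_{r,s}` is a 2-component of `C(r, s)` -/
theorem comp_s : IsComp (centralizer ({r} : Set G) ⊓ centralizer ({s} : Set G)) (MK.cmp s) :=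
  MK.isComp_cmp_of h.comp (sN h13 hL ha h hs hrs hd) hs.sq (five_s h13 hL ha h hs hrs hd)

theorem lift_s {σ : Perm α} (hσ : σ ∈ alt ((Ω \ T) \ T')) : ∃ i ∈ MK.cmp s, MK.φ i = σ := by
  rw [← fixIn_s h13 hL ha h hs hrs hd] at hσ
  exact MK.cmp_lift (sN h13 hL ha h hs hrs hd) hs.sq (five_s h13 hL ha h hs hrs hd) hσ

theorem mem_alt_s {i : G} (hi : i ∈ MK.cmp s) : MK.φ i ∈ alt ((Ω \ T) \ T') := by
  have := MK.cmp_mem_alt hi
  rwa [fixIn_s h13 hL ha h hs hrs hd] at this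

theorem core_s {i : G} (hi : i ∈ core (MK.cmp s)) : MK.φ i = 1 :=
  (MK.core_iff i (MK.cmp_le s (core_le _ hi))).mpr
    (MK.core_cmp_le (sN h13 hL ha h hs hrs hd) hs.sq (five_s h13 hL ha h hs hrs hd) hi)

/-- an element of `N(K)` acting trivially on `K_{r,s}` -/
theorem apply_s {g : G} (hg : g ∈ normalizer (K : Set G))
    (hc : ∀ i ∈ MK.cmp s, MK.φ ⁅g, i⁆ = 1) {y : α} (hy : y ∈ (Ω \ T) \ T') : MK.φ g y = y := by
  have h5 := card_sdiff_sdiff h13 h.root.sub h.root.card hs.sub hs.card hd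
  exact MK.apply_of_comm hg ((MK.cmp_le s).trans le_normalizer) (F := (Ω \ T) \ T') (by omega)
    (fun σ hσ => lift_s h13 hL ha h hs hrs hd hσ) hc hy

theorem ne_s : cj a (MK.cmp s) ≠ MK.cmp s := by
  intro e
  apply h.ne
  have h1 : MK.cmp s ≤ cj a K := by
    rw [← e]
    exact cj_mono (MK.cmp_le s)
  exact (comp_s h13 hL ha h hs hrs hd).unique (isComp_cj_of_mem h.comp (h.aC hL)) h.comp h1
    (MK.cmp_le s)

theorem aX : a ∈ centralizer ({r} : Set G) ⊓ centralizer ({s} : Set G) :=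
  ⟨h.aC hL, mem_centralizer_singleton_iff.mpr (comm_of_comp hL hs.mem).symm⟩

/-- a 2-component `Z` of `C(r, s, a)` in `C_L(r)^∞` acting nontrivially is diagonal -/
theorem eq_diag {Z : Subgroup G}
    (hZ : IsComp ((centralizer ({r} : Set G) ⊓ centralizer ({s} : Set G)) ⊓
      centralizer ({a} : Set G)) Z) (hZr : Z ≤ M.cmp r)
    (hZl : ∃ z ∈ Z, M.φ z ≠ 1 ∧ M.φ z ∈ alt ((Ω \ T) \ T')) :
    Z = diag (centralizer ({r} : Set G) ⊓ centralizer ({s} : Set G)) (MK.cmp s) a := by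
  have hI := comp_s h13 hL ha h hs hrs hd
  refine ((pump_of_not_le (aX h13 hL ha h hs hrs hd) ha hZ hI fun hle => ?_).resolve_left
    fun h1 => ne_s h13 hL ha h hs hrs hd (mem_normalizer_iff_cj.mp h1.1)).2
  obtain ⟨z, hz, hz1, hzl⟩ := hZl
  have hzX : z ∈ centralizer ({r} : Set G) ⊓ centralizer ({s} : Set G) := (hZ.le hz).1
  have hf : Fixes z (MK.cmp s) := (hI.fixes_iff hzX).mpr (hle hz)
  apply hz1
  have h1 : ∀ y ∈ (Ω \ T) \ T', MK.φ z y = y := fun y hy =>
    apply_s h13 hL ha h hs hrs hd (h.memN hL ha (hZr hz))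
      (fun i hi => core_s h13 hL ha h hs hrs hd (hf.2 i hi)) hy
  rw [h.agree z (hZr hz)] at h1
  ext y
  by_cases hy : y ∈ (Ω \ T) \ T'
  · exact h1 y hy
  · exact hzl.2 y hy

/-- labels on `K_{r,s}` -/
theorem label_eq {i m : G} (hm : m ∈ M.cmp r) (hml : M.φ m ∈ alt ((Ω \ T) \ T'))
    (hi : i ∈ MK.cmp s) (hf : Fixes (i⁻¹ * m) (MK.cmp s)) : MK.φ i = M.φ m := by
  have hiN : i ∈ normalizer (K : Set G) := le_normalizer (MK.cmp_le s hi)
  have hmN := h.memN hL ha hm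
  have h1 : ∀ y ∈ (Ω \ T) \ T', MK.φ (i⁻¹ * m) y = y := fun y hy =>
    apply_s h13 hL ha h hs hrs hd (mul_mem (inv_mem hiN) hmN)
      (fun j hj => core_s h13 hL ha h hs hrs hd (hf.2 j hj)) hy
  have h2 : MK.φ (i⁻¹ * m) = (MK.φ i)⁻¹ * M.φ m := by
    rw [MK.mul _ _ (inv_mem hiN) hmN, MK.inv hiN, h.agree m hm]
  have h3 : MK.φ (i⁻¹ * m) ∈ alt ((Ω \ T) \ T') := by
    rw [h2]
    exact mul_mem (inv_mem (mem_alt_s h13 hL ha h hs hrs hd hi)) hml
  have h4 : MK.φ (i⁻¹ * m) = 1 := by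
    ext y
    by_cases hy : y ∈ (Ω \ T) \ T'
    · exact h1 y hy
    · exact h3.2 y hy
  rw [h2, inv_mul_eq_one] at h4
  exact h4

/-- the 2-component `C_L(r, s)^∞` -/
theorem exists_Z : ∃ Z : Subgroup G,
    IsComp ((centralizer ({r} : Set G) ⊓ centralizer ({s} : Set G)) ⊓ centralizer ({a} : Set G)) Z ∧
    Z ≤ M.cmp r ∧ Z ≤ M.cmp s ∧ (∀ z ∈ Z, M.φ z ∈ alt ((Ω \ T) \ T')) ∧
    ∃ z ∈ Z, M.φ z ≠ 1 ∧ M.φ z ∈ alt ((Ω \ T) \ T') := by
  obtain ⟨ME, hME⟩ := h.root.exists_mod (by omega)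
  have hsr := h.root.mem_cmp_root hs hrs hd
  have h5 := card_sdiff_sdiff h13 h.root.sub h.root.card hs.sub hs.card hd
  have hfx : fixIn (Ω \ T) (ME.φ s) = (Ω \ T) \ T' := by
    rw [hME s hsr]; exact fixIn_sdiff hs
  have hsN : s ∈ normalizer (M.cmp r : Set G) := le_normalizer hsr
  have hr5 : 5 ≤ (fixIn Ω (M.φ r)).card := by rw [h.root.card_fix]; omega
  have hc1 : IsComp (centralizer ({a} : Set G) ⊓ centralizer ({r} : Set G)) (M.cmp r) :=
    M.isComp_cmp_of hL h.root.memN h.root.sq hr5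
  have hc2 := ME.isComp_cmp_of hc1 hsN hs.sq (by rw [hfx]; exact h5)
  have hlab : ∀ z ∈ ME.cmp s, M.φ z ∈ alt ((Ω \ T) \ T') := by
    intro z hz
    have h1 := ME.cmp_mem_alt hz
    rwa [hfx, hME z (ME.cmp_le s hz)] at h1
  refine ⟨ME.cmp s, ?_, ME.cmp_le s, ?_, hlab, ?_⟩
  · have e : (centralizer ({r} : Set G) ⊓ centralizer ({s} : Set G)) ⊓ centralizer ({a} : Set G) =
        (centralizer ({a} : Set G) ⊓ centralizer ({r} : Set G)) ⊓ centralizer ({s} : Set G) := by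
      rw [inf_comm, inf_assoc]
    rw [e]
    exact hc2
  · rw [← hc2.pElem_eq]
    refine (Subgroup.closure_le _).mpr ?_
    rintro z ⟨hz, n, hn⟩
    refine hs.mem_cmp (M.cmp_le r (ME.cmp_le s hz)) (ME.cmp_comm hz) (fun x hx => ?_) (n := n) hn
    exact (hlab z hz).2 x fun h' => (Finset.mem_sdiff.mp h').2 hx
  · obtain ⟨σ, hσ, -, hσ1⟩ := exists_inv_alt (S := (Ω \ T) \ T') (by omega)
    obtain ⟨z, hz, hzσ⟩ := ME.cmp_lift hsN hs.sq (by rw [hfx]; exact h5) (by rw [hfx]; exact hσ)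
    refine ⟨z, hz, ?_, hlab z hz⟩
    rw [← hME z (ME.cmp_le s hz), hzσ]
    exact hσ1

end pair

/-- **(6.0)** -/
theorem pair (h13 : 13 ≤ Ω.card) (hL : IsComp (centralizer ({a} : Set G)) L) (ha : a * a = 1)
    (h : DD M a T r K MK) (h' : DD M a T' s J MJ) (hrs : r * s = s * r) (hd : Disjoint T T') :
    ∃ (J' : Subgroup G) (MJ' : Mod J' (Ω \ T')), DD M a T' s J' MJ' ∧ MK.cmp s = MJ'.cmp r ∧
      ∀ i ∈ MK.cmp s, MK.φ i = MJ'.φ i := by
  have hs := h'.root
  have hr := h.root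
  have hcm : (centralizer ({s} : Set G) ⊓ centralizer ({r} : Set G)) =
      (centralizer ({r} : Set G) ⊓ centralizer ({s} : Set G)) := inf_comm _ _
  have hTT : (Ω \ T') \ T = (Ω \ T) \ T' := by
    ext x; simp only [Finset.mem_sdiff]; tauto
  obtain ⟨Z, hZ, hZr, hZs, hZl, hZn⟩ := exists_Z h13 hL ha h hs hrs hd
  have e1 := eq_diag h13 hL ha h hs hrs hd hZ hZr hZn
  -- the same for `s`, for every choice of `J`
  have key : ∀ {J : Subgroup G} {MJ : Mod J (Ω \ T')}, DD M a T' s J MJ →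
      Z = diag (centralizer ({r} : Set G) ⊓ centralizer ({s} : Set G)) (MJ.cmp r) a := by
    intro J MJ h'
    have := eq_diag h13 hL ha h' hr hrs.symm hd.symm (Z := Z) (by rw [hcm]; exact hZ) hZs
      (by rw [hTT]; exact hZn)
    rwa [hcm] at this
  have e2 := key h'
  have hI := comp_s h13 hL ha h hs hrs hd
  have hI' := comp_s h13 hL ha h' hr hrs.symm hd.symm
  rw [hcm] at hI'
  have haX := aX h13 hL ha h hs hrs hd
  have hIne := ne_s h13 hL ha h hs hrs hd
  have hmain : ∀ {J' : Subgroup G} {MJ' : Mod J' (Ω \ T')}, DD M a T' s J' MJ' →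
      MK.cmp s = MJ'.cmp r → ∀ i ∈ MK.cmp s, MK.φ i = MJ'.φ i := by
    intro J' MJ' hJ' he i hi
    obtain ⟨-, -, h3, -⟩ := exists_diag hI haX ha hIne
    obtain ⟨m, hm, hmi⟩ := h3 i hi
    have hmZ : m ∈ Z := by rw [e1]; exact hm
    have hmX : m ∈ centralizer ({r} : Set G) ⊓ centralizer ({s} : Set G) := (hZ.le hmZ).1
    have hf : Fixes (i⁻¹ * m) (MK.cmp s) := fixes_inv_mul hI haX hIne hi hmX hmi
    rw [label_eq h13 hL ha h hs hrs hd (hZr hmZ) (hZl m hmZ) hi hf]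
    rw [he] at hi hf
    exact (label_eq h13 hL ha hJ' hr hrs.symm hd.symm (hZs hmZ) (by rw [hTT]; exact hZl m hmZ)
      hi hf).symm
  rcases eq_or_of_diag_eq hI haX ha hIne hI' (ne_s h13 hL ha h' hr hrs.symm hd.symm)
      (by rw [← e1, ← e2]) with e | e
  · exact ⟨J, MJ, h', e.symm, hmain h' e.symm⟩
  · have h2 := h'.swap hL ha
    have e3 : MK.cmp s = (MJ.cj a).cmp r := by
      have e4 : a * r * a⁻¹ = r := by
        rw [← comm_of_comp hL hr.mem, mul_inv_cancel_right]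
      have e5 := MJ.cj_cmp' (g := a) (sN h13 hL ha h' hr hrs.symm hd.symm) hr.sq
        (five_s h13 hL ha h' hr hrs.symm hd.symm)
      rw [e4] at e5
      rw [e5, e, ← IntrinsicBasic.cj_mul, ha, cj_one]
    exact ⟨_, _, h2, e3, hmain h2 e3⟩

/-- one step of **(6.1)** -/
theorem fix_step (h13 : 13 ≤ Ω.card) (hL : IsComp (centralizer ({a} : Set G)) L) (ha : a * a = 1)
    (h : DD M a T r K MK) (h' : DD M a T' s J MJ) (hrs : r * s = s * r) (hd : Disjoint T T')
    {u : G} (hu : u ∈ L) (huu : u * u = 1) (hul : M.φ u ∈ sym T) (hur : u * r = r * u)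
    (hus : u * s = s * u) :
    u ∈ normalizer (K : Set G) ∧ ∀ y ∈ (Ω \ T) \ T', MK.φ u y = y := by
  obtain ⟨J', MJ', hJ', he, hlab⟩ := pair h13 hL ha h h' hrs hd
  have hs := h'.root
  have hr := h.root
  have hus' : u ∈ M.cmp s := hs.mem_cmp hu hus.symm
    (fun x hx => hul x (Finset.disjoint_right.mp hd hx)) (n := 1) (by rw [pow_one, pow_two]; exact huu)
  have huJ : u ∈ normalizer (J' : Set G) := hJ'.memN hL ha hus'
  have hrJ : r ∈ normalizer (J' : Set G) := sN h13 hL ha hJ' hr hrs.symm hd.symm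
  have huI : u ∈ normalizer (MK.cmp s : Set G) := by
    rw [he]; exact MJ'.mem_normalizer_cmp hrJ huJ hur
  have hI := comp_s h13 hL ha h hs hrs hd
  have huK : u ∈ normalizer (K : Set G) := by
    rw [mem_normalizer_iff_cj]
    refine hI.unique (isComp_cj_of_mem h.comp (mem_centralizer_singleton_iff.mpr hur)) h.comp ?_
      (MK.cmp_le s)
    rw [← mem_normalizer_iff_cj.mp huI]
    exact cj_mono (MK.cmp_le s)
  refine ⟨huK, fun y hy => apply_s h13 hL ha h hs hrs hd huK (fun i hi => ?_) hy⟩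
  have hc : ⁅u, i⁆ ∈ MK.cmp s := by
    rw [commutatorElement_def]
    exact mul_mem ((mem_normalizer_iff.mp huI i).mp hi) (inv_mem hi)
  rw [hlab _ hc]
  have hiJ : i ∈ J' := MJ'.cmp_le r (he ▸ hi)
  have hil : MJ'.φ i ∈ alt ((Ω \ T) \ T') := by
    rw [← hlab i hi]; exact mem_alt_s h13 hL ha h hs hrs hd hi
  rw [commutatorElement_def, MJ'.mul _ _ (mul_mem (mul_mem huJ (le_normalizer hiJ)) (inv_mem huJ))
    (inv_mem (le_normalizer hiJ)), MJ'.conj huJ (le_normalizer hiJ), MJ'.inv (le_normalizer hiJ),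
    hJ'.agree u hus', mul_inv_eq_one, mul_inv_eq_iff_eq_mul]
  -- disjoint supports
  refine (comm_of_fix (T := T) (fun x hx => ?_) hul).symm
  exact hil.2 x fun h' => (Finset.mem_sdiff.mp (Finset.mem_sdiff.mp h').1).2 hx

/-- **(6.1)** -/
theorem fixes (h13 : 13 ≤ Ω.card) (hL : IsComp (centralizer ({a} : Set G)) L) (ha : a * a = 1)
    (hall : ∀ (T' : Finset α) (s : G), Root M T' s → ∃ (J : Subgroup G) (MJ : Mod J (Ω \ T')),
      DD M a T' s J MJ)
    {V : Subgroup G} (hV : RF M V T) (hr : r ∈ V) (h : DD M a T r K MK) {u : G} (hu : u ∈ V) :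
    Fixes u K := by
  have hVN : V ≤ normalizer (L : Set G) := hV.le.trans le_normalizer
  have hul : M.φ u ∈ sym T := alt_le_sym _ (hV.mem u hu)
  have key : ∀ y ∈ Ω \ T, u ∈ normalizer (K : Set G) ∧ MK.φ u y = y := by
    intro y hy
    obtain ⟨T', hT', hT4⟩ : ∃ T' ⊆ (Ω \ T).erase y, T'.card = 4 := by
      refine Finset.exists_subset_card_eq ?_
      have h1 := Finset.pred_card_le_card_erase (s := Ω \ T) (a := y)
      have h2 := h.root.card_sdiff
      omega
    have hT'Ω : T' ⊆ Ω := fun x hx =>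
      (Finset.mem_sdiff.mp (Finset.mem_of_mem_erase (hT' hx))).1
    have hd : Disjoint T T' := by
      rw [Finset.disjoint_right]
      exact fun x hx => (Finset.mem_sdiff.mp (Finset.mem_of_mem_erase (hT' hx))).2
    obtain ⟨V', hV', hcm⟩ := exists_RF_fix M hT'Ω hT4 hV.isPGroup hVN fun p hp x hx =>
      (hV.mem p hp).2 x (Finset.disjoint_right.mp hd hx)
    obtain ⟨s, hs, hs1⟩ := hV'.exists_ne
    obtain ⟨J, MJ, hJ⟩ := hall T' s (hV'.root hs hs1)
    obtain ⟨h1, h2⟩ := fix_step h13 hL ha h hJ (hcm s hs r hr).symm hd (hV.le hu) (hV.sq u hu) hul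
      (hV.comm hu hr) (hcm s hs u hu).symm
    refine ⟨h1, h2 y (Finset.mem_sdiff.mpr ⟨hy, fun hyT => ?_⟩)⟩
    exact Finset.notMem_erase y _ (hT' hyT)
  obtain ⟨y₀, hy₀⟩ : (Ω \ T).Nonempty := Finset.card_pos.mp (by rw [h.root.card_sdiff]; omega)
  have huK := (key y₀ hy₀).1
  rw [← MK.fixes_iff huK]
  ext y
  by_cases hy : y ∈ Ω \ T
  · exact (key y hy).2
  · exact MK.mem_sym u huK y hy

end DD

/-! ### roots in good position with respect to `x` -/

variable {x : G}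

/-- **(P')** for roots in good position -/
theorem good_triple (h11 : 11 ≤ Ω.card) (Tr : IsTriple x a L) (hr : Root M T r) (hrx : r * x = x * r)
    (hT : ∀ y ∈ T, M.φ x y ≠ y) {K : Subgroup G} (hK : IsComp (centralizer ({r} : Set G)) K)
    (hne : cj a K ≠ K) (heq : M.cmp r = diag (centralizer ({r} : Set G)) K a) :
    IsTriple x r K := by
  have hL := Tr.comp
  have ha2 := sq_of_order Tr.inva
  have hra : r * a = a * r := comm_of_comp hL hr.mem
  have hrC : r ∈ centralizer ({a} : Set G) := mem_centralizer_singleton_iff.mpr hra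
  have hrx' : r ∈ centralizer ({x} : Set G) := mem_centralizer_singleton_iff.mpr hrx
  have haC : a ∈ centralizer ({r} : Set G) := mem_centralizer_singleton_iff.mpr hra.symm
  obtain ⟨D, hD⟩ : ∃ D, D = core (centralizer ({x} : Set G)) ⊓ centralizer ({a} : Set G) := ⟨_, rfl⟩
  have ho : Odd (Nat.card D) := Odd.of_dvd_nat (odd_card_core (centralizer ({x} : Set G)))
    (by rw [hD]; exact card_dvd_of_le inf_le_left)
  have hDN : D ≤ normalizer (L : Set G) := by
    rw [hD]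
    exact fun e he => Tr.mem_normalizer_of_core he.1 he.2
  have hlab : ∀ d ∈ D, M.φ d ∈ alt (fixIn Ω (M.φ x)) := by
    intro d hd
    refine UAlt.core_cent_le (M.mem_sym x Tr.x_mem) (M.sq Tr.x_mem (sq_of_order Tr.invx)) ?_
    refine M.phi_mem_core Tr.x_mem (sq_of_order Tr.invx) ho hDN ?_ ?_ d hd
    · rw [hD]
      exact fun e he => comm_c ((core_le _) he.1)
    · rw [hD]
      intro k hk hkx e he
      have hka : k ∈ centralizer ({a} : Set G) := hL.le hk
      exact ⟨conj_core (mem_c hkx) he.1, Subgroup.mul_mem _ (Subgroup.mul_mem _ hka he.2)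
        (Subgroup.inv_mem _ hka)⟩
  obtain ⟨d, hd, hda, hf⟩ := Tr.bad
  have hdD : d ∈ D := hD ▸ ⟨hd, hda⟩
  have hd1 : M.φ d ≠ 1 := fun e => hf ((M.fixes_iff (hDN hdD)).mp e)
  -- correct `d` such that it commutes with `r`
  let F : Subgroup G :=
    { carrier := {e | e ∈ D ∧ M.φ e = 1}
      mul_mem' := fun {e f} he hf => ⟨mul_mem he.1 hf.1, by
        rw [M.mul _ _ (hDN he.1) (hDN hf.1), he.2, hf.2, one_mul]⟩
      one_mem' := ⟨one_mem _, M.one⟩
      inv_mem' := fun {e} he => ⟨inv_mem he.1, by rw [M.inv (hDN he.1), he.2, inv_one]⟩ }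
  have hFodd : Odd (Nat.card F) := Odd.of_dvd_nat ho (card_dvd_of_le fun e he => he.1)
  have hDr : ∀ e ∈ D, r * e * r⁻¹ ∈ D := by
    rw [hD]
    intro e he
    exact ⟨conj_core hrx' he.1, Subgroup.mul_mem _ (Subgroup.mul_mem _ hrC he.2)
      (Subgroup.inv_mem _ hrC)⟩
  have hri : r⁻¹ = r := inv_eq_of_mul_eq_one_left hr.sq
  have hFr : r ∈ normalizer (F : Set G) := by
    have key : ∀ e ∈ F, r * e * r⁻¹ ∈ F := fun e he => ⟨hDr e he.1, by
      rw [M.conj hr.memN (hDN he.1), he.2, mul_one, mul_inv_cancel]⟩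
    rw [mem_normalizer_iff]
    refine fun e => ⟨key e, fun h => ?_⟩
    have h1 := key _ h
    have h2 : r * (r * e * r⁻¹) * r⁻¹ = e := by
      calc r * (r * e * r⁻¹) * r⁻¹ = (r * r) * e * (r * r)⁻¹ := by group
        _ = e := by rw [hr.sq]; group
    rwa [h2] at h1
  have hfixT : ∀ y ∈ T, M.φ d y = y := fun y hy => (hlab d hdD).2 y fun h =>
    hT y hy (mem_fixIn.mp h).2
  have hrl : M.φ r ∈ sym T := fun y hy => hr.apply_eq hy
  have hcomm : M.φ d * M.φ r = M.φ r * M.φ d := comm_of_fix hfixT hrl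
  obtain ⟨o, hoF, hco⟩ := Lifting.exists_commute (n := 1) hFodd
    (by rw [pow_one, pow_two]; exact hr.sq) hFr (m := d) (by
      refine ⟨mul_mem (inv_mem hdD) (hDr d hdD), ?_⟩
      rw [M.mul _ _ (inv_mem (hDN hdD)) (hDN (hDr d hdD)), M.conj hr.memN (hDN hdD),
        M.inv (hDN hdD), ← hcomm, mul_inv_cancel_right, inv_mul_cancel])
  obtain ⟨d', hd'⟩ : ∃ d', d' = d * o := ⟨_, rfl⟩
  rw [← hd'] at hco
  have hd'D : d' ∈ D := hd' ▸ mul_mem hdD hoF.1
  have hd'l : M.φ d' = M.φ d := by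
    rw [hd', M.mul _ _ (hDN hdD) (hDN hoF.1), hoF.2, mul_one]
  have hr5 : 5 ≤ (fixIn Ω (M.φ r)).card := by rw [hr.card_fix]; omega
  have hnf : ¬ Fixes d' (M.cmp r) := by
    intro hfx
    apply hd1
    have h1 : ∀ y ∈ Ω \ T, M.φ d' y = y := fun y hy =>
      M.apply_of_comm (hDN hd'D) ((M.cmp_le r).trans le_normalizer) (F := Ω \ T)
        (by rw [hr.card_sdiff]; omega)
        (fun σ hσ => M.cmp_lift hr.memN hr.sq hr5 (by rw [hr.fixIn_eq]; exact hσ))
        (fun e he => (M.core_iff _ (M.cmp_le r (core_le _ (hfx.2 e he)))).mpr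
          (M.core_cmp_le hr.memN hr.sq hr5 (hfx.2 e he))) hy
    rw [hd'l] at h1
    ext y
    by_cases hy : y ∈ Ω \ T
    · exact h1 y hy
    · by_cases hy' : y ∈ T
      · exact hfixT y hy'
      · refine (hlab d hdD).2 y fun h => hy ?_
        exact Finset.mem_sdiff.mpr ⟨(mem_fixIn.mp h).1, hy'⟩
  have hcmp : IsComp (centralizer ({r} : Set G) ⊓ centralizer ({a} : Set G)) (M.cmp r) := by
    rw [inf_comm]
    exact M.isComp_cmp_of hL hr.memN hr.sq hr5
  have hd'2 := hd'D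
  rw [hD] at hd'2
  obtain ⟨N, hN, -, hor⟩ := UGT.PumpGen.pump Tr.invx hr.order ha2 hra hrx hcmp hd'2.1 hd'2.2
    (mem_centralizer_singleton_iff.mpr hco.symm) hnf
  have hN' := hN.comp
  rcases hor with ⟨haN, hle⟩ | ⟨hNa, hd2⟩
  · exfalso
    have hNK : N ≠ K := fun e => hne (by rw [← e]; exact mem_normalizer_iff_cj.mp haN)
    have hNK' : N ≠ cj a K := by
      intro e
      apply hNK
      have h1 : cj a N = N := mem_normalizer_iff_cj.mp haN
      rw [← h1, e, ← IntrinsicBasic.cj_mul, ha2, cj_one]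
    have h1 : ⁅M.cmp r, M.cmp r⁆ ≤ core (centralizer ({r} : Set G)) := by
      rw [commutator_le]
      intro m hm l hl
      refine comm_diag_of_ne hK haC ha2 hne hN' hNK hNK' (by rw [← heq]; exact hm) (hle hl)
    rw [hcmp.perfect] at h1
    exact hcmp.not_odd (odd_card_core _) h1
  · rcases eq_or_of_diag_eq hK haC ha2 hne hN' hNa (by rw [← heq, ← hd2]) with e | e
    · rw [← e]; exact hN
    · have h1 := hN.cj a
      have e1 : a * x * a⁻¹ = x := by rw [Tr.comm, mul_inv_cancel_right]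
      have e2 : a * r * a⁻¹ = r := by rw [← hra, mul_inv_cancel_right]
      rw [e1, e2, e] at h1
      have e3 : IntrinsicBasic.cj a (cj a K) = K := by rw [← IntrinsicBasic.cj_mul, ha2, cj_one]
      rwa [e3] at h1

end

end Cfsg.Agent.UAlt
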