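import Cfsg.Agent.UAlt.Bij
import Cfsg.Agent.UGT.PumpGen

/-!
# Case D: the interface between (6.0)-(6.3) and (6.4), (6.5) of #8411
-/

set_option autoImplicit false

namespace Cfsg.Agent.UAlt.CaseD

open Cfsg Equiv Equiv.Perm Subgroup
open Cfsg.Agent.Intrinsic.Basic Cfsg.Agent.Intrinsic
open Cfsg.Agent.Intrinsic.Cen Cfsg.Agent.Intrinsic.Diag
open Cfsg.Agent.SignalizersComponents Cfsg.Agent.Lib
open Cfsg.Agent.SignalizersComponents.IntrinsicBasic
open Cfsg.Agent.UGT.Triple Cfsg.Agent.UGT.LemG Cfsg.Agent.UGT.PumpGen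
open scoped commutatorElement

variable {G : Type*} [Group G] [Finite G] {α : Type*} [Fintype α] [DecidableEq α]

/-- The output of (6.0)-(6.3): `v ∈ V`, `w ∈ V*`, `K_v`, `K_w` moved by `a`, `k k^a = v`. -/
structure Mid (Ω S T : Finset α) (a x v w k : G) (Kv Kw : Subgroup G) (MV : Mod Kv (Ω \ S))
    (MW : Mod Kw (Ω \ T)) : Prop where
  card : 11 ≤ Ω.card
  subS : S ⊆ Ω
  subT : T ⊆ Ω
  cardS : S.card = 4
  cardT : T.card = 4
  disj : Disjoint S T
  inva : orderOf a = 2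
  invv : orderOf v = 2
  invw : orderOf w = 2
  invk : orderOf k = 2
  ax : a * x = x * a
  av : a * v = v * a
  aw : a * w = w * a
  vw : v * w = w * v
  kx : k * x = x * k
  kw : k * w = w * k
  prod : k * (a * k * a⁻¹) = v
  kv : k * v = v * k
  compV : IsComp (centralizer ({v} : Set G)) Kv
  neV : cj a Kv ≠ Kv
  compW : IsComp (centralizer ({w} : Set G)) Kw
  neW : cj a Kw ≠ Kw
  triple : IsTriple x v Kv
  fixk : Fixes k Kv
  fixk' : Fixes k (cj a Kv)
  kmem : k ∈ Kw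
  klab : ∀ i ∈ Ω \ T, (MW.φ k i = i ↔ i ∉ S)
  wdiag : w ∈ diag (centralizer ({v} : Set G)) Kv a
  link : (∃ E, IsComp (centralizer ({v} : Set G) ⊓ centralizer ({w} : Set G)) E ∧ E ≤ Kv ∧ E ≤ Kw) ∨
    ∃ g ∈ cen (cj a Kw) k, g * v = v * g ∧ g ∈ normalizer (cj a Kv : Set G) ∧ ¬ Fixes g (cj a Kv)

/-- The restriction on the types of the triples that is used: a triple `(x, c, N)` such that `C_N(t)` has a
2-component of type `Alt(R)`, `|Ω| - 4 ≤ |R|`, is alternating of degree at most `|Ω|`. -/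
def Types (Ω : Finset α) (x : G) : Prop :=
  ∀ (c t : G) (N E : Subgroup G) (R : Finset α), IsTriple x c N → t * t = 1 →
    t ∈ normalizer (N : Set G) → IsComp (N ⊓ centralizer ({t} : Set G)) E → Nonempty (Mod E R) →
    Ω.card - 4 ≤ R.card → ∃ S' ⊆ Ω, Nonempty (Mod N S')

end Cfsg.Agent.UAlt.CaseD
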