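import Cfsg.Agent.UAlt.CaseDB
import Cfsg.Agent.UAlt.CaseDMid

/-!
# Case D: (6.2), (6.3)

The involution `v ∈ V` is `k k^a`, `k ∈ K_{V*}`, and `k` is trivial on `K_v` and `K_v^a`.
-/

set_option autoImplicit false
set_option linter.unusedSectionVars false

namespace Cfsg.Agent.UAlt

open Cfsg Equiv Equiv.Perm Subgroup
open Cfsg.Agent.Intrinsic.Basic Cfsg.Agent.Intrinsic
open Cfsg.Agent.Intrinsic.Cen Cfsg.Agent.Intrinsic.Diag
open Cfsg.Agent.SignalizersComponents Cfsg.Agent.Lib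
open Cfsg.Agent.SignalizersComponents.IntrinsicBasic
open Cfsg.Agent.SignalizersComponents.IntrinsicIntr
open Cfsg.Agent.SignalizersComponents.PLayerAut
open Cfsg.Agent.UGT.Triple
open Cfsg.Agent.McLLyComp.Act
open Cfsg.Agent.StdAlt.Roots (IsRoot)
open Cfsg.Agent.StdAlt.PermTypes (cyc)
open Cfsg.Agent.StdAlt (four4)
open scoped commutatorElement

variable {G : Type*} [Group G] {α : Type*} [Fintype α] [DecidableEq α]
variable {L : Subgroup G} {Ω S T : Finset α}

/-! ### permutations -/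

theorem mem_four_of_comm {T : Finset α} (hT : T.card = 4) {g : Perm α} (hg : g ∈ sym T)
    (hc : ∀ v ∈ four T, g * v = v * g) : g ∈ four T := by
  obtain ⟨v, hv, h1⟩ := exists_four_of_comm hT hc (fun x => mem_iff_of_mem_sym hg)
  have : g = v := by
    ext x
    by_cases hx : x ∈ T
    · exact h1 x hx
    · rw [hg x hx, (four_le_alt hT hv).2 x hx]
  rw [this]; exact hv

/-- a 3-cycle on four points: no nontrivial member of `four T` commutes with its square -/
theorem exists_cyc {T : Finset α} (hT : T.card = 4) : ∃ τ ∈ alt T, ∀ κ ∈ four T,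
    κ * (τ * τ) = τ * τ * κ → κ = 1 := by
  obtain ⟨a, b, c, d, hnd, rfl⟩ := exists_nodup hT
  obtain ⟨⟨m1, m2, m3⟩, ⟨m4, m5⟩, m6⟩ := StdAlt.PermTypes.of_nodup_four hnd
  have ha : a ∈ four4 a b c d := StdAlt.mem_four4.mpr (Or.inl rfl)
  have hb : b ∈ four4 a b c d := StdAlt.mem_four4.mpr (Or.inr (Or.inl rfl))
  have hc : c ∈ four4 a b c d := StdAlt.mem_four4.mpr (Or.inr (Or.inr (Or.inl rfl)))
  have hd : d ∈ four4 a b c d := StdAlt.mem_four4.mpr (Or.inr (Or.inr (Or.inr rfl)))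
  refine ⟨cyc a b c, cyc_mem_alt ha hb hc m1 m4, fun κ hκ h => ?_⟩
  have e1 : cyc a b c a = b := StdAlt.PermTypes.cyc_apply_fst m2 m1
  have e2 : cyc a b c b = c := by
    unfold StdAlt.PermTypes.cyc
    simp [Perm.mul_apply, swap_apply_def, m2.symm, m4.symm]
  have e3 : cyc a b c c = a := by
    unfold StdAlt.PermTypes.cyc
    simp [Perm.mul_apply]
  have e4 : cyc a b c d = d := StdAlt.PermTypes.cyc_apply_of_ne m3.symm m5.symm m6.symm
  have h1 := congrArg (fun f : Perm α => f d) h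
  simp only [Perm.mul_apply] at h1
  rw [e4, e4] at h1
  have h2 : κ d ∈ four4 a b c d := mem_of_mem_sym (alt_le_sym _ (four_le_alt hT hκ)) hd
  have h3 : κ d = d := by
    rcases StdAlt.mem_four4.mp h2 with h4 | h4 | h4 | h4
    · rw [h4, e1, e2] at h1; exact absurd h1 m2
    · rw [h4, e2, e3] at h1; exact absurd h1.symm m1
    · rw [h4, e3, e1] at h1; exact absurd h1.symm m4
    · exact h4
  exact eq_one_of_four_fix hT hκ hd h3

/-! ### root four-groups -/

variable [Finite G] {M : Mod L Ω} {V W : Subgroup G}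

theorem RF.four_lift (h : RF M V S) {σ : Perm α} (hσ : σ ∈ four S) : ∃ v ∈ V, M.φ v = σ :=
  h.lift σ (four_le_alt h.card hσ) (four_sq h.card hσ)

theorem RF.exists_ne_ne (h : RF M V S) {w : G} (hw : w ∈ V) : ∃ w' ∈ V, w' ≠ 1 ∧ w' ≠ w := by
  obtain ⟨σ, hσ, h1, h2⟩ := exists_four_ne_ne h.card (M.φ w)
  obtain ⟨w', hw', rfl⟩ := h.four_lift hσ
  refine ⟨w', hw', ?_, ?_⟩
  · rintro rfl; exact h1 M.one
  · rintro rfl; exact h2 rfl

/-- `C(w) ∩ C(w') = C(W)` -/
theorem RF.centralizer_eq (h : RF M W T) {w w' : G} (hw : w ∈ W) (hw' : w' ∈ W) (h1 : w ≠ 1)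
    (h1' : w' ≠ 1) (hne : w' ≠ w) :
    centralizer ({w} : Set G) ⊓ centralizer ({w'} : Set G) = centralizer (W : Set G) := by
  have hww : w * w = 1 := h.sq w hw
  have key : ∀ u ∈ W, u = 1 ∨ u = w ∨ u = w' ∨ u = w * w' := by
    have hsub : ({1, w, w', w * w'} : Set G) ⊆ (W : Set G) := by
      rintro u (rfl | rfl | rfl | rfl)
      · exact one_mem _
      · exact hw
      · exact hw'
      · exact mul_mem hw hw'
    have hc : (W : Set G).ncard = 4 := by
      rw [← h.natCard]; rfl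
    have hc' : ({1, w, w', w * w'} : Set G).ncard = 4 := by
      have e1 : w * w' ≠ 1 := fun e => hne (by
        have := congrArg (fun z => w * z) e
        simpa [← mul_assoc, hww] using this)
      have e2 : w ≠ w * w' := fun e => h1' (left_eq_mul.mp e)
      have e3 : w' ≠ w * w' := fun e => h1 (right_eq_mul.mp e)
      rw [Set.ncard_insert_of_notMem (by simp [h1.symm, h1'.symm, e1.symm]),
        Set.ncard_insert_of_notMem (by simp [hne.symm, e2]),
        Set.ncard_insert_of_notMem (by simp [e3]), Set.ncard_singleton]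
    have heq := Set.eq_of_subset_of_ncard_le hsub (by rw [hc, hc']) (Set.toFinite _)
    intro u hu
    have hu' : u ∈ ({1, w, w', w * w'} : Set G) := by rw [heq]; exact hu
    simpa using hu'
  ext g
  rw [mem_inf, mem_centralizer_singleton_iff, mem_centralizer_singleton_iff, mem_centralizer_iff]
  constructor
  · rintro ⟨e1, e2⟩ u hu
    rcases key u hu with rfl | rfl | rfl | rfl
    · rw [one_mul, mul_one]
    · exact e1.symm
    · exact e2.symm
    · rw [mul_assoc, ← e2, ← mul_assoc, ← e1, mul_assoc]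
  · intro hg
    exact ⟨(hg w hw).symm, (hg w' hw').symm⟩

/-- an element of `K` normalizing the root four-group `W` with a prescribed label normalizing `four T` -/
theorem Mod.exists_normalizing {K : Subgroup G} {F : Finset α} (N : Mod K F) {W : Subgroup G}
    (h : RF N W T) {τ : Perm α} (hτ : τ ∈ alt T) :
    ∃ y ∈ K, N.φ y = τ ∧ IntrinsicBasic.cj y W = W := by
  have hτF : τ ∈ alt F := alt_mono h.sub hτ
  obtain ⟨m, hm, hmτ⟩ := N.lift τ hτF
  have hTi : ∀ x, τ x ∈ T ↔ x ∈ T := fun x => mem_iff_of_mem_sym (alt_le_sym _ hτ)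
  have hTi' : ∀ x, τ⁻¹ x ∈ T ↔ x ∈ T := fun x => mem_iff_of_mem_sym (alt_le_sym _ (inv_mem hτ))
  have hlab : ∀ v ∈ IntrinsicBasic.cj m W, ∃ u ∈ W, v = m * u * m⁻¹ := by
    intro v hv
    exact ⟨m⁻¹ * v * m, mem_cj.mp hv, by group⟩
  have hle : IntrinsicBasic.cj m W ≤ K := by
    intro v hv
    obtain ⟨u, hu, rfl⟩ := hlab v hv
    exact mul_mem (mul_mem hm (h.le hu)) (inv_mem hm)
  have h2' : IsPGroup 2 (IntrinsicBasic.cj m W) := by
    rintro ⟨v, hv⟩
    obtain ⟨u, hu, rfl⟩ := hlab v hv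
    refine ⟨1, Subtype.ext ?_⟩
    show (m * u * m⁻¹) ^ 2 ^ 1 = 1
    rw [conj_pow, pow_one, pow_two, h.sq u hu]; group
  obtain ⟨k, hk, -, hkW⟩ := N.exists_conj_two (V := W) (V' := IntrinsicBasic.cj m W) (P := ⊥)
    h.le hle h.isPGroup h2' (fun p hp v _ => by rw [mem_bot.mp hp, one_mul, mul_one])
    (fun p hp v _ => by rw [mem_bot.mp hp, one_mul, mul_one]) (T := four T)
    (fun σ hσ => h.four_lift hσ) (fun σ hσ => by
      obtain ⟨u, hu, huσ⟩ := h.four_lift (conj_mem_four h.card hTi' hσ)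
      refine ⟨m * u * m⁻¹, conj_mem_cj hu, ?_⟩
      rw [N.conj (le_normalizer hm) (le_normalizer (h.le hu)), huσ, hmτ]
      group) (fun v hv => h.label hv) (fun v hv => by
      obtain ⟨u, hu, rfl⟩ := hlab v hv
      rw [N.conj (le_normalizer hm) (le_normalizer (h.le hu)), hmτ]
      exact conj_mem_four h.card hTi (h.label hu))
  refine ⟨k⁻¹ * m, mul_mem (inv_mem (core_le K hk)) hm, ?_, ?_⟩
  · rw [N.mul _ _ (inv_mem (le_normalizer (core_le K hk))) (le_normalizer hm),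
      N.inv (le_normalizer (core_le K hk)), (N.core_iff k (core_le K hk)).mpr hk, inv_one, one_mul,
      hmτ]
  · rw [IntrinsicBasic.cj_mul, ← hkW, IntrinsicBasic.cj_inv_cj]

/-! ### the context -/

variable {x a : G}

/-- root four-groups `V`, `W` with disjoint supports `S`, `T` in good position with respect to `x` -/
structure Ctx (M : Mod L Ω) (x a : G) (V W : Subgroup G) (S T : Finset α) : Prop where
  h11 : 11 ≤ Ω.card
  tr : IsTriple x a L
  rV : RF M V S
  rW : RF M W T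
  disj : Disjoint S T
  VW : Cm V W
  xV : ∀ v ∈ V, v * x = x * v
  xW : ∀ w ∈ W, w * x = x * w
  xS : ∀ y ∈ S, M.φ x y ≠ y
  xT : ∀ y ∈ T, M.φ x y ≠ y
  all : ∀ (T' : Finset α) (s : G), Root M T' s → ∃ (J : Subgroup G) (MJ : Mod J (Ω \ T')),
    DD M a T' s J MJ

/-- the 2-component `C_L(W)^∞` -/
theorem Ctx.exists_N (c : Ctx M x a V W S T) {w w' : G} (hw : w ∈ W) (hw' : w' ∈ W) (h1 : w ≠ 1)
    (h1' : w' ≠ 1) (hne : w' ≠ w) : ∃ N : Subgroup G,
    IsComp (centralizer (W : Set G) ⊓ centralizer ({a} : Set G)) N ∧ N ≤ M.cmp w ∧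
    (∀ m ∈ N, M.φ m ∈ alt (Ω \ T)) ∧ (∀ σ ∈ alt (Ω \ T), ∃ m ∈ N, M.φ m = σ) ∧
    (∀ m ∈ L, (∀ u ∈ W, m * u = u * m) → M.φ m ∈ alt (Ω \ T) → ∀ n : ℕ, m ^ 2 ^ n = 1 → m ∈ N) := by
  have hr := c.rW.root hw h1
  have h11 := c.h11
  obtain ⟨ME, hME⟩ := hr.exists_mod (by omega)
  have hw'N : w' ∈ normalizer (M.cmp w : Set G) :=
    M.mem_normalizer_cmp hr.memN (c.rW.memN hw') (c.rW.comm hw' hw)
  have hlab : ME.φ w' = 1 := by
    ext y
    by_cases hy : y ∈ Ω \ T
    · rw [M.compat ME (M.cmp_le w) hME (c.rW.memN hw') hw'N hy,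
        (c.rW.mem w' hw').2 y (Finset.mem_sdiff.mp hy).2]; rfl
    · exact ME.mem_sym w' hw'N y hy
  have hfx : fixIn (Ω \ T) (ME.φ w') = Ω \ T := by
    rw [hlab]
    ext y
    rw [mem_fixIn]
    exact ⟨fun h => h.1, fun h => ⟨h, rfl⟩⟩
  have h7 : 7 ≤ (Ω \ T).card := by rw [hr.card_sdiff]; omega
  have hc1 : IsComp (centralizer ({a} : Set G) ⊓ centralizer ({w} : Set G)) (M.cmp w) :=
    M.isComp_cmp_of c.tr.comp hr.memN hr.sq (by rw [hr.card_fix]; omega)
  have hw'2 := c.rW.sq w' hw'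
  have hc2 := ME.isComp_cmp_of hc1 hw'N hw'2 (by rw [hfx]; omega)
  refine ⟨ME.cmp w', ?_, ME.cmp_le w', ?_, ?_, ?_⟩
  · rw [← c.rW.centralizer_eq hw hw' h1 h1' hne]
    have e : (centralizer ({w} : Set G) ⊓ centralizer ({w'} : Set G)) ⊓ centralizer ({a} : Set G) =
        (centralizer ({a} : Set G) ⊓ centralizer ({w} : Set G)) ⊓ centralizer ({w'} : Set G) := by
      rw [inf_comm, inf_assoc]
    rw [e]
    exact hc2
  · intro m hm
    have h2 := ME.cmp_mem_alt hm
    rwa [hfx, hME m (ME.cmp_le w' hm)] at h2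
  · intro σ hσ
    obtain ⟨m, hm, hmσ⟩ := ME.cmp_lift hw'N hw'2 (by rw [hfx]; omega) (by rw [hfx]; exact hσ)
    exact ⟨m, hm, by rw [← hME m (ME.cmp_le w' hm), hmσ]⟩
  · intro m hm hmW hml n hn
    have hm1 : m ∈ M.cmp w := by
      refine M.mem_cmp hm (hmW w hw).symm ?_ hn
      rw [hr.fixIn_eq]; exact hml
    refine ME.mem_cmp hm1 (hmW w' hw').symm ?_ hn
    rw [hfx, hME m hm1]; exact hml

end Cfsg.Agent.UAlt
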