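import Cfsg.Agent.UAlt.CaseDC

/-!
# Case D: `k` is trivial on `K_v`
-/

set_option autoImplicit false
set_option linter.unusedSectionVars false

namespace Cfsg.Agent.UAlt

open Cfsg Equiv Equiv.Perm Subgroup
open Cfsg.Agent.Intrinsic.Basic Cfsg.Agent.Intrinsic
open Cfsg.Agent.Intrinsic.Cen Cfsg.Agent.Intrinsic.Diag
open Cfsg.Agent.SignalizersComponents Cfsg.Agent.Lib
open Cfsg.Agent.SignalizersComponents.IntrinsicBasic
open Cfsg.Agent.SignalizersComponents.IntrinsicIntr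
open Cfsg.Agent.SignalizersComponents.PLayerAut
open Cfsg.Agent.UGT.Triple
open Cfsg.Agent.McLLyComp.Act
open scoped commutatorElement

variable {G : Type*} [Group G] {α : Type*} [Fintype α] [DecidableEq α]
variable {L : Subgroup G} {Ω S T : Finset α}

/-- `K'` is the 2-component of `C(W)` below `K_w`, `N = C_L(W)^∞` is diagonal in `K' K'^a` -/
structure KW (M : Mod L Ω) (a : G) (W : Subgroup G) (T : Finset α) (w : G) (Kw : Subgroup G)
    (Mw : Mod Kw (Ω \ T)) (K' : Subgroup G) (M' : Mod K' (Ω \ T)) (N : Subgroup G) : Prop where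
  le : K' ≤ Kw
  comp : IsComp (centralizer (W : Set G)) K'
  ne : cj a K' ≠ K'
  lab : ∀ i ∈ K', M'.φ i = Mw.φ i
  Ncomp : IsComp (centralizer (W : Set G) ⊓ centralizer ({a} : Set G)) N
  Nle : N ≤ M.cmp w
  Nlab : ∀ m ∈ N, M.φ m ∈ alt (Ω \ T)
  Nlift : ∀ σ ∈ alt (Ω \ T), ∃ m ∈ N, M.φ m = σ
  Nmem : ∀ m ∈ L, (∀ u ∈ W, m * u = u * m) → M.φ m ∈ alt (Ω \ T) → ∀ n : ℕ, m ^ 2 ^ n = 1 → m ∈ N
  Neq : N = diag (centralizer (W : Set G)) K' a
  Nagree : ∀ m ∈ N, M'.φ m = M.φ m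
  norm : ∀ g ∈ normalizer (Kw : Set G), (∀ u ∈ W, g * u = u * g) → g ∈ normalizer (K' : Set G)
  commW : ∀ u ∈ W, ∀ u' ∈ W, u * u' = u' * u

variable [Finite G] {M : Mod L Ω} {V W : Subgroup G} {x a : G}

theorem Ctx.aW (c : Ctx M x a V W S T) : a ∈ centralizer (W : Set G) :=
  mem_centralizer_iff.mpr fun _ hu => comm_of_comp c.tr.comp (c.rW.le hu)

theorem Ctx.vW (c : Ctx M x a V W S T) {v : G} (hv : v ∈ V) : v ∈ centralizer (W : Set G) :=
  mem_centralizer_iff.mpr fun u hu => (c.VW v hv u hu).symm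

theorem Ctx.exists_KW (c : Ctx M x a V W S T) {w w' : G} (hw : w ∈ W) (hw' : w' ∈ W) (h1 : w ≠ 1)
    (h1' : w' ≠ 1) (hne : w' ≠ w) {Kw : Subgroup G} {Mw : Mod Kw (Ω \ T)} (h : DD M a T w Kw Mw)
    (hf : Fixes w' Kw) :
    ∃ (K' : Subgroup G) (M' : Mod K' (Ω \ T)) (N : Subgroup G), KW M a W T w Kw Mw K' M' N := by
  have ha2 := sq_of_order c.tr.inva
  have hL := c.tr.comp
  have h11 := c.h11
  have hXe := c.rW.centralizer_eq hw hw' h1 h1' hne
  obtain ⟨N, hN, hNle, hNlab, hNlift, hNmem⟩ := c.exists_N hw hw' h1 h1' hne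
  have hlw : Mw.φ w' = 1 := (Mw.fixes_iff hf.1).mpr hf
  have hw'2 := c.rW.sq w' hw'
  have hfx : fixIn (Ω \ T) (Mw.φ w') = Ω \ T := by
    rw [hlw]
    ext y
    rw [mem_fixIn]
    exact ⟨fun h => h.1, fun h => ⟨h, rfl⟩⟩
  have h7 : 7 ≤ (Ω \ T).card := by rw [h.root.card_sdiff]; omega
  have hM' := Mw.exists_cmp hf.1 hw'2 (by rw [hfx]; omega)
  rw [hfx] at hM'
  obtain ⟨M', hM'⟩ := hM'
  have hK' : IsComp (centralizer (W : Set G)) (Mw.cmp w') := by
    rw [← hXe]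
    exact Mw.isComp_cmp_of h.comp hf.1 hw'2 (by rw [hfx]; omega)
  have hlift : ∀ σ ∈ alt (Ω \ T), ∃ i ∈ Mw.cmp w', Mw.φ i = σ := fun σ hσ =>
    Mw.cmp_lift hf.1 hw'2 (by rw [hfx]; omega) (by rw [hfx]; exact hσ)
  have haX := c.aW
  have haC := h.aC hL
  have hne' : cj a (Mw.cmp w') ≠ Mw.cmp w' := by
    intro e
    apply h.ne
    have e1 : Mw.cmp w' ≤ cj a Kw := by
      rw [← e]; exact cj_mono (Mw.cmp_le w')
    exact hK'.unique (isComp_cj_of_mem h.comp haC) h.comp e1 (Mw.cmp_le w')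
  have hnorm : ∀ g ∈ normalizer (Kw : Set G), (∀ u ∈ W, g * u = u * g) →
      g ∈ normalizer (Mw.cmp w' : Set G) := fun g hg hgu =>
    Mw.mem_normalizer_cmp hf.1 hg (hgu w' hw')
  have hNW : ∀ m ∈ N, ∀ u ∈ W, m * u = u * m := fun m hm u hu =>
    (mem_centralizer_iff.mp (hN.le hm).1 u hu).symm
  have hNN : ∀ m ∈ N, m ∈ normalizer (Kw : Set G) := fun m hm => h.memN hL ha2 (hNle hm)
  have hcore : ∀ i ∈ core (Mw.cmp w'), Mw.φ i = 1 := fun i hi =>
    (Mw.core_iff i (Mw.cmp_le w' (core_le _ hi))).mpr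
      (Mw.core_cmp_le hf.1 hw'2 (by rw [hfx]; omega) hi)
  refine ⟨Mw.cmp w', M', N, Mw.cmp_le w', hK', hne', hM', hN, hNle, hNlab, hNlift, hNmem, ?_, ?_,
    hnorm, fun u hu u' hu' => c.rW.comm hu hu'⟩
  · refine ((pump_of_not_le haX ha2 hN hK' fun hle => ?_).resolve_left
      fun h1 => hne' (mem_normalizer_iff_cj.mp h1.1)).2
    obtain ⟨σ, hσ, -, hσ1⟩ := exists_inv_alt (S := Ω \ T) (by omega)
    obtain ⟨m, hm, rfl⟩ := hNlift σ hσ
    apply hσ1
    have hfm : Fixes m (Mw.cmp w') := (hK'.fixes_iff (hN.le hm).1).mpr (hle hm)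
    have e1 : ∀ y ∈ Ω \ T, Mw.φ m y = y := fun y hy =>
      Mw.apply_of_comm (hNN m hm) ((Mw.cmp_le w').trans le_normalizer) (F := Ω \ T) (by omega)
        hlift (fun i hi => hcore _ (hfm.2 i hi)) hy
    rw [h.agree m (hNle hm)] at e1
    ext y
    by_cases hy : y ∈ Ω \ T
    · exact e1 y hy
    · exact (hNlab m hm).2 y hy
  · intro m hm
    have hmN' := hnorm m (hNN m hm) (hNW m hm)
    ext y
    by_cases hy : y ∈ Ω \ T
    · rw [Mw.compat M' (Mw.cmp_le w') hM' (hNN m hm) hmN' hy, h.agree m (hNle hm)]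
    · rw [M'.mem_sym m hmN' y hy, (hNlab m hm).2 y hy]

/-- **(6.2)** the splitting `v = k k^a` -/
theorem Ctx.exists_k (c : Ctx M x a V W S T) {w v : G} (hw : w ∈ W) (h1 : w ≠ 1)
    {Kw : Subgroup G} {Mw : Mod Kw (Ω \ T)} (h : DD M a T w Kw Mw) {K' : Subgroup G}
    {M' : Mod K' (Ω \ T)} {N : Subgroup G} (hK : KW M a W T w Kw Mw K' M' N) (hv : v ∈ V)
    (hv1 : v ≠ 1) : ∃ k ∈ K', k * k = 1 ∧ M'.φ k = M.φ v ∧ k * (a * k * a⁻¹) = v ∧
      k * x = x * k := by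
  have ha2 := sq_of_order c.tr.inva
  have hx2 := sq_of_order c.tr.invx
  have hL := c.tr.comp
  have h11 := c.h11
  have hvr := c.rV.root hv hv1
  have hvW := c.VW v hv
  have hvl : M.φ v ∈ alt (Ω \ T) := by
    have e1 := c.rV.mem v hv
    refine alt_mono (fun y hy => ?_) e1
    exact Finset.mem_sdiff.mpr ⟨c.rV.sub hy, Finset.disjoint_left.mp c.disj hy⟩
  have hvN : v ∈ N := hK.Nmem v (c.rV.le hv) hvW hvl 1 (by rw [pow_one, pow_two]; exact hvr.sq)
  have haX := c.aW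
  -- `x` normalizes `K'`
  have hwr := c.rW.root hw h1
  have htr : IsTriple x w Kw := good_triple h11 c.tr hwr (c.xW w hw) c.xT h.comp h.ne h.eq
  have hxK : x ∈ normalizer (K' : Set G) := hK.norm x htr.x_mem fun u hu => (c.xW u hu).symm
  have hvNN : v ∈ normalizer (K' : Set G) := by
    have := hvN
    rw [hK.Neq] at this
    obtain ⟨-, -, -, -, h2⟩ := diag_act hK.comp haX ha2 hK.ne this
    exact h2
  have hvφ : M'.φ v = M.φ v := hK.Nagree v hvN
  have hcx : M'.φ x * M.φ v = M.φ v * M'.φ x := by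
    rw [← hvφ]
    exact M'.comm hxK hvNN (c.xV v hv).symm
  obtain ⟨k₀, hk₀, hk₀2, hxk₀, hk₀φ⟩ := M'.exists_inv_lift hxK (n := 1)
    (by rw [pow_one, pow_two]; exact hx2) hvl (M.sq hvr.memN hvr.sq) hcx
  -- `v ≡ k₀ k₀^a`
  have hvd := hvN
  rw [hK.Neq] at hvd
  obtain ⟨k₁, hk₁, hk₁v, hk₁f, -⟩ := diag_act hK.comp haX ha2 hK.ne hvd
  have hk₁φ : M'.φ k₁ = M.φ v := by
    have e1 := (M'.fixes_iff hk₁f.1).mpr hk₁f
    rw [M'.mul _ _ (inv_mem (le_normalizer hk₁)) hvNN, M'.inv (le_normalizer hk₁),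
      inv_mul_eq_one, hvφ] at e1
    exact e1
  have hk01 : k₁⁻¹ * k₀ ∈ core (centralizer (W : Set G)) :=
    hK.comp.core_le_core ((M'.eq_iff hk₁ hk₀).mp (by rw [hk₁φ, hk₀φ]))
  obtain ⟨X, hX⟩ : ∃ X, X = centralizer (W : Set G) := ⟨_, rfl⟩
  have hKX : IsComp X K' := hX ▸ hK.comp
  rw [← hX] at hk01 hk₁v haX
  have hcX : ∀ {g o : G}, g ∈ X → o ∈ core X → g * o * g⁻¹ ∈ core X := fun hg ho =>
    conj_mem_core (le_normalizer hg) ho
  have hk₁a : a * k₁ * a⁻¹ ∈ X := X.mul_mem (X.mul_mem haX (hKX.le hk₁)) (X.inv_mem haX)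
  have h2 : v⁻¹ * (k₀ * (a * k₀ * a⁻¹)) ∈ core X := by
    have e1 : v⁻¹ * (k₀ * (a * k₀ * a⁻¹)) = (v⁻¹ * (k₁ * (a * k₁ * a⁻¹))) *
        ((a * k₁ * a⁻¹)⁻¹ * (k₁⁻¹ * k₀) * (a * k₁ * a⁻¹)⁻¹⁻¹) * (a * (k₁⁻¹ * k₀) * a⁻¹) := by
      group
    rw [e1]
    exact mul_mem (mul_mem hk₁v (hcX (X.inv_mem hk₁a) hk01)) (hcX haX hk01)
  have hax : a * x = x * a := c.tr.comm
  have haxi : a⁻¹ * x = x * a⁻¹ := by
    rw [inv_mul_eq_iff_eq_mul, ← mul_assoc, hax, mul_inv_cancel_right]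
  have hCx : ∀ {y : G}, y ∈ centralizer ({x} : Set G) ↔ y * x = x * y :=
    mem_centralizer_singleton_iff
  have haCx : a ∈ centralizer ({x} : Set G) := hCx.mpr hax
  have hk₀Cx : k₀ ∈ centralizer ({x} : Set G) := hCx.mpr hxk₀.symm
  have hvCx : v ∈ centralizer ({x} : Set G) := hCx.mpr (c.xV v hv)
  have hk₀X : k₀ ∈ X := hKX.le hk₀
  have hk₀a : a * k₀ * a⁻¹ ∈ centralizer ({x} : Set G) :=
    Subgroup.mul_mem _ (Subgroup.mul_mem _ haCx hk₀Cx) (Subgroup.inv_mem _ haCx)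
  obtain ⟨W₀, hW₀⟩ : ∃ W₀, W₀ = core X ⊓ centralizer ({x} : Set G) := ⟨_, rfl⟩
  have hodd : Odd (Nat.card W₀) :=
    Odd.of_dvd_nat (odd_card_core X) (by rw [hW₀]; exact card_dvd_of_le inf_le_left)
  have hn : ∀ g ∈ X, g ∈ centralizer ({x} : Set G) → g ∈ normalizer (W₀ : Set G) := by
    intro g hg hgx
    have e1 : g ∈ normalizer (core X : Set G) := le_normalizer_core X hg
    have e2 : g ∈ normalizer (centralizer ({x} : Set G) : Set G) := le_normalizer hgx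
    rw [mem_normalizer_iff_cj] at e1 e2 ⊢
    rw [hW₀, cj_inf, e1, e2]
  obtain ⟨k, hk2, hkk, hkv⟩ := exists_split hodd ha2 hvr.sq
    (comm_of_comp hL hvr.mem).symm (hn a haX haCx) (hn k₀ hk₀X hk₀Cx) hk₀2 (by
      rw [hW₀]
      refine ⟨?_, ?_⟩
      · have e1 : ⁅a * k₀ * a⁻¹, k₀⁆ ∈ core (cj a K') ⊓ core K' :=
          (isComp_cj_of_mem hKX haX).comm_le_core hKX hK.ne
            (commutator_mem_commutator (conj_mem_cj hk₀) hk₀)
        exact hKX.core_le_core e1.2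
      · rw [commutatorElement_def]
        exact Subgroup.mul_mem _ (Subgroup.mul_mem _ (Subgroup.mul_mem _ hk₀a hk₀Cx)
          (Subgroup.inv_mem _ hk₀a)) (Subgroup.inv_mem _ hk₀Cx)) (by
      rw [hW₀]
      exact ⟨h2, Subgroup.mul_mem _ (Subgroup.inv_mem _ hvCx) (Subgroup.mul_mem _ hk₀Cx hk₀a)⟩)
  rw [hW₀] at hkk
  have hkK : k ∈ K' := hKX.mem_of_two (n := 1) hk₀ hkk.1 (by rw [pow_one, pow_two]; exact hk2)
  refine ⟨k, hkK, hk2, ?_, hkv, ?_⟩
  · rw [← hk₀φ]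
    symm
    rw [M'.eq_iff hk₀ hkK, hKX.core_eq]
    exact ⟨K'.mul_mem (K'.inv_mem hk₀) hkK, hkk.1⟩
  · have e1 : k = k₀ * (k₀⁻¹ * k) := by group
    rw [e1]
    exact hCx.mp (Subgroup.mul_mem _ hk₀Cx hkk.2)

/-- the elements `y ∈ C_L(v)^∞`, `z ∈ O(C(W)) ∩ C(v)` with `[z y, k] = 1` -/
theorem Ctx.exists_zy (c : Ctx M x a V W S T) {w v : G} (hw : w ∈ W) (h1 : w ≠ 1)
    {Kw : Subgroup G} {Mw : Mod Kw (Ω \ T)} {K' : Subgroup G}
    {M' : Mod K' (Ω \ T)} {N : Subgroup G} (hK : KW M a W T w Kw Mw K' M' N) (hv : v ∈ V)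
    (hv1 : v ≠ 1) {k : G} (hk : k ∈ K') (hk2 : k * k = 1) (hkv : k * v = v * k) :
    ∃ τ ∈ alt T, (∀ κ ∈ four T, κ * (τ * τ) = τ * τ * κ → κ = 1) ∧ ∃ y ∈ M.cmp v, M.φ y = τ * τ ∧
      ∃ z ∈ core (centralizer (W : Set G)), z * v = v * z ∧ z * y * k = k * (z * y) := by
  have ha2 := sq_of_order c.tr.inva
  have hL := c.tr.comp
  have h11 := c.h11
  have hvr := c.rV.root hv hv1
  have hwr := c.rW.root hw h1
  have hd := c.disj
  have hWcmp : ∀ u ∈ W, u ∈ M.cmp v := fun u hu => c.rV.le_cmp' c.rW hd c.VW hv hv1 hu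
  obtain ⟨τ, hτ, hτκ⟩ := exists_cyc c.rW.card
  obtain ⟨ME, hME⟩ := hvr.exists_mod (by omega)
  have hWE : RF ME W T :=
    { le := fun u hu => hWcmp u hu
      sub := fun y hy => Finset.mem_sdiff.mpr ⟨c.rW.sub hy, Finset.disjoint_right.mp hd hy⟩
      card := c.rW.card
      sq := c.rW.sq
      mem := fun u hu => by rw [hME u (hWcmp u hu)]; exact c.rW.mem u hu
      lift := fun σ hσ hσσ => by
        obtain ⟨u, hu, rfl⟩ := c.rW.lift σ hσ hσσ
        exact ⟨u, hu, hME u (hWcmp u hu)⟩ }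
  obtain ⟨y₀, hy₀, hy₀φ, hy₀W⟩ := ME.exists_normalizing hWE hτ
  rw [hME y₀ hy₀] at hy₀φ
  obtain ⟨X, hX⟩ : ∃ X, X = centralizer (W : Set G) := ⟨_, rfl⟩
  have hKX : IsComp X K' := hX ▸ hK.comp
  have haX : a ∈ X := hX ▸ c.aW
  have hcjW : ∀ {g : G}, cj g W = W → cj g X = X := by
    intro g hg
    rw [hX]
    have key : ∀ {g : G}, cj g W = W → ∀ z ∈ centralizer (W : Set G),
        g * z * g⁻¹ ∈ centralizer (W : Set G) := by
      intro g hg z hz
      rw [mem_centralizer_iff] at hz ⊢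
      intro u hu
      rw [← hg] at hu
      have hu' : g⁻¹ * u * g ∈ W := mem_cj.mp hu
      have e1 := hz _ hu'
      calc u * (g * z * g⁻¹) = g * (g⁻¹ * u * g * z) * g⁻¹ := by group
        _ = g * (z * (g⁻¹ * u * g)) * g⁻¹ := by rw [e1]
        _ = _ := by group
    have hg' : cj g⁻¹ W = W := by
      conv_lhs => rw [← hg]
      rw [cj_inv_cj]
    ext z
    rw [mem_cj]
    constructor
    · intro hz
      have := key hg _ hz
      convert this using 1; group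
    · intro hz
      have := key hg' _ hz
      rwa [inv_inv] at this
  have hXv : v ∈ X := hX ▸ c.vW hv
  have hy₀L : y₀ ∈ L := M.cmp_le v hy₀
  have hy₀a := comm_of_comp hL hy₀L
  have hy₀X := hcjW hy₀W
  -- `y₀` normalizes `N`
  have hNy : cj y₀ N = N := by
    have key : ∀ g ∈ L, cj g W = W → M.φ g ∈ alt T → ∀ m ∈ N, g * m * g⁻¹ ∈ N := by
      intro g hg hgW hgφ m hm
      rw [← hK.Ncomp.pElem_eq] at hm
      refine closure_induction (p := fun m _ => g * m * g⁻¹ ∈ N) ?_ ?_ ?_ ?_ hm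
      · rintro m ⟨hmN, n, hn⟩
        have hmL : m ∈ L := M.cmp_le w (hK.Nle hmN)
        refine hK.Nmem _ (mul_mem (mul_mem hg hmL) (inv_mem hg)) (fun u hu => ?_) ?_ n ?_
        · have hu' : g⁻¹ * u * g ∈ W := by
            rw [← hgW] at hu; exact mem_cj.mp hu
          have e1 := mem_centralizer_iff.mp (hK.Ncomp.le hmN).1 _ hu'
          calc g * m * g⁻¹ * u = g * (m * (g⁻¹ * u * g)) * g⁻¹ := by group
            _ = g * (g⁻¹ * u * g * m) * g⁻¹ := by rw [e1]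
            _ = _ := by group
        · have e2 : M.φ g * M.φ m = M.φ m * M.φ g :=
            (comm_of_fix (T := T) (fun y hy => (hK.Nlab m hmN).2 y fun h' =>
              (Finset.mem_sdiff.mp h').2 hy) (alt_le_sym _ hgφ)).symm
          rw [M.conj (le_normalizer hg) (le_normalizer hmL), e2, mul_inv_cancel_right]
          exact hK.Nlab m hmN
        · rw [conj_pow, hn, mul_one, mul_inv_cancel]
      · rw [mul_one, mul_inv_cancel]; exact one_mem _
      · intro b b' _ _ hb hb'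
        have : g * (b * b') * g⁻¹ = (g * b * g⁻¹) * (g * b' * g⁻¹) := by group
        rw [this]; exact mul_mem hb hb'
      · intro b _ hb
        have : g * b⁻¹ * g⁻¹ = (g * b * g⁻¹)⁻¹ := by group
        rw [this]; exact inv_mem hb
    have hg' : cj y₀⁻¹ W = W := by
      conv_lhs => rw [← hy₀W]
      rw [cj_inv_cj]
    ext z
    rw [mem_cj]
    constructor
    · intro hz
      have := key y₀ hy₀L hy₀W (by rw [hy₀φ]; exact hτ) _ hz
      convert this using 1; group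
    · intro hz
      have := key y₀⁻¹ (inv_mem hy₀L) hg' (by
        rw [M.inv (le_normalizer hy₀L), hy₀φ]; exact inv_mem hτ) _ hz
      rwa [inv_inv] at this
  -- `y = y₀²` normalizes `K'`
  have hcomm : ∀ J : Subgroup G, cj a (cj y₀ J) = cj y₀ (cj a J) := by
    intro J
    rw [← IntrinsicBasic.cj_mul, ← IntrinsicBasic.cj_mul, hy₀a]
  have hyK : cj (y₀ * y₀) K' = K' := by
    have e1 : IsComp X (cj y₀ K') := by
      have := hKX.cj y₀
      rwa [hy₀X] at this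
    have e2 : cj a (cj y₀ K') ≠ cj y₀ K' := by
      rw [hcomm]
      exact fun e => hK.ne (cj_injective _ e)
    have e3 : diag X (cj y₀ K') a = diag X K' a := by
      have e4 := hK.Neq
      rw [← hX] at e4
      rw [← e4]
      conv_rhs => rw [← hNy, e4]
      rw [cj_diag, hy₀X, hy₀a, mul_inv_cancel_right]
    rw [IntrinsicBasic.cj_mul]
    rcases eq_or_of_diag_eq hKX haX ha2 hK.ne e1 e2 e3 with e | e
    · rw [e, e]
    · rw [e, ← hcomm, e, ← IntrinsicBasic.cj_mul, ha2, cj_one]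
  obtain ⟨y, hy⟩ : ∃ y, y = y₀ * y₀ := ⟨_, rfl⟩
  rw [← hy] at hyK
  have hyL : y ∈ L := hy ▸ mul_mem hy₀L hy₀L
  have hyv : y ∈ M.cmp v := hy ▸ mul_mem hy₀ hy₀
  have hyφ : M.φ y = τ * τ := by
    rw [hy, M.mul _ _ (le_normalizer hy₀L) (le_normalizer hy₀L), hy₀φ]
  have hyN : y ∈ normalizer (K' : Set G) := mem_normalizer_iff_cj.mpr hyK
  have hyNN : y ∈ normalizer (N : Set G) := by
    rw [mem_normalizer_iff_cj, hy, IntrinsicBasic.cj_mul, hNy, hNy]
  have hyX : y ∈ normalizer (X : Set G) := by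
    rw [mem_normalizer_iff_cj, hy, IntrinsicBasic.cj_mul, hy₀X, hy₀X]
  have hyT : M.φ y ∈ alt T := by rw [hyφ]; exact mul_mem hτ hτ
  have hNN' : ∀ m ∈ N, m ∈ normalizer (K' : Set G) := by
    intro m hm
    have := hm
    rw [hK.Neq] at this
    obtain ⟨-, -, -, -, h2⟩ := diag_act hK.comp c.aW ha2 hK.ne this
    exact h2
  -- `y` is trivial on `K'`
  have hyφ' : M'.φ y = 1 := by
    ext z
    by_cases hz : z ∈ Ω \ T
    · refine M'.apply_of_comm hyN (E := N) hNN' (F := Ω \ T) (by rw [hwr.card_sdiff]; omega)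
        (fun σ hσ => ?_) (fun m hm => ?_) hz
      · obtain ⟨m, hm, rfl⟩ := hK.Nlift σ hσ
        exact ⟨m, hm, hK.Nagree m hm⟩
      · have hc : ⁅y, m⁆ ∈ N := by
          rw [commutatorElement_def]
          exact mul_mem ((mem_normalizer_iff.mp hyNN m).mp hm) (inv_mem hm)
        have hmL : m ∈ L := M.cmp_le w (hK.Nle hm)
        rw [hK.Nagree _ hc, commutatorElement_def, M.mul _ _ (mul_mem (mul_mem (le_normalizer hyL)
          (le_normalizer hmL)) (inv_mem (le_normalizer hyL))) (inv_mem (le_normalizer hmL)),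
          M.conj (le_normalizer hyL) (le_normalizer hmL), M.inv (le_normalizer hmL),
          mul_inv_eq_one, mul_inv_eq_iff_eq_mul]
        exact (comm_of_fix (T := T) (fun y hy => (hK.Nlab m hm).2 y fun h' =>
              (Finset.mem_sdiff.mp h').2 hy) (alt_le_sym _ hyT)).symm
    · exact M'.mem_sym y hyN z hz
  have hyv' : y * v = v * y := (M.cmp_comm hyv).symm
  -- `z y` commutes with `k`
  have hykK : y * k * y⁻¹ ∈ K' := (mem_normalizer_iff.mp hyN k).mp hk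
  have hcoreK : (y * k * y⁻¹)⁻¹ * k ∈ core X := by
    refine hKX.core_le_core ((M'.eq_iff hykK hk).mp ?_)
    rw [M'.conj hyN (le_normalizer hk), hyφ', one_mul, inv_one, mul_one]
  have hykv : y * k * y⁻¹ * v = v * (y * k * y⁻¹) := by
    have e1 : y⁻¹ * v = v * y⁻¹ := by
      rw [inv_mul_eq_iff_eq_mul, ← mul_assoc, hyv', mul_inv_cancel_right]
    calc y * k * y⁻¹ * v = y * k * (y⁻¹ * v) := by group
      _ = y * (k * v) * y⁻¹ := by rw [e1]; group
      _ = (y * v) * k * y⁻¹ := by rw [hkv]; group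
      _ = v * (y * k * y⁻¹) := by rw [hyv']; group
  obtain ⟨z, hz, hzv, hzk⟩ := Lifting.exists_conj_commute (n := 1) (m := 1) (odd_card_core X)
    (by rw [conj_pow, pow_one, pow_two, hk2]; group) (by rw [pow_one, pow_two]; exact hk2)
    (le_normalizer_core X (hKX.le hykK)) hykv hkv hcoreK
  refine ⟨τ, hτ, hτκ, y, hyv, hyφ, z, hX ▸ hz, hzv, ?_⟩
  calc z * y * k = (z * (y * k * y⁻¹) * z⁻¹) * (z * y) := by group
    _ = k * (z * y) := by rw [hzk]

/-- **(6.3)** `k` is trivial on `K_v` -/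
theorem Ctx.fixes_k (h13 : 13 ≤ Ω.card) (c : Ctx M x a V W S T) {w v : G} (hw : w ∈ W) (h1 : w ≠ 1)
    {Kw : Subgroup G} {Mw : Mod Kw (Ω \ T)} (h : DD M a T w Kw Mw) {K' : Subgroup G}
    {M' : Mod K' (Ω \ T)} {N : Subgroup G} (hK : KW M a W T w Kw Mw K' M' N) (hv : v ∈ V)
    (hv1 : v ≠ 1) {Kv : Subgroup G} {Mv : Mod Kv (Ω \ S)} (h' : DD M a S v Kv Mv)
    (hI : Mw.cmp v = Mv.cmp w) (hlab : ∀ i ∈ Mw.cmp v, Mw.φ i = Mv.φ i) {k : G} (hk : k ∈ K')
    (hk2 : k * k = 1) (hkφ : M'.φ k = M.φ v) (hkv : k * v = v * k) : Fixes k Kv := by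
  have ha2 := sq_of_order c.tr.inva
  have hL := c.tr.comp
  have hvr := c.rV.root hv hv1
  have hwr := c.rW.root hw h1
  have hvw : v * w = w * v := c.VW v hv w hw
  have hd := c.disj
  have h5 := card_sdiff_sdiff h13 hvr.sub hvr.card hwr.sub hwr.card hd
  have hST : (Ω \ T) \ S = (Ω \ S) \ T := by
    ext y; simp only [Finset.mem_sdiff]; tauto
  have hvN : v ∈ normalizer (Kw : Set G) := DD.sN h13 hL ha2 h hvr hvw.symm hd.symm
  have hIv := DD.comp_s h13 hL ha2 h' hwr hvw hd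
  have hCv : ∀ {y : G}, y ∈ centralizer ({v} : Set G) ↔ y * v = v * y :=
    mem_centralizer_singleton_iff
  -- membership in `four T`
  have hWcmp : ∀ u ∈ W, u ∈ M.cmp v := fun u hu => c.rV.le_cmp' c.rW hd c.VW hv hv1 hu
  have hfour : ∀ g ∈ normalizer (Kv : Set G), (∀ u ∈ W, g * u = u * g) →
      (∀ y ∈ (Ω \ S) \ T, Mv.φ g y = y) → Mv.φ g ∈ four T := by
    intro g hg hgW hgy
    refine mem_four_of_comm c.rW.card (fun y hy => ?_) fun σ hσ => ?_
    · by_cases hyS : y ∈ Ω \ S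
      · exact hgy y (Finset.mem_sdiff.mpr ⟨hyS, hy⟩)
      · exact Mv.mem_sym g hg y hyS
    · obtain ⟨u, hu, rfl⟩ := c.rW.four_lift hσ
      rw [← h'.agree u (hWcmp u hu)]
      exact Mv.comm hg (h'.memN hL ha2 (hWcmp u hu)) (hgW u hu)
  have hkW : ∀ u ∈ W, k * u = u * k := fun u hu =>
    (mem_centralizer_iff.mp (hK.comp.le hk) u hu).symm
  have hkKw : k ∈ Kw := hK.le hk
  have hkwφ : Mw.φ k = M.φ v := by rw [← hK.lab k hk, hkφ]
  -- `k` normalizes `K_v`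
  have hkI : k ∈ normalizer (Mw.cmp v : Set G) :=
    Mw.mem_normalizer_cmp hvN (le_normalizer hkKw) hkv
  have hIle : Mw.cmp v ≤ Kv := by rw [hI]; exact Mv.cmp_le w
  have hnorm : ∀ {g : G} {J : Subgroup G}, g * v = v * g → g ∈ normalizer (J : Set G) → J ≤ Kv →
      ∀ {Y : Subgroup G}, IsComp Y J → g ∈ normalizer (Kv : Set G) := by
    intro g J hgv hgJ hJ Y hY
    rw [mem_normalizer_iff_cj]
    refine hY.unique (isComp_cj_of_mem h'.comp (hCv.mpr hgv)) h'.comp ?_ hJ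
    rw [← mem_normalizer_iff_cj.mp hgJ]
    exact cj_mono hJ
  have hkKv : k ∈ normalizer (Kv : Set G) := hnorm hkv (by rw [← hI]; exact hkI) (Mv.cmp_le w) hIv
  -- `k` acts inside `T`
  have hkT : ∀ y ∈ (Ω \ S) \ T, Mv.φ k y = y := by
    intro y hy
    refine DD.apply_s h13 hL ha2 h' hwr hvw hd hkKv (fun i hi => ?_) hy
    rw [← hI] at hi
    have hiK : i ∈ Kw := Mw.cmp_le v hi
    have hci : ⁅k, i⁆ ∈ Mw.cmp v := by
      rw [commutatorElement_def]
      exact mul_mem ((mem_normalizer_iff.mp hkI i).mp hi) (inv_mem hi)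
    rw [← hlab _ hci]
    have hil : Mw.φ i ∈ alt ((Ω \ T) \ S) := DD.mem_alt_s h13 hL ha2 h hvr hvw.symm hd.symm hi
    rw [commutatorElement_def, Mw.mul _ _ (mul_mem (mul_mem (le_normalizer hkKw) (le_normalizer hiK))
      (inv_mem (le_normalizer hkKw))) (inv_mem (le_normalizer hiK)),
      Mw.conj (le_normalizer hkKw) (le_normalizer hiK), Mw.inv (le_normalizer hiK), hkwφ,
      mul_inv_eq_one, mul_inv_eq_iff_eq_mul]
    refine (comm_of_fix (T := S) (fun y hy => ?_) (fun y hy => hvr.apply_eq hy)).symm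
    exact hil.2 y fun h' => (Finset.mem_sdiff.mp h').2 hy
  have hκ := hfour k hkKv hkW hkT
  obtain ⟨τ, hτ, hτκ, y, hyv, hyφ, z, hz, hzv, e1⟩ := c.exists_zy hw h1 hK hv hv1 hk hk2 hkv
  obtain ⟨X, hX⟩ : ∃ X, X = centralizer (W : Set G) := ⟨_, rfl⟩
  have hKX : IsComp X K' := hX ▸ hK.comp
  rw [← hX] at hz
  have hNN' : ∀ m ∈ N, m ∈ normalizer (K' : Set G) := by
    intro m hm
    have := hm
    rw [hK.Neq] at this
    obtain ⟨-, -, -, -, h2⟩ := diag_act hK.comp c.aW ha2 hK.ne this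
    exact h2
  -- `z` is trivial on `K_v`
  have hzX : z ∈ X := core_le X hz
  have hzf : Fixes z K' := hKX.fixes_of_core hz
  have hvK' : v ∈ normalizer (K' : Set G) := by
    refine hNN' v (hK.Nmem v (c.rV.le hv) (c.VW v hv) ?_ 1 (by rw [pow_one, pow_two]; exact hvr.sq))
    refine alt_mono (fun y hy => ?_) (c.rV.mem v hv)
    exact Finset.mem_sdiff.mpr ⟨c.rV.sub hy, Finset.disjoint_left.mp c.disj hy⟩
  have hv'φ : M'.φ v = M.φ v := hK.Nagree v
    (hK.Nmem v (c.rV.le hv) (c.VW v hv) (by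
      refine alt_mono (fun y hy => ?_) (c.rV.mem v hv)
      exact Finset.mem_sdiff.mpr ⟨c.rV.sub hy, Finset.disjoint_left.mp c.disj hy⟩) 1
        (by rw [pow_one, pow_two]; exact hvr.sq))
  have hfx' : fixIn (Ω \ T) (M'.φ v) = (Ω \ T) \ S := by rw [hv'φ]; exact fixIn_sdiff hvr
  have h5' : 5 ≤ (fixIn (Ω \ T) (M'.φ v)).card := by rw [hfx', hST]; exact h5
  have hJ := M'.isComp_cmp_of hKX hvK' hvr.sq h5'
  have hzJ : z ∈ normalizer (M'.cmp v : Set G) := M'.mem_normalizer_cmp hvK' hzf.1 hzv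
  have hJle : M'.cmp v ≤ Mw.cmp v := by
    rw [← hJ.pElem_eq]
    refine (Subgroup.closure_le _).mpr ?_
    rintro j ⟨hj, n, hn⟩
    have hjK := M'.cmp_le v hj
    refine Mw.mem_cmp (hK.le hjK) (M'.cmp_comm hj) ?_ hn
    rw [DD.fixIn_s h13 hL ha2 h hvr hvw.symm hd.symm, ← hfx', ← hK.lab j hjK]
    exact M'.cmp_mem_alt hj
  have hzKv : z ∈ normalizer (Kv : Set G) := hnorm hzv hzJ (hJle.trans hIle) hJ
  have hzW : ∀ u ∈ W, z * u = u * z := fun u hu => by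
    rw [hX] at hzX
    exact (mem_centralizer_iff.mp hzX u hu).symm
  have hzy : ∀ y ∈ (Ω \ S) \ T, Mv.φ z y = y := by
    intro y' hy'
    refine Mv.apply_of_comm hzKv (E := M'.cmp v) ((hJle.trans hIle).trans le_normalizer)
      (F := (Ω \ S) \ T) (by omega) (fun σ hσ => ?_) (fun j hj => ?_) hy'
    · obtain ⟨j, hj, rfl⟩ := M'.cmp_lift hvK' hvr.sq h5' (by rw [hfx', hST]; exact hσ)
      exact ⟨j, hj, by rw [← hlab j (hJle hj), ← hK.lab j (M'.cmp_le v hj)]⟩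
    · have hc : ⁅z, j⁆ ∈ M'.cmp v := by
        rw [commutatorElement_def]
        exact mul_mem ((mem_normalizer_iff.mp hzJ j).mp hj) (inv_mem hj)
      have hjN : j ∈ normalizer (K' : Set G) := le_normalizer (M'.cmp_le v hj)
      rw [← hlab _ (hJle hc), ← hK.lab _ (M'.cmp_le v hc), commutatorElement_def,
        M'.mul _ _ (mul_mem (mul_mem hzf.1 hjN) (inv_mem hzf.1)) (inv_mem hjN), M'.conj hzf.1 hjN,
        M'.inv hjN, (M'.fixes_iff hzf.1).mpr hzf]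
      group
  have hζ := hfour z hzKv hzW hzy
  have hζ1 : Mv.φ z = 1 := by
    obtain ⟨j, hj⟩ := odd_card_core X
    have e1 : z ^ (2 * j + 1) = 1 := by
      rw [← hj]
      have := pow_card_eq_one' (x := (⟨z, hz⟩ : core X))
      exact congrArg Subtype.val this
    have e2 := Mv.pow hzKv (2 * j + 1)
    rw [e1, Mv.one, pow_succ, pow_mul, pow_two, four_sq c.rW.card hζ, one_pow, one_mul] at e2
    exact e2.symm
  -- the end
  have hyKv : y ∈ normalizer (Kv : Set G) := h'.memN hL ha2 hyv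
  have e2 := Mv.comm (mul_mem hzKv hyKv) hkKv e1
  rw [Mv.mul _ _ hzKv hyKv, hζ1, one_mul, h'.agree y hyv, hyφ] at e2
  rw [← Mv.fixes_iff hkKv]
  exact hτκ _ hκ e2.symm

end Cfsg.Agent.UAlt
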