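import Cfsg.Agent.UAlt.CaseDD

/-!
# Case D: construction of the data `Mid`
-/

set_option autoImplicit false
set_option linter.unusedSectionVars false

namespace Cfsg.Agent.UAlt

open Cfsg Equiv Equiv.Perm Subgroup
open Cfsg.Agent.Intrinsic.Basic Cfsg.Agent.Intrinsic
open Cfsg.Agent.Intrinsic.Cen Cfsg.Agent.Intrinsic.Diag
open Cfsg.Agent.SignalizersComponents Cfsg.Agent.Lib
open Cfsg.Agent.SignalizersComponents.IntrinsicBasic
open Cfsg.Agent.SignalizersComponents.IntrinsicIntr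
open Cfsg.Agent.SignalizersComponents.PLayerAut
open Cfsg.Agent.UGT.Triple
open Cfsg.Agent.McLLyComp.Act
open Cfsg.Agent.StdAlt (four4)
open Cfsg.Agent.StdAlt.Roots (IsRoot)
open scoped commutatorElement

variable {G : Type*} [Group G] {α : Type*} [Fintype α] [DecidableEq α]
variable {L : Subgroup G} {Ω S T : Finset α}

/-- four points forming two 2-cycles of `τ` -/
theorem exists_two_cycles {τ : Perm α} (hτ : ∀ y, τ (τ y) = y) {U : Finset α}
    (hU : ∀ y ∈ U, τ y ∈ U ∧ τ y ≠ y) (h3 : 3 ≤ U.card) :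
    ∃ S ⊆ U, S.card = 4 ∧ (∀ y, τ y ∈ S ↔ y ∈ S) ∧ ∀ σ ∈ alt S, σ * σ = 1 → τ * σ = σ * τ := by
  obtain ⟨p, hp⟩ : U.Nonempty := Finset.card_pos.mp (by omega)
  obtain ⟨q, hq⟩ : ((U.erase p).erase (τ p)).Nonempty := by
    apply Finset.card_pos.mp
    have h1 := Finset.pred_card_le_card_erase (s := U) (a := p)
    have h2 := Finset.pred_card_le_card_erase (s := U.erase p) (a := τ p)
    omega
  rw [Finset.mem_erase, Finset.mem_erase] at hq
  obtain ⟨hq1, hq2, hqU⟩ := hq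
  have hp' := hU p hp
  have hq' := hU q hqU
  have n1 : p ≠ τ p := hp'.2.symm
  have n2 : p ≠ q := hq2.symm
  have n3 : p ≠ τ q := fun e => hq1 (by rw [e, hτ])
  have n4 : τ p ≠ q := hq1.symm
  have n5 : τ p ≠ τ q := fun e => hq2 (τ.injective e).symm
  have n6 : q ≠ τ q := hq'.2.symm
  have hnd : [p, τ p, q, τ q].Nodup := StdAlt.PermTypes.nodup_four n1 n2 n3 n4 n5 n6
  have hc : (four4 p (τ p) q (τ q)).card = 4 := card_four4 hnd
  have hmem : ∀ y, y ∈ four4 p (τ p) q (τ q) → τ y ∈ four4 p (τ p) q (τ q) := by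
    intro y hy
    rw [StdAlt.mem_four4] at hy ⊢
    rcases hy with rfl | rfl | rfl | rfl
    · exact Or.inr (Or.inl rfl)
    · exact Or.inl (hτ p)
    · exact Or.inr (Or.inr (Or.inr rfl))
    · exact Or.inr (Or.inr (Or.inl (hτ q)))
  have hmem' : ∀ y, τ y ∈ four4 p (τ p) q (τ q) ↔ y ∈ four4 p (τ p) q (τ q) := fun y =>
    ⟨fun h => by have := hmem _ h; rwa [hτ] at this, hmem y⟩
  refine ⟨four4 p (τ p) q (τ q), ?_, hc, hmem', ?_⟩
  · intro y hy
    rcases StdAlt.mem_four4.mp hy with rfl | rfl | rfl | rfl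
    · exact hp
    · exact hp'.1
    · exact hqU
    · exact hq'.1
  · intro σ hσ hσσ
    -- `τ` acts on the four points as a member of the four-group
    obtain ⟨δ, hδ⟩ : ∃ δ, δ = swap p (τ p) * swap q (τ q) := ⟨_, rfl⟩
    have hV : StdAlt.V4 p (τ p) q (τ q) δ := Or.inr (Or.inl hδ)
    have hδ4 : δ ∈ four (four4 p (τ p) q (τ q)) := (mem_four hc).mpr ((V4_iff hnd).mp hV)
    have hσ4 : σ ∈ four (four4 p (τ p) q (τ q)) := (mem_four hc).mpr ⟨hσ, hσσ⟩
    have hδτ : ∀ y ∈ four4 p (τ p) q (τ q), δ y = τ y := by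
      intro y hy
      rw [hδ, Perm.mul_apply]
      rcases StdAlt.mem_four4.mp hy with h | h | h | h
      · rw [h, swap_apply_of_ne_of_ne n2 n3, swap_apply_left]
      · rw [h, swap_apply_of_ne_of_ne n4 n5, swap_apply_right, hτ]
      · rw [h, swap_apply_left, swap_apply_of_ne_of_ne n3.symm n5.symm]
      · rw [h, swap_apply_right, swap_apply_of_ne_of_ne n2.symm n4.symm, hτ]
    have hδδ : δ * δ = 1 := four_sq hc hδ4
    have e1 : (δ * τ) * σ = σ * (δ * τ) := by
      refine comm_of_fix (T := four4 p (τ p) q (τ q)) (fun y hy => ?_) (alt_le_sym _ hσ)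
      rw [Perm.mul_apply, hδτ _ (hmem y hy), hτ]
    have e2 : δ * σ = σ * δ := four_comm hc hδ4 hσ4
    calc τ * σ = (δ * δ) * τ * σ := by rw [hδδ, one_mul]
      _ = δ * ((δ * τ) * σ) := by group
      _ = (δ * σ) * (δ * τ) := by rw [e1]; group
      _ = σ * (δ * δ) * τ := by rw [e2]; group
      _ = σ * τ := by rw [hδδ, mul_one]

variable [Finite G] {M : Mod L Ω} {V W : Subgroup G} {x a : G}

theorem isPGroup_zpowers_inv {x : G} (hx : x * x = 1) : IsPGroup 2 (zpowers x) := by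
  rintro ⟨_, n, rfl⟩
  refine ⟨1, Subtype.ext ?_⟩
  show (x ^ n) ^ 2 ^ 1 = 1
  rw [pow_one, ← zpow_natCast, ← zpow_mul, mul_comm, zpow_mul]
  have : x ^ ((2 : ℕ) : ℤ) = 1 := by rw [zpow_natCast, pow_two, hx]
  rw [this, one_zpow]

/-- elements of `N(L)` commuting with `φ` of a fixed set -/
theorem Mod.label_comm_closure (M : Mod L Ω) {P : Subgroup G} {σ : Perm α}
    (hP : ∀ p ∈ P, p ∈ normalizer (L : Set G) ∧ M.φ p * σ = σ * M.φ p) {Q : Subgroup G}
    (hQ : ∀ p ∈ Q, p ∈ normalizer (L : Set G) ∧ M.φ p * σ = σ * M.φ p) :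
    ∀ p ∈ P ⊔ Q, p ∈ normalizer (L : Set G) ∧ M.φ p * σ = σ * M.φ p := by
  let R : Subgroup G :=
    { carrier := {p | p ∈ normalizer (L : Set G) ∧ M.φ p * σ = σ * M.φ p}
      mul_mem' := fun {p q} hp hq => ⟨mul_mem hp.1 hq.1, by
        rw [M.mul _ _ hp.1 hq.1, mul_assoc, hq.2, ← mul_assoc, hp.2, mul_assoc]⟩
      one_mem' := ⟨one_mem _, by rw [M.one, one_mul, mul_one]⟩
      inv_mem' := fun {p} hp => ⟨inv_mem hp.1, by
        rw [M.inv hp.1, inv_mul_eq_iff_eq_mul, ← mul_assoc, hp.2, mul_inv_cancel_right]⟩ }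
  exact fun p hp => (sup_le (c := R) hP hQ) hp

/-- the 2-component of a triple which has an alternating diagonal is simple modulo its core -/
theorem isSimpleGroup_of_diag {n : ℕ} (H : Hyp G n) {x c : G} {K : Subgroup G}
    (Tr : IsTriple x c K) {X : Subgroup G} {b : G} (hK : IsComp X K) (hb : b ∈ X) (hb2 : b * b = 1)
    (hne : cj b K ≠ K) {N : Subgroup G} (hN : N = diag X K b) {S : Finset α} (MN : Mod N S)
    (h9 : 9 ≤ S.card) : IsSimpleGroup (↥K ⧸ oddCore ↥K) := by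
  subst hN
  obtain ⟨-, -, -, -, f, hf, hfk, -⟩ := exists_diag hK hb hb2 hne
  obtain ⟨e⟩ := MN.altType
  obtain ⟨e'⟩ := H.simple Tr h9 (e.toMonoidHom.comp f) (e.surjective.comp hf) (by
    refine le_trans (fun y hy => ?_) hfk
    rw [MonoidHom.mem_ker] at hy ⊢
    exact (MulEquiv.map_eq_one_iff e).mp hy)
  have : IsSimpleGroup (alternatingGroup (Fin S.card)) :=
    alternatingGroup.isSimpleGroup (by rw [Nat.card_eq_fintype_card, Fintype.card_fin]; omega)
  exact e'.isSimpleGroup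

/-- in case D there are labelled `K_r` for all roots `r` -/
theorem exists_all' (h11 : 11 ≤ Ω.card) (Tr : IsTriple x a L) (M : Mod L Ω)
    (hD : CaseD M a) {v : G} (hv : Root M S v) (hvx : v * x = x * v) (hS : ∀ y ∈ S, M.φ x y ≠ y)
    (hsimple : ∀ K : Subgroup G, IsTriple x v K → IsComp (centralizer ({v} : Set G)) K →
      cj a K ≠ K → M.cmp v = diag (centralizer ({v} : Set G)) K a →
      IsSimpleGroup (↥K ⧸ oddCore ↥K))
    (T' : Finset α) (s : G) (hs : Root M T' s) :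
    ∃ (J : Subgroup G) (MJ : Mod J (Ω \ T')), DD M a T' s J MJ := by
  have hL := Tr.comp
  have ha2 := sq_of_order Tr.inva
  obtain ⟨J, hJ, hJa, hJe⟩ := hD s hs.rt
  -- conjugate to the good root `v`
  obtain ⟨g, hg, hgs⟩ := M.exists_conj_root hs.mem hv.mem hs.sq hv.sq hs.isRoot hv.isRoot
  have hga : a * g = g * a := (comm_of_comp hL hg).symm
  have hJ' : IsComp (centralizer ({v} : Set G)) (cj g J) := by
    have := hJ.cj g
    rwa [cj_centralizer, hgs] at this
  have hJa' : cj a (cj g J) ≠ cj g J := by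
    rw [← IntrinsicBasic.cj_mul, hga, IntrinsicBasic.cj_mul]
    exact fun e => hJa (cj_injective _ e)
  have h5 : 5 ≤ (fixIn Ω (M.φ s)).card := by rw [hs.card_fix]; omega
  have hJe' : M.cmp v = diag (centralizer ({v} : Set G)) (cj g J) a := by
    have e1 := M.cj_cmp (le_normalizer hg) hs.memN hs.sq h5
    rw [hgs] at e1
    rw [← e1, hJe, cj_diag, cj_centralizer, hgs, ← hga, mul_inv_cancel_right]
  have htr := good_triple h11 Tr hv hvx hS hJ' hJa' hJe'
  have hsim' := hsimple _ htr hJ' hJa' hJe'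
  have hsim : IsSimpleGroup (↥J ⧸ oddCore ↥J) := (cjQuot g J).isSimpleGroup
  obtain ⟨ME, hME⟩ := hs.exists_mod (by omega)
  have haC : a ∈ centralizer ({s} : Set G) :=
    mem_centralizer_singleton_iff.mpr (comm_of_comp hL hs.mem).symm
  obtain ⟨MJ, hMJ⟩ := exists_mod_diag hJ haC ha2 hJa hsim (by rw [hs.card_sdiff]; omega) hJe ME
  exact ⟨J, MJ, hs, hJ, hJa, hJe, fun y hy => by rw [hMJ y hy, hME y hy]⟩

/-- in case D there are labelled `K_r` for all roots `r` -/
theorem exists_all {n : ℕ} (H : Hyp G n) (Tr : IsTriple x a L) (M : Mod L Ω) (hΩ : Ω.card = n)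
    (hD : CaseD M a) {v : G} (hv : Root M S v) (hvx : v * x = x * v) (hS : ∀ y ∈ S, M.φ x y ≠ y)
    (T' : Finset α) (s : G) (hs : Root M T' s) :
    ∃ (J : Subgroup G) (MJ : Mod J (Ω \ T')), DD M a T' s J MJ := by
  have h13 : 13 ≤ Ω.card := by rw [hΩ]; exact H.h13
  have hL := Tr.comp
  have ha2 := sq_of_order Tr.inva
  obtain ⟨MV, -⟩ := hv.exists_mod (by omega)
  refine exists_all' (by omega) Tr M hD hv hvx hS (fun K htr hK hne he => ?_) T' s hs
  exact isSimpleGroup_of_diag H htr hK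
    (mem_centralizer_singleton_iff.mpr (comm_of_comp hL hv.mem).symm) ha2 hne he MV
    (by rw [hv.card_sdiff]; omega)

/-- two root four-groups in good position with respect to `x` -/
theorem exists_ctx (h11 : 11 ≤ Ω.card) (Tr : IsTriple x a L) (M : Mod L Ω)
    (hall : ∀ (S : Finset α) (v : G), Root M S v → v * x = x * v → (∀ y ∈ S, M.φ x y ≠ y) →
      ∀ (T' : Finset α) (s : G), Root M T' s → ∃ (J : Subgroup G) (MJ : Mod J (Ω \ T')),
        DD M a T' s J MJ) :
    ∃ (S T : Finset α) (V W : Subgroup G), Ctx M x a V W S T := by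
  have hL := Tr.comp
  have ha2 := sq_of_order Tr.inva
  have hx2 := sq_of_order Tr.invx
  have hxN := Tr.x_mem
  have hτ : ∀ y, M.φ x (M.φ x y) = y := fun y => by
    rw [← Perm.mul_apply, M.sq hxN hx2]; rfl
  have hxΩ : ∀ y, M.φ x y ∈ Ω ↔ y ∈ Ω := M.map_iff hxN
  -- the points moved by `x`
  obtain ⟨U, hU⟩ : ∃ U, U = Ω.filter fun y => M.φ x y ≠ y := ⟨_, rfl⟩
  have hUc : 8 ≤ U.card := by
    have e1 := Finset.card_filter_add_card_filter_not (s := Ω) (p := fun y => M.φ x y = y)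
    have e2 := M.card_of_triple Tr
    unfold fixIn at e2
    rw [hU]
    have e3 : (Ω.filter fun y => M.φ x y ≠ y) = Ω.filter fun y => ¬ M.φ x y = y := rfl
    rw [e3]
    omega
  have hUm : ∀ y ∈ U, M.φ x y ∈ U ∧ M.φ x y ≠ y := by
    intro y hy
    rw [hU, Finset.mem_filter] at hy ⊢
    exact ⟨⟨(hxΩ y).mpr hy.1, fun e => hy.2 ((M.φ x).injective e)⟩, hy.2⟩
  obtain ⟨S, hSU, hS4, hSx, hSc⟩ := exists_two_cycles hτ hUm (by omega)
  have hUm' : ∀ y ∈ U \ S, M.φ x y ∈ U \ S ∧ M.φ x y ≠ y := by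
    intro y hy
    rw [Finset.mem_sdiff] at hy ⊢
    exact ⟨⟨(hUm y hy.1).1, fun e => hy.2 ((hSx y).mp e)⟩, (hUm y hy.1).2⟩
  obtain ⟨T, hTU, hT4, hTx, hTc⟩ := exists_two_cycles hτ hUm' (by
    rw [Finset.card_sdiff_of_subset hSU]; omega)
  have hUΩ : U ⊆ Ω := by rw [hU]; exact Finset.filter_subset _ _
  have hSΩ := hSU.trans hUΩ
  have hTΩ := (hTU.trans Finset.sdiff_subset).trans hUΩ
  have hd : Disjoint S T := by
    rw [Finset.disjoint_right]
    exact fun y hy => (Finset.mem_sdiff.mp (hTU hy)).2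
  have hxS : ∀ y ∈ S, M.φ x y ≠ y := fun y hy => (hUm y (hSU hy)).2
  have hxT : ∀ y ∈ T, M.φ x y ≠ y := fun y hy => (hUm' y (hTU hy)).2
  -- the four-groups
  have hPx : IsPGroup 2 (zpowers x) := isPGroup_zpowers_inv hx2
  have hPN : zpowers x ≤ normalizer (L : Set G) := by rw [zpowers_le]; exact hxN
  have hPlab : ∀ {σ : Perm α}, M.φ x * σ = σ * M.φ x →
      ∀ p ∈ zpowers x, p ∈ normalizer (L : Set G) ∧ M.φ p * σ = σ * M.φ p := by
    intro σ hσ p hp
    obtain ⟨n, rfl⟩ := hp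
    refine ⟨hPN ⟨n, rfl⟩, ?_⟩
    rcases Int.even_or_odd' n with ⟨m, rfl | rfl⟩
    · have : x ^ (2 * m) = 1 := by
        rw [zpow_mul, show x ^ (2 : ℤ) = x * x from zpow_two x, hx2, one_zpow]
      change M.φ (x ^ (2 * m)) * σ = σ * M.φ (x ^ (2 * m))
      rw [this, M.one, one_mul, mul_one]
    · have : x ^ (2 * m + 1) = x := by
        rw [zpow_add, zpow_mul, show x ^ (2 : ℤ) = x * x from zpow_two x, hx2, one_zpow, one_mul,
          zpow_one]
      change M.φ (x ^ (2 * m + 1)) * σ = σ * M.φ (x ^ (2 * m + 1))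
      rw [this, hσ]
  obtain ⟨V, hV, hVx⟩ := exists_RF M hSΩ hS4 hPx hPN fun p hp σ hσ hσσ =>
    (hPlab (hSc σ hσ hσσ) p hp).2
  have hVx' : ∀ v ∈ V, v * x = x * v := fun v hv => hVx v hv x (mem_zpowers x)
  have hVN : V ≤ normalizer (zpowers x : Set G) := by
    intro v hv
    rw [mem_normalizer_iff]
    have key : ∀ p ∈ zpowers x, v * p * v⁻¹ = p := fun p hp => by
      rw [hVx v hv p hp, mul_inv_cancel_right]
    intro p
    constructor
    · intro hp; rw [key p hp]; exact hp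
    · intro hp
      have e1 : p = v⁻¹ * (v * p * v⁻¹) * v := by group
      have e2 : v⁻¹ * (v * p * v⁻¹) * v = v * p * v⁻¹ := by
        have := hVx v hv _ hp
        rw [mul_assoc, ← this, inv_mul_cancel_left]
      rw [e1, e2]; exact hp
  have hQ : IsPGroup 2 (V ⊔ zpowers x : Subgroup G) :=
    hV.isPGroup.to_sup_of_normal_right' hPx hVN
  have hQN : (V ⊔ zpowers x : Subgroup G) ≤ normalizer (L : Set G) :=
    sup_le (hV.le.trans le_normalizer) hPN
  obtain ⟨W, hW, hWQ⟩ := exists_RF M hTΩ hT4 hQ hQN fun p hp σ hσ hσσ =>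
    (M.label_comm_closure (σ := σ) (fun v hv => ⟨le_normalizer (hV.le hv),
      comm_of_fix (T := T) (fun y hy => (hV.mem v hv).2 y (Finset.disjoint_right.mp hd hy))
        (alt_le_sym _ hσ)⟩) (hPlab (hTc σ hσ hσσ)) p hp).2
  obtain ⟨v, hv, hv1⟩ := hV.exists_ne
  exact ⟨S, T, V, W,
    { h11 := h11
      tr := Tr
      rV := hV
      rW := hW
      disj := hd
      VW := fun v hv w hw => (hWQ w hw v (mem_sup_left hv)).symm
      xV := hVx'
      xW := fun w hw => hWQ w hw x (mem_sup_right (mem_zpowers x))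
      xS := hxS
      xT := hxT
      all := hall S v (hV.root hv hv1) (hVx' v hv) hxS }⟩

/-- **(6.0)-(6.3)** -/
theorem exists_mid {n : ℕ} (H : Hyp G n) (Tr : IsTriple x a L) (M : Mod L Ω) (hΩ : Ω.card = n)
    (hD : CaseD M a) : ∃ (S T : Finset α) (v w k : G) (Kv Kw : Subgroup G) (MV : Mod Kv (Ω \ S))
      (MW : Mod Kw (Ω \ T)), CaseD.Mid Ω S T a x v w k Kv Kw MV MW := by
  have h13 : 13 ≤ Ω.card := by rw [hΩ]; exact H.h13
  have hL := Tr.comp
  have ha2 := sq_of_order Tr.inva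
  obtain ⟨S, T, V, W, c⟩ := exists_ctx (by omega) Tr M fun S v hv hvx hS =>
    exists_all H Tr M hΩ hD hv hvx hS
  obtain ⟨v, hv, hv1⟩ := c.rV.exists_ne
  obtain ⟨w, hw, hw1⟩ := c.rW.exists_ne
  obtain ⟨w', hw', hw1', hww'⟩ := c.rW.exists_ne_ne hw
  have hvr := c.rV.root hv hv1
  have hwr := c.rW.root hw hw1
  have hd := c.disj
  obtain ⟨Kw, Mw, hKw⟩ := c.all T w hwr
  obtain ⟨J, MJ, hJ⟩ := c.all S v hvr
  have hvw : v * w = w * v := c.VW v hv w hw
  obtain ⟨Kv, Mv, hKv, hI, hlab⟩ := hKw.pair h13 hL ha2 hJ hvw.symm hd.symm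
  obtain ⟨K', M', N, hK⟩ := c.exists_KW hw hw' hw1 hw1' hww' hKw
    (hKw.fixes h13 hL ha2 c.all c.rW hw hw')
  obtain ⟨k, hk, hk2, hkφ, hkv, hkx⟩ := c.exists_k hw hw1 hKw hK hv hv1
  have hva : v * a = a * v := comm_of_comp hL hvr.mem
  have hwa : w * a = a * w := comm_of_comp hL hwr.mem
  have hki : k⁻¹ = k := inv_eq_of_mul_eq_one_left hk2
  have hk'2 : a * k * a⁻¹ * (a * k * a⁻¹) = 1 := by
    calc a * k * a⁻¹ * (a * k * a⁻¹) = a * (k * k) * a⁻¹ := by group
      _ = 1 := by rw [hk2]; group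
  have hkv' : k * v = v * k := by
    have e1 : a * k * a⁻¹ = k * v := by
      rw [← hkv, ← mul_assoc, hk2, one_mul]
    have e2 : (k * v)⁻¹ = k * v := by
      rw [← e1]; exact inv_eq_of_mul_eq_one_left hk'2
    have e3 : v⁻¹ = v := inv_eq_of_mul_eq_one_left hvr.sq
    rw [← e2, mul_inv_rev, hki, e3]
  have hk1 : k ≠ 1 := by
    rintro rfl
    rw [M'.one] at hkφ
    exact hvr.φ_ne_one hkφ.symm
  have hkW : ∀ u ∈ W, k * u = u * k := fun u hu =>
    (mem_centralizer_iff.mp (hK.comp.le hk) u hu).symm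
  have hfk : Fixes k Kv := c.fixes_k h13 hw hw1 hKw hK hv hv1 hKv hI hlab hk hk2 hkφ hkv'
  have hfv : Fixes v Kv := hKv.fixes h13 hL ha2 c.all c.rV hv hv
  have hfk' : Fixes k (cj a Kv) := by
    have e1 := (fixes_mul hfk hfv).cj a
    have e2 : a * (k * v) * a⁻¹ = k := by
      have e3 : k * v = a * k * a⁻¹ := by rw [← hkv, ← mul_assoc, hk2, one_mul]
      rw [e3]
      calc a * (a * k * a⁻¹) * a⁻¹ = (a * a) * k * (a * a)⁻¹ := by group
        _ = k := by rw [ha2]; group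
    rwa [e2] at e1
  have hwcmp : w ∈ M.cmp v := c.rV.le_cmp' c.rW hd c.VW hv hv1 hw
  refine ⟨S, T, v, w, k, Kv, Kw, Mv, Mw,
    { card := c.h11
      subS := c.rV.sub
      subT := c.rW.sub
      cardS := c.rV.card
      cardT := c.rW.card
      disj := hd
      inva := Tr.inva
      invv := hvr.order
      invw := hwr.order
      invk := orderOf_eq_prime (by rw [pow_two]; exact hk2) hk1
      ax := Tr.comm
      av := hva.symm
      aw := hwa.symm
      vw := hvw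
      kx := hkx
      kw := hkW w hw
      prod := hkv
      kv := hkv'
      compV := hKv.comp
      neV := hKv.ne
      compW := hKw.comp
      neW := hKw.ne
      triple := good_triple c.h11 Tr hvr (c.xV v hv) c.xS hKv.comp hKv.ne hKv.eq
      fixk := hfk
      fixk' := hfk'
      kmem := hK.le hk
      klab := ?_
      wdiag := by rw [← hKv.eq]; exact hwcmp
      link := Or.inl ?_ }⟩
  · intro i hi
    rw [← hK.lab k hk, hkφ]
    exact hvr.fix i (Finset.mem_sdiff.mp hi).1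
  · refine ⟨Mv.cmp w, DD.comp_s h13 hL ha2 hKv hwr hvw hd, Mv.cmp_le w, ?_⟩
    rw [← hI]
    exact Mw.cmp_le v

end Cfsg.Agent.UAlt
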