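import Cfsg.Agent.UAlt.CaseDE
import Cfsg.Agent.UAlt.CaseDEnd

/-!
# Case D implies an isolated triple in case N
-/

set_option autoImplicit false

namespace Cfsg.Agent.UAlt

open Cfsg Equiv Equiv.Perm Subgroup
open Cfsg.Agent.UGT.Triple

variable {G : Type*} [Group G] [Finite G] {α : Type*} [Fintype α] [DecidableEq α]
variable {L : Subgroup G} {Ω : Finset α} {x a : G}

/-- **(6)**: case D gives a triple in case N with `X = ∅` -/
theorem caseN_of_caseD {n : ℕ} (H : Hyp G n) (Tr : IsTriple x a L) (M : Mod L Ω) (hΩ : Ω.card = n)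
    (hD : CaseD M a) : ∃ (a' : G) (L' : Subgroup G) (M' : Mod L' Ω), IsTriple x a' L' ∧
      CaseN M' a' ∅ := by
  obtain ⟨S, T, v, w, k, Kv, Kw, MV, MW, h⟩ := exists_mid H Tr M hΩ hD
  exact CaseD.caseN_of_mid H hΩ h

end Cfsg.Agent.UAlt
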