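import Cfsg.Agent.UAlt.Rig
import Cfsg.Agent.UAlt.RootRF

/-!
# Case N: the statements (7')(i)-(iv) for root four-groups of `L`
-/

set_option autoImplicit false
set_option linter.unusedSectionVars false

namespace Cfsg.Agent.UAlt

open Cfsg Equiv Equiv.Perm Subgroup
open Cfsg.Agent.Intrinsic.Basic Cfsg.Agent.Intrinsic Cfsg.Agent.Intrinsic.Cen Cfsg.Agent.Intrinsic.Diag
open Cfsg.Agent.SignalizersComponents Cfsg.Agent.Lib
open Cfsg.Agent.SignalizersComponents.IntrinsicBasic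
open Cfsg.Agent.McLLyComp.Act
open Cfsg.Agent.UGT.Triple Cfsg.Agent.UGT.LemG
open scoped commutatorElement

variable {G : Type*} [Group G] {α : Type*} [Fintype α] [DecidableEq α]

/-- the members of `G` normalizing `J` and centralizing `J / O(J)` -/
def fixSub (J : Subgroup G) : Subgroup G where
  carrier := {e | Fixes e J}
  mul_mem' := fixes_mul
  one_mem' := fixes_one J
  inv_mem' := fixes_inv

theorem mem_fixSub {J : Subgroup G} {e : G} : e ∈ fixSub J ↔ Fixes e J := Iff.rfl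

section

variable [Finite G] {L : Subgroup G} {Ω X : Finset α} {M : Mod L Ω} {a : G}

theorem Mod.Rt.card_fix {v : G} (h : M.Rt v) : (fixIn Ω (M.φ v)).card = Ω.card - 4 := h.root.card_fix

/-- `K_v` is unique -/
theorem KD.eq {v : G} (h13 : 9 ≤ Ω.card) (hv : M.Rt v) {K K' : Subgroup G}
    {Mv : Mod K (fixIn Ω (M.φ v) ∪ X)} {Mv' : Mod K' (fixIn Ω (M.φ v) ∪ X)}
    (h : KD M a X v K Mv) (h' : KD M a X v K' Mv') : K = K' :=
  (M.isComp_cmp (le_normalizer hv.1) hv.2.1 (by rw [hv.card_fix]; omega)).unique h.comp h'.comp h.le h'.le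

theorem KD.cmp_eq {v w : G} {K : Subgroup G}
    {Mv Mv' : Mod K (fixIn Ω (M.φ v) ∪ X)} (hw : w ∈ normalizer (K : Set G)) (hww : w * w = 1)
    (h5 : 5 ≤ (fixIn (fixIn Ω (M.φ v) ∪ X) (Mv.φ w)).card) : Mv.cmp w = Mv'.cmp w :=
  (Mv.cmp_eq Mv' hw hww h5).1

variable {ι : Type*} {V : ι → Subgroup G} {T : ι → Finset α} {K : G → Subgroup G}
  {Mv : ∀ i, ∀ v ∈ V i, v ≠ 1 → Mod (K v) (fixIn Ω (M.φ v) ∪ X)}

section aux

variable (h13 : 13 ≤ Ω.card) (hV : ∀ i, RF M (V i) (T i)) (hd : ∀ i j, i ≠ j → Disjoint (T i) (T j))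
  (hc : ∀ i j, i ≠ j → Cm (V i) (V j))
  (hK : ∀ i v (hv : v ∈ V i) (h1 : v ≠ 1), KD M a X v (K v) (Mv i v hv h1)) {i j : ι} (hij : i ≠ j)
  {v w : G} (hv : v ∈ V i) (h1 : v ≠ 1) (hw : w ∈ V j)

include hV hd hc hij hv h1 hw in
theorem rig_mem_cmp : w ∈ M.cmp v := (hV i).le_cmp' (hV j) (hd i j hij) (hc i j hij) hv h1 hw

include hV hd hc hK hij hw in
theorem rig_φ : (Mv i v hv h1).φ w = M.φ w :=
  (hK i v hv h1).agree w (rig_mem_cmp hV hd hc hij hv h1 hw)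

include h13 hV hd hc hK hij hw in
theorem rig_five (h2 : w ≠ 1) : 5 ≤ (fixIn (fixIn Ω (M.φ v) ∪ X) ((Mv i v hv h1).φ w)).card := by
  rw [rig_φ hV hd hc hK hij hv h1 hw, (hV i).fixIn_eq hv h1]
  have h4 : (Ω \ T i) \ T j ⊆ fixIn (Ω \ T i ∪ X) (M.φ w) := by
    intro p hp
    rw [Finset.mem_sdiff] at hp
    exact mem_fixIn.mpr ⟨Finset.mem_union_left _ hp.1, ((hV j).root hw h2).apply_eq hp.2⟩
  have h5 := Finset.card_le_card h4
  have h6 := Finset.le_card_sdiff (T j) (Ω \ T i)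
  have h7 := Finset.le_card_sdiff (T i) Ω
  have h8 := (hV i).card
  have h9 := (hV j).card
  omega

include h13 hV hd hc hK hij in
theorem rig_cmp_eq (hw : w ∈ V j) (h2 : w ≠ 1) : (Mv i v hv h1).cmp w = (Mv j w hw h2).cmp v := by
  have hvw : v * w = w * v := hc i j hij v hv w hw
  have hrv := (hV i).root hv h1
  have hrw := (hV j).root hw h2
  have hwv : w ∈ M.cmp v := rig_mem_cmp hV hd hc hij hv h1 hw
  have hvv : v ∈ M.cmp w := rig_mem_cmp hV hd hc hij.symm hw h2 hv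
  have e1 := rig_φ hV hd hc hK hij hv h1 hw
  have e2 := rig_φ hV hd hc hK hij.symm hw h2 hv
  have hww := (hV j).sq w hw
  have hvv2 := (hV i).sq v hv
  obtain ⟨M', hM'⟩ := M.exists_cmp (le_normalizer hrv.mem) hvv2 (by rw [hrv.card_fix]; omega)
  have hwN : w ∈ normalizer (M.cmp v : Set G) := le_normalizer hwv
  have h5' : 5 ≤ (fixIn (fixIn Ω (M.φ v)) (M'.φ w)).card := by
    rw [hM' w hwv, hrv.fixIn_eq]
    have h4 : (Ω \ T i) \ T j ⊆ fixIn (Ω \ T i) (M.φ w) := by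
      intro p hp
      rw [Finset.mem_sdiff] at hp
      exact mem_fixIn.mpr ⟨hp.1, hrw.apply_eq hp.2⟩
    have h5 := Finset.card_le_card h4
    have h6 := Finset.le_card_sdiff (T j) (Ω \ T i)
    have h7 := Finset.le_card_sdiff (T i) Ω
    have h8 := (hV i).card
    have h9 := (hV j).card
    omega
  have hZ := M'.isComp_cmp hwN hww h5'
  have hA : IsComp (centralizer ({v} : Set G) ⊓ centralizer ({w} : Set G)) ((Mv i v hv h1).cmp w) :=
    (Mv i v hv h1).isComp_cmp_of (hK i v hv h1).comp (le_normalizer ((hK i v hv h1).le hwv)) hww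
      (rig_five h13 hV hd hc hK hij hv h1 hw h2)
  have hB : IsComp (centralizer ({v} : Set G) ⊓ centralizer ({w} : Set G)) ((Mv j w hw h2).cmp v) := by
    rw [inf_comm]
    exact (Mv j w hw h2).isComp_cmp_of (hK j w hw h2).comp (le_normalizer ((hK j w hw h2).le hvv)) hvv2
      (rig_five h13 hV hd hc hK hij.symm hw h2 hv h1)
  -- `M'.pre w`
  have hpre : ∀ k ∈ M'.pre w, k ∈ M.cmp v ∧ w * k = k * w ∧
      M.φ k ∈ alt (fixIn (fixIn Ω (M.φ v)) (M.φ w)) := by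
    rintro k ⟨h1, h2, h3⟩
    rw [hM' k h1, hM' w hwv] at h3
    exact ⟨h1, h2, h3⟩
  refine hZ.unique hA hB ?_ ?_
  · refine PComponents.pElem_mono fun k hk => ?_
    obtain ⟨h3, h4, h5⟩ := hpre k hk
    refine ⟨(hK i v hv h1).le h3, h4, ?_⟩
    rw [(hK i v hv h1).agree k h3, e1]
    refine alt_mono (fun p hp => ?_) h5
    rw [mem_fixIn] at hp ⊢
    exact ⟨Finset.mem_union_left _ hp.1, hp.2⟩
  · refine hZ.le_of_two fun k hk n hn => ?_
    obtain ⟨h3, h4, h5⟩ := hpre k (M'.cmp_le_pre w hk)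
    have h6 : k ∈ M.cmp w := by
      refine M.mem_cmp (M.cmp_le v h3) h4 (alt_mono (fun p hp => ?_) h5) hn
      rw [mem_fixIn] at hp ⊢
      exact ⟨(mem_fixIn.mp hp.1).1, hp.2⟩
    refine (Mv j w hw h2).mem_cmp ((hK j w hw h2).le h6) (M.cmp_comm h3) ?_ hn
    rw [(hK j w hw h2).agree k h6, e2]
    refine alt_mono (fun p hp => ?_) h5
    rw [mem_fixIn, mem_fixIn] at hp
    rw [mem_fixIn]
    exact ⟨Finset.mem_union_left _ (mem_fixIn.mpr ⟨hp.1.1, hp.2⟩), hp.1.2⟩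

end aux

/-- the rig of a family of disjoint commuting root four-groups -/
def KD.rig (h13 : 13 ≤ Ω.card) (hV : ∀ i, RF M (V i) (T i)) (hd : ∀ i j, i ≠ j → Disjoint (T i) (T j))
    (hc : ∀ i j, i ≠ j → Cm (V i) (V j))
    (hK : ∀ i v (hv : v ∈ V i) (h1 : v ≠ 1), KD M a X v (K v) (Mv i v hv h1))
    (third : ∀ i j : ι, ∃ k, k ≠ i ∧ k ≠ j) : Rig V K (fun v => fixIn Ω (M.φ v) ∪ X) where
  third := third
  nt i := (hV i).exists_ne
  inv i := (hV i).sq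
  comm i j v hv w hw := by
    by_cases h : i = j
    · subst h
      exact (hV i).comm hv hw
    · exact hc i j h v hv w hw
  comp i v hv h1 := (hK i v hv h1).comp
  M := Mv
  mem i j hij v hv h1 w hw := (hK i v hv h1).le (rig_mem_cmp hV hd hc hij hv h1 hw)
  supp i j hij v hv h1 w hw h2 w' hw' p hp := by
    have h3 := (mem_fixIn.mp hp).2
    rw [rig_φ hV hd hc hK hij hv h1 hw] at h3
    rw [rig_φ hV hd hc hK hij hv h1 hw']
    have h4 : p ∉ T j := fun h => ((hV j).root hw h2).apply_ne h h3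
    exact ((hV j).mem w' hw').2 p h4
  disj i j k hij hik hjk v hv h1 w hw w' hw' p := by
    rw [rig_φ hV hd hc hK hij hv h1 hw, rig_φ hV hd hc hK hik hv h1 hw']
    by_cases hp : p ∈ T j
    · right
      exact ((hV k).mem w' hw').2 p fun h => Finset.disjoint_left.mp (hd j k hjk) hp h
    · left
      exact ((hV j).mem w hw).2 p hp
  five i j hij v hv h1 w hw h2 := rig_five h13 hV hd hc hK hij hv h1 hw h2
  cmp_eq i j hij v hv h1 w hw h2 := rig_cmp_eq h13 hV hd hc hK hij hv h1 hw h2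

theorem KD.rig_M (h13 : 13 ≤ Ω.card) (hV : ∀ i, RF M (V i) (T i)) (hd : ∀ i j, i ≠ j → Disjoint (T i) (T j))
    (hc : ∀ i j, i ≠ j → Cm (V i) (V j))
    (hK : ∀ i v (hv : v ∈ V i) (h1 : v ≠ 1), KD M a X v (K v) (Mv i v hv h1))
    (third : ∀ i j : ι, ∃ k, k ≠ i ∧ k ≠ j) : (KD.rig h13 hV hd hc hK third).M = Mv := rfl

/-- Case N: the 2-components `K v` and their labellings as functions of the root `v` -/
theorem CaseN.exists_fun (hN : CaseN M a X) : ∃ K : G → Subgroup G,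
    ∀ v, M.Rt v → ∃ Mv : Mod (K v) (fixIn Ω (M.φ v) ∪ X), KD M a X v (K v) Mv := by
  classical
  refine ⟨fun v => if h : M.Rt v then (hN.ex v h).choose else ⊥, fun v hv => ?_⟩
  simp only
  rw [dif_pos hv]
  exact (hN.ex v hv).choose_spec

/-- Case N: the rig of a family of disjoint commuting root four-groups -/
theorem CaseN.exists_rig (h13 : 13 ≤ Ω.card) (hN : CaseN M a X) (hV : ∀ i, RF M (V i) (T i))
    (hd : ∀ i j, i ≠ j → Disjoint (T i) (T j)) (hc : ∀ i j, i ≠ j → Cm (V i) (V j))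
    (third : ∀ i j : ι, ∃ k, k ≠ i ∧ k ≠ j) :
    ∃ (K : G → Subgroup G) (R : Rig V K (fun v => fixIn Ω (M.φ v) ∪ X)),
      ∀ i v (hv : v ∈ V i) (h1 : v ≠ 1), KD M a X v (K v) (R.M i v hv h1) := by
  obtain ⟨K, hK⟩ := hN.exists_fun
  choose Mv hMv using hK
  have hK' : ∀ i v (hv : v ∈ V i) (h1 : v ≠ 1),
      KD M a X v (K v) ((fun i v hv h1 => Mv v ((hV i).rt hv h1) :
        ∀ i, ∀ v ∈ V i, v ≠ 1 → Mod (K v) (fixIn Ω (M.φ v) ∪ X)) i v hv h1) :=
    fun i v hv h1 => hMv v _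
  exact ⟨K, KD.rig h13 hV hd hc hK' third, hK'⟩

/-! ### three root four-groups -/

theorem fixes_sup {A B J : Subgroup G} (hA : ∀ e ∈ A, Fixes e J) (hB : ∀ e ∈ B, Fixes e J) {e : G}
    (he : e ∈ A ⊔ B) : Fixes e J :=
  (sup_le (fun e h => hA e h) (fun e h => hB e h) : A ⊔ B ≤ fixSub J) he

section three

variable {V V' V'' : Subgroup G} {T T' T'' : Finset α}

theorem exists_rig3 (h13 : 13 ≤ Ω.card) (hN : CaseN M a X) (hV : RF M V T) (hV' : RF M V' T')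
    (hV'' : RF M V'' T'') (d1 : Disjoint T T') (d2 : Disjoint T T'') (d3 : Disjoint T' T'')
    (c1 : Cm V V') (c2 : Cm V V'') (c3 : Cm V' V'') :
    ∃ (K : G → Subgroup G) (R : Rig ![V, V', V''] K (fun v => fixIn Ω (M.φ v) ∪ X)),
      ∀ i v (hv : v ∈ (![V, V', V''] : Fin 3 → Subgroup G) i) (h1 : v ≠ 1),
        KD M a X v (K v) (R.M i v hv h1) := by
  have csymm : ∀ {A B : Subgroup G}, Cm A B → Cm B A := fun h b hb a ha => (h a ha b hb).symm
  refine CaseN.exists_rig (T := ![T, T', T'']) h13 hN ?_ ?_ ?_ ?_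
  · intro i
    fin_cases i
    · exact hV
    · exact hV'
    · exact hV''
  · intro i j hij
    fin_cases i <;> fin_cases j <;> first
      | exact absurd rfl hij
      | exact d1
      | exact d2
      | exact d3
      | exact d1.symm
      | exact d2.symm
      | exact d3.symm
  · intro i j hij
    fin_cases i <;> fin_cases j <;> first
      | exact absurd rfl hij
      | exact c1
      | exact c2
      | exact c3
      | exact csymm c1
      | exact csymm c2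
      | exact csymm c3
  · decide

variable (h13 : 13 ≤ Ω.card) (hN : CaseN M a X) (hV : RF M V T) (hV' : RF M V' T')
  (hV'' : RF M V'' T'') (d1 : Disjoint T T') (d2 : Disjoint T T'') (d3 : Disjoint T' T'')
  (c1 : Cm V V') (c2 : Cm V V'') (c3 : Cm V' V'') {v v' : G} (hv : v ∈ V) (h1 : v ≠ 1)
  (hv' : v' ∈ V') (h1' : v' ≠ 1) {K K' : Subgroup G} {Mv : Mod K (fixIn Ω (M.φ v) ∪ X)}
  {Mv' : Mod K' (fixIn Ω (M.φ v') ∪ X)} (hK : KD M a X v K Mv) (hK' : KD M a X v' K' Mv')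

include hV hV' d1 c1 hv h1 hK in
/-- **(N1)(i)** -/
theorem CaseN.le_K : V' ≤ K := (hV.le_cmp' hV' d1 c1 hv h1).trans hK.le

include h13 hN hV hV' hV'' d1 d2 d3 c1 c2 c3 hv h1 hv' h1' hK hK' in
/-- **(N1)(i)** `K_{v,v'}` -/
theorem CaseN.cmp_eq : Mv.cmp v' = Mv'.cmp v := by
  obtain ⟨K₀, R, hR⟩ := exists_rig3 (a := a) (X := X) h13 hN hV hV' hV'' d1 d2 d3 c1 c2 c3
  obtain rfl := hK.eq (by omega) (hV.rt hv h1) (hR 0 v hv h1)
  obtain rfl := hK'.eq (by omega) (hV'.rt hv' h1') (hR 1 v' hv' h1')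
  have e1 := (R.M 0 v hv h1).cmp_eq Mv (R.mem_n (i := 0) (j := 1) (by decide) hv h1 hv')
    (hV'.sq v' hv') (R.five 0 1 (by decide) v hv h1 v' hv' h1')
  have e2 := (R.M 1 v' hv' h1').cmp_eq Mv' (R.mem_n (i := 1) (j := 0) (by decide) hv' h1' hv)
    (hV.sq v hv) (R.five 1 0 (by decide) v' hv' h1' v hv h1)
  rw [← e1.1, ← e2.1]
  exact R.cmp_eq 0 1 (by decide) v hv h1 v' hv' h1'

include h13 hN hV hV' hV'' d1 d2 d3 c1 c2 c3 hv h1 hK in
/-- **(N1)(ii)** -/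
theorem CaseN.fixes_K {u : G} (hu : u ∈ V) :
    u ∈ normalizer (K : Set G) ∧ Mv.φ u = 1 ∧ Fixes u K := by
  obtain ⟨K₀, R, hR⟩ := exists_rig3 (a := a) (X := X) h13 hN hV hV' hV'' d1 d2 d3 c1 c2 c3
  obtain rfl := hK.eq (by omega) (hV.rt hv h1) (hR 0 v hv h1)
  obtain ⟨h3, -, h4⟩ := R.fixes_K (i := 0) hv h1 hu
  exact ⟨h3, (Mv.fixes_iff h3).mpr h4, h4⟩

include h13 hN hV hV' hV'' d1 d2 d3 c1 c2 c3 hv h1 hK in
/-- **(N1)(iii)** -/
theorem CaseN.fixes_other {J : Subgroup G} (hJ : IsComp (centralizer ({v} : Set G)) J) (hne : J ≠ K)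
    {e : G} (he : e ∈ V ⊔ V' ⊔ V'') : Fixes e J := by
  obtain ⟨K₀, R, hR⟩ := exists_rig3 (a := a) (X := X) h13 hN hV hV' hV'' d1 d2 d3 c1 c2 c3
  obtain rfl := hK.eq (by omega) (hV.rt hv h1) (hR 0 v hv h1)
  refine fixes_sup (fun e he => fixes_sup (fun e he => ?_) (fun e he => ?_) he) (fun e he => ?_) he
  · exact R.fixes_other (i := 0) (j := 0) hv h1 hJ hne he
  · exact R.fixes_other (i := 0) (j := 1) hv h1 hJ hne he
  · exact R.fixes_other (i := 0) (j := 2) hv h1 hJ hne he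

include h13 hN hV hV' hV'' d1 d2 d3 c1 c2 c3 hv h1 hv' h1' hK in
/-- **(N1)(iv)**, `E` is trivial on `K_{v,v'}` -/
theorem CaseN.fixes_cmp {e : G} (he : e ∈ V ⊔ V') : Fixes e (Mv.cmp v') := by
  obtain ⟨K₀, R, hR⟩ := exists_rig3 (a := a) (X := X) h13 hN hV hV' hV'' d1 d2 d3 c1 c2 c3
  obtain rfl := hK.eq (by omega) (hV.rt hv h1) (hR 0 v hv h1)
  have e1 := (R.M 0 v hv h1).cmp_eq Mv (R.mem_n (i := 0) (j := 1) (by decide) hv h1 hv')
    (hV'.sq v' hv') (R.five 0 1 (by decide) v hv h1 v' hv' h1')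
  rw [← e1.1]
  exact fixes_sup (fun e he => R.fixes_cmp_left (i := 0) (j := 1) (by decide) hv h1 hv' h1' he)
    (fun e he => R.fixes_cmp_right (i := 0) (j := 1) (by decide) hv h1 hv' h1' he) he

include h13 hN hV hV' hV'' d1 d2 d3 c1 c2 c3 hv h1 hv' h1' hK in
/-- `K_{v,v'}` is a 2-component of `C(v) ∩ C(v')` and contains `V''` -/
theorem CaseN.isComp_cmp : IsComp (centralizer ({v} : Set G) ⊓ centralizer ({v'} : Set G)) (Mv.cmp v') ∧
    5 ≤ (fixIn (fixIn Ω (M.φ v) ∪ X) (Mv.φ v')).card ∧ V'' ≤ Mv.cmp v' := by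
  obtain ⟨K₀, R, hR⟩ := exists_rig3 (a := a) (X := X) h13 hN hV hV' hV'' d1 d2 d3 c1 c2 c3
  obtain rfl := hK.eq (by omega) (hV.rt hv h1) (hR 0 v hv h1)
  have e1 := (R.M 0 v hv h1).cmp_eq Mv (R.mem_n (i := 0) (j := 1) (by decide) hv h1 hv')
    (hV'.sq v' hv') (R.five 0 1 (by decide) v hv h1 v' hv' h1')
  rw [← e1.1]
  exact ⟨R.isComp_cmp (i := 0) (j := 1) (by decide) hv h1 hv' h1', e1.2,
    fun z hz => R.mem_cmp (i := 0) (j := 1) (k := 2) (by decide) (by decide) (by decide) hv h1 hv' hz⟩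

include h13 hN hV hV' hV'' d1 d2 d3 c1 c2 c3 hv h1 hv' h1' hK in
/-- **(N1)(iv)** -/
theorem CaseN.prod : ∃ N, IsComp (centralizer ({v * v'} : Set G)) N ∧
    ((v ∈ normalizer (N : Set G) ∧ Mv.cmp v' ≤ N) ∨ (IntrinsicBasic.cj v N ≠ N ∧
      Mv.cmp v' = diag (centralizer ({v * v'} : Set G)) N v)) ∧
    ∀ J, IsComp (centralizer ({v * v'} : Set G)) J → J ≠ N → J ≠ IntrinsicBasic.cj v N →
      ∀ e ∈ V ⊔ V' ⊔ V'', Fixes e J := by
  obtain ⟨K₀, R, hR⟩ := exists_rig3 (a := a) (X := X) h13 hN hV hV' hV'' d1 d2 d3 c1 c2 c3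
  obtain rfl := hK.eq (by omega) (hV.rt hv h1) (hR 0 v hv h1)
  have e1 := (R.M 0 v hv h1).cmp_eq Mv (R.mem_n (i := 0) (j := 1) (by decide) hv h1 hv')
    (hV'.sq v' hv') (R.five 0 1 (by decide) v hv h1 v' hv' h1')
  rw [← e1.1]
  obtain ⟨N, hN1, hN2⟩ := R.exists_prod (i := 0) (j := 1) (by decide) hv h1 hv' h1'
  refine ⟨N, hN1, hN2, fun J hJ hJN hJN' e he => ?_⟩
  have key : ∀ k : Fin 3, ∀ e ∈ (![V, V', V''] : Fin 3 → Subgroup G) k, Fixes e J := fun k e he =>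
    R.fixes_prod (i := 0) (j := 1) (by decide) hv h1 hv' h1' hN1 hN2 hJ hJN hJN' he
  exact fixes_sup (fun e he => fixes_sup (key 0) (key 1) he) (key 2) he

end three

end

end Cfsg.Agent.UAlt
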