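import Cfsg.Agent.UAlt.CaseN1
import Cfsg.Agent.UAlt.FourConj
import Cfsg.Agent.UAlt.Case0

/-!
# Case N without the third four-group

The statements of `CaseN1` for two commuting root four-groups `V`, `V'` with disjoint supports, `11 ≤ |Ω|`,
`13 ≤ |Ω| + |X|`.
-/

set_option autoImplicit false
set_option linter.unusedSectionVars false

namespace Cfsg.Agent.UAlt

open Cfsg Equiv Equiv.Perm Subgroup
open Cfsg.Agent.Intrinsic.Basic Cfsg.Agent.Intrinsic Cfsg.Agent.Intrinsic.Cen Cfsg.Agent.Intrinsic.Diag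
open Cfsg.Agent.SignalizersComponents Cfsg.Agent.Lib
open Cfsg.Agent.SignalizersComponents.IntrinsicBasic
open Cfsg.Agent.McLLyComp.Act
open Cfsg.Agent.UGT.Triple Cfsg.Agent.UGT.LemG
open Cfsg.Agent.StdAlt.PermTypes (cyc)
open scoped commutatorElement

variable {G : Type*} [Group G] {α : Type*} [Fintype α] [DecidableEq α]

/-- an even involution on at most seven points moves exactly four points -/
theorem card_support_of_inv {F : Finset α} {g : Perm α} (hg : g ∈ alt F) (hF : F.card ≤ 7)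
    (h2 : g * g = 1) (h1 : g ≠ 1) : g.support.card = 4 := by
  have ho : orderOf g = 2 := orderOf_eq_prime (by rw [pow_two]; exact h2) h1
  obtain ⟨n, hn⟩ := cycleType_prime_order (σ := g) (by rw [ho]; exact Nat.prime_two)
  rw [ho] at hn
  have hs : g.support.card = 2 * (n + 1) := by
    rw [← sum_cycleType, hn, Multiset.sum_replicate, smul_eq_mul, mul_comm]
  have hle : g.support.card ≤ 7 := by
    refine (Finset.card_le_card fun x hx => ?_).trans hF
    by_contra h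
    exact mem_support.mp hx (hg.2 x h)
  have hsgn := mem_alternatingGroup.mp hg.1
  rw [sign_of_cycleType, hn, Multiset.sum_replicate, Multiset.card_replicate, smul_eq_mul] at hsgn
  have hn3 : n + 1 ≤ 3 := by omega
  interval_cases h : n + 1
  · omega
  · exact absurd hsgn (by decide)
  · omega
  · exact absurd hsgn (by decide)

section general

variable [Finite G] {K : Subgroup G} {S : Finset α} (M : Mod K S)

/-- the members of `N(K)` fixing the points of `R` -/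
def Mod.fixSub (R : Finset α) : Subgroup G where
  carrier := {p | p ∈ normalizer (K : Set G) ∧ ∀ x ∈ R, M.φ p x = x}
  mul_mem' {a b} ha hb := by
    refine ⟨mul_mem ha.1 hb.1, fun x hx => ?_⟩
    rw [M.mul _ _ ha.1 hb.1, Perm.mul_apply, hb.2 x hx, ha.2 x hx]
  one_mem' := ⟨one_mem _, fun x _ => by rw [M.one]; rfl⟩
  inv_mem' {a} ha := by
    refine ⟨inv_mem ha.1, fun x hx => ?_⟩
    rw [M.inv ha.1, Perm.inv_eq_iff_eq]
    exact (ha.2 x hx).symm

/-- involutions of `K` with conjugate labels are conjugate, centralizing the 2-group `P` -/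
theorem Mod.exists_conj_fix {P : Subgroup G} (hP : IsPGroup 2 P) (hPN : P ≤ normalizer (K : Set G))
    {x y : G} (hx : x ∈ K) (hy : y ∈ K) (hxx : x * x = 1) (hyy : y * y = 1)
    (hPx : ∀ p ∈ P, p * x = x * p) (hPy : ∀ p ∈ P, p * y = y * p) {σ : Perm α} (hσ : σ ∈ alt S)
    (hσP : ∀ p ∈ P, M.φ p * σ = σ * M.φ p) (h : σ * M.φ x * σ⁻¹ = M.φ y) :
    ∃ k ∈ K, (∀ p ∈ P, p * k = k * p) ∧ k * x * k⁻¹ = y := by
  obtain ⟨k, hk, hkP, hkσ⟩ := M.exists_fix_lift hP hPN hσ hσP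
  obtain ⟨x', hx'⟩ : ∃ x', x' = k * x * k⁻¹ := ⟨_, rfl⟩
  have hx'K : x' ∈ K := hx' ▸ mul_mem (mul_mem hk hx) (inv_mem hk)
  have hmem : ∀ {z : G}, (∀ p ∈ P, p * z = z * p) → z ∈ centralizer (P : Set G) :=
    fun h p hp => h p hp
  have hkC : k ∈ centralizer (P : Set G) := hmem fun p hp => (hkP p hp).symm
  have hxC : x ∈ centralizer (P : Set G) := hmem hPx
  have hx'C : x' ∈ centralizer (P : Set G) := by
    rw [hx']
    exact mul_mem (mul_mem hkC hxC) (inv_mem hkC)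
  have h1 : x'⁻¹ * y ∈ core K := by
    rw [← M.eq_iff hx'K hy, hx', M.conj (le_normalizer hk) (le_normalizer hx), hkσ, h]
  have h2 : x' ^ 2 ^ 1 = 1 := by
    rw [hx', pow_one, pow_two, show k * x * k⁻¹ * (k * x * k⁻¹) = k * (x * x) * k⁻¹ by group, hxx]
    group
  have hodd : Odd (Nat.card (core K ⊓ centralizer (P : Set G) : Subgroup G)) :=
    Odd.of_dvd_nat (odd_card_core K) (card_dvd_of_le inf_le_left)
  have hyC : x'⁻¹ * y ∈ centralizer (P : Set G) := mul_mem (inv_mem hx'C) (hmem hPy)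
  obtain ⟨o, ho, h3⟩ := Lifting.exists_conj_eq hodd h2 (m := 1) (v' := y)
    (by rw [pow_one, pow_two]; exact hyy) (by
      have h4 : x' ∈ normalizer (core K : Set G) := le_normalizer_core K hx'K
      have h5 : x' ∈ normalizer (centralizer (P : Set G) : Set G) := le_normalizer hx'C
      rw [mem_normalizer_iff_cj] at h4 h5 ⊢
      rw [cj_inf, h4, h5]) ⟨h1, hyC⟩
  refine ⟨o * k, mul_mem (core_le K ho.1) hk, fun p hp => ?_, ?_⟩
  · have h4 : p * o = o * p := ho.2 p hp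
    rw [← mul_assoc, h4, mul_assoc, ← hkP p hp, mul_assoc]
  · rw [← h3, hx']; group

end general

section pair

variable [Finite G] {L : Subgroup G} {Ω X T T' : Finset α} {M : Mod L Ω} {a : G} {V V' : Subgroup G}

section one

variable (h11 : 11 ≤ Ω.card) (hV : RF M V T) (hV' : RF M V' T') (d : Disjoint T T') (c : Cm V V')
  {v v' : G} (hv : v ∈ V) (h1 : v ≠ 1) (hv' : v' ∈ V')
  {K K' : Subgroup G} {Mv : Mod K (fixIn Ω (M.φ v) ∪ X)} {Mv' : Mod K' (fixIn Ω (M.φ v') ∪ X)}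
  (hK : KD M a X v K Mv) (hK' : KD M a X v' K' Mv')

include hV hV' d c hv h1 in
theorem pair_mem : V' ≤ M.cmp v := hV.le_cmp' hV' d c hv h1

include hV hV' d c hv h1 hv' hK in
theorem pair_φ : Mv.φ v' = M.φ v' := hK.agree v' (pair_mem hV hV' d c hv h1 hv')

include hV hV' d c hv h1 hv' hK in
theorem pair_mem_K : v' ∈ K := hK.le (pair_mem hV hV' d c hv h1 hv')

include hV hV' d c hv h1 hv' hK in
theorem pair_fix (h1' : v' ≠ 1) (hdX : Disjoint Ω X) :
    fixIn (fixIn Ω (M.φ v) ∪ X) (Mv.φ v') = ((Ω \ T) \ T') ∪ X := by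
  have hr := hV.root hv h1
  have hr' := hV'.root hv' h1'
  rw [pair_φ hV hV' d c hv h1 hv' hK, hr.fixIn_eq]
  ext p
  rw [mem_fixIn, Finset.mem_union, Finset.mem_union, Finset.mem_sdiff (s := Ω \ T)]
  constructor
  · rintro ⟨h | h, h2⟩
    · exact Or.inl ⟨h, fun hp => hr'.apply_ne hp h2⟩
    · exact Or.inr h
  · rintro (⟨h, h2⟩ | h)
    · exact ⟨Or.inl h, hr'.apply_eq h2⟩
    · exact ⟨Or.inr h, hr'.apply_eq fun hp => Finset.disjoint_left.mp hdX (hV'.sub hp) h⟩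

include hV hV' d c hv h1 hv' hK in
theorem pair_card (h1' : v' ≠ 1) (hdX : Disjoint Ω X) :
    (fixIn (fixIn Ω (M.φ v) ∪ X) (Mv.φ v')).card + 8 = Ω.card + X.card := by
  rw [pair_fix hV hV' d c hv h1 hv' hK h1' hdX]
  have h2 : Disjoint ((Ω \ T) \ T') X := by
    refine Finset.disjoint_of_subset_left ?_ hdX
    exact Finset.sdiff_subset.trans Finset.sdiff_subset
  rw [Finset.card_union_of_disjoint h2]
  have h3 : T' ⊆ Ω \ T := fun p hp => Finset.mem_sdiff.mpr ⟨hV'.sub hp, fun h =>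
    Finset.disjoint_left.mp d h hp⟩
  have h4 := Finset.card_sdiff_add_card_eq_card h3
  have h5 := Finset.card_sdiff_add_card_eq_card hV.sub
  have h6 := hV.card
  have h7 := hV'.card
  omega

include hV hV' d c hv h1 hv' hK in
theorem pair_five (h1' : v' ≠ 1) (hdX : Disjoint Ω X) (hX : 13 ≤ Ω.card + X.card) :
    5 ≤ (fixIn (fixIn Ω (M.φ v) ∪ X) (Mv.φ v')).card := by
  have := pair_card hV hV' d c hv h1 hv' hK h1' hdX
  omega

end one

/-- labels of `N(L) ∩ C(v)` on `Ω_v` -/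
theorem KD.agree_fix {v : G} (hvL : M.Rt v) (h11 : 11 ≤ Ω.card) {K : Subgroup G}
    {Mv : Mod K (fixIn Ω (M.φ v) ∪ X)} (hK : KD M a X v K Mv) {y : G}
    (hyL : y ∈ normalizer (L : Set G)) (hyv : y * v = v * y) {p : α} (hp : p ∈ fixIn Ω (M.φ v)) :
    y ∈ normalizer (K : Set G) ∧ Mv.φ y p = M.φ y p := by
  have hvN := le_normalizer hvL.mem
  have hc := hvL.card_fix
  obtain ⟨M', hM'⟩ := M.exists_cmp hvN hvL.sq (by omega)
  have hyC : y ∈ normalizer (M.cmp v : Set G) := by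
    rw [mem_normalizer_iff_cj, ← M.cmp_conj hyL hvN hvL.sq (by omega), hyv, mul_inv_cancel_right]
  have hyK : y ∈ normalizer (K : Set G) :=
    mem_normalizer_of_le hK.comp (M.isComp_cmp hvN hvL.sq (by omega)) hK.le
      (mem_centralizer_singleton_iff.mpr hyv) hyC
  refine ⟨hyK, ?_⟩
  rw [← Mv.compat M' hK.le (fun x hx => by rw [hM' x hx, hK.agree x hx]) hyK hyC hp,
    M.compat M' (M.cmp_le v) hM' hyL hyC hp]

section two

variable (h11 : 11 ≤ Ω.card) (hX : 13 ≤ Ω.card + X.card) (hN : CaseN M a X)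
  (hV : RF M V T) (hV' : RF M V' T') (d : Disjoint T T') (c : Cm V V')
  {v v' : G} (hv : v ∈ V) (h1 : v ≠ 1) (hv' : v' ∈ V') (h1' : v' ≠ 1)
  {K K' : Subgroup G} {Mv : Mod K (fixIn Ω (M.φ v) ∪ X)} {Mv' : Mod K' (fixIn Ω (M.φ v') ∪ X)}
  (hK : KD M a X v K Mv) (hK' : KD M a X v' K' Mv')

include hN hX hV hV' d c hv h1 hv' h1' hK in
theorem pair_isComp :
    IsComp (centralizer ({v} : Set G) ⊓ centralizer ({v'} : Set G)) (Mv.cmp v') :=
  Mv.isComp_cmp_of hK.comp (le_normalizer (pair_mem_K hV hV' d c hv h1 hv' hK)) (hV'.sq v' hv')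
    (pair_five hV hV' d c hv h1 hv' hK h1' hN.disj hX)

omit [Finite G] in
theorem Cm.symm {A B : Subgroup G} (h : Cm A B) : Cm B A := fun b hb a ha => (h a ha b hb).symm

include h11 hN hX hV hV' d c hv h1 hv' h1' hK hK' in
/-- **(2.0)** -/
theorem pair_cmp_eq : Mv.cmp v' = Mv'.cmp v := by
  have hr := hV.root hv h1
  have hr' := hV'.root hv' h1'
  have hA := pair_isComp (a := a) hX hN hV hV' d c hv h1 hv' h1' hK
  have hB := pair_isComp (a := a) hX hN hV' hV d.symm c.symm hv' h1' hv h1 hK'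
  rw [inf_comm] at hB
  by_contra hne
  -- three points outside `T ∪ T'`
  have hcard : 3 ≤ ((Ω \ T) \ T').card := by
    have h3 := Finset.le_card_sdiff T' (Ω \ T)
    have h4 := Finset.le_card_sdiff T Ω
    have h5 := hV.card
    have h6 := hV'.card
    omega
  obtain ⟨F, hF, hF3⟩ := Finset.exists_subset_card_eq hcard
  obtain ⟨i, j, k, hij, hik, hjk, rfl⟩ := Finset.card_eq_three.mp hF3
  have hmem : ∀ p ∈ ({i, j, k} : Finset α), p ∈ Ω ∧ p ∉ T ∧ p ∉ T' := by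
    intro p hp
    have := hF hp
    rw [Finset.mem_sdiff, Finset.mem_sdiff] at this
    exact ⟨this.1.1, this.1.2, this.2⟩
  obtain ⟨M', hM'⟩ := M.exists_cmp (le_normalizer hr.mem) hr.sq (by rw [hr.card_fix]; omega)
  have hv'c := pair_mem hV hV' d c hv h1 hv'
  have hσ : cyc i j k ∈ alt (fixIn Ω (M.φ v)) := by
    rw [hr.fixIn_eq]
    refine cyc_mem_alt ?_ ?_ ?_ hij hjk
    all_goals
      rw [Finset.mem_sdiff]
      refine ⟨(hmem _ (by simp)).1, (hmem _ (by simp)).2.1⟩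
  obtain ⟨y, hy, hyv', hyφ⟩ := M'.exists_comm_lift (t := v') (n := 1) (le_normalizer hv'c)
    (by rw [pow_one, pow_two]; exact hr'.sq) hσ (by
      rw [hM' v' hv'c]
      refine comm_of_fix (T := {i, j, k}) (fun p hp => hr'.apply_eq (hmem p hp).2.2) ?_
      exact alt_le_sym _ (cyc_mem_alt (by simp) (by simp) (by simp) hij hjk))
  have hyL : y ∈ L := M.cmp_le v hy
  have hyM : M.φ y = cyc i j k := by rw [← hM' y hy, hyφ]
  have hyK := hK.le hy
  have hyv : v * y = y * v := M.cmp_comm hy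
  -- `y` fixes `Mv'.cmp v`
  have hMvy : Mv.φ y = cyc i j k := by rw [hK.agree y hy, hyM]
  have hfix := pair_fix hV hV' d c hv h1 hv' hK h1' hN.disj
  have h5 := pair_five hV hV' d c hv h1 hv' hK h1' hN.disj hX
  have hv'K := pair_mem_K hV hV' d c hv h1 hv' hK
  obtain ⟨y2, hy2, hy2φ⟩ := Mv.cmp_lift (le_normalizer hv'K) hr'.sq h5 (σ := cyc i j k) (by
    rw [hfix]
    refine cyc_mem_alt ?_ ?_ ?_ hij hjk
    all_goals
      refine Finset.mem_union_left _ (hF (by simp)))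
  have hc1 : y2⁻¹ * y ∈ core K := by
    rw [← Mv.eq_iff (Mv.cmp_le v' hy2) hyK, hy2φ, hMvy]
  have hC : ∀ {z : G}, v * z = z * v → v' * z = z * v' →
      z ∈ centralizer ({v} : Set G) ⊓ centralizer ({v'} : Set G) := fun h h' =>
    ⟨mem_centralizer_singleton_iff.mpr h.symm, mem_centralizer_singleton_iff.mpr h'.symm⟩
  have hy2C := hA.le hy2
  have hyC := hC hyv hyv'
  have hf2 : Fixes y2 (Mv'.cmp v) := hB.fixes_of_mem hA (Ne.symm hne) hy2
  have hfc : Fixes (y2⁻¹ * y) (Mv'.cmp v) := by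
    refine hB.fixes_of_core (core_inf_le (hK.comp.core_le_core hc1) ?_)
    exact mul_mem (inv_mem hy2C.2) hyC.2
  have hfy : Fixes y (Mv'.cmp v) := by
    have := fixes_mul hf2 hfc
    rwa [mul_inv_cancel_left] at this
  -- but `y` moves `i`
  have hiv' : i ∈ fixIn Ω (M.φ v') := by
    rw [hr'.fixIn_eq, Finset.mem_sdiff]
    exact ⟨(hmem i (by simp)).1, (hmem i (by simp)).2.2⟩
  obtain ⟨h6, h7⟩ := hK'.agree_fix hr'.rt h11 (le_normalizer hyL) hyv'.symm hiv'
  have hiF : i ∈ fixIn (fixIn Ω (M.φ v') ∪ X) (Mv'.φ v) := by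
    rw [pair_fix hV' hV d.symm c.symm hv' h1' hv hK' h1 hN.disj]
    refine Finset.mem_union_left _ ?_
    rw [Finset.mem_sdiff, Finset.mem_sdiff]
    exact ⟨⟨(hmem i (by simp)).1, (hmem i (by simp)).2.2⟩, (hmem i (by simp)).2.1⟩
  have h8 := Mv'.apply_of_fixes_cmp (le_normalizer (pair_mem_K hV' hV d.symm c.symm hv' h1' hv hK'))
    hr.sq (pair_five hV' hV d.symm c.symm hv' h1' hv hK' h1 hN.disj hX) h6 hfy hiF
  rw [h7, hyM, StdAlt.PermTypes.cyc_apply_fst hik hij] at h8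
  exact hij h8.symm

include h11 hX hN hV hV' d c hv h1 hv' h1' hK in
/-- `V` is trivial on `K_{v,v'}` -/
theorem pair_fixes_left {u : G} (hu : u ∈ V) : Fixes u (Mv.cmp v') := by
  obtain ⟨K', Mv', hK'⟩ := hN.ex v' (hV'.rt hv' h1')
  rw [pair_cmp_eq h11 hX hN hV hV' d c hv h1 hv' h1' hK hK']
  have hr := hV.root hv h1
  have hv'v : ∀ {u}, u ∈ V → u ∈ centralizer ({v'} : Set G) := fun hu =>
    mem_centralizer_singleton_iff.mpr (c _ hu v' hv')
  refine Mv'.fixes_cmp hK'.comp (le_normalizer (pair_mem_K hV' hV d.symm c.symm hv' h1' hv hK'))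
    hr.sq (pair_five hV' hV d.symm c.symm hv' h1' hv hK' h1 hN.disj hX) (hv'v hu)
    (le_normalizer (pair_mem_K hV' hV d.symm c.symm hv' h1' hu hK'))
    (mem_centralizer_singleton_iff.mpr (hV.comm hu hv)) fun p hp => ?_
  rw [pair_φ hV' hV d.symm c.symm hv' h1' hu hK']
  refine (hV.mem u hu).2 p fun hpT => ?_
  have h2 := (mem_fixIn.mp hp).2
  rw [pair_φ hV' hV d.symm c.symm hv' h1' hv hK'] at h2
  exact hr.apply_ne hpT h2

include h11 hX hN hV hV' d c hv h1 hv' h1' hK in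
/-- `V'` is trivial on `K_{v,v'}` -/
theorem pair_fixes_right {u : G} (hu : u ∈ V') : Fixes u (Mv.cmp v') := by
  obtain ⟨K', Mv', hK'⟩ := hN.ex v' (hV'.rt hv' h1')
  rw [pair_cmp_eq h11 hX hN hV hV' d c hv h1 hv' h1' hK hK']
  exact pair_fixes_left h11 hX hN hV' hV d.symm c.symm hv' h1' hv h1 hK' hu

include h11 hX hN hV hv h1 hK in
/-- **(2.1)** `V` is trivial on `K_v` -/
theorem CaseN.fixes_K' {u : G} (hu : u ∈ V) :
    u ∈ normalizer (K : Set G) ∧ Mv.φ u = 1 ∧ Fixes u K := by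
  have hr := hV.root hv h1
  have huN : u ∈ normalizer (K : Set G) := by
    obtain ⟨p, hp⟩ : (fixIn Ω (M.φ v)).Nonempty := by
      rw [← Finset.card_pos, hr.card_fix]; omega
    exact (hK.agree_fix hr.rt h11 (le_normalizer (hV.le hu)) (hV.comm hu hv) hp).1
  have key : ∀ p ∈ fixIn Ω (M.φ v) ∪ X, Mv.φ u p = p := by
    intro p hp
    -- a 4-subset of `Ω \ T` avoiding `p`
    have h3 : 4 ≤ ((Ω \ T).erase p).card := by
      have h3 := Finset.pred_card_le_card_erase (s := Ω \ T) (a := p)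
      have h4 := Finset.le_card_sdiff T Ω
      have h5 := hV.card
      omega
    obtain ⟨T₁, hT₁, hT₁4⟩ := Finset.exists_subset_card_eq h3
    have hT₁' : ∀ q ∈ T₁, q ∈ Ω ∧ q ∉ T ∧ q ≠ p := by
      intro q hq
      have h4 := Finset.mem_erase.mp (hT₁ hq)
      have h5 := Finset.mem_sdiff.mp h4.2
      exact ⟨h5.1, h5.2, h4.1⟩
    obtain ⟨V₁, hV₁, c₁⟩ := exists_RF_fix M (T := T₁) (fun q hq => (hT₁' q hq).1) hT₁4 (P := V)
      hV.isPGroup (hV.le.trans le_normalizer) fun u hu q hq => (hV.mem u hu).2 q (hT₁' q hq).2.1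
    have d₁ : Disjoint T T₁ := Finset.disjoint_left.mpr fun q hq hq' => (hT₁' q hq').2.1 hq
    obtain ⟨w, hw, hw1⟩ := hV₁.exists_ne
    refine Mv.apply_of_fixes_cmp (t := w)
      (le_normalizer (pair_mem_K hV hV₁ d₁ c₁.symm hv h1 hw hK)) (hV₁.sq w hw)
      (pair_five hV hV₁ d₁ c₁.symm hv h1 hw hK hw1 hN.disj hX) huN
      (pair_fixes_left h11 hX hN hV hV₁ d₁ c₁.symm hv h1 hw hw1 hK hu) ?_
    rw [pair_fix hV hV₁ d₁ c₁.symm hv h1 hw hK hw1 hN.disj]
    rcases Finset.mem_union.mp hp with hp | hp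
    · rw [hr.fixIn_eq] at hp
      refine Finset.mem_union_left _ (Finset.mem_sdiff.mpr ⟨hp, fun h => (hT₁' p h).2.2 rfl⟩)
    · exact Finset.mem_union_right _ hp
  have hφ : Mv.φ u = 1 := by
    ext p
    rw [Perm.one_apply]
    by_cases hp : p ∈ fixIn Ω (M.φ v) ∪ X
    · exact key p hp
    · exact Mv.mem_sym u huN p hp
  exact ⟨huN, hφ, (Mv.fixes_iff huN).mp hφ⟩

include h11 hX hN hV hV' d c hv h1 hK in
/-- **(2.2)** -/
theorem CaseN.fixes_other' {J : Subgroup G} (hJ : IsComp (centralizer ({v} : Set G)) J) (hne : J ≠ K)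
    {e : G} (he : e ∈ V ⊔ V') : Fixes e J := by
  have hright : ∀ w ∈ V', Fixes w J := fun w hw =>
    hJ.fixes_of_mem hK.comp hne (pair_mem_K hV hV' d c hv h1 hw hK)
  refine fixes_sup (fun u hu => ?_) hright he
  obtain ⟨w, hw, h2⟩ := hV'.exists_ne
  obtain ⟨K', Mv', hK'⟩ := hN.ex w (hV'.rt hw h2)
  have hww := hV'.sq w hw
  have hvv := hV.sq v hv
  have hwJ := hright w hw
  have hwv : w ∈ centralizer ({v} : Set G) := mem_centralizer_singleton_iff.mpr (c v hv w hw).symm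
  have hvw : v ∈ centralizer ({w} : Set G) := mem_centralizer_singleton_iff.mpr (c v hv w hw)
  have huv : u ∈ centralizer ({v} : Set G) := mem_centralizer_singleton_iff.mpr (hV.comm hu hv)
  have huw : u ∈ centralizer ({w} : Set G) := mem_centralizer_singleton_iff.mpr (c u hu w hw)
  obtain ⟨hZ, -⟩ := isComp_cen hJ hwv hww hwJ
  have hZ' := hZ
  rw [inf_comm] at hZ'
  have hvK' := pair_mem_K hV' hV d.symm c.symm hw h2 hv hK'
  obtain ⟨J', hJ', hle⟩ := exists_comp_ge hvw hvv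
    (fun J hJ => mem_normalizer_of_comp hJ hK'.comp hvK') hZ'
  have hne' : J' ≠ K' := by
    rintro rfl
    have h3 := isComp_inf hZ' hJ' hle
    obtain ⟨h4, -⟩ := (Mv'.isComp_iff_cmp (le_normalizer hvK') hvv).mp h3
    rw [← pair_cmp_eq h11 hX hN hV hV' d c hv h1 hw h2 hK hK'] at h4
    apply hne
    refine hZ.unique hJ hK.comp (cen_le J w) ?_
    rw [h4]
    exact Mv.cmp_le w
  have h5 : Fixes u J' := hJ'.fixes_of_mem hK'.comp hne'
    (pair_mem_K hV' hV d.symm c.symm hw h2 hu hK')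
  have h6 : Fixes u (cen J w) := fixes_of_le hJ' hZ' hle huw huv h5
  exact fixes_of_cen hJ hwv hww hwJ huv h6

include h11 hX hN hV hV' d c hv h1 hv' h1' hK in
/-- `E` is trivial on `K_{v,v'}` -/
theorem CaseN.fixes_cmp' {e : G} (he : e ∈ V ⊔ V') : Fixes e (Mv.cmp v') :=
  fixes_sup (fun _ he => pair_fixes_left h11 hX hN hV hV' d c hv h1 hv' h1' hK he)
    (fun _ he => pair_fixes_right h11 hX hN hV hV' d c hv h1 hv' h1' hK he) he

end two

/-- the third root for `|Ω| + |X| ≤ 16` -/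
structure Third (M : Mod L Ω) (V V' : Subgroup G) (v v' : G) (Z : Subgroup G) (r : G) (Kr : Subgroup G) :
    Prop where
  mem : r ∈ Z
  sq : r * r = 1
  comm : ∀ e ∈ V ⊔ V', e * r = r * e
  comp : IsComp (centralizer ({r} : Set G)) Kr
  le : V ⊔ V' ≤ Kr
  no : ∀ J, ¬ IsComp (Kr ⊓ centralizer ({v * v'} : Set G)) J

section three

variable (h11 : 11 ≤ Ω.card) (hX : 13 ≤ Ω.card + X.card) (hN : CaseN M a X)
  (hV : RF M V T) (hV' : RF M V' T') (d : Disjoint T T') (c : Cm V V')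
  {v v' : G} (hv : v ∈ V) (h1 : v ≠ 1) (hv' : v' ∈ V') (h1' : v' ≠ 1)
  {K : Subgroup G} {Mv : Mod K (fixIn Ω (M.φ v) ∪ X)} (hK : KD M a X v K Mv)

/-- **(2.4)** -/
theorem fixes_prod_of_third {Z N : Subgroup G} {v w r : G} {V V' Kr : Subgroup G}
    (hvv : v * v = 1) (hww : w * w = 1) (hvw : v * w = w * v) (hv : v ∈ V) (hw : w ∈ V')
    (cf : ∀ e ∈ V ⊔ V', e ∈ centralizer ({v * w} : Set G)) (hT : Third M V V' v w Z r Kr)
    (hZ : IsComp (centralizer ({v} : Set G) ⊓ centralizer ({w} : Set G)) Z)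
    (hN : IsComp (centralizer ({v * w} : Set G)) N)
    (h : (v ∈ normalizer (N : Set G) ∧ Z ≤ N) ∨
        (IntrinsicBasic.cj v N ≠ N ∧ Z = diag (centralizer ({v * w} : Set G)) N v))
    {J : Subgroup G} (hJ : IsComp (centralizer ({v * w} : Set G)) J) (hJN : J ≠ N)
    (hJN' : J ≠ IntrinsicBasic.cj v N) {e : G} (he : e ∈ V ⊔ V') : Fixes e J := by
  have hvE : v ∈ V ⊔ V' := mem_sup_left hv
  have hwE : w ∈ V ⊔ V' := mem_sup_right hw
  have hrC := hZ.le hT.mem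
  have hrf : r ∈ centralizer ({v * w} : Set G) := by
    have h2 := hT.comm _ (mul_mem hvE hwE)
    exact mem_centralizer_singleton_iff.mpr h2.symm
  have hff : v * w * (v * w) = 1 := by
    rw [mul_assoc, ← mul_assoc w v w, ← hvw, mul_assoc v w w, hww, mul_one, hvv]
  have hrJ : Fixes r J := by
    rcases h with ⟨-, h⟩ | ⟨hne, h⟩
    · exact hJ.fixes_of_mem hN hJN (h hT.mem)
    · have hr := hT.mem
      rw [h] at hr
      exact fixes_of_comm_core hJ hrf fun l hl =>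
        comm_diag_of_ne hN (cf v hvE) hvv hne hJ hJN hJN' hr hl
  obtain ⟨hJ1, -⟩ := isComp_cen hJ hrf hT.sq hrJ
  have hJ1' := hJ1
  rw [inf_comm] at hJ1'
  have hfK : v * w ∈ Kr := hT.le (mul_mem hvE hwE)
  have hcr : ∀ {x}, x ∈ V ⊔ V' → x ∈ centralizer ({r} : Set G) := fun hx =>
    mem_centralizer_singleton_iff.mpr (hT.comm _ hx)
  obtain ⟨J'', hJ'', hle⟩ := exists_comp_ge (hcr (mul_mem hvE hwE)) hff
    (fun J hJ => mem_normalizer_of_comp hJ hT.comp hfK) hJ1'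
  have hne : J'' ≠ Kr := by
    rintro rfl
    exact hT.no _ (isComp_inf hJ1' hJ'' hle)
  refine fixes_of_cen hJ hrf hT.sq hrJ (cf e he) ?_
  exact fixes_of_le hJ'' hJ1' hle (hcr he) (cf e he) (hJ''.fixes_of_mem hT.comp hne (hT.le he))

include h11 hX hN hV hV' d c hv h1 hv' h1' hK in
/-- **(2.3)** the third root -/
theorem exists_third (hX' : Ω.card + X.card ≤ 15) :
    ∃ r Kr, Third M V V' v v' (Mv.cmp v') r Kr := by
  obtain ⟨K', Mv', hK'⟩ := hN.ex v' (hV'.rt hv' h1')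
  have hr := hV.root hv h1
  have hr' := hV'.root hv' h1'
  have hcmp := pair_cmp_eq h11 hX hN hV hV' d c hv h1 hv' h1' hK hK'
  have hvK' := pair_mem_K hV' hV d.symm c.symm hv' h1' hv hK'
  have hwK := pair_mem_K hV hV' d c hv h1 hv' hK
  have hfix := pair_fix hV hV' d c hv h1 hv' hK h1' hN.disj
  have hfix' := pair_fix hV' hV d.symm c.symm hv' h1' hv hK' h1 hN.disj
  have h5 := pair_five hV hV' d c hv h1 hv' hK h1' hN.disj hX
  have h5' := pair_five hV' hV d.symm c.symm hv' h1' hv hK' h1 hN.disj hX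
  have hc' := pair_card hV' hV d.symm c.symm hv' h1' hv hK' h1 hN.disj
  -- the 2-group `P = V V'`
  have hVV' : V ≤ normalizer (V' : Set G) := by
    intro u hu
    rw [mem_normalizer_iff]
    intro w
    have key : ∀ u ∈ V, ∀ w ∈ V', u * w * u⁻¹ = w := fun u hu w hw => by
      rw [c u hu w hw, mul_inv_cancel_right]
    refine ⟨fun hw => by rw [key u hu w hw]; exact hw, fun hw => ?_⟩
    have h2 := key u⁻¹ (inv_mem hu) _ hw
    rw [show u⁻¹ * (u * w * u⁻¹) * u⁻¹⁻¹ = w by group] at h2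
    rw [h2]; exact hw
  have hP : IsPGroup 2 ↥(V ⊔ V') := IsPGroup.to_sup_of_normal_right' hV.isPGroup hV'.isPGroup hVV'
  obtain ⟨R₀, hR₀, hR₀4⟩ := Finset.exists_subset_card_eq (show 4 ≤ _ from (by omega : 4 ≤
    (fixIn (fixIn Ω (M.φ v) ∪ X) (Mv.φ v')).card))
  have hR₀S : R₀ ⊆ fixIn Ω (M.φ v) ∪ X := hR₀.trans (fixIn_subset _ _)
  have hR₀T' : ∀ x ∈ R₀, x ∉ T' := by
    intro x hx hxT
    have h2 := (mem_fixIn.mp (hR₀ hx)).2
    rw [pair_φ hV hV' d c hv h1 hv' hK] at h2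
    exact hr'.apply_ne hxT h2
  have hle : V ⊔ V' ≤ Mv.fixSub R₀ := by
    refine sup_le (fun u hu => ?_) fun w hw => ?_
    · obtain ⟨h2, h3, -⟩ := CaseN.fixes_K' h11 hX hN hV hv h1 hK hu
      exact ⟨h2, fun x _ => by rw [h3]; rfl⟩
    · refine ⟨le_normalizer (pair_mem_K hV hV' d c hv h1 hw hK), fun x hx => ?_⟩
      rw [pair_φ hV hV' d c hv h1 hw hK]
      exact (hV'.mem w hw).2 x (hR₀T' x hx)
  obtain ⟨W, hW, cW⟩ := exists_RF_fix Mv hR₀S hR₀4 hP (fun p hp => (hle hp).1)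
    (fun p hp x hx => (hle hp).2 x hx)
  obtain ⟨r, hrW, hr1⟩ := hW.exists_ne
  have hrr := hW.sq r hrW
  have hrE : ∀ e ∈ V ⊔ V', e * r = r * e := fun e he => (cW r hrW e he).symm
  have hrK : r ∈ K := hW.le hrW
  have hwr : v' * r = r * v' := hrE v' (mem_sup_right hv')
  have hrZ : r ∈ Mv.cmp v' := Mv.mem_cmp (n := 1) hrK hwr
    (alt_mono hR₀ (hW.mem r hrW)) (by rw [pow_one, pow_two]; exact hrr)
  have hrφ1 : Mv.φ r ≠ 1 := fun h => hr1 (hW.eq_one hrW h)
  -- the conjugating element `k`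
  have hT'S : T' ⊆ fixIn Ω (M.φ v) ∪ X := fun x hx => by
    refine Finset.mem_union_left _ ?_
    rw [hr.fixIn_eq, Finset.mem_sdiff]
    exact ⟨hV'.sub hx, fun h => Finset.disjoint_left.mp d h hx⟩
  have hwφ : Mv.φ v' ∈ four T' := by
    rw [pair_φ hV hV' d c hv h1 hv' hK]; exact hV'.label hv'
  have hwφ1 : Mv.φ v' ≠ 1 := by
    rw [pair_φ hV hV' d c hv h1 hv' hK]; exact hr'.φ_ne_one
  obtain ⟨σ, hσ, -, hσ'⟩ := exists_alt_conj hT'S hR₀S hV'.card hR₀4 hwφ hwφ1 (hW.label hrW) hrφ1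
  obtain ⟨k, hk, hkV, hkw⟩ := Mv.exists_conj_fix hV.isPGroup
    (fun u hu => (CaseN.fixes_K' h11 hX hN hV hv h1 hK hu).1) hwK hrK (hV'.sq v' hv') hrr
    (fun u hu => c u hu v' hv') (fun u hu => hrE u (mem_sup_left hu)) hσ
    (fun u hu => by
      rw [(CaseN.fixes_K' h11 hX hN hV hv h1 hK hu).2.1, one_mul, mul_one]) hσ'
  -- the conjugating element `h`
  have hrZ' : r ∈ Mv'.cmp v := hcmp ▸ hrZ
  have hrK' : r ∈ K' := Mv'.cmp_le v hrZ'
  have hrφ' := Mv'.cmp_mem_alt hrZ'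
  have hne_of : ∀ {K : Subgroup G} {S : Finset α} (M : Mod K S) {x : G}, x ∈ K → x * x = 1 →
      x ≠ 1 → M.φ x ≠ 1 := fun M x hx hxx hx1 h =>
    hx1 (eq_one_of_mem_core_sq ((M.core_iff _ hx).mp h) hxx)
  have hrφ1' := hne_of Mv' hrK' hrr hr1
  have hsupp4 := card_support_of_inv hrφ' (by omega) (Mv'.sq (le_normalizer hrK') hrr) hrφ1'
  have hsub' : (Mv'.φ r).support ⊆ fixIn (fixIn Ω (M.φ v') ∪ X) (Mv'.φ v) := by
    intro x hx
    by_contra h
    exact mem_support.mp hx (hrφ'.2 x h)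
  have hTS' : T ⊆ fixIn Ω (M.φ v') ∪ X := fun x hx => by
    refine Finset.mem_union_left _ ?_
    rw [hr'.fixIn_eq, Finset.mem_sdiff]
    exact ⟨hV.sub hx, fun h => Finset.disjoint_left.mp d hx h⟩
  have hvφ : Mv'.φ v ∈ four T := by
    rw [pair_φ hV' hV d.symm c.symm hv' h1' hv hK']; exact hV.label hv
  have hvφ1 : Mv'.φ v ≠ 1 := by
    rw [pair_φ hV' hV d.symm c.symm hv' h1' hv hK']; exact hr.φ_ne_one
  obtain ⟨τ, hτ, -, hτ'⟩ := exists_alt_conj hTS' (hsub'.trans (fixIn_subset _ _)) hV.card hsupp4 hvφ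
    hvφ1 (mem_four_of_isRoot ⟨Mv'.sq (le_normalizer hrK') hrr, hsupp4⟩ hrφ'.1) hrφ1'
  obtain ⟨h, hh, hhV, hhv⟩ := Mv'.exists_conj_fix hV'.isPGroup
    (fun u hu => (CaseN.fixes_K' h11 hX hN hV' hv' h1' hK' hu).1) hvK' hrK' (hV.sq v hv) hrr
    (fun u hu => (c v hv u hu).symm) (fun u hu => hrE u (mem_sup_right hu)) hτ
    (fun u hu => by
      rw [(CaseN.fixes_K' h11 hX hN hV' hv' h1' hK' hu).2.1, one_mul, mul_one]) hτ'
  -- the 2-component of `C(r)`
  obtain ⟨Kr, hKr⟩ : ∃ Kr, Kr = IntrinsicBasic.cj k K' := ⟨_, rfl⟩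
  obtain ⟨K₂, hK₂⟩ : ∃ K₂, K₂ = IntrinsicBasic.cj h K := ⟨_, rfl⟩
  have hCr : IsComp (centralizer ({r} : Set G)) Kr := by
    have h2 := hK'.comp.cj k
    rw [cj_centralizer, hkw] at h2
    rw [hKr]; exact h2
  have hC₂ : IsComp (centralizer ({r} : Set G)) K₂ := by
    have h2 := hK.comp.cj h
    rw [cj_centralizer, hhv] at h2
    rw [hK₂]; exact h2
  have hconjV : ∀ u ∈ V, k⁻¹ * u * k = u := fun u hu => by
    rw [mul_assoc, hkV u hu, inv_mul_cancel_left]
  have hVKr : V ≤ Kr := fun u hu => by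
    rw [hKr, mem_cj, hconjV u hu]
    exact pair_mem_K hV' hV d.symm c.symm hv' h1' hu hK'
  have hV'K₂ : V' ≤ K₂ := fun u hu => by
    rw [hK₂, mem_cj, mul_assoc, hhV u hu, inv_mul_cancel_left]
    exact pair_mem_K hV hV' d c hv h1 hu hK
  have hVK₂ : V ≤ K₂ := by
    intro u hu
    have h2 : u ∈ Mv'.cmp r := by
      refine Mv'.mem_cmp (n := 1) (pair_mem_K hV' hV d.symm c.symm hv' h1' hu hK')
        (hrE u (mem_sup_left hu)).symm ?_ (by rw [pow_one, pow_two]; exact hV.sq u hu)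
      rw [pair_φ hV' hV d.symm c.symm hv' h1' hu hK']
      refine alt_mono (fun x hx => ?_) (hV.mem u hu)
      refine mem_fixIn.mpr ⟨hTS' hx, hrφ'.2 x fun hx' => ?_⟩
      have h3 := (mem_fixIn.mp hx').2
      rw [pair_φ hV' hV d.symm c.symm hv' h1' hv hK'] at h3
      exact hr.apply_ne hx h3
    rw [← hhv, Mv'.cmp_conj (le_normalizer hh) (le_normalizer hvK') hr.sq h5', ← hcmp, mem_cj] at h2
    rw [hK₂, mem_cj]
    exact Mv.cmp_le v' h2
  have hMr : (Mv'.cj k).φ v = Mv'.φ v := by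
    rw [Mod.cj_φ, hconjV v hv]
  have heq : Kr = K₂ := by
    by_contra hne
    have h2 : Fixes v Kr := hCr.fixes_of_mem hC₂ hne (hVK₂ hv)
    rw [hKr, ← (Mv'.cj k).fixes_iff (le_normalizer (hKr ▸ hVKr hv)), hMr] at h2
    exact hvφ1 h2
  have hEKr : V ⊔ V' ≤ Kr := sup_le hVKr (heq ▸ hV'K₂)
  have hvKr : v ∈ Kr := hVKr hv
  have hwKr : v' ∈ Kr := hEKr (mem_sup_right hv')
  refine ⟨r, Kr, hrZ, hrr, hrE, hCr, hEKr, fun J hJ => ?_⟩
  -- `v v'` has at most three fixed points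
  subst hKr
  have hff : v * v' * (v * v') = 1 := by
    rw [mul_assoc, ← mul_assoc v' v v', ← c v hv v' hv', mul_assoc v v' v', hV'.sq v' hv', mul_one,
      hV.sq v hv]
  obtain ⟨-, h6⟩ := ((Mv'.cj k).isComp_iff_cmp (le_normalizer (mul_mem hvKr hwKr)) hff).mp hJ
  have hwr' : k⁻¹ * v' * k ∈ Mv'.cmp v := by
    have h2 : v' ∈ Mv.cmp r := by
      refine Mv.mem_cmp (n := 1) hwK hwr.symm ?_ (by rw [pow_one, pow_two]; exact hr'.sq)
      rw [pair_φ hV hV' d c hv h1 hv' hK]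
      refine alt_mono (fun x hx => ?_) (hV'.mem v' hv')
      exact mem_fixIn.mpr ⟨hT'S hx, (hW.mem r hrW).2 x fun hx' => hR₀T' x hx' hx⟩
    rw [← hkw, Mv.cmp_conj (le_normalizer hk) (le_normalizer hwK) hr'.sq h5, hcmp, mem_cj] at h2
    exact h2
  have hγ := Mv'.cmp_mem_alt hwr'
  have hγ1 := hne_of (Mv'.cj k) hwKr hr'.sq h1'
  have hγφ : (Mv'.cj k).φ v' = Mv'.φ (k⁻¹ * v' * k) := Mod.cj_φ _ _ _
  rw [← hγφ] at hγ
  have hγ4 := card_support_of_inv hγ (by omega) ((Mv'.cj k).sq (le_normalizer hwKr) hr'.sq) hγ1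
  have hγsub : ((Mv'.cj k).φ v').support ⊆ fixIn (fixIn Ω (M.φ v') ∪ X) (Mv'.φ v) := by
    intro x hx
    by_contra h
    exact mem_support.mp hx (hγ.2 x h)
  have hsub : fixIn (fixIn Ω (M.φ v') ∪ X) ((Mv'.cj k).φ (v * v')) ⊆
      fixIn (fixIn Ω (M.φ v') ∪ X) (Mv'.φ v) \ ((Mv'.cj k).φ v').support := by
    intro x hx
    obtain ⟨hxS, hx2⟩ := mem_fixIn.mp hx
    rw [(Mv'.cj k).mul _ _ (le_normalizer hvKr) (le_normalizer hwKr), Perm.mul_apply, hMr] at hx2
    have h3 : (Mv'.cj k).φ v' x = x := by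
      by_contra hne
      have h4 : x ∈ ((Mv'.cj k).φ v').support := mem_support.mpr hne
      have h5 : (Mv'.cj k).φ v' x ∈ ((Mv'.cj k).φ v').support := apply_mem_support.mpr h4
      rw [(mem_fixIn.mp (hγsub h5)).2] at hx2
      exact hne hx2
    rw [h3] at hx2
    exact Finset.mem_sdiff.mpr ⟨mem_fixIn.mpr ⟨hxS, hx2⟩, fun h => mem_support.mp h h3⟩
  have h7 := Finset.card_le_card hsub
  have h8 := Finset.card_sdiff_add_card_eq_card hγsub
  omega

end three

section final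

variable (h11 : 11 ≤ Ω.card) (hodd : Odd Ω.card) (hX : 13 ≤ Ω.card + X.card) (hN : CaseN M a X)
  (hV : RF M V T) (hV' : RF M V' T') (d : Disjoint T T') (c : Cm V V')
  {v v' : G} (hv : v ∈ V) (h1 : v ≠ 1) (hv' : v' ∈ V') (h1' : v' ≠ 1)
  {K : Subgroup G} {Mv : Mod K (fixIn Ω (M.φ v) ∪ X)} (hK : KD M a X v K Mv)

include h11 hodd hX hN hV hV' d c hv h1 hv' h1' hK in
/-- **(N1)(iv)** without the third four-group -/
theorem CaseN.prod' : ∃ N, IsComp (centralizer ({v * v'} : Set G)) N ∧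
    ((v ∈ normalizer (N : Set G) ∧ Mv.cmp v' ≤ N) ∨ (IntrinsicBasic.cj v N ≠ N ∧
      Mv.cmp v' = diag (centralizer ({v * v'} : Set G)) N v)) ∧
    ∀ J, IsComp (centralizer ({v * v'} : Set G)) J → J ≠ N → J ≠ IntrinsicBasic.cj v N →
      ∀ e ∈ V ⊔ V', Fixes e J := by
  rcases Nat.lt_or_ge Ω.card 13 with h13 | h13
  · have h11' : Ω.card = 11 := by
      obtain ⟨m, hm⟩ := hodd
      omega
    have hX' : Ω.card + X.card ≤ 15 := by
      rcases hN.card with h | h | h <;> omega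
    have hvv := hV.sq v hv
    have hww := hV'.sq v' hv'
    have hvw := c v hv v' hv'
    have hZ := pair_isComp (a := a) hX hN hV hV' d c hv h1 hv' h1' hK
    have cf : ∀ e ∈ V ⊔ V', e ∈ centralizer ({v * v'} : Set G) := by
      refine fun e he => (sup_le ?_ ?_ : V ⊔ V' ≤ centralizer ({v * v'} : Set G)) he
      · intro u hu
        rw [mem_centralizer_singleton_iff, ← mul_assoc, hV.comm hu hv, mul_assoc, c u hu v' hv',
          mul_assoc]
      · intro u hu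
        rw [mem_centralizer_singleton_iff, ← mul_assoc, ← c v hv u hu, mul_assoc, hV'.comm hu hv',
          mul_assoc]
    have hZ' := hZ
    rw [cent_mul_eq] at hZ'
    obtain ⟨N, hN1, -, hN2⟩ := McLLyComp.PumpT.exists_pump (X := centralizer ({v * v'} : Set G))
      (s := v) (cf v (mem_sup_left hv)) hvv hZ'
    obtain ⟨r, Kr, hT⟩ := exists_third h11 hX hN hV hV' d c hv h1 hv' h1' hK hX'
    exact ⟨N, hN1, hN2, fun J hJ hJN hJN' e he =>
      fixes_prod_of_third hvv hww hvw hv hv' cf hT hZ hN1 hN2 hJ hJN hJN' he⟩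
  · -- a third four-group
    have hcard : 4 ≤ ((Ω \ T) \ T').card := by
      have h3 := Finset.le_card_sdiff T' (Ω \ T)
      have h4 := Finset.le_card_sdiff T Ω
      have h5 := hV.card
      have h6 := hV'.card
      omega
    obtain ⟨T'', hT'', hT''4⟩ := Finset.exists_subset_card_eq hcard
    have hm : ∀ x ∈ T'', x ∈ Ω ∧ x ∉ T ∧ x ∉ T' := by
      intro x hx
      have := hT'' hx
      rw [Finset.mem_sdiff, Finset.mem_sdiff] at this
      exact ⟨this.1.1, this.1.2, this.2⟩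
    have hVV' : V ≤ normalizer (V' : Set G) := by
      intro u hu
      rw [mem_normalizer_iff]
      intro w
      have key : ∀ u ∈ V, ∀ w ∈ V', u * w * u⁻¹ = w := fun u hu w hw => by
        rw [c u hu w hw, mul_inv_cancel_right]
      refine ⟨fun hw => by rw [key u hu w hw]; exact hw, fun hw => ?_⟩
      have h2 := key u⁻¹ (inv_mem hu) _ hw
      rw [show u⁻¹ * (u * w * u⁻¹) * u⁻¹⁻¹ = w by group] at h2
      rw [h2]; exact hw
    have hP : IsPGroup 2 ↥(V ⊔ V') :=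
      IsPGroup.to_sup_of_normal_right' hV.isPGroup hV'.isPGroup hVV'
    have hle : V ⊔ V' ≤ M.fixSub T'' := sup_le
      (fun u hu => ⟨le_normalizer (hV.le hu), fun x hx => (hV.mem u hu).2 x (hm x hx).2.1⟩)
      (fun u hu => ⟨le_normalizer (hV'.le hu), fun x hx => (hV'.mem u hu).2 x (hm x hx).2.2⟩)
    obtain ⟨V'', hV'', c''⟩ := exists_RF_fix M (T := T'') (fun x hx => (hm x hx).1) hT''4 hP
      (fun p hp => (hle hp).1) (fun p hp x hx => (hle hp).2 x hx)
    obtain ⟨N, hN1, hN2, hN3⟩ := CaseN.prod h13 hN hV hV' hV'' d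
      (Finset.disjoint_left.mpr fun x hx hx' => (hm x hx').2.1 hx)
      (Finset.disjoint_left.mpr fun x hx hx' => (hm x hx').2.2 hx) c
      (fun u hu w hw => (c'' w hw u (mem_sup_left hu)).symm)
      (fun u hu w hw => (c'' w hw u (mem_sup_right hu)).symm) hv h1 hv' h1' hK
    exact ⟨N, hN1, hN2, fun J hJ hJN hJN' e he => hN3 J hJ hJN hJN' e (mem_sup_left he)⟩

end final

end pair

end Cfsg.Agent.UAlt
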