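import Cfsg.Agent.UAlt.Root
import Cfsg.Agent.UAlt.Frame
import Cfsg.Agent.UGT.RedAlt
import Cfsg.Agent.UAlt.TrExists

/-!
# Balance in case N: no triple `(e, f, J)` for members `e`, `f` of the product of two root four-groups

* `Mod.altType_cmp`: the type of `M.cmp t`.
* `SmallAlt`, `HeAlt`: the alternatives in `Hyp.small`.
* `no_triple_v`, `no_triple_prod`: (v) of helper236's text (7').
-/

set_option autoImplicit false
set_option linter.unusedSectionVars false

open Cfsg Subgroup Equiv Equiv.Perm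
open Cfsg.Agent.SignalizersComponents Cfsg.Agent.Lib
open Cfsg.Agent.SignalizersComponents.IntrinsicBasic
open Cfsg.Agent.SignalizersComponents.IntrinsicIntr
open Cfsg.Agent.SignalizersComponents.PLayerAut
open Cfsg.Agent.Intrinsic.Basic Cfsg.Agent.Intrinsic.Cen Cfsg.Agent.Intrinsic.Diag
open Cfsg.Agent.UGT.Triple Cfsg.Agent.UGT.LemG Cfsg.Agent.UGT.PumpGen Cfsg.Agent.UGT.RedAlt
open scoped commutatorElement

namespace Cfsg.Agent.UAlt
section cover

variable {G : Type*} [Group G] [Finite G]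

/-- a subgroup `C ≤ K` with `|C / O(C)| = |K / O(K)|` covers `K / O(K)` -/
theorem cover_of_card {C K : Subgroup G} (hCK : C ≤ K)
    (hcard : Nat.card (↥C ⧸ oddCore ↥C) = Nat.card (↥K ⧸ oddCore ↥K)) : C ⊔ core K = K := by
  have h1 : C ⊓ core K ≤ core C := by
    refine le_core inf_le_left ?_ (Odd.of_dvd_nat (odd_card_core K) (card_dvd_of_le inf_le_right))
    intro c hc
    have e2 : c ∈ normalizer (core K : Set G) := le_normalizer_core K (hCK hc)
    rw [mem_normalizer_iff_cj] at e2 ⊢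
    rw [cj_inf, e2, cj_eq_self_of_mem hc]
  let f : ↥C →* (↥K ⧸ oddCore ↥K) := (QuotientGroup.mk' (oddCore ↥K)).comp (inclusion hCK)
  have hker : f.ker ≤ oddCore ↥C := by
    intro c hc
    rw [← mem_core_iff c.2]
    exact h1 ⟨c.2, (mem_core_iff (hCK c.2)).mpr ((QuotientGroup.eq_one_iff _).mp hc)⟩
  have h2 : Nat.card (↥K ⧸ oddCore ↥K) ≤ Nat.card f.range := by
    rw [← hcard, ← Nat.card_congr (QuotientGroup.quotientKerEquivRange f).toEquiv]
    refine Nat.card_le_card_of_surjective (QuotientGroup.map f.ker (oddCore ↥C) (MonoidHom.id _) hker) ?_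
    intro y
    obtain ⟨c, rfl⟩ := QuotientGroup.mk'_surjective _ y
    exact ⟨QuotientGroup.mk' _ c, rfl⟩
  have h3 : f.range = ⊤ := Subgroup.eq_top_of_le_card _ h2
  refine sup_of_exists hCK fun x hx => ?_
  have h4 : (QuotientGroup.mk' (oddCore ↥K)) ⟨x, hx⟩ ∈ f.range := by rw [h3]; trivial
  obtain ⟨c, hc⟩ := h4
  exact ⟨c, c.2, mk_eq_mk_iff.mp hc⟩

variable {α : Type*} [Fintype α] [DecidableEq α] {K : Subgroup G} {S : Finset α}

/-- the type of `M.cmp t` -/
theorem Mod.altType_cmp (M : Mod K S) {t : G} (ht : t ∈ normalizer (K : Set G)) (htt : t * t = 1)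
    (h5 : 5 ≤ (fixIn S (M.φ t)).card) : AltType (M.cmp t) (fixIn S (M.φ t)).card := by
  have hlift : ∀ {σ : Perm α}, σ ∈ alt (fixIn S (M.φ t)) → ∃ k ∈ M.cmp t, M.φ k = σ :=
    fun hσ => M.cmp_lift ht htt h5 hσ
  let ε : ↥(M.cmp t) →* ↥(alt (fixIn S (M.φ t))) :=
    { toFun := fun x => ⟨M.φ x, M.cmp_mem_alt x.2⟩
      map_one' := Subtype.ext M.one
      map_mul' := fun x y => Subtype.ext (M.mul x y (le_normalizer (M.cmp_le t x.2))
        (le_normalizer (M.cmp_le t y.2))) }
  have hε : Function.Surjective ε := by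
    rintro ⟨σ, hσ⟩
    obtain ⟨k, hk, rfl⟩ := hlift hσ
    exact ⟨⟨k, hk⟩, rfl⟩
  have hE := M.isComp_cmp ht htt h5
  have hker : ε.ker = oddCore ↥(M.cmp t) := by
    have hodd : Odd (Nat.card ε.ker) := by
      have h1 : ε.ker.map (M.cmp t).subtype ≤ core K := by
        rintro _ ⟨m, hm, rfl⟩
        exact (M.core_iff _ (M.cmp_le t m.2)).mp (congrArg Subtype.val hm)
      have h2 := Subgroup.card_dvd_of_le h1
      rw [Subgroup.card_map_of_injective (Subgroup.subtype_injective _)] at h2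
      exact Odd.of_dvd_nat (odd_card_core K) h2
    apply le_antisymm
    · exact Cores.le_pPrimeCore inferInstance (Nat.coprime_two_right.mpr hodd)
    · intro x hx
      have h1 : (x : G) ∈ core (M.cmp t) := (mem_core_iff x.2).mpr hx
      have h2 := M.core_cent_le ht htt (by omega) (hE.core_le_core h1)
      rw [MonoidHom.mem_ker]
      exact Subtype.ext ((M.core_iff _ (M.cmp_le t x.2)).mpr h2)
  refine ⟨(((QuotientGroup.quotientMulEquivOfEq hker.symm).trans
    (QuotientGroup.quotientKerEquivOfSurjective _ hε)).trans (altEquiv _).symm).trans ?_⟩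
  exact Equiv.altCongrHom ((fixIn S (M.φ t)).equivFin)

theorem AltType.card_eq {K K' : Subgroup G} {m : ℕ} (h : AltType K m) (h' : AltType K' m) :
    Nat.card (↥K ⧸ oddCore ↥K) = Nat.card (↥K' ⧸ oddCore ↥K') := by
  obtain ⟨e⟩ := h
  obtain ⟨e'⟩ := h'
  exact Nat.card_congr (e.trans e'.symm).toEquiv

end cover

section alternatives

variable {G : Type*} [Group G]

/-- the alternatives of `Hyp.small` for the triple `(x, f, J)` -/
def SmallAlt (x f : G) (J : Subgroup G) : Prop :=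
  (∃ m, 7 ≤ m ∧ AltType J m) ∨
    ∀ {t : G}, t ∈ centralizer ({f} : Set G) → t ∈ normalizer (J : Set G) → t * t = 1 →
      ∀ {E : Subgroup G}, IsComp (J ⊓ centralizer ({t} : Set G)) E → ∀ {k : ℕ}, 5 ≤ k → AltType E k →
        Fixes x E → ∀ {U : Subgroup G}, U ≤ centralizer ({f} : Set G) → (∀ u ∈ U, u * u = 1) →
          Nat.card U = 4 → (∀ u ∈ U, u ∈ normalizer (J : Set G) ∧ u * t = t * u ∧ u * x = x * u ∧ Fixes u E) →
            ∃ u ∈ U, u ≠ 1 ∧ Fixes u J

/-- the alternative for type `He` (not needed if `He` is excluded before) -/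
def HeAlt (J : Subgroup G) : Prop :=
  ∀ w ∈ J, w * w = 1 → ∃ P : Subgroup G, P ≤ J ⊓ centralizer ({w} : Set G) ∧ ⁅P, P⁆ = P ∧ w ∈ P

theorem Hyp.small' [Finite G] {n : ℕ} (H : Hyp G n) {x f : G} {J : Subgroup G} (T : IsTriple x f J) :
    SmallAlt x f J ∨ HeAlt J := by
  first
  | exact Or.inl (H.small T)
  | (rcases H.small T with h | h | h
     · exact Or.inl (Or.inl h)
     · exact Or.inl (Or.inr h)
     · exact Or.inr h)

end alternatives

section bal

variable {G : Type*} [Group G] [Finite G] {α : Type*} [Fintype α] [DecidableEq α]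

/-- no triple `(e, v, J)` -/
theorem no_triple_v {v e : G} {K : Subgroup G} {P : Finset α} (Mv : Mod K P)
    (ho : ∀ J, IsComp (centralizer ({v} : Set G)) J → J ≠ K → Fixes e J)
    (h3 : (fixIn P (Mv.φ e)).card ≠ 3) {J : Subgroup G} (T : IsTriple e v J) : False := by
  by_cases h : J = K
  · subst h
    exact h3 (three_fix T Mv).1
  · exact T.not_fixes (ho J T.comp h)

/-- `C_{K_f}(v)^∞` covers `K_f` as soon as some `u` fixes `K_f` -/
theorem cover_of_fixes {v w u f : G} (hu2 : u * u = 1) (huf : u * f = f * u) (huv : u * v = v * u)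
    (huw : u * w = w * u) {Kf C : Subgroup G} (hKf : IsComp (centralizer ({f} : Set G)) Kf)
    (hC : IsComp (centralizer ({v} : Set G) ⊓ centralizer ({w} : Set G)) C) (hCK : C ≤ Kf)
    (huC : Fixes u C) (huK : Fixes u Kf) {Ku : Subgroup G}
    (hKu : IsComp (centralizer ({u} : Set G)) Ku) {P : Finset α} (Mu : Mod Ku P)
    (hfK : f ∈ normalizer (Ku : Set G)) (hf2 : f * f = 1) (h5 : 5 ≤ (fixIn P (Mu.φ f)).card)
    (hCD : cen C u ≤ Mu.cmp f) (hty : AltType C (fixIn P (Mu.φ f)).card) : C ⊔ core Kf = Kf := by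
  obtain ⟨hY, hYs⟩ := isComp_cen hKf (mem_c huf) hu2 huK
  have hC1 := (isComp_cen hC ⟨mem_c huv, mem_c huw⟩ hu2 huC).1
  have hle : cen C u ≤ cen Kf u := PComponents.pElem_mono (inf_le_inf_right _ hCK)
  have hD := Mu.isComp_cmp_of hKu hfK hf2 h5
  rw [inf_comm] at hD
  have heq : cen Kf u = Mu.cmp f := hC1.unique hY hD hle hCD
  have h1 : AltType (cen Kf u) (fixIn P (Mu.φ f)).card := by
    rw [heq]; exact Mu.altType_cmp hfK hf2 h5
  obtain ⟨e, -⟩ := exists_quotEquiv hYs
  have h2 : AltType Kf (fixIn P (Mu.φ f)).card := h1.congr e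
  exact cover_of_card hCK (hty.card_eq h2)

/-- no triple `(e, v w, K_f)` -/
theorem no_triple_prod {v w e f : G} (hf : f = v * w) (hv2 : v * v = 1)
    (hvw : v * w = w * v) (hev : e * v = v * e) {Kf C : Subgroup G}
    (hC : IsComp (centralizer ({v} : Set G) ⊓ centralizer ({w} : Set G)) C) {k : ℕ} (hk : 5 ≤ k)
    (hCk : AltType C k)
    (hor : (v ∈ normalizer (Kf : Set G) ∧ C ≤ Kf) ∨
      (cj v Kf ≠ Kf ∧ C = diag (centralizer ({f} : Set G)) Kf v)) (heC : Fixes e C)
    {V : Subgroup G} (hV4 : Nat.card V = 4) (hV2 : ∀ u ∈ V, u * u = 1)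
    (hVv : ∀ u ∈ V, u * v = v * u) (hVw : ∀ u ∈ V, u * w = w * u) (hVe : ∀ u ∈ V, u * e = e * u)
    (hVC : ∀ u ∈ V, Fixes u C)
    (hcov : ∀ u ∈ V, u ≠ 1 → Fixes u Kf → C ≤ Kf → C ⊔ core Kf = Kf) (T : IsTriple e f Kf)
    (hS : v ∈ normalizer (Kf : Set G) → C ≤ Kf → SmallAlt e f Kf) : False := by
  have hfv : f * v = v * f := by rw [hf, mul_assoc, ← hvw]
  have hVf : ∀ u ∈ V, u * f = f * u := fun u hu => by
    rw [hf, ← mul_assoc, hVv u hu, mul_assoc, hVw u hu, mul_assoc]
  have hcent : centralizer ({f} : Set G) ⊓ centralizer ({v} : Set G) =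
      centralizer ({v} : Set G) ⊓ centralizer ({w} : Set G) := by
    ext y
    simp only [mem_inf, memC_iff]
    constructor
    · rintro ⟨h1, h2⟩
      refine ⟨h2, ?_⟩
      have h3 : y * (v * f) = (v * f) * y := by
        rw [← mul_assoc, h2, mul_assoc, h1, mul_assoc]
      have h4 : v * f = w := by rw [hf, ← mul_assoc, hv2, one_mul]
      rwa [h4] at h3
    · rintro ⟨h1, h2⟩
      refine ⟨?_, h1⟩
      rw [hf, ← mul_assoc, h1, mul_assoc, h2, mul_assoc]
  have hKf := T.comp
  have heN : e ∈ normalizer (Kf : Set G) := T.x_mem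
  rcases hor with ⟨hvN, hCK⟩ | ⟨hne, hCd⟩
  · have hncov : C ⊔ core Kf ≠ Kf := fun h => T.not_fixes
      (fixes_of_cover hKf hC h (mem_c T.comm.symm) heC)
    have hC' : IsComp (Kf ⊓ centralizer ({v} : Set G)) C := by
      refine isComp_inf (H := centralizer ({f} : Set G)) ?_ hKf hCK
      rw [hcent]; exact hC
    rcases hS hvN hCK with ⟨m, hm, ⟨e0⟩⟩ | hs
    · obtain ⟨M⟩ := Mod.nonempty_of_equiv (K := Kf) (S := (Finset.univ : Finset (Fin m)))
        (by rw [Finset.card_univ, Fintype.card_fin]; exact hm) (Ω := Fin m)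
        (by rw [Finset.card_univ]) e0
      obtain ⟨h1, h5⟩ := (M.isComp_iff_cmp hvN hv2).mp hC'
      have h3 := (three_fix T M).1
      have hsub : fixIn (Finset.univ : Finset (Fin m)) (M.φ v) ⊆ fixIn Finset.univ (M.φ e) := by
        intro i hi
        rw [mem_fixIn]
        refine ⟨Finset.mem_univ _, ?_⟩
        refine apply_of_comm_alt (S := fixIn Finset.univ (M.φ v)) (by omega) (fun σ hσ => ?_) hi
        obtain ⟨c, hc, rfl⟩ := M.cmp_lift hvN hv2 h5 hσ
        have hcC : c ∈ C := by rw [h1]; exact hc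
        have hcK : c ∈ Kf := hCK hcC
        have h6 : ⁅e, c⁆ ∈ core Kf := M.core_cent_le hvN hv2 (by omega) (hC'.core_le_core (heC.2 c hcC))
        have h7 := (M.core_iff _ (core_le _ h6)).mpr h6
        rw [commutatorElement_def, M.mul _ _ (mul_mem (mul_mem heN (le_normalizer hcK)) (inv_mem heN))
          (inv_mem (le_normalizer hcK)), M.conj heN (le_normalizer hcK), M.inv (le_normalizer hcK),
          mul_inv_eq_one, mul_inv_eq_iff_eq_mul] at h7
        exact h7
      have h4 := Finset.card_le_card hsub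
      omega
    · have hnK : ∀ u ∈ V, u ∈ normalizer (Kf : Set G) := by
        intro u hu
        rw [mem_normalizer_iff_cj]
        refine hC.unique (isComp_cj_of_mem hKf (mem_c (hVf u hu))) hKf ?_ hCK
        have h3 : cj u C = C := mem_normalizer_iff_cj.mp (hVC u hu).1
        rw [← h3]
        exact cj_mono hCK
      obtain ⟨u, hu, hu1, hfix⟩ := hs (t := v) (mem_c hfv.symm) hvN hv2 hC' hk hCk heC (U := V)
        (fun u hu => mem_c (hVf u hu)) hV2 hV4
        (fun u hu => ⟨hnK u hu, hVv u hu, hVe u hu, hVC u hu⟩)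
      exact hncov (hcov u hu hu1 hfix hCK)
  · -- the diagonal case
    obtain ⟨h1, -, -, h4, -⟩ := exists_diag hKf (mem_c hfv.symm) hv2 hne
    have heK' : e ∈ normalizer (cj v Kf : Set G) := by
      rw [mem_normalizer_iff_cj, ← cj_mul, hev, cj_mul, mem_normalizer_iff_cj.mp heN]
    refine T.not_fixes (fixes_of_comm_diag hKf (mem_c hfv.symm) hv2 hne (mem_c T.comm.symm) heN heK'
      fun m hm => ?_)
    rw [← hCd] at hm h4
    have h5 := heC.2 m hm
    rw [h4] at h5
    exact h5.2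

end bal

end Cfsg.Agent.UAlt
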