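import Cfsg.Agent.UAlt.HeKill
import Cfsg.Agent.UAlt.NBal

/-!
# Elimination of the alternative `HeAlt` in case N

* `heKill'`: version of `HeKill.heKill` with the labels of a 2-component of `C(v)`.
* `card_fixIn_mul`: the fixed points of the product of two disjoint roots.
-/

set_option autoImplicit false
set_option linter.unusedSectionVars false

open Cfsg Equiv Equiv.Perm Subgroup
open Cfsg.Agent.Intrinsic.Basic Cfsg.Agent.Intrinsic.Diag
open Cfsg.Agent.SignalizersComponents Cfsg.Agent.Lib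
open Cfsg.Agent.SignalizersComponents.IntrinsicBasic
open Cfsg.Agent.UGT.Triple
open Cfsg.Agent.UAlt.HeKill
open scoped commutatorElement

namespace Cfsg.Agent.UAlt

section kill

variable {G : Type*} [Group G] [Finite G] {α : Type*} [Fintype α] [DecidableEq α]

/-- a 2-component `J` of `C(f)` with `HeAlt J` contains no `w` as follows: `w` and `v f` lie in the alternating
2-component `K'` of `C(v)`, `f` and `v` lie in the alternating 2-component `K` of `C(w)`, the centralizers of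
`f` on `K` and of `w v f` on `K'` are solvable. -/
theorem heKill' {f v w : G} {J K K' : Subgroup G} {S T : Finset α} (MK : Mod K S) (MI : Mod K' T)
    (hf : f * f = 1) (hv : v * v = 1) (hw : w * w = 1) (hvf : v * f = f * v)
    (hvw : v * w = w * v) (hJ : IsComp (centralizer ({f} : Set G)) J)
    (hvJ : v ∈ normalizer (J : Set G)) (hK : IsComp (centralizer ({w} : Set G)) K) (hfK : f ∈ K) (hvK : v ∈ K)
    (hf1 : MK.φ f ≠ 1) (h4 : (fixIn S (MK.φ f)).card ≤ 4) (h8 : S.card ≤ (fixIn S (MK.φ f)).card + 8)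
    (hK' : IsComp (centralizer ({v} : Set G)) K') (hwJ : w ∈ J) (hwK' : w ∈ K') (hvfK' : v * f ∈ K')
    (hw1 : MI.φ w ≠ 1) (h4' : (fixIn T (MI.φ (w * (v * f)))).card ≤ 4)
    (h8' : T.card ≤ (fixIn T (MI.φ (w * (v * f)))).card + 8) (he : HeAlt J) :
    False := by
  obtain ⟨P, hP, hPP, hwP⟩ := he w hwJ hw
  have hPJ : P ≤ J := fun p hp => (hP hp).1
  have hPw : P ≤ centralizer ({w} : Set G) := fun p hp => (hP hp).2
  have hJf : ∀ j ∈ J, j * f = f * j := fun j hj => comm_c (hJ.le hj)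
  -- `P` normalizes `K` and is trivial on it
  have hPK : P ≤ normalizer (K : Set G) := fun p hp =>
    mem_normalizer_of_comm hK MK hfK hf1 (hPw hp) (hJf p (hPJ hp))
  have hfN := le_normalizer (H := K) hfK
  have hsolK := isSolvable_cent (MK.mem_sym f hfN) (MK.sq hfN hf) h4 h8
  have hPK1 : ∀ p ∈ P, MK.φ p = 1 := by
    intro p hp
    let F : P →* ↥(sym S ⊓ centralizer ({MK.φ f} : Set (Perm α))) :=
      { toFun := fun q => ⟨MK.φ q, MK.mem_sym q (hPK q.2), mem_centralizer_singleton_iff.mpr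
          (MK.comm (hPK q.2) hfN (hJf q (hPJ q.2)))⟩
        map_one' := Subtype.ext MK.one
        map_mul' := fun q r => Subtype.ext (MK.mul _ _ (hPK q.2) (hPK r.2)) }
    have h1 := Schreier.Tools.hom_eq_one hPP F ⟨p, hp⟩
    exact congrArg Subtype.val h1
  have hPf : ∀ p ∈ P, Fixes p K := fun p hp => (MK.fixes_iff (hPK hp)).mp (hPK1 p hp)
  have hvN := le_normalizer (H := K) hvK
  -- `D`
  obtain ⟨D, hD⟩ : ∃ D, D = core K ⊓ J := ⟨_, rfl⟩
  have hDodd : Odd (Nat.card D) := Odd.of_dvd_nat (odd_card_core K) (by rw [hD]; exact card_dvd_of_le inf_le_left)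
  have hDw : D ≤ centralizer ({w} : Set G) := by
    rw [hD]
    exact fun d hd => hK.le (core_le K hd.1)
  have hDJ : D ≤ J := by rw [hD]; exact inf_le_right
  have hDN : ∀ x, x ∈ normalizer (K : Set G) → x ∈ normalizer (J : Set G) → x ∈ normalizer (D : Set G) := by
    intro x h1 h2
    have h3 := normalizer_le_normalizer_core K h1
    rw [mem_normalizer_iff_cj] at h2 h3 ⊢
    rw [hD, cj_inf, h2, h3]
  have hPD : ∀ p ∈ P, p ∈ normalizer (D : Set G) := fun p hp => hDN p (hPK hp) (le_normalizer (hPJ hp))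
  have hvD : v ∈ normalizer (D : Set G) := hDN v hvN hvJ
  have hvi : v⁻¹ = v := inv_eq_of_mul_eq_one_left hv
  have hcomm : ∀ p ∈ P, p⁻¹ * (v * p * v⁻¹) ∈ D := by
    intro p hp
    have h1 : p⁻¹ * (v * p * v⁻¹) ∈ core K := by
      have h2 := (hPf p⁻¹ (inv_mem hp)).2 v hvK
      rw [commutatorElement_def, inv_inv] at h2
      have e : p⁻¹ * (v * p * v⁻¹) = p⁻¹ * v * p * v⁻¹ := by group
      rw [e]
      exact h2
    rw [hD]
    exact ⟨h1, J.mul_mem (J.inv_mem (hPJ hp)) ((mem_normalizer_iff.mp hvJ p).mp (hPJ hp))⟩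
  -- `C`
  obtain ⟨C, hC⟩ : ∃ C, C = (P ⊔ D) ⊓ centralizer ({v} : Set G) := ⟨_, rfl⟩
  have hcov : ∀ p ∈ P, ∃ d ∈ D, v * (p * d) = p * d * v := by
    intro p hp
    obtain ⟨d, hd, h1⟩ := ClSys.coset_fix (V := D) (T := zpowers v) hDodd
      (fun t => ⟨1, Subtype.ext (by
        rw [pow_one, pow_two]
        change (t : G) * t = 1
        rcases eq_of_mem_zpowers hv t.2 with h | h <;> rw [h]
        · exact one_mul 1
        · exact hv)⟩)
      (fun t ht d hd => by
        rcases eq_of_mem_zpowers hv ht with rfl | rfl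
        · rw [one_mul, inv_one, mul_one]; exact hd
        · exact (mem_normalizer_iff.mp hvD d).mp hd) (x := p)
      (fun t ht => by
        rcases eq_of_mem_zpowers hv ht with rfl | rfl
        · rw [one_mul, inv_one, mul_one, inv_mul_cancel]; exact D.one_mem
        · exact hcomm p hp)
    exact ⟨d, hd, h1 v (mem_zpowers v)⟩
  have hCJ : C ≤ J := by
    rw [hC]
    exact inf_le_left.trans (sup_le hPJ hDJ)
  have hCw : C ≤ centralizer ({w} : Set G) := by
    rw [hC]
    exact inf_le_left.trans (sup_le hPw hDw)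
  have hCv : C ≤ centralizer ({v} : Set G) := by
    rw [hC]
    exact inf_le_right
  have hCI : C ≤ normalizer (K' : Set G) := fun c hc =>
    mem_normalizer_of_comm hK' MI hwK' hw1 (hCv hc) (comm_c (hCw hc))
  have hwC : w ∈ C := by
    rw [hC]
    exact ⟨mem_sup_left hwP, mem_c hvw.symm⟩
  have hPDN : P ⊔ D ≤ normalizer (D : Set G) := sup_le hPD le_normalizer
  have hCD : C ≤ normalizer (D : Set G) := by
    rw [hC]
    exact inf_le_left.trans hPDN
  have hDC : ∀ x ∈ normalizer (D : Set G), ∀ d ∈ D, x * d * x⁻¹ ∈ D := fun x hx d hd =>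
    (mem_normalizer_iff.mp hx d).mp hd
  -- `P ≤ C' D`
  have hP1 : P ≤ ⁅C, C⁆ ⊔ D := by
    rw [← hPP, commutator_le]
    intro p hp q hq
    obtain ⟨d, hd, h1⟩ := hcov p hp
    obtain ⟨e, he, h2⟩ := hcov q hq
    have hc1 : p * d ∈ C := by
      rw [hC]
      exact ⟨mul_mem (mem_sup_left hp) (mem_sup_right hd), mem_c h1.symm⟩
    have hc2 : q * e ∈ C := by
      rw [hC]
      exact ⟨mul_mem (mem_sup_left hq) (mem_sup_right he), mem_c h2.symm⟩
    obtain ⟨c, hcdef⟩ : ∃ c, c = p * d := ⟨_, rfl⟩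
    obtain ⟨b, hbdef⟩ : ∃ b, b = q * e := ⟨_, rfl⟩
    rw [← hcdef] at hc1
    rw [← hbdef] at hc2
    have hp' : p = c * d⁻¹ := by rw [hcdef, mul_inv_cancel_right]
    have hq' : q = b * e⁻¹ := by rw [hbdef, mul_inv_cancel_right]
    have hid : ⁅p, q⁆ = ⁅c, b⁆ * (b * (c * (b⁻¹ * d⁻¹ * b * (e⁻¹ * d)) * c⁻¹ * e) * b⁻¹) := by
      rw [hp', hq', commutatorElement_def, commutatorElement_def]
      group
    rw [hid]
    refine mul_mem (mem_sup_left (commutator_mem_commutator hc1 hc2)) (mem_sup_right ?_)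
    refine hDC b (hCD hc2) _ (D.mul_mem (hDC c (hCD hc1) _ (D.mul_mem ?_ (D.mul_mem (D.inv_mem he) hd))) he)
    have := hDC b⁻¹ (inv_mem (hCD hc2)) _ (D.inv_mem hd)
    rwa [inv_inv] at this
  have hC1 : ∀ c ∈ C, ∃ a ∈ ⁅C, C⁆, ∃ d ∈ C ⊓ D, c = a * d := by
    intro c hc
    have h1 : c ∈ ⁅C, C⁆ ⊔ D := by
      have h2 := hc
      rw [hC] at h2
      exact (sup_le hP1 le_sup_right : P ⊔ D ≤ ⁅C, C⁆ ⊔ D) h2.1
    have h3 := coe_mul_of_left_le_normalizer_right ⁅C, C⁆ D ((commutator_le_self C).trans hCD)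
    have h4 : c ∈ ((⁅C, C⁆ ⊔ D : Subgroup G) : Set G) := h1
    rw [h3, Set.mem_mul] at h4
    obtain ⟨a, ha, d, hd, rfl⟩ := h4
    refine ⟨a, ha, d, ⟨?_, hd⟩, rfl⟩
    have h5 := C.mul_mem (C.inv_mem (commutator_le_self C ha)) hc
    rwa [inv_mul_cancel_left] at h5
  -- the image in `Perm α`
  have hwN : w ∈ normalizer (K' : Set G) := le_normalizer hwK'
  have hwf : w * f = f * w := hJf w hwJ
  obtain ⟨g, hg⟩ : ∃ g, g = w * (v * f) := ⟨_, rfl⟩
  have hgN : g ∈ normalizer (K' : Set G) := by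
    rw [hg]; exact mul_mem hwN (le_normalizer hvfK')
  have hgg : g * g = 1 := by
    calc g * g = w * (v * f) * (w * (v * f)) := by rw [hg]
      _ = w * v * (f * w) * (v * f) := by group
      _ = w * v * (w * f) * (f * v) := by rw [hwf, hvf]
      _ = w * (v * w) * (f * f) * v := by group
      _ = w * (w * v) * v := by rw [hvw, hf, mul_one]
      _ = (w * w) * (v * v) := by group
      _ = 1 := by rw [hw, hv, one_mul]
  have hcg : ∀ c ∈ C, c * g = g * c := by
    intro c hc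
    have h1 : c * w = w * c := comm_c (hCw hc)
    have h2 : c * v = v * c := comm_c (hCv hc)
    have h3 : c * f = f * c := hJf c (hCJ hc)
    calc c * g = (c * w) * (v * f) := by rw [hg]; group
      _ = w * (c * v) * f := by rw [h1]; group
      _ = w * v * (c * f) := by rw [h2]; group
      _ = w * (v * f) * c := by rw [h3]; group
      _ = g * c := by rw [hg]
  rw [← hg] at h4' h8'
  have hsol := isSolvable_cent (MI.mem_sym g hgN) (MI.sq hgN hgg) h4' h8'
  obtain ⟨R, hR⟩ : ∃ R, R = MI.img C := ⟨_, rfl⟩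
  obtain ⟨O, hO⟩ : ∃ O, O = MI.img (C ⊓ D) := ⟨_, rfl⟩
  have hCDI : C ⊓ D ≤ normalizer (K' : Set G) := inf_le_left.trans hCI
  have hRmem : ∀ c ∈ C, MI.φ c ∈ R := fun c hc => by
    rw [hR]
    exact (MI.mem_img hCI).mpr ⟨c, hc, rfl⟩
  have hRle : R ≤ sym T ⊓ centralizer ({MI.φ g} : Set (Perm α)) := by
    intro σ hσ
    rw [hR] at hσ
    obtain ⟨c, hc, rfl⟩ := (MI.mem_img hCI).mp hσ
    exact ⟨MI.mem_sym c (hCI hc), mem_centralizer_singleton_iff.mpr
      (MI.comm (hCI hc) hgN (hcg c hc))⟩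
  have hRs : Group.IsSolvable R :=
    Group.isSolvable_of_isSolvable_injective (Subgroup.inclusion_injective hRle)
  have hOR : O ≤ R := by
    intro σ hσ
    rw [hO] at hσ
    obtain ⟨c, hc, rfl⟩ := (MI.mem_img hCDI).mp hσ
    exact hRmem c hc.1
  have hRO : R ≤ normalizer (O : Set (Perm α)) := by
    have key : ∀ σ ∈ R, ∀ τ ∈ O, σ * τ * σ⁻¹ ∈ O := by
      intro σ hσ τ hτ
      rw [hR] at hσ
      rw [hO] at hτ ⊢
      obtain ⟨c, hc, rfl⟩ := (MI.mem_img hCI).mp hσ
      obtain ⟨d, hd, rfl⟩ := (MI.mem_img hCDI).mp hτ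
      rw [← MI.conj (hCI hc) (hCI hd.1)]
      exact (MI.mem_img hCDI).mpr ⟨_, ⟨C.mul_mem (C.mul_mem hc hd.1) (C.inv_mem hc),
        hDC c (hCD hc) d hd.2⟩, rfl⟩
    intro σ hσ
    rw [mem_normalizer_iff]
    intro τ
    refine ⟨key σ hσ τ, fun h => ?_⟩
    have := key σ⁻¹ (inv_mem hσ) _ h
    convert this using 1
    group
  have hcomR : ∀ a ∈ ⁅C, C⁆, MI.φ a ∈ ⁅R, R⁆ := by
    intro a ha
    have h1 : C = (C.subgroupOf (normalizer (K' : Set G))).map (normalizer (K' : Set G)).subtype :=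
      (map_subgroupOf_eq_of_le hCI).symm
    rw [h1, ← Subgroup.map_commutator] at ha
    obtain ⟨a', ha', rfl⟩ := ha
    rw [hR, Mod.img, ← Subgroup.map_commutator]
    exact ⟨a', ha', rfl⟩
  have hRR : R ≤ ⁅R, R⁆ ⊔ O := by
    intro σ hσ
    rw [hR] at hσ
    obtain ⟨c, hc, rfl⟩ := (MI.mem_img hCI).mp hσ
    obtain ⟨a, ha, d, hd, rfl⟩ := hC1 c hc
    rw [MI.mul _ _ (hCI (commutator_le_self C ha)) (hCI hd.1)]
    refine mul_mem (mem_sup_left (hcomR a ha)) (mem_sup_right ?_)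
    rw [hO]
    exact (MI.mem_img hCDI).mpr ⟨d, hd, rfl⟩
  have h1 := le_of_solvable hRs hOR hRO hRR (hRmem w hwC)
  rw [hO] at h1
  have h2 : Odd (Nat.card ↥(MI.img (C ⊓ D))) :=
    MI.odd_img hCDI (Odd.of_dvd_nat hDodd (card_dvd_of_le inf_le_right))
  have h3 : orderOf (MI.φ w) ∣ Nat.card ↥(MI.img (C ⊓ D)) := Subgroup.orderOf_dvd_natCard _ h1
  have h4 : orderOf (MI.φ w) ∣ 2 := orderOf_dvd_of_pow_eq_one (by rw [pow_two]; exact MI.sq hwN hw)
  have h5 : orderOf (MI.φ w) = 1 :=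
    Nat.eq_one_of_dvd_coprimes (Nat.coprime_two_right.mpr h2) h3 h4
  exact hw1 (orderOf_eq_one_iff.mp h5)

end kill

section fix

variable {α : Type*} [Fintype α] [DecidableEq α]

open Cfsg.Agent.StdAlt.Roots (IsRoot)

/-- the fixed points of the product of two involutions with supports `T`, `T'` -/
theorem card_fixIn_mul {S T T' : Finset α} {σ τ : Perm α} (hT : T ⊆ S) (hT' : T' ⊆ S) (hc : T.card = 4)
    (hc' : T'.card = 4) (d : Disjoint T T') (hσ : ∀ x, σ x ≠ x ↔ x ∈ T) (hτ : ∀ x, τ x ≠ x ↔ x ∈ T') :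
    (fixIn S (σ * τ)).card + 8 = S.card := by
  have h1 : fixIn S (σ * τ) = S \ (T ∪ T') := by
    ext x
    rw [mem_fixIn, Finset.mem_sdiff, Finset.mem_union, Perm.mul_apply]
    refine and_congr_right fun _ => ⟨fun h => ?_, fun h => ?_⟩
    · rintro (hx | hx)
      · have h2 : τ x = x := by
          by_contra hne
          exact Finset.disjoint_left.mp d hx ((hτ x).mp hne)
        rw [h2] at h
        exact (hσ x).mpr hx h
      · have h2 := (hτ x).mpr hx
        have h3 : τ x ∈ T' := (hτ _).mp fun h' => h2 (τ.injective h')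
        have h4 : σ (τ x) = τ x := by
          by_contra hne
          exact Finset.disjoint_left.mp d ((hσ _).mp hne) h3
        rw [h4] at h
        exact h2 h
    · push Not at h
      have h2 : τ x = x := by
        by_contra hne
        exact h.2 ((hτ x).mp hne)
      rw [h2]
      by_contra hne
      exact h.1 ((hσ x).mp hne)
  have h2 := Finset.card_sdiff_add_card_eq_card (Finset.union_subset hT hT')
  have h3 := Finset.card_union_of_disjoint d
  rw [h1]
  omega

end fix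

end Cfsg.Agent.UAlt
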