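import Cfsg.Agent.UAlt.CaseN2
import Cfsg.Agent.UAlt.NBal
import Cfsg.Agent.UAlt.HeKillN

/-!
# Case N: balance on the product of two root four-groups, (7')(v)

* `Duo`: two disjoint commuting root four-groups; `11 ≤ |Ω|` odd, `13 ≤ |Ω| + |X|`.
* `Duo.no_triple`, `Duo.balance`: `O(C(e)) ∩ C(f) ≤ O(C(f))` for `e`, `f` in `(V × V')#`, from the alternatives
  `SmallAlt` for the triples `(e, v v', J)` (`Duo.Sm`).
* `Duo.sm_of_hyp`: `Duo.Sm` for `13 ≤ |Ω|`.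
-/

set_option autoImplicit false
set_option linter.unusedSectionVars false

open Cfsg Subgroup Equiv Equiv.Perm
open Cfsg.Agent.SignalizersComponents Cfsg.Agent.Lib
open Cfsg.Agent.SignalizersComponents.IntrinsicBasic
open Cfsg.Agent.Intrinsic Cfsg.Agent.Intrinsic.Basic Cfsg.Agent.Intrinsic.Cen Cfsg.Agent.Intrinsic.Diag
open Cfsg.Agent.UGT.Triple
open scoped commutatorElement

namespace Cfsg.Agent.UAlt

variable {G : Type*} [Group G] {α : Type*} [Fintype α] [DecidableEq α]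
  {L : Subgroup G} {Ω X : Finset α} {M : Mod L Ω} {a : G} {n : ℕ}
  {V V' : Subgroup G} {T T' : Finset α}

/-- two disjoint commuting root four-groups -/
structure Duo (M : Mod L Ω) (V V' : Subgroup G) (T T' : Finset α) : Prop where
  r1 : RF M V T
  r2 : RF M V' T'
  d : Disjoint T T'
  c : Cm V V'

theorem Duo.swap (h : Duo M V V' T T') : Duo M V' V T' T :=
  ⟨h.r2, h.r1, h.d.symm, fun x hx y hy => (h.c y hy x hx).symm⟩

theorem exists_mul_of_cm {A B : Subgroup G} (h : Cm A B) {e : G} (he : e ∈ A ⊔ B) :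
    ∃ u ∈ A, ∃ u' ∈ B, e = u * u' := by
  have hn : A ≤ normalizer (B : Set G) := by
    intro x hx
    apply centralizer_le_normalizer
    rw [mem_centralizer_iff]
    exact fun b hb => (h x hx b hb).symm
  have h1 : e ∈ ((A ⊔ B : Subgroup G) : Set G) := he
  rw [Subgroup.coe_mul_of_left_le_normalizer_right _ _ hn] at h1
  obtain ⟨u, hu, u', hu', rfl⟩ := h1
  exact ⟨u, hu, u', hu', rfl⟩

theorem Duo.exists_mul (h : Duo M V V' T T') {e : G} (he : e ∈ V ⊔ V') :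
    ∃ u ∈ V, ∃ u' ∈ V', e = u * u' := exists_mul_of_cm h.c he

theorem Duo.comm (h : Duo M V V' T T') {e f : G} (he : e ∈ V ⊔ V') (hf : f ∈ V ⊔ V') :
    e * f = f * e := by
  obtain ⟨u, hu, u', hu', rfl⟩ := h.exists_mul he
  obtain ⟨w, hw, w', hw', rfl⟩ := h.exists_mul hf
  have e1 := h.r1.comm hu hw
  have e2 := h.r2.comm hu' hw'
  have e3 := h.c u hu w' hw'
  have e4 := h.c w hw u' hu'
  calc u * u' * (w * w') = u * (u' * w) * w' := by group
    _ = (u * w) * (u' * w') := by rw [← e4]; group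
    _ = (w * u) * (w' * u') := by rw [e1, e2]
    _ = w * (u * w') * u' := by group
    _ = w * w' * (u * u') := by rw [e3]; group

theorem Duo.sq (h : Duo M V V' T T') {e : G} (he : e ∈ V ⊔ V') : e * e = 1 := by
  obtain ⟨u, hu, u', hu', rfl⟩ := h.exists_mul he
  calc u * u' * (u * u') = u * (u' * u) * u' := by group
    _ = (u * u) * (u' * u') := by rw [← h.c u hu u' hu']; group
    _ = 1 := by rw [h.r1.sq u hu, h.r2.sq u' hu', one_mul]

theorem order_of_sq {e : G} (h : e * e = 1) (h1 : e ≠ 1) : orderOf e = 2 :=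
  orderOf_eq_prime (by rw [pow_two]; exact h) h1

/-- the alternatives `SmallAlt` for the triples `(e, v v', J)` -/
def Duo.Sm (M : Mod L Ω) (a : G) (X : Finset α) (V V' : Subgroup G) : Prop :=
  ∀ {v v' e : G}, v ∈ V → v ≠ 1 → v' ∈ V' → v' ≠ 1 → e ∈ V ⊔ V' → ∀ {J : Subgroup G},
    IsTriple e (v * v') J → v ∈ normalizer (J : Set G) → ∀ {K : Subgroup G}
      {Mv : Mod K (fixIn Ω (M.φ v) ∪ X)}, KD M a X v K Mv → Mv.cmp v' ≤ J → SmallAlt e (v * v') J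

variable [Finite G]

section

variable (h11 : 11 ≤ Ω.card) (hX : 13 ≤ Ω.card + X.card) (hN : CaseN M a X) (h : Duo M V V' T T')

include h11 hX hN h

theorem Duo.no_left {v : G} (hv : v ∈ V) (h1 : v ≠ 1) {e : G} (he : e ∈ V ⊔ V') {J : Subgroup G}
    (Tr : IsTriple e v J) : False := by
  obtain ⟨K, Mv, hK⟩ := hN.ex v (h.r1.rt hv h1)
  refine no_triple_v Mv (fun J hJ hne => CaseN.fixes_other' h11 hX hN h.r1 h.r2 h.d h.c hv h1 hK hJ hne
    he) ?_ Tr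
  obtain ⟨u, hu, u', hu', rfl⟩ := h.exists_mul he
  obtain ⟨h2, h3, -⟩ := CaseN.fixes_K' h11 hX hN h.r1 hv h1 hK hu
  have h4 : u' ∈ K := pair_mem_K h.r1 h.r2 h.d h.c hv h1 hu' hK
  rw [Mv.mul _ _ h2 (le_normalizer h4), h3, one_mul]
  by_cases h5 : u' = 1
  · rw [h5, Mv.one]
    have h6 : fixIn (fixIn Ω (M.φ v) ∪ X) (1 : Perm α) = fixIn Ω (M.φ v) ∪ X := by
      ext y
      rw [mem_fixIn]
      exact ⟨fun h => h.1, fun h => ⟨h, rfl⟩⟩
    rw [h6]
    have h7 := Finset.card_le_card (Finset.subset_union_left (s₁ := fixIn Ω (M.φ v)) (s₂ := X))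
    rw [(h.r1.rt hv h1).card_fix] at h7
    omega
  · have h6 := pair_five h.r1 h.r2 h.d h.c hv h1 hu' hK h5 hN.disj hX
    omega

theorem Duo.cover {v v' u : G} (hv : v ∈ V) (h1 : v ≠ 1) (hv' : v' ∈ V') (h1' : v' ≠ 1) (hu : u ∈ V)
    (hu1 : u ≠ 1) {K : Subgroup G} {Mv : Mod K (fixIn Ω (M.φ v) ∪ X)} (hK : KD M a X v K Mv)
    {N : Subgroup G} (hN1 : IsComp (centralizer ({v * v'} : Set G)) N) (huN : Fixes u N)
    (hCN : Mv.cmp v' ≤ N) : Mv.cmp v' ⊔ core N = N := by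
  obtain ⟨Ku, Mu, hKu⟩ := hN.ex u (h.r1.rt hu hu1)
  obtain ⟨K', Mv', hK'⟩ := hN.ex v' (h.r2.rt hv' h1')
  have hvv' := h.c v hv v' hv'
  have huv := h.r1.comm hu hv
  have huv' := h.c u hu v' hv'
  have hv2 := h.r1.sq v hv
  have hv2' := h.r2.sq v' hv'
  have hu2 := h.r1.sq u hu
  have hC := pair_isComp hX hN h.r1 h.r2 h.d h.c hv h1 hv' h1' hK
  have h5 := pair_five h.r1 h.r2 h.d h.c hv h1 hv' hK h1' hN.disj hX
  have h5u := pair_five h.r1 h.r2 h.d h.c hu hu1 hv' hKu h1' hN.disj hX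
  have huC : Fixes u (Mv.cmp v') := pair_fixes_left h11 hX hN h.r1 h.r2 h.d h.c hv h1 hv' h1' hK hu
  obtain ⟨hvKu, hφv, -⟩ := CaseN.fixes_K' h11 hX hN h.r1 hu hu1 hKu hv
  have hv'Ku : v' ∈ Ku := pair_mem_K h.r1 h.r2 h.d h.c hu hu1 hv' hKu
  have hv'K : v' ∈ K := pair_mem_K h.r1 h.r2 h.d h.c hv h1 hv' hK
  have hφf : Mu.φ (v * v') = Mu.φ v' := by
    rw [Mu.mul _ _ hvKu (le_normalizer hv'Ku), hφv, one_mul]
  have e1 : Mv.φ v' = M.φ v' := pair_φ h.r1 h.r2 h.d h.c hv h1 hv' hK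
  have e2 : Mu.φ v' = M.φ v' := pair_φ h.r1 h.r2 h.d h.c hu hu1 hv' hKu
  have e3 : Mv'.φ v = M.φ v := pair_φ h.r2 h.r1 h.swap.d h.swap.c hv' h1' hv hK'
  have e4 : Mv'.φ u = M.φ u := pair_φ h.r2 h.r1 h.swap.d h.swap.c hv' h1' hu hK'
  have e5 : fixIn (fixIn Ω (M.φ v) ∪ X) (Mv.φ v') = fixIn (fixIn Ω (M.φ u) ∪ X) (Mu.φ (v * v')) := by
    rw [hφf, e1, e2, h.r1.fixIn_eq hv h1, h.r1.fixIn_eq hu hu1]
  have hC1 : Mv.cmp v' = Mv'.cmp v := pair_cmp_eq h11 hX hN h.r1 h.r2 h.d h.c hv h1 hv' h1' hK hK'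
  have hC2 : Mu.cmp v' = Mv'.cmp u := pair_cmp_eq h11 hX hN h.r1 h.r2 h.d h.c hu hu1 hv' h1' hKu hK'
  refine cover_of_fixes (v := v) (w := v') (u := u) (f := v * v') hu2 ?_ huv huv' hN1 hC hCN huC huN
    hKu.comp Mu ?_ ?_ ?_ ?_ ?_
  · rw [← mul_assoc, huv, mul_assoc, huv', mul_assoc]
  · exact mul_mem hvKu (le_normalizer hv'Ku)
  · exact h.sq (mul_mem (mem_sup_left hv) (mem_sup_right hv'))
  · rw [hφf]; exact h5u
  · -- `cen C u ≤ Mu.cmp (v v')`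
    refine (Subgroup.closure_le _).mpr ?_
    rintro y ⟨⟨hy, hyu⟩, m, hm⟩
    have hyu' : u * y = y * u := (mem_centralizer_singleton_iff.mp hyu).symm
    have hyC : y ∈ Mv'.cmp v := hC1 ▸ hy
    have hyC' : y ∈ Mv'.cmp u := by
      refine Mv'.mem_cmp (Mv'.cmp_le v hyC) hyu' (alt_mono (fun p hp => ?_) (Mv'.cmp_mem_alt hyC)) hm
      rw [mem_fixIn] at hp ⊢
      refine ⟨hp.1, ?_⟩
      have h6 := hp.2
      rw [e3] at h6
      rw [e4]
      exact (h.r1.mem u hu).2 p fun hpT => (h.r1.root hv h1).apply_ne hpT h6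
    rw [← hC2] at hyC'
    refine Mu.mem_cmp (Mu.cmp_le v' hyC') ?_ ?_ hm
    · have h6 := Mv'.cmp_comm hyC
      have h7 := Mu.cmp_comm hyC'
      rw [mul_assoc, h7, ← mul_assoc, h6, mul_assoc]
    · rw [hφf]; exact Mu.cmp_mem_alt hyC'
  · rw [← e5]
    exact Mv.altType_cmp (le_normalizer hv'K) hv2' h5

variable (hodd : Odd Ω.card) (hS : Duo.Sm M a X V V')

include hodd hS

theorem Duo.no_prod {v v' : G} (hv : v ∈ V) (h1 : v ≠ 1) (hv' : v' ∈ V') (h1' : v' ≠ 1)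
    {e : G} (he : e ∈ V ⊔ V') {J : Subgroup G} (Tr : IsTriple e (v * v') J) : False := by
  obtain ⟨K, Mv, hK⟩ := hN.ex v (h.r1.rt hv h1)
  obtain ⟨N, hN1, hor, hoth⟩ := CaseN.prod' h11 hodd hX hN h.r1 h.r2 h.d h.c hv h1 hv' h1' hK
  have hC := pair_isComp hX hN h.r1 h.r2 h.d h.c hv h1 hv' h1' hK
  have h5 := pair_five h.r1 h.r2 h.d h.c hv h1 hv' hK h1' hN.disj hX
  have hv'K : v' ∈ K := pair_mem_K h.r1 h.r2 h.d h.c hv h1 hv' hK
  have hfix : ∀ e ∈ V ⊔ V', Fixes e (Mv.cmp v') := fun e he =>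
    CaseN.fixes_cmp' h11 hX hN h.r1 h.r2 h.d h.c hv h1 hv' h1' hK he
  have hvE : v ∈ V ⊔ V' := mem_sup_left hv
  have hfE : v * v' ∈ V ⊔ V' := mul_mem hvE (mem_sup_right hv')
  have key : IsTriple e (v * v') N → False := fun Tr =>
    no_triple_prod rfl (h.r1.sq v hv) (h.c v hv v' hv') (h.comm he hvE) hC h5
      (Mv.altType_cmp (le_normalizer hv'K) (h.r2.sq v' hv') h5) hor (hfix e he) h.r1.natCard
      (fun u hu => h.r1.sq u hu) (fun u hu => h.r1.comm hu hv) (fun u hu => h.c u hu v' hv')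
      (fun u hu => h.comm (mem_sup_left hu) he) (fun u hu => hfix u (mem_sup_left hu))
      (fun u hu hu1 huN hCN => h.cover h11 hX hN hv h1 hv' h1' hu hu1 hK hN1 huN hCN) Tr
      (fun hvN hCN => hS hv h1 hv' h1' he Tr hvN hK hCN)
  by_cases hJ : J = N
  · exact key (hJ ▸ Tr)
  by_cases hJ' : J = cj v N
  · apply key
    have h2 := Tr.cj v
    have h3 : v * e * v⁻¹ = e := by rw [h.comm hvE he, mul_inv_cancel_right]
    have h4 : v * (v * v') * v⁻¹ = v * v' := by rw [h.comm hvE hfE, mul_inv_cancel_right]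
    rwa [h3, h4, hJ', ← cj_mul, h.r1.sq v hv, cj_one] at h2
  · exact Tr.not_fixes (hoth J Tr.comp hJ hJ' e he)

/-- **(7')(v)**: no triple `(e, f, J)` -/
theorem Duo.no_triple {e f : G} (he : e ∈ V ⊔ V') (hf : f ∈ V ⊔ V') {J : Subgroup G}
    (Tr : IsTriple e f J) : False := by
  obtain ⟨v, hv, v', hv', rfl⟩ := h.exists_mul hf
  by_cases h1 : v = 1
  · subst h1
    rw [one_mul] at Tr
    have h2 : v' ≠ 1 := ne_one_of_order Tr.inva
    exact Duo.no_left h11 hX hN h.swap hv' h2 (by rw [sup_comm]; exact he) Tr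
  by_cases h1' : v' = 1
  · subst h1'
    rw [mul_one] at Tr
    exact Duo.no_left h11 hX hN h hv h1 he Tr
  · exact Duo.no_prod h11 hX hN h hodd hS hv h1 hv' h1' he Tr

/-- **(7')(v)**: balance -/
theorem Duo.balance {e f : G} (he : e ∈ V ⊔ V') (h1 : e ≠ 1) (hf : f ∈ V ⊔ V')
    (h1' : f ≠ 1) : core (centralizer ({e} : Set G)) ⊓ centralizer ({f} : Set G) ≤
      core (centralizer ({f} : Set G)) := by
  rintro d ⟨hd, hdf⟩
  by_contra hn
  obtain ⟨J, Tr⟩ := exists_triple (order_of_sq (h.sq he) h1) (order_of_sq (h.sq hf) h1')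
    (h.comm hf he) hd hdf hn
  exact Duo.no_triple h11 hX hN h hodd hS he hf Tr

end

section sm

variable (hΩ : Ω.card = n) (H : Hyp G n) (hN : CaseN M a X) (h : Duo M V V' T T')

include hΩ H hN h

/-- the alternatives `SmallAlt` for `13 ≤ |Ω|` -/
theorem Duo.sm_of_hyp : Duo.Sm M a X V V' := by
  intro v v' e hv h1 hv' h1' he J Tr hvJ K Mv hK hCJ
  have hodd := H.odd
  have h13' := H.h13
  rw [← hΩ] at hodd h13'
  have h11 : 11 ≤ Ω.card := by omega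
  have hX : 13 ≤ Ω.card + X.card := by omega
  have hv2 := h.r1.sq v hv
  have hv2' := h.r2.sq v' hv'
  have hvv' := h.c v hv v' hv'
  have hvE : v ∈ V ⊔ V' := mem_sup_left hv
  have hfE : v * v' ∈ V ⊔ V' := mul_mem hvE (mem_sup_right hv')
  have hv'K : v' ∈ K := pair_mem_K h.r1 h.r2 h.d h.c hv h1 hv' hK
  have hC := pair_isComp hX hN h.r1 h.r2 h.d h.c hv h1 hv' h1' hK
  have h5 := pair_five h.r1 h.r2 h.d h.c hv h1 hv' hK h1' hN.disj hX
  have hcard := pair_card h.r1 h.r2 h.d h.c hv h1 hv' hK h1' hN.disj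
  have hty := Mv.altType_cmp (le_normalizer hv'K) hv2' h5
  have hC' : IsComp (J ⊓ centralizer ({v} : Set G)) (Mv.cmp v') := by
    refine isComp_inf (H := centralizer ({v * v'} : Set G)) ?_ Tr.comp hCJ
    rw [← cent_mul_eq]; exact hC
  rcases H.small' Tr with hsm | hHe
  · exact hsm
  by_cases h9 : 9 ≤ (fixIn (fixIn Ω (M.φ v) ∪ X) (Mv.φ v')).card
  · obtain ⟨m, -, hm, -, hJm⟩ := H.big Tr hvJ hv2 hC' h9 hty
    exact Or.inl ⟨m, hm, hJm⟩
  exfalso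
  -- the third root `z`
  have h4 : 4 ≤ ((Ω \ T) \ T').card := by
    have h3 := Finset.le_card_sdiff T' (Ω \ T)
    have h4 := Finset.le_card_sdiff T Ω
    have h5 := h.r1.card
    have h6 := h.r2.card
    omega
  obtain ⟨T'', hT'', hT''4⟩ := Finset.exists_subset_card_eq h4
  have hm : ∀ x ∈ T'', x ∈ Ω ∧ x ∉ T ∧ x ∉ T' := by
    intro x hx
    have := hT'' hx
    rw [Finset.mem_sdiff, Finset.mem_sdiff] at this
    exact ⟨this.1.1, this.1.2, this.2⟩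
  have hP : IsPGroup 2 ↥(V ⊔ V') := by
    rintro ⟨e, he⟩
    exact ⟨1, Subtype.ext (by show e ^ 2 ^ 1 = 1; rw [pow_one, pow_two]; exact h.sq he)⟩
  have hle : V ⊔ V' ≤ M.fixSub T'' := sup_le
    (fun u hu => ⟨le_normalizer (h.r1.le hu), fun x hx => (h.r1.mem u hu).2 x (hm x hx).2.1⟩)
    (fun u hu => ⟨le_normalizer (h.r2.le hu), fun x hx => (h.r2.mem u hu).2 x (hm x hx).2.2⟩)
  obtain ⟨V'', hV'', c''⟩ := exists_RF_fix M (T := T'') (fun x hx => (hm x hx).1) hT''4 hP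
    (fun p hp => (hle hp).1) (fun p hp x hx => (hle hp).2 x hx)
  have d1 : Disjoint T T'' := Finset.disjoint_left.mpr fun x hx hx' => (hm x hx').2.1 hx
  have d2 : Disjoint T' T'' := Finset.disjoint_left.mpr fun x hx hx' => (hm x hx').2.2 hx
  have c1 : Cm V V'' := fun u hu w hw => (c'' w hw u (mem_sup_left hu)).symm
  have c2 : Cm V' V'' := fun u hu w hw => (c'' w hw u (mem_sup_right hu)).symm
  obtain ⟨z, hz, hz1⟩ := hV''.exists_ne
  obtain ⟨Kz, Mz, hKz⟩ := hN.ex z (hV''.rt hz hz1)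
  have hz2 := hV''.sq z hz
  have hvz := c1 v hv z hz
  have hvz' := c2 v' hv' z hz
  have hzK : z ∈ K := pair_mem_K h.r1 hV'' d1 c1 hv h1 hz hK
  have hzφ : Mv.φ z = M.φ z := pair_φ h.r1 hV'' d1 c1 hv h1 hz hK
  have hvφ' : Mv.φ v' = M.φ v' := pair_φ h.r1 h.r2 h.d h.c hv h1 hv' hK
  have hzJ : z ∈ J := by
    refine hCJ (Mv.mem_cmp (n := 1) hzK hvz' ?_ (by rw [pow_one, pow_two]; exact hz2))
    rw [hzφ, pair_fix h.r1 h.r2 h.d h.c hv h1 hv' hK h1' hN.disj]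
    exact alt_mono (hT''.trans Finset.subset_union_left) (hV''.mem z hz)
  have hvKz : v ∈ Kz := pair_mem_K hV'' h.r1 d1.symm (Cm.symm c1) hz hz1 hv hKz
  have hvKz' : v' ∈ Kz := pair_mem_K hV'' h.r2 d2.symm (Cm.symm c2) hz hz1 hv' hKz
  have e1 : Mz.φ v = M.φ v := pair_φ hV'' h.r1 d1.symm (Cm.symm c1) hz hz1 hv hKz
  have e2 : Mz.φ v' = M.φ v' := pair_φ hV'' h.r2 d2.symm (Cm.symm c2) hz hz1 hv' hKz
  have hsup : ∀ {V : Subgroup G} {T : Finset α} (hV : RF M V T) {u : G}, u ∈ V → u ≠ 1 →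
      ∀ x, M.φ u x ≠ x ↔ x ∈ T := fun hV u hu hu1 x =>
    ⟨fun hne => by
      by_contra hx
      exact hne ((hV.root hu hu1).apply_eq hx), fun hx => (hV.root hu hu1).apply_ne hx⟩
  have hsub : ∀ {V W : Subgroup G} {T S : Finset α} (hV : RF M V T) (hW : RF M W S) (d : Disjoint T S)
      {u : G}, u ∈ V → u ≠ 1 → S ⊆ fixIn Ω (M.φ u) ∪ X := by
    intro V W T S hV hW d u hu hu1 x hx
    apply Finset.mem_union_left
    rw [hV.fixIn_eq hu hu1, Finset.mem_sdiff]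
    exact ⟨hW.sub hx, fun hxT => Finset.disjoint_left.mp d hxT hx⟩
  have hSc : ∀ {V : Subgroup G} {T : Finset α} (hV : RF M V T) {u : G}, u ∈ V → u ≠ 1 →
      (fixIn Ω (M.φ u) ∪ X).card + 4 = Ω.card + X.card := by
    intro V T hV u hu hu1
    have h2 : Disjoint (fixIn Ω (M.φ u)) X := Finset.disjoint_of_subset_left (fixIn_subset _ _) hN.disj
    rw [Finset.card_union_of_disjoint h2, (hV.rt hu hu1).card_fix]
    omega
  have hS1 := hSc hV'' hz hz1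
  have hS2 := hSc h.r1 hv h1
  have hf1 := card_fixIn_mul (hsub hV'' h.r1 d1.symm hz hz1) (hsub hV'' h.r2 d2.symm hz hz1) h.r1.card
    h.r2.card h.d (hsup h.r1 hv h1) (hsup h.r2 hv' h1')
  have hf2 := card_fixIn_mul (hsub h.r1 hV'' d1 hv h1) (hsub h.r1 h.r2 h.d hv h1) hV''.card
    h.r2.card d2.symm (hsup hV'' hz hz1) (hsup h.r2 hv' h1')
  have hfKz : v * v' ∈ Kz := mul_mem hvKz hvKz'
  have hφf : Mz.φ (v * v') = M.φ v * M.φ v' := by
    rw [Mz.mul _ _ (le_normalizer hvKz) (le_normalizer hvKz'), e1, e2]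
  have hvf : v * (v * v') = v' := by rw [← mul_assoc, hv2, one_mul]
  have hφw : Mv.φ (z * (v * (v * v'))) = M.φ z * M.φ v' := by
    rw [hvf, Mv.mul _ _ (le_normalizer hzK) (le_normalizer hv'K), hzφ, hvφ']
  refine heKill' (f := v * v') (v := v) (w := z) Mz Mv (h.sq hfE) hv2 hz2 (h.comm hvE hfE) hvz Tr.comp
    hvJ hKz.comp hfKz hvKz ?_ ?_ ?_ hK.comp hzJ hzK ?_ ?_ ?_ ?_ hHe
  · intro h1
    rw [← hφf, h1] at hf1
    have h6 : fixIn (fixIn Ω (M.φ z) ∪ X) (1 : Perm α) = fixIn Ω (M.φ z) ∪ X := by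
      ext y
      rw [mem_fixIn]
      exact ⟨fun h => h.1, fun h => ⟨h, rfl⟩⟩
    rw [h6] at hf1
    omega
  · rw [hφf]; omega
  · rw [hφf]; omega
  · rw [hvf]; exact hv'K
  · rw [hzφ]; exact (hV''.root hz hz1).φ_ne_one
  · rw [hφw]; omega
  · rw [hφw]; omega

end sm

end Cfsg.Agent.UAlt
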