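import Cfsg.Agent.UAlt.PKQuot
import Cfsg.Agent.UAlt.Four
import Cfsg.Agent.SignalizersComponents.CoprimeGen

/-!
# Case N: from `W` to the package (PK)

Input: `CaseN M a X` and a subgroup `W` of odd order normalised by `L` such that for every root `v` of `L` the
centralizer `C(v)` normalises `W` and `K_v`, and `O(C(v)) = C_W(v)`. Output: the package `PK` for a subgroup `B`
with `B / W ≅ Alt(Ω ∪ X)`.
-/

set_option autoImplicit false
set_option linter.unusedSectionVars false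

open Cfsg Equiv Equiv.Perm Subgroup
open Cfsg.Agent.Intrinsic.Basic Cfsg.Agent.Intrinsic
open Cfsg.Agent.SignalizersComponents Cfsg.Agent.Lib
open Cfsg.Agent.SignalizersComponents.IntrinsicBasic
open Cfsg.Agent.StdAlt.Roots (IsRoot)
open Cfsg.Agent.StdAlt.PermTypes (cyc)
open scoped commutatorElement

namespace Cfsg.Agent.UAlt.IdentPK

open Cfsg.Agent.UAlt.Glue Cfsg.Agent.UAlt.PKQuot

variable {G : Type*} [Group G] {α : Type*} [Fintype α] [DecidableEq α]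

theorem comm_of_disjoint {A B : Finset α} (h : ∀ x ∈ A, x ∉ B) {σ τ : Perm α} (hσ : σ ∈ sym A)
    (hτ : τ ∈ sym B) : σ * τ = τ * σ := by
  have hd : Perm.Disjoint σ τ := by
    intro x
    by_cases hx : x ∈ A
    · exact Or.inr (hτ x (h x hx))
    · exact Or.inl (hσ x hx)
  exact hd.commute

variable {L : Subgroup G} {Ω : Finset α} {M : Mod L Ω}

theorem isRoot_of_root {T : Finset α} {v : G} (h : Root M T v) : IsRoot (M.φ v) := by
  refine ⟨M.sq h.memN h.sq, ?_⟩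
  rw [← h.card]
  congr 1
  ext x
  rw [mem_support]
  refine ⟨fun hx => ?_, fun hx => h.apply_ne hx⟩
  by_contra hn
  exact hx (h.apply_eq hn)

theorem rt_of_root {T : Finset α} {v : G} (h : Root M T v) : M.Rt v :=
  ⟨h.mem, h.sq, isRoot_of_root h⟩

/-- the label of an element of `L` commuting with the labels of `V` -/
theorem root_sym {T : Finset α} {v : G} (h : Root M T v) : M.φ v ∈ sym T := fun _ hx => h.apply_eq hx

/-- the hypothesis on `W` -/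
structure WD [Finite G] (M : Mod L Ω) (a : G) (X : Finset α) (W : Subgroup G) : Prop where
  odd : Odd (Nat.card W)
  le : L ≤ normalizer (W : Set G)
  cent : ∀ (v : G) (K : Subgroup G) (Mv : Mod K (fixIn Ω (M.φ v) ∪ X)), M.Rt v → KD M a X v K Mv →
    centralizer ({v} : Set G) ≤ normalizer (W : Set G)
  norm : ∀ (v : G) (K : Subgroup G) (Mv : Mod K (fixIn Ω (M.φ v) ∪ X)), M.Rt v → KD M a X v K Mv →
    centralizer ({v} : Set G) ≤ normalizer (K : Set G)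
  core : ∀ (v : G) (K : Subgroup G) (Mv : Mod K (fixIn Ω (M.φ v) ∪ X)), M.Rt v → KD M a X v K Mv →
    W ⊓ centralizer ({v} : Set G) = core (centralizer ({v} : Set G))

variable [Finite G] {a : G} {X : Finset α} {W : Subgroup G}

theorem WD.core_le (hW : WD M a X W) {v : G} {K : Subgroup G} {Mv : Mod K (fixIn Ω (M.φ v) ∪ X)}
    (hv : M.Rt v) (hK : KD M a X v K Mv) : Basic.core K ≤ W :=
  hK.comp.core_le_core.trans ((hW.core v K Mv hv hK).ge.trans inf_le_left)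

theorem WD.K_le (hW : WD M a X W) {v : G} {K : Subgroup G} {Mv : Mod K (fixIn Ω (M.φ v) ∪ X)}
    (hv : M.Rt v) (hK : KD M a X v K Mv) : K ≤ normalizer (W : Set G) :=
  hK.comp.le.trans (hW.cent v K Mv hv hK)

/-- `C_{O(L)}(u)` commutes with the 2-elements of `cmp u` modulo `W` -/
theorem star_aux (hN : CaseN M a X) (hW : WD M a X W) {u : G} (hu : M.Rt u) {c y : G}
    (hc : c ∈ core L) (hcu : u * c = c * u) (hy : y ∈ M.cmp u) {n : ℕ} (hn : y ^ 2 ^ n = 1) :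
    ⁅c, y⁆ ∈ W := by
  obtain ⟨K, Mu, hK⟩ := hN.ex u hu
  have hcL := core_le L hc
  have hc1 : M.φ c = 1 := (M.core_iff c hcL).2 hc
  have hyL := M.cmp_le u hy
  have h1 : M.φ (c * y * c⁻¹) = M.φ y := by
    rw [M.conj (le_normalizer hcL) (le_normalizer hyL), hc1]; simp
  have h2 : c * y * c⁻¹ ∈ M.cmp u := by
    refine M.mem_cmp (mul_mem (mul_mem hcL hyL) (inv_mem hcL)) ?_ (by rw [h1]; exact M.cmp_mem_alt hy)
      (n := n) (by rw [conj_pow, hn]; group)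
    have h3 := M.cmp_comm hy
    have h4 : u * c⁻¹ = c⁻¹ * u := by
      rw [eq_inv_mul_iff_mul_eq, ← mul_assoc, ← hcu, mul_inv_cancel_right]
    calc u * (c * y * c⁻¹) = (u * c) * y * c⁻¹ := by group
      _ = c * (u * y) * c⁻¹ := by rw [hcu]; group
      _ = c * y * (u * c⁻¹) := by rw [h3]; group
      _ = c * y * c⁻¹ * u := by rw [h4]; group
  have h3 : ⁅c, y⁆ ∈ M.cmp u := mul_mem h2 (inv_mem hy)
  have h4 : M.φ ⁅c, y⁆ = 1 := by
    rw [commutatorElement_def, M.mul _ _ (le_normalizer (M.cmp_le u h2)) (le_normalizer (inv_mem hyL)), h1,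
      M.inv (le_normalizer hyL), mul_inv_cancel]
  have h5 : Mu.φ ⁅c, y⁆ = 1 := by rw [hK.agree _ h3, h4]
  exact hW.core_le hu hK ((Mu.core_iff _ (hK.le h3)).1 h5)

/-- **(★)** `O(L)` commutes with `cmp v` modulo `W` -/
theorem star (hN : CaseN M a X) (h9 : 9 ≤ Ω.card) (hW : WD M a X W) {Q : Type*} [Group Q] {q : G → Q}
    (hq : QD W q) {T : Finset α} {V : Subgroup G} (hV : RootV M T V) {v : G} (hv : v ∈ V) (hv1 : v ≠ 1)
    {c y : G} (hc : c ∈ core L) (hy : y ∈ M.cmp v) : q c * q y = q y * q c := by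
  have : Fact (Nat.Prime 2) := ⟨Nat.prime_two⟩
  have hr := hV.root v hv hv1
  have hLN := hW.le
  have hcN : ∀ c ∈ core L, c ∈ normalizer (W : Set G) := fun c hc => hLN (core_le L hc)
  obtain ⟨K, Mv, hK⟩ := hN.ex v (rt_of_root hr)
  have hcomp := M.isComp_cmp hr.memN hr.sq (by rw [hr.card_fix]; omega)
  let H : Subgroup G :=
    { carrier := {y | y ∈ normalizer (W : Set G) ∧ ∀ c ∈ core L, q c * q y = q y * q c}
      mul_mem' := by
        rintro x y ⟨hx, hx'⟩ ⟨hy, hy'⟩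
        refine ⟨mul_mem hx hy, fun c hc => ?_⟩
        rw [hq.mul _ hx _ hy, ← mul_assoc, hx' c hc, mul_assoc, hy' c hc, mul_assoc]
      one_mem' := ⟨one_mem _, fun c hc => by rw [hq.one, mul_one, one_mul]⟩
      inv_mem' := by
        rintro x ⟨hx, hx'⟩
        refine ⟨inv_mem hx, fun c hc => ?_⟩
        rw [hq.inv hx, eq_inv_mul_iff_mul_eq, ← mul_assoc, ← hx' c hc, mul_inv_cancel_right] }
  suffices h : M.cmp v ≤ H from (h hy).2 c hc
  refine hcomp.le_of_two fun y hy n hn => ?_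
  have hyL := M.cmp_le v hy
  refine ⟨hLN hyL, fun c hc => ?_⟩
  -- a lift of the label of `y` commuting with `V`
  have hyalt := M.cmp_mem_alt hy
  rw [hr.fixIn_eq] at hyalt
  have hQ₀ : IsPGroup 2 (zpowers (M.φ y)) := by
    rw [IsPGroup.iff_card]
    have h1 : (M.φ y) ^ 2 ^ n = 1 := by rw [← M.pow (le_normalizer hyL), hn, M.one]
    rw [Nat.card_zpowers]
    obtain ⟨k, -, hk⟩ := (Nat.dvd_prime_pow Nat.prime_two).1 (orderOf_dvd_of_pow_eq_one h1)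
    exact ⟨k, hk⟩
  obtain ⟨R, hR1, hR2, hR3, -, hR5, -⟩ := M.exists_group_lift hV.isPGroup
    (hV.le.trans le_normalizer) hQ₀ (by
      rw [zpowers_le]; exact M.mem_alt y hyL) (by
      intro p hp σ hσ
      have hσ' : σ ∈ alt (Ω \ T) := (zpowers_le.2 hyalt) hσ
      refine comm_of_disjoint (A := T) (B := Ω \ T) (fun x hx hx' => (Finset.mem_sdiff.1 hx').2 hx) ?_
        (alt_le_sym _ hσ')
      exact fun x hx => hV.apply_eq hp hx)
  obtain ⟨y', hy'R, hy'φ⟩ := hR5 (M.φ y) (mem_zpowers _)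
  obtain ⟨m, hm⟩ := hR2 ⟨y', hy'R⟩
  have hm' : y' ^ 2 ^ m = 1 := congrArg Subtype.val hm
  have hy'L := hR1 hy'R
  have hy'cmp : ∀ u ∈ V, u ≠ 1 → y' ∈ M.cmp u := by
    intro u hu hu1
    refine M.mem_cmp hy'L (hR3 y' hy'R u hu).symm ?_ hm'
    rw [hy'φ, (hV.root u hu hu1).fixIn_eq]
    exact hyalt
  -- `y` and `y'` agree modulo `W`
  have hqy : q y = q y' := by
    rw [hq.eq_iff (hLN hyL) (hLN hy'L)]
    apply hW.core_le (rt_of_root hr) hK
    have h1 := hy'cmp v hv hv1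
    rw [← Mv.eq_iff (hK.le hy) (hK.le h1), hK.agree _ hy, hK.agree _ h1, hy'φ]
  rw [hqy]
  -- generation of `core L`
  let H' : Subgroup G :=
    { carrier := {c | c ∈ normalizer (W : Set G) ∧ q c * q y' = q y' * q c}
      mul_mem' := by
        rintro x y ⟨hx, hx'⟩ ⟨hy, hy'⟩
        refine ⟨mul_mem hx hy, ?_⟩
        rw [hq.mul _ hx _ hy, mul_assoc, hy', ← mul_assoc, hx', mul_assoc]
      one_mem' := ⟨one_mem _, by rw [hq.one, mul_one, one_mul]⟩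
      inv_mem' := by
        rintro x ⟨hx, hx'⟩
        refine ⟨inv_mem hx, ?_⟩
        rw [hq.inv hx, inv_mul_eq_iff_eq_mul, ← mul_assoc, hx', mul_inv_cancel_right] }
  have hel : Cfsg.IsElementaryAbelian 2 V := by
    refine ⟨?_, ?_⟩
    · exact ⟨⟨fun x y => Subtype.ext (hV.comm x.2 y.2)⟩⟩
    · intro x hx
      rw [pow_two]; exact hV.sq hx
  have hgen := CoprimeGen.le_iSup_centralizer_ne_one (p := 2) (A := V) (Z := core L) hel
    (by rw [hV.card]; norm_num) (Lifting.not_dvd_of_odd (odd_card_core L))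
    (hV.le.trans (le_normalizer_core L))
  have hle : core L ≤ H' := by
    refine hgen.trans (iSup_le ?_)
    rintro ⟨u, hu, hu1⟩ x ⟨hx1, hx2⟩
    refine ⟨hcN x hx1, ?_⟩
    rw [hq.comm_iff (hcN x hx1) (hLN hy'L)]
    exact star_aux hN hW (rt_of_root (hV.root u hu hu1)) hx1
      (mem_centralizer_singleton_iff.1 hx2).symm (hy'cmp u hu hu1) hm'
  exact (hle hc).2

/-! ### a pair of disjoint roots with compatible labels -/

omit [Finite G] in
theorem exists_cast {K : Subgroup G} {S T : Finset α} (h : S = T) (M : Mod K S) :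
    ∃ M' : Mod K T, ∀ x, M'.φ x = M.φ x := by subst h; exact ⟨M, fun _ => rfl⟩

theorem map_eq_of_mem_sym {A : Finset α} {τ : Perm α} (h : τ ∈ sym A) : A.map τ.toEmbedding = A := by
  apply Finset.eq_of_subset_of_card_le
  · intro y hy
    obtain ⟨x, hx, rfl⟩ := Finset.mem_map.1 hy
    exact mem_of_mem_sym h hx
  · rw [Finset.card_map]

theorem conj_eq_of_agree {Y : Finset α} {τ τ' ρ : Perm α} (h : ∀ x ∈ Y, τ x = τ' x) (hρ : ρ ∈ sym Y) :
    τ * ρ * τ⁻¹ = τ' * ρ * τ'⁻¹ := by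
  have h1 : τ'⁻¹ * τ ∈ sym Yᶜ := by
    intro x hx
    rw [Finset.mem_compl, not_not] at hx
    rw [Perm.mul_apply, h x hx]; simp
  have h2 := comm_of_disjoint (A := Yᶜ) (B := Y) (fun x hx => Finset.mem_compl.1 hx) h1 hρ
  calc τ * ρ * τ⁻¹ = τ' * (τ'⁻¹ * τ * ρ) * τ⁻¹ := by group
    _ = τ' * ρ * τ'⁻¹ := by rw [h2]; group

/-- a pair of disjoint commuting roots with compatible labels -/
structure Pair (M : Mod L Ω) (X : Finset α) (S S' : Finset α) (v v' : G) (K K' : Subgroup G)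
    (Mk : Mod K ((Ω ∪ X) \ S)) (Mk' : Mod K' ((Ω ∪ X) \ S')) : Prop where
  rv : Root M S v
  rv' : Root M S' v'
  comm : v * v' = v' * v
  disj : ∀ x ∈ S, x ∉ S'
  comp : IsComp (centralizer ({v} : Set G)) K
  comp' : IsComp (centralizer ({v'} : Set G)) K'
  le : M.cmp v ≤ K
  le' : M.cmp v' ≤ K'
  agree : ∀ y ∈ M.cmp v, Mk.φ y = M.φ y
  agree' : ∀ y ∈ M.cmp v', Mk'.φ y = M.φ y
  com : ∀ σ ∈ alt (((Ω ∪ X) \ S) \ S'), ∃ y ∈ K, y ∈ K' ∧ Mk.φ y = σ ∧ Mk'.φ y = σ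

theorem fixIn_sdiff {S S' : Finset α} {v' : G} (hr' : Root M S' v') {A : Finset α} :
    fixIn (A \ S) (M.φ v') = (A \ S) \ S' := by
  ext x
  rw [mem_fixIn, Finset.mem_sdiff (s := A \ S)]
  refine and_congr_right fun _ => ⟨fun h hx => hr'.apply_ne hx h, fun h => hr'.apply_eq h⟩

theorem exists_pair (hXd : Disjoint Ω X) (hX : X.card = 0 ∨ 2 ≤ X.card) (h13 : 13 ≤ Ω.card)
    {S S' : Finset α} {v v' : G} (hr : Root M S v) (hr' : Root M S' v') (hcomm : v * v' = v' * v)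
    (hd : ∀ x ∈ S, x ∉ S') {K K' : Subgroup G} {Mv : Mod K (fixIn Ω (M.φ v) ∪ X)}
    {Mv' : Mod K' (fixIn Ω (M.φ v') ∪ X)} (hK : KD M a X v K Mv) (hK' : KD M a X v' K' Mv') :
    ∃ (Mk : Mod K ((Ω ∪ X) \ S)) (Mk' : Mod K' ((Ω ∪ X) \ S')), Pair M X S S' v v' K K' Mk Mk' := by
  have hcast : ∀ {T : Finset α} {u : G}, Root M T u → fixIn Ω (M.φ u) ∪ X = (Ω ∪ X) \ T := by
    intro T u hu
    rw [hu.fixIn_eq]
    ext x
    simp only [Finset.mem_union, Finset.mem_sdiff]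
    constructor
    · rintro (⟨h1, h2⟩ | h)
      · exact ⟨Or.inl h1, h2⟩
      · exact ⟨Or.inr h, fun hx => Finset.disjoint_left.1 hXd (hu.sub hx) h⟩
    · rintro ⟨h1 | h1, h2⟩
      · exact Or.inl ⟨h1, h2⟩
      · exact Or.inr h1
  obtain ⟨Mk, hMk⟩ := exists_cast (hcast hr) Mv
  obtain ⟨Mk₀, hMk₀⟩ := exists_cast (hcast hr') Mv'
  have hag : ∀ y ∈ M.cmp v, Mk.φ y = M.φ y := fun y hy => by rw [hMk, hK.agree y hy]
  have hag₀ : ∀ y ∈ M.cmp v', Mk₀.φ y = M.φ y := fun y hy => by rw [hMk₀, hK'.agree y hy]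
  have hd' : ∀ x ∈ S', x ∉ S := fun x hx hx' => hd x hx' hx
  have hv'c : v' ∈ M.cmp v := hr.mem_cmp hr'.mem hcomm (fun x hx => hr'.apply_eq (hd x hx)) (n := 1)
    (by rw [pow_one, pow_two]; exact hr'.sq)
  have hvc : v ∈ M.cmp v' := hr'.mem_cmp hr.mem hcomm.symm (fun x hx => hr.apply_eq (hd' x hx)) (n := 1)
    (by rw [pow_one, pow_two]; exact hr.sq)
  have hv'K := hK.le hv'c
  have hvK' := hK'.le hvc
  -- cardinalities
  have hcard : ((Ω \ S) \ S').card = Ω.card - 8 := by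
    have h1 : S' ⊆ Ω \ S := fun x hx => Finset.mem_sdiff.2 ⟨hr'.sub hx, hd' x hx⟩
    rw [Finset.card_sdiff_of_subset h1, Finset.card_sdiff_of_subset hr.sub, hr.card, hr'.card]
    omega
  have hYsub : (Ω \ S) \ S' ⊆ ((Ω ∪ X) \ S) \ S' := by
    intro x hx
    simp only [Finset.mem_sdiff, Finset.mem_union] at hx ⊢
    exact ⟨⟨Or.inl hx.1.1, hx.1.2⟩, hx.2⟩
  have hYcard : Ω.card - 8 ≤ (((Ω ∪ X) \ S) \ S').card := hcard ▸ Finset.card_le_card hYsub
  have hfix : fixIn ((Ω ∪ X) \ S) (Mk.φ v') = ((Ω ∪ X) \ S) \ S' := by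
    rw [hag v' hv'c]; exact fixIn_sdiff hr'
  have hcomm2 : ((Ω ∪ X) \ S') \ S = ((Ω ∪ X) \ S) \ S' := by
    ext x
    simp only [Finset.mem_sdiff]
    tauto
  have hfix' : fixIn ((Ω ∪ X) \ S') (Mk₀.φ v) = ((Ω ∪ X) \ S) \ S' := by
    rw [hag₀ v hvc, fixIn_sdiff hr, hcomm2]
  -- the common component
  have hD := Mk.isComp_cmp_of hK.comp (le_normalizer hv'K) hr'.sq (by rw [hfix]; omega)
  have hD₀ := Mk₀.isComp_cmp_of hK'.comp (le_normalizer hvK') hr.sq (by rw [hfix']; omega)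
  rw [inf_comm] at hD₀
  obtain ⟨ME, hME⟩ := hr.exists_mod (by omega)
  have hfE : fixIn (Ω \ S) (ME.φ v') = (Ω \ S) \ S' := by
    rw [hME v' hv'c]; exact fixIn_sdiff hr'
  have hE := ME.isComp_cmp (t := v') (le_normalizer hv'c) hr'.sq (by rw [hfE]; omega)
  have hEφ : ∀ y ∈ ME.cmp v', M.φ y ∈ alt ((Ω \ S) \ S') := by
    intro y hy
    rw [← hME y (ME.cmp_le v' hy), ← hfE]
    exact ME.cmp_mem_alt hy
  have hED : ME.cmp v' ≤ Mk.cmp v' := hE.le_of_two fun y hy n hn => by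
    have h1 := ME.cmp_le v' hy
    refine Mk.mem_cmp (hK.le h1) (ME.cmp_comm hy) ?_ hn
    rw [hfix, hag y h1]
    exact alt_mono hYsub (hEφ y hy)
  have hEc : ME.cmp v' ≤ M.cmp v' := hE.le_of_two fun y hy n hn => by
    have h1 := ME.cmp_le v' hy
    refine hr'.mem_cmp (M.cmp_le v h1) (ME.cmp_comm hy) (fun x hx => ?_) hn
    apply (hEφ y hy).2
    intro hx'
    exact (Finset.mem_sdiff.1 hx').2 hx
  have hED₀ : ME.cmp v' ≤ Mk₀.cmp v := hE.le_of_two fun y hy n hn => by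
    have h1 := ME.cmp_le v' hy
    refine Mk₀.mem_cmp (hK'.le (hEc hy)) (M.cmp_comm h1) ?_ hn
    rw [hfix', hag₀ y (hEc hy)]
    exact alt_mono hYsub (hEφ y hy)
  have hDD : Mk.cmp v' = Mk₀.cmp v := hE.unique hD hD₀ hED hED₀
  have hElift : ∀ σ ∈ alt ((Ω \ S) \ S'), ∃ y ∈ ME.cmp v', M.φ y = σ := by
    intro σ hσ
    obtain ⟨y, hy, hyσ⟩ := ME.cmp_lift (t := v') (le_normalizer hv'c) hr'.sq (by rw [hfE]; omega)
      (σ := σ) (by rw [hfE]; exact hσ)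
    exact ⟨y, hy, by rw [← hME y (ME.cmp_le v' hy), hyσ]⟩
  rcases hX with hX | hX
  · -- `X = ∅`
    have hX0 : X = ∅ := Finset.card_eq_zero.1 hX
    refine ⟨Mk, Mk₀, hr, hr', hcomm, hd, hK.comp, hK'.comp, hK.le, hK'.le, hag, hag₀, ?_⟩
    intro σ hσ
    have hσ' : σ ∈ alt ((Ω \ S) \ S') := by
      rwa [hX0, Finset.union_empty] at hσ
    obtain ⟨y, hy, hyσ⟩ := hElift σ hσ'
    refine ⟨y, hK.le (ME.cmp_le v' hy), hK'.le (hEc hy), ?_, ?_⟩
    · rw [hag y (ME.cmp_le v' hy), hyσ]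
    · rw [hag₀ y (hEc hy), hyσ]
  · -- relabelling
    have hXY : X ⊆ ((Ω ∪ X) \ S) \ S' := by
      intro x hx
      simp only [Finset.mem_sdiff, Finset.mem_union]
      exact ⟨⟨Or.inr hx, fun h => Finset.disjoint_left.1 hXd (hr.sub h) hx⟩,
        fun h => Finset.disjoint_left.1 hXd (hr'.sub h) hx⟩
    have hYeq : ∀ x ∈ ((Ω ∪ X) \ S) \ S', x ∉ X → x ∈ (Ω \ S) \ S' := by
      intro x hx hxX
      simp only [Finset.mem_sdiff, Finset.mem_union] at hx ⊢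
      rcases hx.1.1 with h | h
      · exact ⟨⟨h, hx.1.2⟩, hx.2⟩
      · exact absurd h hxX
    have hY7 : 7 ≤ (((Ω ∪ X) \ S) \ S').card := by
      have h1 : (Ω \ S) \ S' ∪ X ⊆ ((Ω ∪ X) \ S) \ S' := Finset.union_subset hYsub hXY
      have h2 : Disjoint ((Ω \ S) \ S') X := by
        refine Finset.disjoint_of_subset_left ?_ hXd
        exact Finset.sdiff_subset.trans Finset.sdiff_subset
      have h3 := Finset.card_le_card h1
      rw [Finset.card_union_of_disjoint h2, hcard] at h3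
      omega
    obtain ⟨MD, hMD⟩ := Mk.exists_cmp (le_normalizer hv'K) hr'.sq (by rw [hfix]; exact hY7)
    obtain ⟨MD₀, hMD₀⟩ := Mk₀.exists_cmp (le_normalizer hvK') hr.sq (by rw [hfix']; exact hY7)
    obtain ⟨MD1, hMD1⟩ := exists_cast hfix MD
    obtain ⟨MD2, hMD2⟩ := exists_cast hfix' MD₀
    obtain ⟨MD3, hMD3⟩ : ∃ M' : Mod (Mk.cmp v') (((Ω ∪ X) \ S) \ S'), ∀ x, M'.φ x = MD2.φ x := by
      rw [hDD]; exact ⟨MD2, fun _ => rfl⟩
    obtain ⟨τ, hτY, hτ⟩ := MD3.exists_bij MD1 hY7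
    have e1 : ∀ y ∈ Mk.cmp v', MD1.φ y = Mk.φ y := fun y hy => by rw [hMD1, hMD y hy]
    have e2 : ∀ y ∈ Mk.cmp v', MD3.φ y = Mk₀.φ y := fun y hy => by
      rw [hMD3, hMD2, hMD₀ y (hDD ▸ hy)]
    have hτfix : ∀ x ∈ (Ω \ S) \ S', τ x = x := by
      intro x hx
      refine apply_of_comm_alt (S := (Ω \ S) \ S') (by omega) (fun σ hσ => ?_) hx
      obtain ⟨y, hy, hyσ⟩ := hElift σ hσ
      have h1 := hτ y (le_normalizer (hED hy))
      rw [e1 y (hED hy), e2 y (hED hy), hag y (ME.cmp_le v' hy), hag₀ y (hEc hy), hyσ] at h1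
      rw [eq_mul_inv_iff_mul_eq] at h1
      exact h1.symm
    have hτX : ∀ x ∈ X, τ x ∈ X := by
      intro x hx
      by_contra hn
      have h1 : τ x ∈ ((Ω ∪ X) \ S) \ S' := by
        rw [← hτY]
        exact Finset.mem_map.2 ⟨x, hXY hx, rfl⟩
      have h2 := hτfix _ (hYeq _ h1 hn)
      have h3 := τ.injective h2
      rw [h3] at hn
      exact hn hx
    have hτXmap : X.map τ.toEmbedding = X := by
      apply Finset.eq_of_subset_of_card_le
      · intro y hy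
        obtain ⟨x, hx, rfl⟩ := Finset.mem_map.1 hy
        exact hτX x hx
      · rw [Finset.card_map]
    have hτiff : ∀ x, τ x ∈ X ↔ x ∈ X := by
      intro x
      refine ⟨fun h => ?_, hτX x⟩
      rw [← hτXmap] at h
      obtain ⟨x', hx', h1⟩ := Finset.mem_map.1 h
      have : x' = x := τ.injective h1
      rwa [← this]
    set τ' : Perm α := ofSubtype (τ.subtypePerm hτiff) with hτ'
    have hτ'X : ∀ x ∈ X, τ' x = τ x := by
      intro x hx
      rw [hτ', ofSubtype_apply_of_mem _ hx]; rfl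
    have hτ's : τ' ∈ sym X := fun x hx => by rw [hτ', ofSubtype_apply_of_not_mem _ hx]
    have hagree : ∀ x ∈ ((Ω ∪ X) \ S) \ S', τ x = τ' x := by
      intro x hx
      by_cases hxX : x ∈ X
      · exact (hτ'X x hxX).symm
      · rw [hτfix x (hYeq x hx hxX), hτ's x hxX]
    have hXS' : X ⊆ (Ω ∪ X) \ S' := by
      intro x hx
      have := hXY hx
      simp only [Finset.mem_sdiff] at this ⊢
      exact ⟨this.1.1, this.2⟩
    obtain ⟨Mk', hMk'⟩ := exists_cast (map_eq_of_mem_sym (sym_mono hXS' hτ's)) (Mk₀.relabel τ')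
    refine ⟨Mk, Mk', hr, hr', hcomm, hd, hK.comp, hK'.comp, hK.le, hK'.le, hag, ?_, ?_⟩
    · intro y hy
      rw [hMk', Mod.relabel_φ, hag₀ y hy]
      have h1 := comm_of_disjoint (A := X) (B := Ω) (fun x hx hx' => Finset.disjoint_left.1 hXd hx' hx) hτ's
        (alt_le_sym _ (M.mem_alt y (M.cmp_le v' hy)))
      rw [h1, mul_inv_cancel_right]
    · intro σ hσ
      obtain ⟨y, hy, hyσ⟩ := Mk.cmp_lift (t := v') (le_normalizer hv'K) hr'.sq (by rw [hfix]; omega)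
        (σ := σ) (by rw [hfix]; exact hσ)
      have hy₀ : y ∈ Mk₀.cmp v := hDD ▸ hy
      refine ⟨y, Mk.cmp_le v' hy, Mk₀.cmp_le v hy₀, hyσ, ?_⟩
      have h1 := hτ y (le_normalizer hy)
      rw [e1 y hy, e2 y hy, hyσ] at h1
      rw [hMk', Mod.relabel_φ, h1]
      symm
      refine conj_eq_of_agree hagree ?_
      have h2 := Mk₀.cmp_mem_alt hy₀
      rw [hfix'] at h2
      exact alt_le_sym _ h2

/-! ### the relation -/

theorem mem_of_sq_mem {N W : Subgroup G} (hN : Odd (Nat.card N)) {z : G} (hz : z ∈ N) (h : z * z ∈ W) :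
    z ∈ W := by
  obtain ⟨m, hm⟩ := hN
  have h1 : z ^ (2 * m + 1) = 1 := by
    have := pow_card_eq_one' (x := (⟨z, hz⟩ : N))
    rw [hm] at this
    exact congrArg Subtype.val this
  have h2 : z = (z * z) ^ (m + 1) := by
    rw [← pow_two, ← pow_mul, show 2 * (m + 1) = (2 * m + 1) + 1 by ring, pow_succ, h1, one_mul]
  rw [h2]
  exact pow_mem h _

theorem exists_three {A : Finset α} (h : 3 ≤ A.card) : ∃ x ∈ A, ∃ y ∈ A, ∃ z ∈ A, x ≠ y ∧ x ≠ z ∧ y ≠ z := by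
  obtain ⟨t, hts, htc⟩ := Finset.exists_subset_card_eq h
  obtain ⟨i, j, k, hij, hik, hjk, rfl⟩ := Finset.card_eq_three.1 htc
  exact ⟨i, hts (by simp), j, hts (by simp), k, hts (by simp), hij, hik, hjk⟩

theorem rel (hN : CaseN M a X) (h13 : 13 ≤ Ω.card) (hW : WD M a X W) {Q : Type*} [Group Q] {q : G → Q}
    (hq : QD W q) {S S' : Finset α} {V : Subgroup G} (hV : RootV M S V) {v v' : G} (hv : v ∈ V)
    {K K' : Subgroup G} {Mk : Mod K ((Ω ∪ X) \ S)}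
    {Mk' : Mod K' ((Ω ∪ X) \ S')} (P : Pair M X S S' v v' K K' Mk Mk') {κ κ' : Perm α → Q}
    (hκ : ∀ k ∈ K, κ (Mk.φ k) = q k) (hκ' : ∀ k ∈ K', κ' (Mk'.φ k) = q k) (hκ'm : MulOn ((Ω ∪ X) \ S') κ')
    {c d : α} (hc : c ∈ Ω) (hd : d ∈ Ω) (hcd : c ≠ d) (hcS : c ∉ S) (hcS' : c ∉ S') (hdS : d ∉ S)
    (hdS' : d ∉ S') {i j : α} (hi : i ∈ S) (hj : j ∈ S') :
    (κ' (cyc i c d) * κ (cyc j c d)) ^ 2 = 1 := by
  have hr := P.rv
  have hr' := P.rv'
  have hv1 := hr.ne_one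
  have hLN := hW.le
  have hiS' := P.disj i hi
  have hjS : j ∉ S := fun h => P.disj j h hj
  have hiΩ := hr.sub hi
  have hjΩ := hr'.sub hj
  have hic : i ≠ c := fun e => hcS (e ▸ hi)
  have hid : i ≠ d := fun e => hdS (e ▸ hi)
  have hjc : j ≠ c := fun e => hcS' (e ▸ hj)
  have hjd : j ≠ d := fun e => hdS' (e ▸ hj)
  have hij : i ≠ j := fun e => hiS' (e ▸ hj)
  -- the lifts
  obtain ⟨k', hk', hk'φ⟩ := M.cmp_lift (t := v') hr'.memN hr'.sq (by rw [hr'.card_fix]; omega)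
    (σ := cyc i c d) (by
      rw [hr'.fixIn_eq]
      exact cyc_mem_alt (Finset.mem_sdiff.2 ⟨hiΩ, hiS'⟩) (Finset.mem_sdiff.2 ⟨hc, hcS'⟩)
        (Finset.mem_sdiff.2 ⟨hd, hdS'⟩) hic hcd)
  obtain ⟨k, hk, hkφ⟩ := M.cmp_lift (t := v) hr.memN hr.sq (by rw [hr.card_fix]; omega)
    (σ := cyc j c d) (by
      rw [hr.fixIn_eq]
      exact cyc_mem_alt (Finset.mem_sdiff.2 ⟨hjΩ, hjS⟩) (Finset.mem_sdiff.2 ⟨hc, hcS⟩)
        (Finset.mem_sdiff.2 ⟨hd, hdS⟩) hjc hcd)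
  have hk'L := M.cmp_le v' hk'
  have hkL := M.cmp_le v hk
  have e1 : κ' (cyc i c d) = q k' := by rw [← hk'φ, ← P.agree' k' hk', hκ' k' (P.le' hk')]
  have e2 : κ (cyc j c d) = q k := by rw [← hkφ, ← P.agree k hk, hκ k (P.le hk)]
  -- the involution `g`
  obtain ⟨j', hj', p, hp, p', hp', hjp, hjp', hpp'⟩ := exists_three
    (A := (((Ω \ S) \ S').erase c).erase d) (by
      have h1 : S' ⊆ Ω \ S := fun x hx => Finset.mem_sdiff.2 ⟨hr'.sub hx, fun h => P.disj x h hx⟩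
      have h2 : ((Ω \ S) \ S').card = Ω.card - 8 := by
        rw [Finset.card_sdiff_of_subset h1, Finset.card_sdiff_of_subset hr.sub, hr.card, hr'.card]
        omega
      have h3 := Finset.pred_card_le_card_erase (s := (Ω \ S) \ S') (a := c)
      have h4 := Finset.pred_card_le_card_erase (s := ((Ω \ S) \ S').erase c) (a := d)
      omega)
  simp only [Finset.mem_erase, Finset.mem_sdiff] at hj' hp hp'
  obtain ⟨hj'd, hj'c, ⟨hj'Ω, hj'S⟩, hj'S'⟩ := hj'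
  obtain ⟨hpd, hpc, ⟨hpΩ, hpS⟩, hpS'⟩ := hp
  obtain ⟨hp'd, hp'c, ⟨hp'Ω, hp'S⟩, hp'S'⟩ := hp'
  have hjj' : j ≠ j' := fun e => hj'S' (e ▸ hj)
  have hjp1 : j ≠ p := fun e => hpS' (e ▸ hj)
  have hjp2 : j ≠ p' := fun e => hp'S' (e ▸ hj)
  set σ : Perm α := swap j j' * swap p p' with hσ
  have hσfix : ∀ x, x ≠ j → x ≠ j' → x ≠ p → x ≠ p' → σ x = x := by
    intro x h1 h2 h3 h4
    rw [hσ, Perm.mul_apply, swap_apply_of_ne_of_ne h3 h4, swap_apply_of_ne_of_ne h1 h2]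
  have hσj : σ j = j' := by
    rw [hσ, Perm.mul_apply, swap_apply_of_ne_of_ne hjp1 hjp2, swap_apply_left]
  have hσS : ∀ x ∈ S, σ x = x := by
    intro x hx
    refine hσfix x ?_ ?_ ?_ ?_
    · rintro rfl; exact hjS hx
    · rintro rfl; exact hj'S hx
    · rintro rfl; exact hpS hx
    · rintro rfl; exact hp'S hx
  have hσc : σ c = c := hσfix c hjc.symm hj'c.symm hpc.symm hp'c.symm
  have hσd : σ d = d := hσfix d hjd.symm hj'd.symm hpd.symm hp'd.symm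
  have hσalt : σ ∈ alt Ω := by
    refine ⟨StdAlt.PermTypes.swap_mul_mem hjj' hpp', fun x hx => ?_⟩
    refine hσfix x ?_ ?_ ?_ ?_
    · rintro rfl; exact hx hjΩ
    · rintro rfl; exact hx hj'Ω
    · rintro rfl; exact hx hpΩ
    · rintro rfl; exact hx hp'Ω
  have hσσ : σ * σ = 1 := (StdAlt.Roots.isRoot_swap_mul hjj' hjp1 hjp2 hjp hjp' hpp').1
  have hσsym : σ ∈ sym (Ω \ S) := by
    intro x hx
    by_cases hxΩ : x ∈ Ω
    · rw [Finset.mem_sdiff, not_and, not_not] at hx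
      exact hσS x (hx hxΩ)
    · exact hσalt.2 x hxΩ
  obtain ⟨g, hg, hgg, hvg, hgφ⟩ := M.exists_inv_lift (t := v) hr.memN (n := 1)
    (by rw [pow_one, pow_two]; exact hr.sq) hσalt hσσ
    (comm_of_disjoint (A := S) (B := Ω \ S) (fun x hx hx' => (Finset.mem_sdiff.1 hx').2 hx) (root_sym hr)
      hσsym)
  have hgc : g ∈ M.cmp v := hr.mem_cmp hg hvg (fun x hx => by rw [hgφ]; exact hσS x hx) (n := 1)
    (by rw [pow_one, pow_two]; exact hgg)
  have hgK := P.le hgc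
  -- `g` commutes with `k'` modulo `W`
  have hz'L : g * k' * g⁻¹ * k'⁻¹ ∈ L := mul_mem (mul_mem (mul_mem hg hk'L) (inv_mem hg)) (inv_mem hk'L)
  have hz'c : g * k' * g⁻¹ * k'⁻¹ ∈ core L := by
    rw [← M.core_iff _ hz'L, M.mul _ _ (le_normalizer (mul_mem (mul_mem hg hk'L) (inv_mem hg)))
      (le_normalizer (inv_mem hk'L)), M.conj (le_normalizer hg) (le_normalizer hk'L),
      M.inv (le_normalizer hk'L), hgφ, hk'φ, StdAlt.PermTypes.cyc_conj, hσS i hi, hσc, hσd, mul_inv_cancel]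
  have hgN := hLN hg
  have hk'N := hLN hk'L
  have hkN := hLN hkL
  have hA2 : q g * q g = 1 := by rw [← hq.mul _ hgN _ hgN, hgg, hq.one]
  have hZeq : q g * q k' * (q g)⁻¹ = q (g * k' * g⁻¹ * k'⁻¹) * q k' := by
    rw [← hq.conj hgN hk'N, ← hq.mul _ (hLN hz'L) _ hk'N, inv_mul_cancel_right]
  have hZc : q (g * k' * g⁻¹ * k'⁻¹) * q g = q g * q (g * k' * g⁻¹ * k'⁻¹) :=
    star hN (by omega) hW hq hV hv hv1 hz'c hgc
  have hZZ : q (g * k' * g⁻¹ * k'⁻¹) * q (g * k' * g⁻¹ * k'⁻¹) = 1 := by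
    have hAi : (q g)⁻¹ = q g := inv_eq_of_mul_eq_one_left hA2
    have h1 : q g * (q g * q k' * (q g)⁻¹) * (q g)⁻¹ = q k' := by
      rw [hAi]
      calc q g * (q g * q k' * q g) * q g = (q g * q g) * q k' * (q g * q g) := by group
        _ = q k' := by rw [hA2]; group
    rw [hZeq] at h1
    have h2 : q g * (q (g * k' * g⁻¹ * k'⁻¹) * q k') * (q g)⁻¹ =
        q (g * k' * g⁻¹ * k'⁻¹) * q (g * k' * g⁻¹ * k'⁻¹) * q k' := by
      calc q g * (q (g * k' * g⁻¹ * k'⁻¹) * q k') * (q g)⁻¹ =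
          (q g * q (g * k' * g⁻¹ * k'⁻¹)) * q k' * (q g)⁻¹ := by group
        _ = q (g * k' * g⁻¹ * k'⁻¹) * (q g * q k' * (q g)⁻¹) := by rw [← hZc]; group
        _ = _ := by rw [hZeq]; group
    rw [h2] at h1
    exact mul_eq_right.1 h1
  have hZ1 : q (g * k' * g⁻¹ * k'⁻¹) = 1 := by
    rw [hq.one_iff _ (hLN hz'L)]
    apply mem_of_sq_mem (odd_card_core L) hz'c
    rw [← hq.one_iff _ (hLN (mul_mem hz'L hz'L)), hq.mul _ (hLN hz'L) _ (hLN hz'L), hZZ]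
  rw [hZ1, one_mul] at hZeq
  -- the square
  have hzL : k' * k * (k' * k) ∈ L := mul_mem (mul_mem hk'L hkL) (mul_mem hk'L hkL)
  have hzc : k' * k * (k' * k) ∈ core L := by
    have h1 := le_normalizer (H := L) (mul_mem hk'L hkL)
    rw [← M.core_iff _ hzL, M.mul _ _ h1 h1, M.mul _ _ (le_normalizer hk'L) (le_normalizer hkL), hk'φ, hkφ,
      ← pow_two]
    exact Ident.cyc_sq hic hid hjc hjd hcd hij
  have hzcomm := star hN (by omega) hW hq hV hv hv1 hzc hgc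
  have hqz : q (k' * k * (k' * k)) = (q k' * q k) * (q k' * q k) := by
    rw [hq.mul _ (hLN (mul_mem hk'L hkL)) _ (hLN (mul_mem hk'L hkL)), hq.mul _ hk'N _ hkN]
  have hgk : q g * q k * (q g)⁻¹ = κ' (cyc j' c d) := by
    have h1 : g * k * g⁻¹ ∈ K := mul_mem (mul_mem hgK (P.le hk)) (inv_mem hgK)
    rw [← hq.conj hgN hkN, ← hκ _ h1, Mk.conj (le_normalizer hgK) (le_normalizer (P.le hk)),
      P.agree g hgc, P.agree k hk, hgφ, hkφ, StdAlt.PermTypes.cyc_conj, hσj, hσc, hσd]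
    obtain ⟨y, hyK, hyK', hy1, hy2⟩ := P.com (cyc j' c d) (cyc_mem_alt
      (by simp only [Finset.mem_sdiff, Finset.mem_union]; exact ⟨⟨Or.inl hj'Ω, hj'S⟩, hj'S'⟩)
      (by simp only [Finset.mem_sdiff, Finset.mem_union]; exact ⟨⟨Or.inl hc, hcS⟩, hcS'⟩)
      (by simp only [Finset.mem_sdiff, Finset.mem_union]; exact ⟨⟨Or.inl hd, hdS⟩, hdS'⟩) hj'c hcd)
    rw [← hy1, hκ y hyK, hy1, ← hy2, hκ' y hyK']
  rw [e1, e2, pow_two, ← hqz]
  have h1 : q (k' * k * (k' * k)) = q g * q (k' * k * (k' * k)) * (q g)⁻¹ := by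
    rw [← hzcomm, mul_inv_cancel_right]
  rw [h1, hqz]
  have h2 : q g * (q k' * q k * (q k' * q k)) * (q g)⁻¹ = ((q g * q k' * (q g)⁻¹) * (q g * q k * (q g)⁻¹)) *
      ((q g * q k' * (q g)⁻¹) * (q g * q k * (q g)⁻¹)) := by group
  rw [h2, hZeq, hgk, ← e1]
  have m1 : cyc i c d ∈ alt ((Ω ∪ X) \ S') := cyc_mem_alt
    (Finset.mem_sdiff.2 ⟨Finset.mem_union_left _ hiΩ, hiS'⟩)
    (Finset.mem_sdiff.2 ⟨Finset.mem_union_left _ hc, hcS'⟩)
    (Finset.mem_sdiff.2 ⟨Finset.mem_union_left _ hd, hdS'⟩) hic hcd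
  have m2 : cyc j' c d ∈ alt ((Ω ∪ X) \ S') := cyc_mem_alt
    (Finset.mem_sdiff.2 ⟨Finset.mem_union_left _ hj'Ω, hj'S'⟩)
    (Finset.mem_sdiff.2 ⟨Finset.mem_union_left _ hc, hcS'⟩)
    (Finset.mem_sdiff.2 ⟨Finset.mem_union_left _ hd, hdS'⟩) hj'c hcd
  have hij' : i ≠ j' := fun e => hj'S (e ▸ hi)
  rw [← hκ'm _ m1 _ m2, ← pow_two, ← hκ'm.pow (mul_mem m1 m2), Ident.cyc_sq hic hid hj'c hj'd hcd hij',
    hκ'm.one]

/-! ### the package -/

omit [Finite G] in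
theorem mem_normalizer_of_conj {B : Subgroup G} {x : G} (h : ∀ b ∈ B, x * b * x⁻¹ ∈ B)
    (h' : ∀ b ∈ B, x⁻¹ * b * x ∈ B) : x ∈ normalizer (B : Set G) := by
  rw [mem_normalizer_iff]
  intro b
  refine ⟨h b, fun hb => ?_⟩
  have := h' _ hb
  rwa [show x⁻¹ * (x * b * x⁻¹) * x = b by group] at this

omit [Finite G] in
theorem conj_mem_of_mem_normalizer {B : Subgroup G} {x : G} (h : x ∈ normalizer (B : Set G)) {b : G}
    (hb : b ∈ B) : x * b * x⁻¹ ∈ B := (mem_normalizer_iff.1 h b).1 hb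

/-- conjugate roots of `B` -/
theorem exists_conj_root {B : Subgroup G} {Γ : Finset α} (MB : Mod B Γ) {v u : G} (hv : MB.Rt v)
    (hu : MB.Rt u) : ∃ b ∈ B, b * v * b⁻¹ = u := by
  have hvN := le_normalizer (H := B) hv.1
  have huN := le_normalizer (H := B) hu.1
  obtain ⟨g₀, hg₀, hg₀e⟩ := exists_alt_conj (A := Γ) hv.2.2 hu.2.2 (MB.mem_sym v hvN) (MB.mem_sym u huN)
  obtain ⟨b₀, hb₀, rfl⟩ := MB.lift g₀ hg₀
  have hbN := le_normalizer (H := B) hb₀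
  have h1 : b₀ * v * b₀⁻¹ ∈ B := mul_mem (mul_mem hb₀ hv.1) (inv_mem hb₀)
  have h2 : MB.φ (b₀ * v * b₀⁻¹) = MB.φ u := by rw [MB.conj hbN hvN, hg₀e]
  obtain ⟨o, ho, hoe⟩ := Lifting.exists_conj_eq (N := core B) (odd_card_core B) (v := b₀ * v * b₀⁻¹)
    (v' := u) (n := 1) (m := 1) (by
      rw [conj_pow, pow_one, pow_two, hv.2.1]; group) (by rw [pow_one, pow_two]; exact hu.2.1)
    (le_normalizer_core B h1) ((MB.eq_iff h1 hu.1).1 h2)
  refine ⟨o * b₀, mul_mem (core_le B ho) hb₀, ?_⟩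
  rw [← hoe]; group

/-- **Case N: the package.** -/
theorem exists_PK (hN : CaseN M a X) (hodd : Odd Ω.card) (h13 : 13 ≤ Ω.card) (hW : WD M a X W) :
    ∃ (B : Subgroup G) (MB : Mod B (Ω ∪ X)), PK MB := by
  classical
  have hLN := hW.le
  -- the four-groups
  obtain ⟨S, hSΩ, hS4⟩ := Finset.exists_subset_card_eq (s := Ω) (n := 4) (by omega)
  obtain ⟨S', hS'sub, hS'4⟩ := Finset.exists_subset_card_eq (s := Ω \ S) (n := 4) (by
    rw [Finset.card_sdiff_of_subset hSΩ, hS4]; omega)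
  have hdisj : ∀ x ∈ S, x ∉ S' := fun x hx hx' => (Finset.mem_sdiff.1 (hS'sub hx')).2 hx
  have hS'Ω : S' ⊆ Ω := hS'sub.trans Finset.sdiff_subset
  obtain ⟨x1, x2, x3, x4, hnd, rfl⟩ := exists_nodup hS4
  obtain ⟨y1, y2, y3, y4, hnd', rfl⟩ := exists_nodup hS'4
  obtain ⟨V, hV, -, -, -⟩ := exists_rootV M (P := ⊥) IsPGroup.of_bot bot_le hnd hSΩ (by
    intro p hp σ hσ
    rw [mem_bot.1 hp, M.one, one_mul, mul_one])
  obtain ⟨v, hv, hv1⟩ := hV.exists_ne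
  obtain ⟨V', hV', hVV', -, -⟩ := exists_rootV M (P := V) hV.isPGroup (hV.le.trans le_normalizer) hnd' hS'Ω (by
    intro p hp σ hσ
    exact comm_of_disjoint hdisj (fun x hx => hV.apply_eq hp hx) (fun x hx => hσ.fix hx))
  obtain ⟨v', hv', hv'1⟩ := hV'.exists_ne
  have hr := hV.root v hv hv1
  have hr' := hV'.root v' hv' hv'1
  set S : Finset α := StdAlt.four4 x1 x2 x3 x4 with hSdef
  set S' : Finset α := StdAlt.four4 y1 y2 y3 y4 with hS'def
  have hcomm : v * v' = v' * v := (hVV' v' hv' v hv).symm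
  obtain ⟨K, Mv, hK⟩ := hN.ex v (rt_of_root hr)
  obtain ⟨K', Mv', hK'⟩ := hN.ex v' (rt_of_root hr')
  have hCN := hW.cent v K Mv (rt_of_root hr) hK
  have hCN' := hW.cent v' K' Mv' (rt_of_root hr') hK'
  have hCK := hW.norm v K Mv (rt_of_root hr) hK
  have hCK' := hW.norm v' K' Mv' (rt_of_root hr') hK'
  have hcore := hW.core v K Mv (rt_of_root hr) hK
  have hKN := hW.K_le (rt_of_root hr) hK
  have hK'N := hW.K_le (rt_of_root hr') hK'
  have hKW := hW.core_le (rt_of_root hr) hK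
  have hK'W := hW.core_le (rt_of_root hr') hK'
  obtain ⟨Mk, Mk', P⟩ := exists_pair hN.disj (by rcases hN.card with h | h | h <;> omega) h13 hr hr' hcomm
    hdisj hK hK'
  obtain ⟨Q, hQ, q, hq⟩ := exists_QD W
  obtain ⟨κ, hκ, hκm⟩ := hq.exists_kappa Mk hKN hKW
  obtain ⟨κ', hκ', hκ'm⟩ := hq.exists_kappa Mk' hK'N hK'W
  -- two points
  have hcard8 : ((Ω \ S) \ S').card = Ω.card - 8 := by
    rw [Finset.card_sdiff_of_subset hS'sub, Finset.card_sdiff_of_subset hSΩ, hS4, hS'4]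
    omega
  obtain ⟨c, hc, d, hd, e₀, he₀, hcd, hce, hde⟩ := exists_three (A := (Ω \ S) \ S') (by omega)
  simp only [Finset.mem_sdiff] at hc hd he₀
  obtain ⟨⟨hcΩ, hcS⟩, hcS'⟩ := hc
  obtain ⟨⟨hdΩ, hdS⟩, hdS'⟩ := hd
  obtain ⟨⟨heΩ, heS⟩, heS'⟩ := he₀
  have hΓ : Ω.card ≤ (Ω ∪ X).card := Finset.card_le_card Finset.subset_union_left
  have hSΓ : ∀ {T : Finset α}, T ⊆ Ω → T.card = 4 → ((Ω ∪ X) \ T).card = (Ω ∪ X).card - 4 := by
    intro T hT hT4
    rw [Finset.card_sdiff_of_subset (hT.trans Finset.subset_union_left), hT4]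
  have hmemS : ∀ {x : α}, x ∈ Ω → x ∉ S → x ∈ (Ω ∪ X) \ S := fun h1 h2 =>
    Finset.mem_sdiff.2 ⟨Finset.mem_union_left _ h1, h2⟩
  have hmemS' : ∀ {x : α}, x ∈ Ω → x ∉ S' → x ∈ (Ω ∪ X) \ S' := fun h1 h2 =>
    Finset.mem_sdiff.2 ⟨Finset.mem_union_left _ h1, h2⟩
  obtain ⟨f, hf, hfκ, hfκ'⟩ := glue (Γ := Ω ∪ X) (S := S) (S' := S') hdisj (c := c) (d := d)
    (Finset.mem_union_left _ hcΩ) (Finset.mem_union_left _ hdΩ) hcd hcS hcS' hdS hdS'
    (by rw [hSΓ hSΩ hS4]; omega) (by rw [hSΓ hS'Ω hS'4]; omega) hκm hκ'm (by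
      intro i hi hiS hiS' hic hid
      obtain ⟨y, hyK, hyK', hy1, hy2⟩ := P.com (cyc i c d) (cyc_mem_alt
        (Finset.mem_sdiff.2 ⟨Finset.mem_sdiff.2 ⟨hi, hiS⟩, hiS'⟩)
        (Finset.mem_sdiff.2 ⟨hmemS hcΩ hcS, hcS'⟩) (Finset.mem_sdiff.2 ⟨hmemS hdΩ hdS, hdS'⟩) hic hcd)
      rw [← hy1, hκ y hyK, hy1, ← hy2, hκ' y hyK']) (by
      intro i _ j _ hi hj
      exact rel hN h13 hW hq hV hv P hκ hκ' hκ'm hcΩ hdΩ hcd hcS hcS' hdS hdS' hi hj)
  have hfK : ∀ k ∈ K, f (Mk.φ k) = q k := fun k hk => by rw [hfκ _ (Mk.mem_alt k hk), hκ k hk]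
  have hfK' : ∀ k ∈ K', f (Mk'.φ k) = q k := fun k hk => by rw [hfκ' _ (Mk'.mem_alt k hk), hκ' k hk]
  -- injectivity
  have hinj : ∀ σ ∈ alt (Ω ∪ X), f σ = 1 → σ = 1 := by
    have hm : cyc e₀ c d ∈ alt ((Ω ∪ X) \ S) :=
      cyc_mem_alt (hmemS heΩ heS) (hmemS hcΩ hcS) (hmemS hdΩ hdS) hce.symm hcd
    obtain ⟨k, hk, hkφ⟩ := Mk.lift _ hm
    intro σ hσ hσ1
    refine hf.inj (by omega) (alt_mono Finset.sdiff_subset hm) ?_ hσ hσ1
    rw [← hkφ, hfK k hk]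
    intro h1
    have h2 : k ∈ W := (hq.one_iff k (hKN hk)).1 h1
    have h3 : W ⊓ K ≤ core K := by
      refine le_core inf_le_right ?_ (Odd.of_dvd_nat hW.odd (Subgroup.card_dvd_of_le inf_le_left))
      intro x hx
      rw [mem_normalizer_iff_cj, cj_inf, mem_normalizer_iff_cj.1 (hKN hx), cj_eq_self_of_mem hx]
    have h4 := (Mk.core_iff k hk).2 (h3 ⟨h2, hk⟩)
    rw [hkφ] at h4
    have h5 := StdAlt.PermTypes.cyc_apply_fst hde.symm hce.symm
    rw [h4] at h5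
    exact hce.symm h5
  obtain ⟨B, MB, hWB, hBN, hBcore, hB1, hB2⟩ := hq.exists_mod hW.odd (by omega) hf hinj
  have hKB : ∀ k ∈ K, k ∈ B ∧ MB.φ k = Mk.φ k := fun k hk =>
    hB2 k (hKN hk) _ (alt_mono Finset.sdiff_subset (Mk.mem_alt k hk)) (hfK k hk)
  have hK'B : ∀ k ∈ K', k ∈ B ∧ MB.φ k = Mk'.φ k := fun k hk =>
    hB2 k (hK'N hk) _ (alt_mono Finset.sdiff_subset (Mk'.mem_alt k hk)) (hfK' k hk)
  have hv'c : v' ∈ M.cmp v := hr.mem_cmp hr'.mem hcomm (fun x hx => hr'.apply_eq (hdisj x hx)) (n := 1)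
    (by rw [pow_one, pow_two]; exact hr'.sq)
  have hvc : v ∈ M.cmp v' := hr'.mem_cmp hr.mem hcomm.symm
    (fun x hx => hr.apply_eq (fun h => hdisj x h hx)) (n := 1)
    (by rw [pow_one, pow_two]; exact hr.sq)
  have hv'K := P.le hv'c
  have hvK' := P.le' hvc
  obtain ⟨hvB, hvφ⟩ := hK'B v hvK'
  rw [P.agree' v hvc] at hvφ
  have hvRt : MB.Rt v := ⟨hvB, hr.sq, by rw [hvφ]; exact isRoot_of_root hr⟩
  -- elements commuting with `v` and `v'` normalise `B`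
  have hxB : ∀ x : G, x ∈ normalizer (W : Set G) → x ∈ normalizer (K : Set G) →
      x ∈ normalizer (K' : Set G) → ∀ b ∈ B, x * b * x⁻¹ ∈ B := by
    intro x hxW hxK hxK' b hb
    let H : Subgroup (Perm α) :=
      { carrier := {σ | σ ∈ alt (Ω ∪ X) ∧ ∃ σ' ∈ alt (Ω ∪ X), q x * f σ * (q x)⁻¹ = f σ'}
        mul_mem' := by
          rintro σ τ ⟨hσ, σ', hσ', h1⟩ ⟨hτ, τ', hτ', h2⟩
          refine ⟨mul_mem hσ hτ, σ' * τ', mul_mem hσ' hτ', ?_⟩
          rw [hf _ hσ _ hτ, hf _ hσ' _ hτ', ← h1, ← h2]; group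
        one_mem' := ⟨one_mem _, 1, one_mem _, by rw [hf.one]; group⟩
        inv_mem' := by
          rintro σ ⟨hσ, σ', hσ', h1⟩
          refine ⟨inv_mem hσ, σ'⁻¹, inv_mem hσ', ?_⟩
          rw [hf.inv hσ, hf.inv hσ', ← h1]; group }
    have hH : alt (Ω ∪ X) ≤ H := by
      refine Ident.alt_le_of_cyc_two (Finset.mem_union_left _ hcΩ) (Finset.mem_union_left _ hdΩ) hcd
        (by omega) ?_
      intro i hi hic hid
      refine ⟨cyc_mem_alt hi (Finset.mem_union_left _ hcΩ) (Finset.mem_union_left _ hdΩ) hic hcd, ?_⟩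
      by_cases hiS : i ∈ S
      · obtain ⟨k, hk, hkφ⟩ := Mk'.lift (cyc i c d) (cyc_mem_alt
          (Finset.mem_sdiff.2 ⟨hi, hdisj i hiS⟩) (hmemS' hcΩ hcS') (hmemS' hdΩ hdS') hic hcd)
        have h1 : x * k * x⁻¹ ∈ K' := conj_mem_of_mem_normalizer hxK' hk
        refine ⟨Mk'.φ (x * k * x⁻¹), alt_mono Finset.sdiff_subset (Mk'.mem_alt _ h1), ?_⟩
        rw [← hkφ, hfK' k hk, hfK' _ h1, hq.conj hxW (hK'N hk)]
      · obtain ⟨k, hk, hkφ⟩ := Mk.lift (cyc i c d) (cyc_mem_alt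
          (Finset.mem_sdiff.2 ⟨hi, hiS⟩) (hmemS hcΩ hcS) (hmemS hdΩ hdS) hic hcd)
        have h1 : x * k * x⁻¹ ∈ K := conj_mem_of_mem_normalizer hxK hk
        refine ⟨Mk.φ (x * k * x⁻¹), alt_mono Finset.sdiff_subset (Mk.mem_alt _ h1), ?_⟩
        rw [← hkφ, hfK k hk, hfK _ h1, hq.conj hxW (hKN hk)]
    obtain ⟨-, σ', hσ', h1⟩ := hH (MB.mem_alt b hb)
    rw [hB1 b hb, ← hq.conj hxW (hBN hb)] at h1
    exact (hB2 _ (mul_mem (mul_mem hxW (hBN hb)) (inv_mem hxW)) σ' hσ' h1.symm).1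
  have hxB' : ∀ x : G, x ∈ centralizer ({v} : Set G) → x ∈ centralizer ({v'} : Set G) →
      x ∈ normalizer (B : Set G) := by
    intro x hx hx'
    refine mem_normalizer_of_conj (hxB x (hCN hx) (hCK hx) (hCK' hx')) ?_
    have h1 := hxB x⁻¹ (inv_mem (hCN hx)) (inv_mem (hCK hx)) (inv_mem (hCK' hx'))
    intro b hb
    have h2 := h1 b hb
    rwa [inv_inv] at h2
  -- `C(v) ≤ N(B)`
  have hCB : centralizer ({v} : Set G) ≤ normalizer (B : Set G) := by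
    intro c₀ hc₀
    have hc₀K := hCK hc₀
    have hv'N := le_normalizer (H := K) hv'K
    have hu₁ : c₀ * v' * c₀⁻¹ ∈ K := conj_mem_of_mem_normalizer hc₀K hv'K
    have hroot : IsRoot (Mk.φ v') := by rw [P.agree v' hv'c]; exact isRoot_of_root hr'
    have hroot1 : IsRoot (Mk.φ (c₀ * v' * c₀⁻¹)) := by
      rw [Mk.conj hc₀K hv'N]; exact hroot.conj _
    obtain ⟨g₀, hg₀, hg₀e⟩ := exists_alt_conj (A := (Ω ∪ X) \ S) hroot1 hroot
      (Mk.mem_sym _ (le_normalizer hu₁)) (Mk.mem_sym v' hv'N)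
    obtain ⟨k, hk, rfl⟩ := Mk.lift g₀ hg₀
    have hu₂ : k * (c₀ * v' * c₀⁻¹) * k⁻¹ ∈ K := mul_mem (mul_mem hk hu₁) (inv_mem hk)
    have hφ₂ : Mk.φ (k * (c₀ * v' * c₀⁻¹) * k⁻¹) = Mk.φ v' := by
      rw [Mk.conj (le_normalizer hk) (le_normalizer hu₁), hg₀e]
    obtain ⟨o, ho, hoe⟩ := Lifting.exists_conj_eq (N := core K) (odd_card_core K)
      (v := k * (c₀ * v' * c₀⁻¹) * k⁻¹) (v' := v') (n := 1) (m := 1) (by
        rw [conj_pow, conj_pow, pow_one, pow_two, hr'.sq]; group) (by rw [pow_one, pow_two]; exact hr'.sq)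
      (le_normalizer_core K hu₂) ((Mk.eq_iff hu₂ hv'K).1 hφ₂)
    have hoK := core_le K ho
    have hokB : o * k ∈ B := (hKB _ (mul_mem hoK hk)).1
    have hx1 : o * k * c₀ ∈ centralizer ({v} : Set G) :=
      mul_mem (hK.comp.le (mul_mem hoK hk)) hc₀
    have hx2 : o * k * c₀ ∈ centralizer ({v'} : Set G) := by
      rw [mem_centralizer_singleton_iff]
      have h1 : (o * k * c₀) * v' * (o * k * c₀)⁻¹ = v' := by
        calc (o * k * c₀) * v' * (o * k * c₀)⁻¹ = o * (k * (c₀ * v' * c₀⁻¹) * k⁻¹) * o⁻¹ := by group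
          _ = v' := hoe
      rw [mul_inv_eq_iff_eq_mul] at h1
      exact h1
    have h3 := hxB' _ hx1 hx2
    have h4 : c₀ = (o * k)⁻¹ * (o * k * c₀) := by group
    rw [h4]
    exact mul_mem (inv_mem (le_normalizer hokB)) h3
  have hcoreB : core B ⊓ centralizer ({v} : Set G) = core (centralizer ({v} : Set G)) := by
    rw [hBcore]; exact hcore
  have hcent : ∀ u, MB.Rt u → centralizer ({u} : Set G) ≤ normalizer (B : Set G) := by
    intro u hu
    obtain ⟨b, hb, rfl⟩ := exists_conj_root MB hvRt hu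
    rw [← cj_centralizer, ← cj_eq_self_of_mem (le_normalizer (H := B) hb)]
    exact cj_mono hCB
  refine ⟨B, MB, ?_, by omega, hcent, ?_, ?_⟩
  · rw [Finset.card_union_of_disjoint hN.disj]
    rcases hN.card with h | h | h <;> rw [h]
    · exact hodd
    · exact hodd.add_even (by decide)
    · exact hodd.add_even (by decide)
  · intro u hu
    obtain ⟨b, hb, rfl⟩ := exists_conj_root MB hvRt hu
    rw [← cj_centralizer, core_cj, ← hcoreB, cj_inf,
      mem_normalizer_iff_cj.1 (le_normalizer_core B hb)]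
  · intro u hu
    have huN := le_normalizer (H := B) hu.1
    have h5 : 5 ≤ (fixIn (Ω ∪ X) (MB.φ u)).card := by
      have h1 : (Ω ∪ X) \ (MB.φ u).support ⊆ fixIn (Ω ∪ X) (MB.φ u) := by
        intro x hx
        rw [Finset.mem_sdiff] at hx
        exact mem_fixIn.2 ⟨hx.1, notMem_support.1 hx.2⟩
      have h2 := Finset.card_le_card h1
      have h3 := Finset.le_card_sdiff (MB.φ u).support (Ω ∪ X)
      rw [hu.2.2.2] at h3
      omega
    refine (MB.isComp_cmp huN hu.2.1 h5).extend inf_le_right ?_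
    have : ((B ⊓ centralizer ({u} : Set G)).subgroupOf (centralizer ({u} : Set G))).Normal := by
      refine normal_subgroupOf_of_le_normalizer ?_
      intro x hx
      rw [mem_normalizer_iff_cj, cj_inf, mem_normalizer_iff_cj.1 (hcent u hu hx), cj_eq_self_of_mem hx]
    exact this.isSubnormal

end Cfsg.Agent.UAlt.IdentPK
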