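import Cfsg.Agent.UAlt.CaseNW
import Cfsg.Agent.UAlt.IdentPK
import Cfsg.Agent.UAlt.NineE
import Cfsg.Agent.UAlt.CaseDFinal
import Cfsg.Agent.UAlt.Case0
import Cfsg.Agent.UAlt.EndMod
import Cfsg.Agent.UAlt.Eleven.Supply

/-!
# The alternating branch of S1311, degree at least 13: end of the proof

* `exists_pk`: a triple of type `A_n`, `n` maximal, `n ≥ 13`, gives a package `PK`.
* `final`: no triple of type `A_n`.
-/

set_option autoImplicit false

open Cfsg Equiv Equiv.Perm Subgroup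
open Cfsg.Agent.Intrinsic.Basic
open Cfsg.Agent.SignalizersComponents Cfsg.Agent.Lib
open Cfsg.Agent.SignalizersComponents.IntrinsicBasic
open Cfsg.Agent.Intrinsic
open Cfsg.Agent.UGT.Triple Cfsg.Agent.UGT.Iface
open Cfsg.Agent.FixBN.BTheorem Cfsg.Agent.FixBN.BRelative

namespace Cfsg.Agent.UAlt.Final

universe u

variable {G : Type u} [Group G] [Finite G]

/-- the package `PK` in case N -/
theorem exists_pk_of_caseN {α : Type*} [Fintype α] [DecidableEq α] (FT : Functor.OddSol G) {n : ℕ} (H : Hyp G n)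
    {a : G} {L : Subgroup G} {Ω X : Finset α} (M : Mod L Ω) (hΩ : Ω.card = n) (hN : CaseN M a X) :
    ∃ (B : Subgroup G) (MB : Mod B (Ω ∪ X)), PK MB := by
  obtain ⟨W, h1, h2, h3⟩ := caseN_W FT H M hΩ hN
  refine IdentPK.exists_PK hN (by rw [hΩ]; exact H.odd) (by rw [hΩ]; exact H.h13) (W := W) ?_
  exact ⟨h1, h2, fun v K Mv hv hK => (h3 v K Mv hv hK).1, fun v K Mv hv hK => (h3 v K Mv hv hK).2.1,
    fun v K Mv hv hK => (h3 v K Mv hv hK).2.2.1⟩

/-- a triple of type `A_n`, `n` maximal, gives a package `PK` -/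
theorem exists_pk (FT : Functor.OddSol G) {n : ℕ} (H : Hyp G n) {x a : G} {L : Subgroup G}
    (T : IsTriple x a L) (hA : AltType L n) :
    ∃ (B : Subgroup G) (Γ : Finset (Fin (n + 4))) (MB : Mod B Γ), PK MB := by
  have h13 := H.h13
  obtain ⟨Ω, hΩ⟩ : ∃ Ω : Finset (Fin (n + 4)), Ω.card = n := by
    obtain ⟨Ω, -, h⟩ := Finset.exists_subset_card_eq (s := (Finset.univ : Finset (Fin (n + 4)))) (n := n)
      (by rw [Finset.card_univ, Fintype.card_fin]; omega)
    exact ⟨Ω, h⟩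
  have hα : 4 ≤ Ωᶜ.card := by
    rw [Finset.card_compl, Fintype.card_fin, hΩ]
    omega
  obtain ⟨M⟩ := hA.mod_of_card hΩ (by omega)
  rcases caseN_or_caseD H T M hΩ hα with ⟨X, hN⟩ | hD
  · obtain ⟨B, MB, P⟩ := exists_pk_of_caseN FT H M hΩ hN
    exact ⟨B, _, MB, P⟩
  · obtain ⟨a', L', M', -, hN⟩ := caseN_of_caseD H T M hΩ hD
    obtain ⟨B, MB, P⟩ := exists_pk_of_caseN FT H M' hΩ hN
    exact ⟨B, _, MB, P⟩

/-- **the contradiction in the frame** -/
theorem final (FT : Functor.OddSol G) (hG : MinCex G) {n : ℕ} (H : Hyp G n) {x a : G} {L : Subgroup G}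
    (T : IsTriple x a L) : ¬ AltType L n := by
  intro hA
  obtain ⟨B, Γ, MB, P⟩ := exists_pk FT H T hA
  have h13 := P.h13
  exact EndMod.false_of_mod FT hG MB P.odd (by omega) (Nine.closing P (Nine.noBig_of_hyp H)).1
    (Nine.isSubnormal P (Nine.noBig_of_hyp H))

end Cfsg.Agent.UAlt.Final
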