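import Cfsg.Agent.UAlt.Ident

/-!
# Gluing two partial homomorphisms of alternating groups

`κ` on `Alt(Γ \ S)` and `κ'` on `Alt(Γ \ S')`, `S ∩ S' = ∅`, which agree on `Alt(Γ \ (S ∪ S'))`, with
`(κ' (i c d) * κ (j c d)) ^ 2 = 1` for `i ∈ S`, `j ∈ S'`, extend to `Alt(Γ)` (Carmichael's presentation).
-/

set_option autoImplicit false
set_option linter.unusedSectionVars false

namespace Cfsg.Agent.UAlt.Glue

open Equiv Equiv.Perm Subgroup
open Cfsg.Agent.StdAlt.PermTypes (cyc)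
open Cfsg.Agent.StdAlt.Roots (IsRoot)
open Cfsg.Agent.UAlt.Ident (agree alt_le_of_cyc_two cyc_sq)

variable {α : Type*} [Fintype α] [DecidableEq α] {Q : Type*} [Group Q]

/-- `f` is multiplicative on `alt S` -/
def MulOn (S : Finset α) (f : Perm α → Q) : Prop := ∀ σ ∈ alt S, ∀ τ ∈ alt S, f (σ * τ) = f σ * f τ

theorem MulOn.one {S : Finset α} {f : Perm α → Q} (h : MulOn S f) : f 1 = 1 := by
  have := h 1 (one_mem _) 1 (one_mem _)
  rw [mul_one] at this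
  exact left_eq_mul.1 this

theorem MulOn.pow {S : Finset α} {f : Perm α → Q} (h : MulOn S f) {σ : Perm α} (hσ : σ ∈ alt S) (n : ℕ) :
    f (σ ^ n) = f σ ^ n := by
  induction n with
  | zero => rw [pow_zero, pow_zero, h.one]
  | succ n ih => rw [pow_succ, pow_succ, h _ (pow_mem hσ n) _ hσ, ih]

theorem MulOn.mono {S T : Finset α} {f : Perm α → Q} (h : MulOn T f) (hST : S ⊆ T) : MulOn S f :=
  fun σ hσ τ hτ => h σ (alt_mono hST hσ) τ (alt_mono hST hτ)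

theorem MulOn.inv {S : Finset α} {f : Perm α → Q} (h : MulOn S f) {σ : Perm α} (hσ : σ ∈ alt S) :
    f σ⁻¹ = (f σ)⁻¹ := by
  have := h σ⁻¹ (inv_mem hσ) σ hσ
  rw [inv_mul_cancel, h.one] at this
  exact eq_inv_of_mul_eq_one_left this.symm

/-- a multiplicative function on `alt S` is injective or trivial -/
theorem MulOn.inj {S : Finset α} (h5 : 5 ≤ S.card) {f : Perm α → Q} (h : MulOn S f) {τ : Perm α}
    (hτ : τ ∈ alt S) (h1 : f τ ≠ 1) {σ : Perm α} (hσ : σ ∈ alt S) (hσ1 : f σ = 1) : σ = 1 := by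
  let g : ↥(alt S) →* Q :=
    { toFun := fun σ => f σ
      map_one' := h.one
      map_mul' := fun a b => h a a.2 b b.2 }
  have hs : IsSimpleGroup ↥(alt S) := isSimpleGroup_alt h5
  rcases hs.eq_bot_or_eq_top_of_normal g.ker inferInstance with hk | hk
  · have : (⟨σ, hσ⟩ : ↥(alt S)) ∈ g.ker := hσ1
    rw [hk, mem_bot] at this
    exact congrArg Subtype.val this
  · exfalso
    apply h1
    have : (⟨τ, hτ⟩ : ↥(alt S)) ∈ g.ker := by rw [hk]; exact mem_top _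
    exact this

/-- **Gluing.** -/
theorem glue {Γ S S' : Finset α} (hd : ∀ x ∈ S, x ∉ S') {c d : α} (hc : c ∈ Γ) (hd' : d ∈ Γ) (hcd : c ≠ d)
    (hcS : c ∉ S) (hcS' : c ∉ S') (hdS : d ∉ S) (hdS' : d ∉ S') (h3 : 3 ≤ (Γ \ S).card)
    (h3' : 3 ≤ (Γ \ S').card) {κ κ' : Perm α → Q}
    (hκ : MulOn (Γ \ S) κ) (hκ' : MulOn (Γ \ S') κ')
    (hagree : ∀ i ∈ Γ, i ∉ S → i ∉ S' → i ≠ c → i ≠ d → κ (cyc i c d) = κ' (cyc i c d))
    (hrel : ∀ i ∈ Γ, ∀ j ∈ Γ, i ∈ S → j ∈ S' → (κ' (cyc i c d) * κ (cyc j c d)) ^ 2 = 1) :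
    ∃ f : Perm α → Q, MulOn Γ f ∧ (∀ σ ∈ alt (Γ \ S), f σ = κ σ) ∧ ∀ σ ∈ alt (Γ \ S'), f σ = κ' σ := by
  classical
  have hmem : ∀ {T : Finset α} {i : α}, c ∉ T → d ∉ T → i ∈ Γ → i ∉ T → i ≠ c → cyc i c d ∈ alt (Γ \ T) := by
    intro T i hcT hdT hi hiT hic
    exact cyc_mem_alt (Finset.mem_sdiff.2 ⟨hi, hiT⟩) (Finset.mem_sdiff.2 ⟨hc, hcT⟩)
      (Finset.mem_sdiff.2 ⟨hd', hdT⟩) hic hcd
  let y : α → Q := fun i => if i ∈ S then κ' (cyc i c d) else κ (cyc i c d)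
  have hy1 : ∀ i ∈ Γ, i ∉ S → y i = κ (cyc i c d) := fun i _ h => if_neg h
  have hy2 : ∀ i ∈ Γ, i ∉ S' → i ≠ c → i ≠ d → y i = κ' (cyc i c d) := by
    intro i hi h hic hid
    by_cases hS : i ∈ S
    · exact if_pos hS
    · rw [hy1 i hi hS, hagree i hi hS h hic hid]
  have hpair1 : ∀ i ∈ Γ, ∀ j ∈ Γ, i ∉ S → j ∉ S → i ≠ c → i ≠ d → j ≠ c → j ≠ d → i ≠ j →
      (y i * y j) ^ 2 = 1 := by
    intro i hi j hj hiS hjS hic hid hjc hjd hij
    rw [hy1 i hi hiS, hy1 j hj hjS]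
    have m1 := hmem hcS hdS hi hiS hic
    have m2 := hmem hcS hdS hj hjS hjc
    rw [← hκ _ m1 _ m2, ← hκ.pow (mul_mem m1 m2), cyc_sq hic hid hjc hjd hcd hij, hκ.one]
  have hpair2 : ∀ i ∈ Γ, ∀ j ∈ Γ, i ∉ S' → j ∉ S' → i ≠ c → i ≠ d → j ≠ c → j ≠ d → i ≠ j →
      (y i * y j) ^ 2 = 1 := by
    intro i hi j hj hiS hjS hic hid hjc hjd hij
    rw [hy2 i hi hiS hic hid, hy2 j hj hjS hjc hjd]
    have m1 := hmem hcS' hdS' hi hiS hic
    have m2 := hmem hcS' hdS' hj hjS hjc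
    rw [← hκ' _ m1 _ m2, ← hκ'.pow (mul_mem m1 m2), cyc_sq hic hid hjc hjd hcd hij, hκ'.one]
  have hcardΓ : 3 ≤ Γ.card := h3.trans (Finset.card_le_card Finset.sdiff_subset)
  obtain ⟨g, hg⟩ := Cfsg.Agent.StdAlt.Carm.exists_hom (G := Q) (Ω := Γ) (c := ⟨c, hc⟩) (d := ⟨d, hd'⟩)
    (fun e => hcd (congrArg Subtype.val e)) (by rw [Fintype.card_coe]; exact hcardΓ)
    (y := fun i => y (i : α)) (by
      intro i hic hid
      have hic' : (i : α) ≠ c := fun e => hic (Subtype.ext e)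
      have hid' : (i : α) ≠ d := fun e => hid (Subtype.ext e)
      show y (i : α) ^ 3 = 1
      by_cases hiS : (i : α) ∈ S
      · rw [hy2 i i.2 (hd _ hiS) hic' hid', ← hκ'.pow (hmem hcS' hdS' i.2 (hd _ hiS) hic'),
          StdAlt.PermTypes.cyc_pow_three hic' hcd hid', hκ'.one]
      · rw [hy1 i i.2 hiS, ← hκ.pow (hmem hcS hdS i.2 hiS hic'),
          StdAlt.PermTypes.cyc_pow_three hic' hcd hid', hκ.one]) (by
      intro i j hic hid hjc hjd hij
      have hic' : (i : α) ≠ c := fun e => hic (Subtype.ext e)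
      have hid' : (i : α) ≠ d := fun e => hid (Subtype.ext e)
      have hjc' : (j : α) ≠ c := fun e => hjc (Subtype.ext e)
      have hjd' : (j : α) ≠ d := fun e => hjd (Subtype.ext e)
      have hij' : (i : α) ≠ j := fun e => hij (Subtype.ext e)
      show (y (i : α) * y (j : α)) ^ 2 = 1
      by_cases hiS : (i : α) ∈ S
      · by_cases hjS' : (j : α) ∈ S'
        · rw [hy2 i i.2 (hd _ hiS) hic' hid', hy1 j j.2 (fun h => hd _ h hjS')]
          exact hrel i i.2 j j.2 hiS hjS'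
        · exact hpair2 i i.2 j j.2 (hd _ hiS) hjS' hic' hid' hjc' hjd' hij'
      · by_cases hjS : (j : α) ∈ S
        · by_cases hiS' : (i : α) ∈ S'
          · have h1 := hrel j j.2 i i.2 hjS hiS'
            rw [← hy2 j j.2 (hd _ hjS) hjc' hjd', ← hy1 i i.2 hiS] at h1
            rw [pow_two] at h1 ⊢
            calc y (i : α) * y (j : α) * (y (i : α) * y (j : α)) =
                (y (j : α))⁻¹ * (y (j : α) * y (i : α) * (y (j : α) * y (i : α))) * y (j : α) := by group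
              _ = 1 := by rw [h1]; group
          · exact hpair2 i i.2 j j.2 hiS' (hd _ hjS) hic' hid' hjc' hjd' hij'
        · exact hpair1 i i.2 j j.2 hiS hjS hic' hid' hjc' hjd' hij')
  let f : Perm α → Q := fun σ => if h : σ ∈ alt Γ then g ((altEquiv Γ).symm ⟨σ, h⟩) else 1
  have hf : ∀ (σ : Perm α) (h : σ ∈ alt Γ), f σ = g ((altEquiv Γ).symm ⟨σ, h⟩) := fun σ h => dif_pos h
  have hfmul : MulOn Γ f := by
    intro σ hσ τ hτ
    rw [hf _ (mul_mem hσ hτ), hf _ hσ, hf _ hτ, ← map_mul, ← map_mul]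
    rfl
  have hfcyc : ∀ i ∈ Γ, i ≠ c → i ≠ d → f (cyc i c d) = y i := by
    intro i hi hic hid
    have hm : cyc i c d ∈ alt Γ := cyc_mem_alt hi hc hd' hic hcd
    rw [hf _ hm]
    have e : (((altEquiv Γ).symm ⟨cyc i c d, hm⟩ : alternatingGroup Γ) : Perm Γ) =
        cyc ⟨i, hi⟩ ⟨c, hc⟩ ⟨d, hd'⟩ := by
      apply ofSubtype_injective
      have h3 : (ofSubtype (cyc ⟨i, hi⟩ ⟨c, hc⟩ ⟨d, hd'⟩ : Perm Γ) : Perm α) = cyc i c d := by
        unfold Cfsg.Agent.StdAlt.PermTypes.cyc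
        rw [map_mul, ofSubtype_swap_eq, ofSubtype_swap_eq]
      rw [h3, ← altEquiv_coe, MulEquiv.apply_symm_apply]
    exact hg _ ⟨i, hi⟩ (fun e => hic (congrArg Subtype.val e)) (fun e => hid (congrArg Subtype.val e)) e
  refine ⟨f, hfmul, ?_, ?_⟩
  · apply agree (hfmul.mono Finset.sdiff_subset) hκ
      (P := fun σ => ∃ i ∈ Γ \ S, i ≠ c ∧ i ≠ d ∧ σ = cyc i c d)
    · intro H hH
      refine alt_le_of_cyc_two (Finset.mem_sdiff.2 ⟨hc, hcS⟩) (Finset.mem_sdiff.2 ⟨hd', hdS⟩) hcd h3 ?_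
      intro i hi hic hid
      exact hH _ (cyc_mem_alt hi (Finset.mem_sdiff.2 ⟨hc, hcS⟩) (Finset.mem_sdiff.2 ⟨hd', hdS⟩) hic hcd)
        ⟨i, hi, hic, hid, rfl⟩
    · rintro σ hσ ⟨i, hi, hic, hid, rfl⟩
      rw [Finset.mem_sdiff] at hi
      rw [hfcyc i hi.1 hic hid, hy1 i hi.1 hi.2]
  · apply agree (hfmul.mono Finset.sdiff_subset) hκ'
      (P := fun σ => ∃ i ∈ Γ \ S', i ≠ c ∧ i ≠ d ∧ σ = cyc i c d)
    · intro H hH
      refine alt_le_of_cyc_two (Finset.mem_sdiff.2 ⟨hc, hcS'⟩) (Finset.mem_sdiff.2 ⟨hd', hdS'⟩) hcd h3' ?_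
      intro i hi hic hid
      exact hH _ (cyc_mem_alt hi (Finset.mem_sdiff.2 ⟨hc, hcS'⟩) (Finset.mem_sdiff.2 ⟨hd', hdS'⟩) hic hcd)
        ⟨i, hi, hic, hid, rfl⟩
    · rintro σ hσ ⟨i, hi, hic, hid, rfl⟩
      rw [Finset.mem_sdiff] at hi
      rw [hfcyc i hi.1 hic hid, hy2 i hi.1 hi.2 hic hid]

/-- two roots of `alt A`, `6 ≤ |A|`, are conjugate in `alt A` -/
theorem exists_alt_conj {A : Finset α} {u w : Perm α} (hu : IsRoot u) (hw : IsRoot w) (huA : u ∈ sym A)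
    (hwA : w ∈ sym A) : ∃ g ∈ alt A, g * u * g⁻¹ = w := by
  obtain ⟨u', hu'⟩ := (symEquiv A).surjective ⟨u, huA⟩
  obtain ⟨w', hw'⟩ := (symEquiv A).surjective ⟨w, hwA⟩
  have hu1 : ofSubtype u' = u := by rw [← symEquiv_coe, hu']
  have hw1 : ofSubtype w' = w := by rw [← symEquiv_coe, hw']
  have h1 : IsConj u' w' := by
    rw [isConj_iff_cycleType_eq]
    have e1 := cycleType_ofSubtype (g := u')
    have e2 := cycleType_ofSubtype (g := w')
    rw [hu1] at e1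
    rw [hw1] at e2
    rw [← e1, ← e2, hu.cycleType, hw.cycleType]
  obtain ⟨g, hg⟩ := isConj_iff.1 h1
  have hg1 : ofSubtype g * u * (ofSubtype g)⁻¹ = w := by
    rw [← hu1, ← hw1, ← hg, map_mul, map_mul, map_inv]
  have hgA : ofSubtype g ∈ sym A := by
    rw [← symEquiv_coe]
    exact (symEquiv A g).2
  rcases Int.units_eq_one_or (sign (ofSubtype g)) with h | h
  · exact ⟨ofSubtype g, ⟨mem_alternatingGroup.2 h, hgA⟩, hg1⟩
  · -- correct by a transposition commuting with `u`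
    obtain ⟨x, hx⟩ : ∃ x, x ∈ u.support := Finset.card_pos.1 (by rw [hu.2]; norm_num)
    have hx' : u x ≠ x := mem_support.1 hx
    have hxA : x ∈ A := by
      by_contra hn
      exact hx' (huA x hn)
    have hc : swap x (u x) * u = u * swap x (u x) := StdAlt.PermTypes.comm_swap_pair hu.1 x
    refine ⟨ofSubtype g * swap x (u x), ⟨?_, mul_mem hgA ?_⟩, ?_⟩
    · show ofSubtype g * swap x (u x) ∈ alternatingGroup α
      rw [mem_alternatingGroup, map_mul, h, sign_swap hx'.symm]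
      rfl
    · intro z hz
      apply swap_apply_of_ne_of_ne
      · rintro rfl; exact hz hxA
      · rintro rfl; exact hz (mem_of_mem_sym huA hxA)
    · calc ofSubtype g * swap x (u x) * u * (ofSubtype g * swap x (u x))⁻¹ =
          ofSubtype g * (swap x (u x) * u) * (swap x (u x))⁻¹ * (ofSubtype g)⁻¹ := by group
        _ = ofSubtype g * u * (ofSubtype g)⁻¹ := by rw [hc]; group
        _ = w := hg1

end Cfsg.Agent.UAlt.Glue
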