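import Cfsg.Agent.UAlt.SmallLTwo
import Cfsg.Agent.UGT.NoWing
import Cfsg.Agent.S0243
import Cfsg.Agent.S1695

/-!
# The hypotheses `Hyp G n` from the types of the triples

* `SmallAt x f J`: the conclusion of `Hyp.small` for the triple `(x, f, J)`.
* `hyp_of`: types `PSL₂(q)`, `Aₘ` (`m ≤ n` odd), `L₃(4)`, `He`, with `SmallAt` for the last two as hypotheses, give
  `Hyp G n`.
* `hyp_of_two`: types `PSL₂(q)`, `Aₘ` (`m ≤ n` odd): no further hypothesis.
* `exists_hyp`, `exists_hyp_two`: the choice of the maximal degree.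
-/

set_option autoImplicit false

open Cfsg Equiv Equiv.Perm Subgroup
open Cfsg.Agent.Intrinsic.Basic
open Cfsg.Agent.SignalizersComponents Cfsg.Agent.Lib
open Cfsg.Agent.SignalizersComponents.IntrinsicBasic
open Cfsg.Agent.McLLyComp.Act
open Cfsg.Agent.UGT.Triple Cfsg.Agent.UGT.Iface
open scoped commutatorElement

namespace Cfsg.Agent.UAlt.Small

universe u

section abstr

variable {K : Type*} [Group K]

theorem center_L2 (h : IsL2 K) : center K = ⊥ := by
  obtain ⟨F, i1, i2, hodd, h5, ⟨e⟩⟩ := h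
  exact (Cfsg.Agent.GH.L2Aut.Rep.ofEquiv (Cfsg.Agent.GH.L2Aut.two_ne_zero_of_odd hodd) e).center_eq_bot

theorem center_simple [IsSimpleGroup K] (h : ¬ ∀ a b : K, a * b = b * a) : center K = ⊥ := by
  rcases (inferInstance : (center K).Normal).eq_bot_or_eq_top with h1 | h1
  · exact h1
  · exact (h fun a b => (mem_center_iff.mp (h1 ▸ mem_top b) a)).elim

theorem not_comm_alt {k : ℕ} (hk : 5 ≤ k) : ¬ ∀ a b : ↥(alternatingGroup (Fin k)), a * b = b * a := by
  intro h
  exact not_isSolvable_alt hk (Group.isSolvable_of_comm h)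

theorem center_alt {k : ℕ} (hk : 5 ≤ k) : center ↥(alternatingGroup (Fin k)) = ⊥ := by
  have : IsSimpleGroup ↥(alternatingGroup (Fin k)) := alternatingGroup.isSimpleGroup (by simpa using hk)
  exact center_simple (not_comm_alt hk)

theorem center_eq_bot_of_equiv {K' : Type*} [Group K'] (e : K ≃* K') (h : center K' = ⊥) : center K = ⊥ := by
  rw [eq_bot_iff]
  intro x hx
  have h1 : e x ∈ center K' := by
    rw [mem_center_iff] at hx ⊢
    intro y
    obtain ⟨z, rfl⟩ := e.surjective y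
    rw [← map_mul, ← map_mul, hx z]
  rw [h, mem_bot, MulEquiv.map_eq_one_iff] at h1
  exact h1

theorem he_facts : IsSimpleGroup Spor.He ∧ Nat.card Spor.He = 4030387200 := Cfsg.Agent.S1695.result

theorem center_he (h : Spor.IsoHe K) : center K = ⊥ := by
  obtain ⟨e⟩ := h
  have hs := he_facts.1
  refine center_eq_bot_of_equiv e (center_simple ?_)
  intro hc
  have hc' : IsMulCommutative Spor.He := ⟨⟨hc⟩⟩
  have hp : (Nat.card Spor.He).Prime := by
    have : Finite Spor.He := Nat.finite_of_card_ne_zero (by rw [he_facts.2]; norm_num)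
    let _ : CommGroup Spor.He := { (inferInstance : Group Spor.He) with mul_comm := hc }
    exact IsSimpleGroup.prime_card (α := Spor.He)
  rw [he_facts.2] at hp
  exact absurd hp (by norm_num)

/-- The order of `PSL(3,4)`. -/
theorem card_psl34 {F : Type} [Field F] [Fintype F] (hF : Fintype.card F = 4) :
    Nat.card (Matrix.ProjectiveSpecialLinearGroup (Fin 3) F) = 20160 := by
  have h := Cfsg.Agent.S0243.result (F := F) (q := 4) hF 3 (by norm_num)
  simp only [Fin.prod_univ_three] at h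
  have h2 : Nat.gcd 3 (4 - 1) * ((4 - 1) * Nat.card (Matrix.ProjectiveSpecialLinearGroup (Fin 3) F)) =
    (64 - 1) * (64 - 4) * (64 - 16) := h
  have h3 : Nat.gcd 3 (4 - 1) = 3 := by decide
  rw [h3] at h2
  omega

/-- an epimorphism of a group of a type in `OKType` onto `A_k`, `k ≥ 9`, with central kernel is an isomorphism -/
theorem equiv_of_surj (h : OKType K) {k : ℕ} (hk : 9 ≤ k) (g : K →* ↥(alternatingGroup (Fin k)))
    (hg : Function.Surjective g) (hker : g.ker ≤ center K) :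
    Nonempty (K ≃* ↥(alternatingGroup (Fin k))) := by
  have fin : center K = ⊥ → Nonempty (K ≃* ↥(alternatingGroup (Fin k))) := fun hc =>
    ⟨MulEquiv.ofBijective g ⟨(MonoidHom.ker_eq_bot_iff g).mp (le_bot_iff.mp (hc ▸ hker)), hg⟩⟩
  rcases h with h | ⟨m, -, hm7, ⟨e⟩⟩ | h | h
  · exact fin (center_L2 h)
  · exact fin (center_eq_bot_of_equiv e (center_alt (by omega)))
  · exfalso
    have h1 : g.ker = center K := by
      apply le_antisymm hker
      intro x hx
      have h2 : g x ∈ center ↥(alternatingGroup (Fin k)) := by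
        rw [mem_center_iff] at hx ⊢
        intro y
        obtain ⟨z, rfl⟩ := hg y
        rw [← map_mul, ← map_mul, hx z]
      rw [center_alt (by omega), mem_bot] at h2
      exact h2
    obtain ⟨F, i1, i2, h4, ⟨e⟩⟩ := h
    have e2 : K ⧸ center K ≃* ↥(alternatingGroup (Fin k)) :=
      (QuotientGroup.quotientMulEquivOfEq h1.symm).trans (QuotientGroup.quotientKerEquivOfSurjective g hg)
    have h2 : Nat.card ↥(alternatingGroup (Fin k)) = 20160 := by
      rw [← Nat.card_congr e2.toEquiv, Nat.card_congr e.toEquiv]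
      exact card_psl34 h4
    have : Nontrivial (Fin k) := Fin.nontrivial_iff_two_le.mpr (by omega)
    have h3 := two_mul_nat_card_alternatingGroup (α := Fin k)
    rw [h2, Nat.card_perm, Nat.card_eq_fintype_card, Fintype.card_fin] at h3
    have h4 := Nat.factorial_le hk
    have h5 : Nat.factorial 9 = 362880 := rfl
    omega
  · exact fin (center_he h)

end abstr

variable {G : Type u} [Group G]

/-- the conclusion of `Hyp.small` for one triple -/
def SmallAt (x f : G) (J : Subgroup G) : Prop :=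
  ∀ {t : G}, t ∈ centralizer ({f} : Set G) → t ∈ normalizer (J : Set G) → t * t = 1 →
    ∀ {E : Subgroup G}, IsComp (J ⊓ centralizer ({t} : Set G)) E → ∀ {k : ℕ}, 5 ≤ k → AltType E k →
      Fixes x E → ∀ {U : Subgroup G}, U ≤ centralizer ({f} : Set G) → (∀ u ∈ U, u * u = 1) →
        Nat.card U = 4 → (∀ u ∈ U, u ∈ normalizer (J : Set G) ∧ u * t = t * u ∧ u * x = x * u ∧ Fixes u E) →
          ∃ u ∈ U, u ≠ 1 ∧ Fixes u J

/-- the order of `E / O(E)` divides the order of `J / O(J)` -/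
theorem card_bar_dvd [Finite G] {E J : Subgroup G} (hEJ : E ≤ J) :
    Nat.card (↥E ⧸ oddCore ↥E) ∣ Nat.card (↥J ⧸ oddCore ↥J) := by
  let g : ↥E →* ↥J ⧸ oddCore ↥J := (QuotientGroup.mk' (oddCore ↥J)).comp (inclusion hEJ)
  have hker : g.ker ≤ oddCore ↥E := by
    intro x hx
    have h1 : (x : G) ∈ core J := (mk_eq_one_iff (hEJ x.2)).mp hx
    exact (mem_core_iff x.2).mp (core_of_le hEJ x.2 h1)
  have h1 : Nat.card (↥E ⧸ oddCore ↥E) ∣ Nat.card (↥E ⧸ g.ker) := by
    rw [← index_eq_card, ← index_eq_card]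
    exact index_dvd_of_le hker
  refine h1.trans ?_
  rw [Nat.card_congr (QuotientGroup.quotientKerEquivRange g).toEquiv]
  exact card_subgroup_dvd_card _

theorem hyp_of [Finite G] {n : ℕ} (hodd : Odd n) (h13 : 13 ≤ n)
    (hok : ∀ (x a : G) (L : Subgroup G), IsTriple x a L → OKType (Bar L))
    (hmax : ∀ (x a : G) (L : Subgroup G) (m : ℕ), IsTriple x a L → Odd m → 7 ≤ m → IsAlt m (Bar L) → m ≤ n)
    (h34 : ∀ (x a : G) (L : Subgroup G), IsTriple x a L → IsL34 (Bar L ⧸ center (Bar L)) → SmallAt x a L)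
    (hHe : ∀ (x a : G) (L : Subgroup G), IsTriple x a L → Spor.IsoHe (Bar L) → SmallAt x a L) : Hyp G n where
  odd := hodd
  h13 := h13
  simple := fun {x f J} T {k} hk g hg hker => equiv_of_surj (hok x f J T) hk g hg hker
  big := by
    intro x f J T t htJ htt E hE k hk hA
    have hEJ : E ≤ J := hE.le.trans inf_le_left
    rcases hok x f J T with h | ⟨m, hm, hm7, h⟩ | h | h
    · exfalso
      obtain ⟨M⟩ := hA.mod_of_card (S := (Finset.univ : Finset (Fin k))) (by simp) (by omega)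
      exact UGT.NoWing.not_bar hEJ M (by simp; omega) (UGT.NoWing.noWing_L2 h)
    · exact ⟨m, hm, hm7, hmax x f J m T hm hm7 h, h⟩
    · exfalso
      obtain ⟨M⟩ := hA.mod_of_card (S := (Finset.univ : Finset (Fin k))) (by simp) (by omega)
      exact UGT.NoWing.not_bar_center hEJ M (by simp; omega) (UGT.NoWing.noWing_L34 h)
    · exfalso
      have h1 := card_bar_dvd hEJ
      have h2 : Nat.card (↥J ⧸ oddCore ↥J) = 4030387200 := by
        obtain ⟨e⟩ := h
        exact (Nat.card_congr e.toEquiv).trans he_facts.2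
      rw [h2] at h1
      have h3 := hA.card (by omega)
      have h4 : Nat.factorial 9 ∣ k.factorial := Nat.factorial_dvd_factorial hk
      have h5 : Nat.factorial 9 = 362880 := rfl
      rw [h5, ← h3] at h4
      have h6 : 362880 ∣ 2 * 4030387200 := h4.trans (Nat.mul_dvd_mul_left 2 h1)
      revert h6
      norm_num
  small := by
    intro x f J T
    rcases hok x f J T with h | ⟨m, hm, hm7, h⟩ | h | h
    · right
      intro t _ _ _ E hE k hk hA _ U _ hU2 hU4 hU
      exact small_L2 h (hE.le.trans inf_le_left) hk hA hU2 hU4 fun u hu => ⟨(hU u hu).1, (hU u hu).2.2.2⟩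
    · exact Or.inl ⟨m, hm7, h⟩
    · right
      intro t h1 h2 h3 E hE k hk hA h4 U hU1 hU2 hU4 hU
      exact h34 x f J T h h1 h2 h3 hE hk hA h4 hU1 hU2 hU4 hU
    · right
      intro t h1 h2 h3 E hE k hk hA h4 U hU1 hU2 hU4 hU
      exact hHe x f J T h h1 h2 h3 hE hk hA h4 hU1 hU2 hU4 hU

/-- the degree of an alternating type is bounded -/
theorem degree_lt [Finite G] {L : Subgroup G} {m : ℕ} (h : IsAlt m (Bar L)) (h2 : 2 ≤ m) :
    m ≤ 2 * Nat.card G := by
  have h3 := AltType.card (K := L) h h2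
  have h4 : Nat.card (↥L ⧸ oddCore ↥L) ≤ Nat.card G := by
    refine (Nat.le_of_dvd Nat.card_pos ?_)
    rw [← index_eq_card]
    exact (index_dvd_card _).trans (card_subgroup_dvd_card L)
  have h5 := Nat.self_le_factorial m
  omega

/-- the maximal degree -/
theorem exists_max [Finite G] {x a : G} {L : Subgroup G} {m : ℕ} (T : IsTriple x a L) (hm : Odd m)
    (h7 : 7 ≤ m) (hA : IsAlt m (Bar L)) :
    ∃ n, m ≤ n ∧ Odd n ∧ (∃ (x a : G) (L : Subgroup G), IsTriple x a L ∧ IsAlt n (Bar L)) ∧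
      ∀ (x a : G) (L : Subgroup G) (m : ℕ), IsTriple x a L → Odd m → 7 ≤ m → IsAlt m (Bar L) → m ≤ n := by
  classical
  let S : Finset ℕ := (Finset.range (2 * Nat.card G + 1)).filter fun m =>
    Odd m ∧ 7 ≤ m ∧ ∃ (x a : G) (L : Subgroup G), IsTriple x a L ∧ IsAlt m (Bar L)
  have hmem : ∀ m, m ∈ S ↔ Odd m ∧ 7 ≤ m ∧ ∃ (x a : G) (L : Subgroup G), IsTriple x a L ∧ IsAlt m (Bar L) := by
    intro m
    rw [Finset.mem_filter, Finset.mem_range]
    constructor
    · exact fun h => h.2
    · rintro ⟨h1, h2, x, a, L, T, h⟩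
      exact ⟨by have := degree_lt h (by omega); omega, h1, h2, x, a, L, T, h⟩
  have hmS : m ∈ S := (hmem m).mpr ⟨hm, h7, x, a, L, T, hA⟩
  obtain ⟨n, hn, hmax⟩ := S.exists_max_image id ⟨m, hmS⟩
  have h1 := (hmem n).mp hn
  exact ⟨n, hmax m hmS, h1.1, h1.2.2, fun x a L m T h h' h'' => hmax m ((hmem m).mpr ⟨h, h', x, a, L, T, h''⟩)⟩

theorem exists_hyp [Finite G] {x a : G} {L : Subgroup G} {m : ℕ} (T : IsTriple x a L) (hm : Odd m)
    (h13 : 13 ≤ m) (hA : IsAlt m (Bar L))
    (hok : ∀ (x a : G) (L : Subgroup G), IsTriple x a L → OKType (Bar L))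
    (h34 : ∀ (x a : G) (L : Subgroup G), IsTriple x a L → IsL34 (Bar L ⧸ center (Bar L)) → SmallAt x a L)
    (hHe : ∀ (x a : G) (L : Subgroup G), IsTriple x a L → Spor.IsoHe (Bar L) → SmallAt x a L) :
    ∃ n, Hyp G n ∧ ∃ (x a : G) (L : Subgroup G), IsTriple x a L ∧ AltType L n := by
  obtain ⟨n, hn, hodd, hex, hmax⟩ := exists_max T hm (by omega) hA
  exact ⟨n, hyp_of hodd (by omega) hok hmax h34 hHe, hex⟩

/-- the world of the types `PSL₂(q)` and `Aₘ` -/
theorem hyp_of_two [Finite G] {n : ℕ} (hodd : Odd n) (h13 : 13 ≤ n)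
    (hok : ∀ (x a : G) (L : Subgroup G), IsTriple x a L → IsL2 (Bar L) ∨ IsAltOdd (Bar L))
    (hmax : ∀ (x a : G) (L : Subgroup G) (m : ℕ), IsTriple x a L → Odd m → 7 ≤ m → IsAlt m (Bar L) → m ≤ n) :
    Hyp G n where
  odd := hodd
  h13 := h13
  simple := fun {x f J} T {k} hk g hg hker =>
    equiv_of_surj ((hok x f J T).imp_right Or.inl) hk g hg hker
  big := by
    intro x f J T t htJ htt E hE k hk hA
    have hEJ : E ≤ J := hE.le.trans inf_le_left
    rcases hok x f J T with h | ⟨m, hm, hm7, h⟩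
    · exfalso
      obtain ⟨M⟩ := hA.mod_of_card (S := (Finset.univ : Finset (Fin k))) (by simp) (by omega)
      exact UGT.NoWing.not_bar hEJ M (by simp; omega) (UGT.NoWing.noWing_L2 h)
    · exact ⟨m, hm, hm7, hmax x f J m T hm hm7 h, h⟩
  small := by
    intro x f J T
    rcases hok x f J T with h | ⟨m, hm, hm7, h⟩
    · right
      intro t _ _ _ E hE k hk hA _ U _ hU2 hU4 hU
      exact small_L2 h (hE.le.trans inf_le_left) hk hA hU2 hU4 fun u hu => ⟨(hU u hu).1, (hU u hu).2.2.2⟩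
    · exact Or.inl ⟨m, hm7, h⟩

theorem exists_hyp_two [Finite G] {x a : G} {L : Subgroup G} {m : ℕ} (T : IsTriple x a L) (hm : Odd m)
    (h13 : 13 ≤ m) (hA : IsAlt m (Bar L))
    (hok : ∀ (x a : G) (L : Subgroup G), IsTriple x a L → IsL2 (Bar L) ∨ IsAltOdd (Bar L)) :
    ∃ n, Hyp G n ∧ ∃ (x a : G) (L : Subgroup G), IsTriple x a L ∧ AltType L n := by
  obtain ⟨n, hn, hodd, hex, hmax⟩ := exists_max T hm (by omega) hA
  exact ⟨n, hyp_of_two hodd (by omega) hok hmax, hex⟩

end Cfsg.Agent.UAlt.Small
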