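import Cfsg.Agent.UAlt.IdPair
import Cfsg.Agent.UAlt.Root

/-!
# Identification modulo an odd subgroup

`exists_B`: `K`, `K'` normalise the odd group `W`, `K / O(K) ≅ Alt(S)`, `K' / O(K') ≅ Alt(S')`, `O(K), O(K') ≤ W`,
the labellings agree on common elements over the cycles `(i e₁ e₂)` and the mixed Carmichael relations hold modulo
`W`: then `B = K K' W` satisfies `B / W ≅ Alt(S ∪ S')`.
-/

set_option autoImplicit false
set_option linter.unusedSectionVars false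

namespace Cfsg.Agent.UAlt

open Cfsg Equiv Equiv.Perm Subgroup
open Cfsg.Agent.Intrinsic.Basic Cfsg.Agent.Intrinsic
open Cfsg.Agent.SignalizersComponents Cfsg.Agent.Lib
open Cfsg.Agent.SignalizersComponents.IntrinsicBasic
open Cfsg.Agent.StdAlt.PermTypes (cyc)
open Cfsg.Agent.UAlt.Ident (PHom)
open scoped commutatorElement

variable {G : Type*} [Group G] [Finite G] {α : Type*} [Fintype α] [DecidableEq α]

/-- the quotient of the normalizer of `W` -/
abbrev QW (W : Subgroup G) : Type _ := ↥(normalizer (W : Set G)) ⧸ (W.subgroupOf (normalizer (W : Set G)))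

theorem mk_eq_one {W : Subgroup G} {g : G} (hg : g ∈ normalizer (W : Set G)) :
    (QuotientGroup.mk (⟨g, hg⟩ : ↥(normalizer (W : Set G))) : QW W) = 1 ↔ g ∈ W := by
  rw [QuotientGroup.eq_one_iff]; rfl

/-- an odd normal subgroup of `K` lies in `core K` -/
theorem inf_le_core_of_odd {W K : Subgroup G} (hW : Odd (Nat.card W))
    (hK : K ≤ normalizer (W : Set G)) : W ⊓ K ≤ core K := by
  refine le_core inf_le_right ?_ (Odd.of_dvd_nat hW (card_dvd_of_le inf_le_left))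
  intro k hk
  have h1 := mem_normalizer_iff_cj.mp (hK hk)
  have h2 := mem_normalizer_iff_cj.mp (le_normalizer (H := K) hk)
  rw [mem_normalizer_iff_cj, cj_inf, h1, h2]

/-- the copy of `alt S` in `N(W) / W` -/
theorem exists_kappa {W K : Subgroup G} {S : Finset α} (M : Mod K S) (hW : Odd (Nat.card W))
    (hK : K ≤ normalizer (W : Set G)) (hc : core K ≤ W) :
    ∃ κ : Perm α → QW W, PHom S κ ∧
      (∀ k (hk : k ∈ K), κ (M.φ k) = QuotientGroup.mk (⟨k, hK hk⟩ : ↥(normalizer (W : Set G)))) ∧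
      ∀ σ ∈ alt S, κ σ = 1 → σ = 1 := by
  classical
  let κ : Perm α → QW W := fun σ =>
    if h : σ ∈ alt S then QuotientGroup.mk ⟨(M.lift σ h).choose, hK (M.lift σ h).choose_spec.1⟩ else 1
  have key : ∀ k (hk : k ∈ K),
      κ (M.φ k) = QuotientGroup.mk (⟨k, hK hk⟩ : ↥(normalizer (W : Set G))) := by
    intro k hk
    have hσ := M.mem_alt k hk
    have h1 : κ (M.φ k) = QuotientGroup.mk
        ⟨(M.lift _ hσ).choose, hK (M.lift _ hσ).choose_spec.1⟩ := dif_pos hσ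
    rw [h1, QuotientGroup.eq]
    obtain ⟨h2, h3⟩ := (M.lift _ hσ).choose_spec
    exact hc ((M.eq_iff h2 hk).mp h3)
  refine ⟨κ, ?_, key, ?_⟩
  · intro σ hσ τ hτ
    obtain ⟨k, hk, rfl⟩ := M.lift σ hσ
    obtain ⟨l, hl, rfl⟩ := M.lift τ hτ
    rw [← M.mul _ _ (le_normalizer hk) (le_normalizer hl), key _ (mul_mem hk hl), key k hk, key l hl]
    rfl
  · intro σ hσ h1
    obtain ⟨k, hk, rfl⟩ := M.lift σ hσ
    rw [key k hk, mk_eq_one] at h1
    exact (M.core_iff k hk).mpr (inf_le_core_of_odd hW hK ⟨h1, hk⟩)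

/-- **identification modulo `W`** -/
theorem exists_B {W K K' : Subgroup G} (hW : Odd (Nat.card W)) {S S' A : Finset α} (M₁ : Mod K S)
    (M₂ : Mod K' S') (hK : K ≤ normalizer (W : Set G)) (hK' : K' ≤ normalizer (W : Set G))
    (hc : core K ≤ W) (hc' : core K' ≤ W) (hA : S ∪ S' = A) (h7 : 7 ≤ A.card) {e₁ e₂ : α}
    (he : e₁ ≠ e₂) (he₁ : e₁ ∈ S) (he₁' : e₁ ∈ S') (he₂ : e₂ ∈ S) (he₂' : e₂ ∈ S')
    (hag : ∀ i ∈ S, i ∈ S' → i ≠ e₁ → i ≠ e₂ →
      ∃ k ∈ K, k ∈ K' ∧ M₁.φ k = cyc i e₁ e₂ ∧ M₂.φ k = cyc i e₁ e₂)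
    (hrel : ∀ i ∈ S, i ∉ S' → ∀ j ∈ S', j ∉ S → ∃ k ∈ K, ∃ k' ∈ K', M₁.φ k = cyc i e₁ e₂ ∧
      M₂.φ k' = cyc j e₁ e₂ ∧ k * k' * (k * k') ∈ W) :
    ∃ B : Subgroup G, W ≤ B ∧ K ≤ B ∧ K' ≤ B ∧ B ≤ normalizer (W : Set G) ∧
      (∀ g, g ∈ normalizer (W : Set G) → g ∈ normalizer (K : Set G) → g ∈ normalizer (K' : Set G) →
        g ∈ normalizer (B : Set G)) ∧ core B = W ∧
      ∃ MB : Mod B A, (∀ k ∈ K, MB.φ k = M₁.φ k) ∧ ∀ k ∈ K', MB.φ k = M₂.φ k := by
  obtain ⟨κ₁, m₁, k₁, i₁⟩ := exists_kappa M₁ hW hK hc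
  obtain ⟨κ₂, m₂, k₂, i₂⟩ := exists_kappa M₂ hW hK' hc'
  have h5 := M₁.five
  have h5' := M₂.five
  obtain ⟨f, hf, hf₁, hf₂⟩ := Ident.exists_hom_two he hA he₁ he₁' he₂ he₂' (by omega) (by omega)
    m₁ m₂ (by
      intro i hi hi' h1 h2
      obtain ⟨k, hk, hk', e1, e2⟩ := hag i hi hi' h1 h2
      have e3 := k₁ k hk
      have e4 := k₂ k hk'
      rw [e1] at e3
      rw [e2] at e4
      rw [e3, e4]) (by
      intro i hi hi' j hj hj'
      obtain ⟨k, hk, k', hk', e1, e2, e3⟩ := hrel i hi hi' j hj hj'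
      have e4 := k₁ k hk
      have e5 := k₂ k' hk'
      rw [e1] at e4
      rw [e2] at e5
      rw [e4, e5, pow_two, ← QuotientGroup.mk_mul, ← QuotientGroup.mk_mul]
      exact (mk_eq_one (mul_mem (mul_mem (hK hk) (hK' hk')) (mul_mem (hK hk) (hK' hk')))).mpr e3)
  have sub₁ : S ⊆ A := by rw [← hA]; exact Finset.subset_union_left
  have sub₂ : S' ⊆ A := by rw [← hA]; exact Finset.subset_union_right
  -- injectivity
  have hfi : ∀ σ ∈ alt A, f σ = 1 → σ = 1 := by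
    obtain ⟨i, hi, hi1⟩ : ∃ i ∈ S, i ≠ e₁ ∧ i ≠ e₂ := by
      by_contra hcon
      push Not at hcon
      have : S ⊆ {e₁, e₂} := by
        intro i hi
        by_cases h1 : i = e₁
        · simp [h1]
        · simp [hcon i hi h1]
      have h2 := (Finset.card_le_card this).trans Finset.card_le_two
      omega
    have hm : cyc i e₁ e₂ ∈ alt S := cyc_mem_alt hi he₁ he₂ hi1.1 he
    intro σ hσ hσ1
    refine hf.eq_one_of (by omega) (alt_mono sub₁ hm) ?_ hσ hσ1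
    rw [hf₁ _ hm]
    intro h1
    have h2 := i₁ _ hm h1
    have h3 := StdAlt.PermTypes.cyc_apply_fst (i := i) (j := e₁) (k := e₂) hi1.2 hi1.1
    rw [h2] at h3
    exact hi1.1 h3
  let π : ↥(normalizer (W : Set G)) →* QW W := QuotientGroup.mk' _
  have hπ : ∀ x, π x = QuotientGroup.mk x := fun x => rfl
  let F : ↥(alt A) →* QW W := hf.toHom
  have hF : ∀ x : ↥(alt A), F x = f x := fun x => rfl
  have hFi : Function.Injective F := by
    rw [← MonoidHom.ker_eq_bot_iff, eq_bot_iff]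
    intro x hx
    exact mem_bot.mpr (Subtype.ext (hfi x x.2 hx))
  obtain ⟨B, hBdef⟩ : ∃ B : Subgroup G, B = (F.range.comap π).map (normalizer (W : Set G)).subtype :=
    ⟨_, rfl⟩
  have hB : ∀ {g : G}, g ∈ B ↔ ∃ hg : g ∈ normalizer (W : Set G),
      ∃ σ ∈ alt A, f σ = QuotientGroup.mk (⟨g, hg⟩ : ↥(normalizer (W : Set G))) := by
    intro g
    rw [hBdef]
    constructor
    · rintro ⟨x, ⟨σ, hσ⟩, rfl⟩
      exact ⟨x.2, σ, σ.2, hσ⟩
    · rintro ⟨hg, σ, hσ, h1⟩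
      exact ⟨⟨g, hg⟩, ⟨⟨σ, hσ⟩, h1⟩, rfl⟩
  have hBN : B ≤ normalizer (W : Set G) := fun g hg => (hB.mp hg).1
  have hWB : W ≤ B := by
    intro w hw
    refine hB.mpr ⟨le_normalizer hw, 1, one_mem _, ?_⟩
    rw [hf.one]
    exact ((mk_eq_one (le_normalizer hw)).mpr hw).symm
  have hKB : K ≤ B := by
    intro k hk
    refine hB.mpr ⟨hK hk, M₁.φ k, alt_mono sub₁ (M₁.mem_alt k hk), ?_⟩
    rw [hf₁ _ (M₁.mem_alt k hk), k₁ k hk]
  have hKB' : K' ≤ B := by
    intro k hk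
    refine hB.mpr ⟨hK' hk, M₂.φ k, alt_mono sub₂ (M₂.mem_alt k hk), ?_⟩
    rw [hf₂ _ (M₂.mem_alt k hk), k₂ k hk]
  -- the homomorphism `B → alt A`
  let e : ↥(alt A) ≃* ↥F.range := MonoidHom.ofInjective hFi
  have hmem : ∀ b : ↥B, π ⟨b, hBN b.2⟩ ∈ F.range := by
    intro b
    obtain ⟨_, σ, hσ, h1⟩ := hB.mp b.2
    exact ⟨⟨σ, hσ⟩, h1⟩
  let p : ↥B →* ↥F.range := (π.comp (Subgroup.inclusion hBN)).codRestrict F.range hmem
  have hp : ∀ b : ↥B, (p b : QW W) = QuotientGroup.mk (⟨b, hBN b.2⟩ : ↥(normalizer (W : Set G))) :=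
    fun b => rfl
  let g : ↥B →* ↥(alt A) := e.symm.toMonoidHom.comp p
  have hg : ∀ b : ↥B, f (g b : Perm α) =
      QuotientGroup.mk (⟨b, hBN b.2⟩ : ↥(normalizer (W : Set G))) := by
    intro b
    have h1 : e (g b) = p b := e.apply_symm_apply (p b)
    have h2 : F (g b) = (p b : QW W) := by rw [← h1]; rfl
    exact h2
  have hgs : Function.Surjective g := by
    intro σ
    obtain ⟨x, hx⟩ := QuotientGroup.mk_surjective (f (σ : Perm α))
    have hxB : (x : G) ∈ B := hB.mpr ⟨x.2, σ, σ.2, hx.symm⟩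
    refine ⟨⟨x, hxB⟩, hFi ?_⟩
    rw [hF, hF, hg]
    exact hx
  have hgk : ∀ b : ↥B, g b = 1 ↔ (b : G) ∈ W := by
    intro b
    rw [← mk_eq_one (hBN b.2), ← hg]
    constructor
    · intro h1
      rw [h1]
      exact hf.one
    · intro h1
      exact Subtype.ext (hfi _ (g b).2 h1)
  have hBW : B ≤ normalizer (W : Set G) := hBN
  -- the core
  have hcore : core B = W := by
    apply le_antisymm
    · intro x hx
      have hxB := core_le B hx
      rw [← hgk ⟨x, hxB⟩]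
      have hs : IsSimpleGroup ↥(alt A) := isSimpleGroup_alt (by omega)
      have hn : ((oddCore ↥B).map g).Normal :=
        (Cores.pPrimeCore_normal (G := ↥B) 2).map g hgs
      rcases hn.eq_bot_or_eq_top with h | h
      · have h1 : g ⟨x, hxB⟩ ∈ (oddCore ↥B).map g := ⟨_, (mem_core_iff hxB).mp hx, rfl⟩
        rw [h] at h1
        exact mem_bot.mp h1
      · exfalso
        have h1 : Nat.card ((oddCore ↥B).map g) ∣ Nat.card (oddCore ↥B) := Subgroup.card_map_dvd _ _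
        rw [h, Subgroup.card_top] at h1
        have h2 := Odd.of_dvd_nat (Nat.coprime_two_right.mp
          (Cores.pPrimeCore_coprime (G := ↥B) 2)) h1
        exact (Nat.not_even_iff_odd.mpr h2) (even_iff_two_dvd.mpr (two_dvd_card_alt (by omega)))
    · exact le_core hWB hBW hW
  have hker : ((alt A).subtype.comp g).ker = oddCore ↥B := by
    ext b
    rw [← mem_core_iff b.2, hcore, ← hgk b, MonoidHom.mem_ker, MonoidHom.comp_apply]
    exact ⟨fun h => Subtype.ext h, fun h => by rw [h]; rfl⟩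
  obtain ⟨MB, hMB⟩ := Mod.exists_of_hom (K := B) (S := A) h7 ((alt A).subtype.comp g) (by
    rw [MonoidHom.range_comp, MonoidHom.range_eq_top.mpr hgs, ← MonoidHom.range_eq_map,
      Subgroup.range_subtype]) hker
  have hlab : ∀ (b : ↥B) (σ : Perm α), σ ∈ alt A →
      f σ = QuotientGroup.mk (⟨b, hBN b.2⟩ : ↥(normalizer (W : Set G))) → MB.φ b = σ := by
    intro b σ hσ h1
    rw [hMB b]
    have h2 : g b = ⟨σ, hσ⟩ := hFi (by rw [hF, hF, hg, h1])
    show ((g b : alt A) : Perm α) = σ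
    rw [h2]
  refine ⟨B, hWB, hKB, hKB', hBN, ?_, hcore, MB, ?_, ?_⟩
  · -- `B` is generated by `K`, `K'`, `W`
    have hgen : B ≤ K ⊔ K' ⊔ W := by
      have hle : ∀ σ ∈ alt A, ∀ b ∈ B, MB.φ b = σ → b ∈ K ⊔ K' ⊔ W := by
        have h1 : alt A ≤ (((K ⊔ K').subgroupOf B).map MB.homK).map (alt A).subtype := by
          refine Ident.alt_le_of_cyc_two (sub₁ he₁) (sub₁ he₂) he (by omega) fun i hi h1 h2 => ?_
          rw [← hA, Finset.mem_union] at hi
          rcases hi with hi | hi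
          · obtain ⟨k, hk, hkσ⟩ := M₁.lift _ (cyc_mem_alt hi he₁ he₂ h1 he)
            refine ⟨MB.homK ⟨k, hKB hk⟩, ⟨⟨k, hKB hk⟩, mem_sup_left hk, rfl⟩, ?_⟩
            show MB.φ k = _
            rw [hlab ⟨k, hKB hk⟩ (M₁.φ k) (alt_mono sub₁ (M₁.mem_alt k hk))
              (by rw [hf₁ _ (M₁.mem_alt k hk), k₁ k hk]), hkσ]
          · obtain ⟨k, hk, hkσ⟩ := M₂.lift _ (cyc_mem_alt hi he₁' he₂' h1 he)
            refine ⟨MB.homK ⟨k, hKB' hk⟩, ⟨⟨k, hKB' hk⟩, mem_sup_right hk, rfl⟩, ?_⟩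
            show MB.φ k = _
            rw [hlab ⟨k, hKB' hk⟩ (M₂.φ k) (alt_mono sub₂ (M₂.mem_alt k hk))
              (by rw [hf₂ _ (M₂.mem_alt k hk), k₂ k hk]), hkσ]
        intro σ hσ b hb hbσ
        obtain ⟨_, ⟨⟨y, hyB⟩, hy, rfl⟩, h3⟩ := h1 hσ
        have h4 : MB.φ y = MB.φ b := by rw [hbσ]; exact h3
        have h5 : y⁻¹ * b ∈ core B := (MB.eq_iff hyB hb).mp h4
        rw [hcore] at h5
        have h6 : b = y * (y⁻¹ * b) := by group
        rw [h6]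
        exact mul_mem (mem_sup_left hy) (mem_sup_right h5)
      intro b hb
      exact hle _ (MB.mem_alt b hb) b hb rfl
    have heq : B = K ⊔ K' ⊔ W := le_antisymm hgen (sup_le (sup_le hKB hKB') hWB)
    intro x hxW hxK hxK'
    rw [mem_normalizer_iff_cj] at hxW hxK hxK' ⊢
    rw [heq, IntrinsicBasic.cj_def, Subgroup.map_sup, Subgroup.map_sup]
    rw [IntrinsicBasic.cj_def] at hxW hxK hxK'
    rw [hxW, hxK, hxK']
  · intro k hk
    exact hlab ⟨k, hKB hk⟩ (M₁.φ k) (alt_mono sub₁ (M₁.mem_alt k hk))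
      (by rw [hf₁ _ (M₁.mem_alt k hk), k₁ k hk])
  · intro k hk
    exact hlab ⟨k, hKB' hk⟩ (M₂.φ k) (alt_mono sub₂ (M₂.mem_alt k hk))
      (by rw [hf₂ _ (M₂.mem_alt k hk), k₂ k hk])

end Cfsg.Agent.UAlt
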