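import Cfsg.Agent.UAlt.Ident

/-!
# Identification of an alternating group from two partial copies

`exists_hom_two`: copies `κ₁` of `Alt(S₁)` and `κ₂` of `Alt(S₂)` in `Q` which agree on the 3-cycles `(i e₁ e₂)`,
`i ∈ S₁ ∩ S₂`, and satisfy the remaining Carmichael relations, extend to a copy of `Alt(S₁ ∪ S₂)`.
-/

set_option autoImplicit false
set_option linter.unusedSectionVars false

namespace Cfsg.Agent.UAlt.Ident

open Equiv Equiv.Perm Subgroup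
open Cfsg.Agent.StdAlt.PermTypes (cyc)

variable {α : Type*} [Fintype α] [DecidableEq α] {Q : Type*} [Group Q]

/-- a partial homomorphism on `alt S` -/
def PHom (S : Finset α) (κ : Perm α → Q) : Prop :=
  ∀ σ ∈ alt S, ∀ τ ∈ alt S, κ (σ * τ) = κ σ * κ τ

namespace PHom

variable {S : Finset α} {κ : Perm α → Q} (h : PHom S κ)
include h

theorem one : κ 1 = 1 := by
  have := h 1 (one_mem _) 1 (one_mem _)
  rw [mul_one] at this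
  exact left_eq_mul.1 this

theorem inv {σ : Perm α} (hσ : σ ∈ alt S) : κ σ⁻¹ = (κ σ)⁻¹ := by
  have := h σ⁻¹ (inv_mem hσ) σ hσ
  rw [inv_mul_cancel, h.one] at this
  exact eq_inv_of_mul_eq_one_left this.symm

theorem pow {σ : Perm α} (hσ : σ ∈ alt S) (n : ℕ) : κ (σ ^ n) = κ σ ^ n := by
  induction n with
  | zero => rw [pow_zero, pow_zero, h.one]
  | succ n ih => rw [pow_succ, pow_succ, h _ (pow_mem hσ n) _ hσ, ih]

theorem conj {σ τ : Perm α} (hσ : σ ∈ alt S) (hτ : τ ∈ alt S) :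
    κ (τ * σ * τ⁻¹) = κ τ * κ σ * (κ τ)⁻¹ := by
  rw [h _ (mul_mem hτ hσ) _ (inv_mem hτ), h _ hτ _ hσ, h.inv hτ]

/-- as a homomorphism -/
def toHom : ↥(alt S) →* Q where
  toFun σ := κ σ
  map_one' := h.one
  map_mul' a b := h a a.2 b b.2

theorem mono {T : Finset α} (hT : T ⊆ S) : PHom T κ := fun σ hσ τ hτ =>
  h σ (alt_mono hT hσ) τ (alt_mono hT hτ)

/-- injectivity -/
theorem eq_one_of (h5 : 5 ≤ S.card) {τ : Perm α} (hτ : τ ∈ alt S) (h1 : κ τ ≠ 1) {σ : Perm α}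
    (hσ : σ ∈ alt S) (hσ1 : κ σ = 1) : σ = 1 := by
  have hs : IsSimpleGroup ↥(alt S) := isSimpleGroup_alt h5
  have hker : h.toHom.ker = ⊥ := by
    rcases hs.eq_bot_or_eq_top_of_normal h.toHom.ker inferInstance with h2 | h2
    · exact h2
    · exfalso
      apply h1
      have : (⟨τ, hτ⟩ : ↥(alt S)) ∈ h.toHom.ker := by rw [h2]; exact mem_top _
      exact this
  have : (⟨σ, hσ⟩ : ↥(alt S)) ∈ h.toHom.ker := hσ1
  rw [hker, mem_bot] at this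
  exact congrArg Subtype.val this

end PHom

/-- **two partial copies** -/
theorem exists_hom_two {A S₁ S₂ : Finset α} {e₁ e₂ : α} (he : e₁ ≠ e₂) (hA : S₁ ∪ S₂ = A)
    (he₁ : e₁ ∈ S₁) (he₁' : e₁ ∈ S₂) (he₂ : e₂ ∈ S₁) (he₂' : e₂ ∈ S₂) (h₁3 : 3 ≤ S₁.card)
    (h₂3 : 3 ≤ S₂.card) {κ₁ κ₂ : Perm α → Q} (m₁ : PHom S₁ κ₁) (m₂ : PHom S₂ κ₂)
    (hag : ∀ i ∈ S₁, i ∈ S₂ → i ≠ e₁ → i ≠ e₂ → κ₁ (cyc i e₁ e₂) = κ₂ (cyc i e₁ e₂))
    (hrel : ∀ i ∈ S₁, i ∉ S₂ → ∀ j ∈ S₂, j ∉ S₁ →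
      (κ₁ (cyc i e₁ e₂) * κ₂ (cyc j e₁ e₂)) ^ 2 = 1) :
    ∃ f : Perm α → Q, PHom A f ∧ (∀ σ ∈ alt S₁, f σ = κ₁ σ) ∧ ∀ σ ∈ alt S₂, f σ = κ₂ σ := by
  have sub₁ : S₁ ⊆ A := by rw [← hA]; exact Finset.subset_union_left
  have sub₂ : S₂ ⊆ A := by rw [← hA]; exact Finset.subset_union_right
  have hc : e₁ ∈ A := sub₁ he₁
  have hd : e₂ ∈ A := sub₁ he₂
  have h3 : 3 ≤ A.card := h₁3.trans (Finset.card_le_card sub₁)
  have hm₁ : ∀ {i : α}, i ∈ S₁ → i ≠ e₁ → cyc i e₁ e₂ ∈ alt S₁ := fun hi hie =>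
    cyc_mem_alt hi he₁ he₂ hie he
  have hm₂ : ∀ {i : α}, i ∈ S₂ → i ≠ e₁ → cyc i e₁ e₂ ∈ alt S₂ := fun hi hie =>
    cyc_mem_alt hi he₁' he₂' hie he
  classical
  -- the generators
  let y : α → Q := fun i => if i ∈ S₁ then κ₁ (cyc i e₁ e₂) else κ₂ (cyc i e₁ e₂)
  have y₁ : ∀ {i : α}, i ∈ S₁ → y i = κ₁ (cyc i e₁ e₂) := fun hi => if_pos hi
  have y₂ : ∀ {i : α}, i ∈ S₂ → i ≠ e₁ → i ≠ e₂ → y i = κ₂ (cyc i e₁ e₂) := by
    intro i hi h1 h2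
    by_cases h : i ∈ S₁
    · rw [y₁ h, hag i h hi h1 h2]
    · exact if_neg h
  obtain ⟨g, hg⟩ := Cfsg.Agent.StdAlt.Carm.exists_hom (G := Q) (Ω := A) (c := ⟨e₁, hc⟩)
    (d := ⟨e₂, hd⟩) (fun e => he (congrArg Subtype.val e)) (by rw [Fintype.card_coe]; omega)
    (y := fun i => y (i : α)) (by
      rintro ⟨i, hi⟩ hic hid
      have hic' : i ≠ e₁ := fun e => hic (Subtype.ext e)
      have hid' : i ≠ e₂ := fun e => hid (Subtype.ext e)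
      show y i ^ 3 = 1
      rw [← hA, Finset.mem_union] at hi
      rcases hi with hi | hi
      · rw [y₁ hi, ← m₁.pow (hm₁ hi hic'), StdAlt.PermTypes.cyc_pow_three hic' he hid', m₁.one]
      · rw [y₂ hi hic' hid', ← m₂.pow (hm₂ hi hic'), StdAlt.PermTypes.cyc_pow_three hic' he hid',
          m₂.one]) (by
      rintro ⟨i, hi⟩ ⟨j, hj⟩ hic hid hjc hjd hij
      have hic' : i ≠ e₁ := fun e => hic (Subtype.ext e)
      have hid' : i ≠ e₂ := fun e => hid (Subtype.ext e)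
      have hjc' : j ≠ e₁ := fun e => hjc (Subtype.ext e)
      have hjd' : j ≠ e₂ := fun e => hjd (Subtype.ext e)
      have hij' : i ≠ j := fun e => hij (Subtype.ext e)
      show (y i * y j) ^ 2 = 1
      have s₁ : ∀ {i j : α}, i ∈ S₁ → j ∈ S₁ → i ≠ e₁ → i ≠ e₂ → j ≠ e₁ → j ≠ e₂ → i ≠ j →
          (y i * y j) ^ 2 = 1 := by
        intro i j hi hj h1 h2 h3 h4 h5
        rw [y₁ hi, y₁ hj, ← m₁ _ (hm₁ hi h1) _ (hm₁ hj h3),
          ← m₁.pow (mul_mem (hm₁ hi h1) (hm₁ hj h3)), cyc_sq h1 h2 h3 h4 he h5, m₁.one]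
      have s₂ : ∀ {i j : α}, i ∈ S₂ → j ∈ S₂ → i ≠ e₁ → i ≠ e₂ → j ≠ e₁ → j ≠ e₂ → i ≠ j →
          (y i * y j) ^ 2 = 1 := by
        intro i j hi hj h1 h2 h3 h4 h5
        rw [y₂ hi h1 h2, y₂ hj h3 h4, ← m₂ _ (hm₂ hi h1) _ (hm₂ hj h3),
          ← m₂.pow (mul_mem (hm₂ hi h1) (hm₂ hj h3)), cyc_sq h1 h2 h3 h4 he h5, m₂.one]
      rw [← hA, Finset.mem_union] at hi hj
      by_cases h1 : i ∈ S₁ ∧ j ∈ S₁
      · exact s₁ h1.1 h1.2 hic' hid' hjc' hjd' hij'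
      by_cases h2 : i ∈ S₂ ∧ j ∈ S₂
      · exact s₂ h2.1 h2.2 hic' hid' hjc' hjd' hij'
      rcases hi with hi | hi
      · have hj1 : j ∉ S₁ := fun h => h1 ⟨hi, h⟩
        have hj2 : j ∈ S₂ := hj.resolve_left hj1
        have hi2 : i ∉ S₂ := fun h => h2 ⟨h, hj2⟩
        rw [y₁ hi, y₂ hj2 hjc' hjd']
        exact hrel i hi hi2 j hj2 hj1
      · have hj2 : j ∉ S₂ := fun h => h2 ⟨hi, h⟩
        have hj1 : j ∈ S₁ := hj.resolve_right hj2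
        have hi1 : i ∉ S₁ := fun h => h1 ⟨h, hj1⟩
        have h3 := hrel j hj1 hj2 i hi hi1
        rw [y₁ hj1, y₂ hi hic' hid']
        rw [pow_two] at h3 ⊢
        obtain ⟨p, hp⟩ : ∃ p, p = κ₁ (cyc j e₁ e₂) := ⟨_, rfl⟩
        obtain ⟨q, hq⟩ : ∃ q, q = κ₂ (cyc i e₁ e₂) := ⟨_, rfl⟩
        rw [← hp, ← hq] at h3 ⊢
        calc q * p * (q * p) = p⁻¹ * (p * q * (p * q)) * p := by group
          _ = 1 := by rw [h3]; group)
  let f : Perm α → Q := fun σ => if h : σ ∈ alt A then g ((altEquiv A).symm ⟨σ, h⟩) else 1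
  have hf : ∀ (σ : Perm α) (h : σ ∈ alt A), f σ = g ((altEquiv A).symm ⟨σ, h⟩) := fun σ h => dif_pos h
  have hfmul : PHom A f := by
    intro σ hσ τ hτ
    rw [hf _ (mul_mem hσ hτ), hf _ hσ, hf _ hτ, ← map_mul, ← map_mul]
    rfl
  have hfcyc : ∀ i ∈ A, i ≠ e₁ → i ≠ e₂ → f (cyc i e₁ e₂) = y i := by
    intro i hi hic hid
    have hm : cyc i e₁ e₂ ∈ alt A := cyc_mem_alt hi hc hd hic he
    rw [hf _ hm]
    have e : (((altEquiv A).symm ⟨cyc i e₁ e₂, hm⟩ : alternatingGroup A) : Perm A) =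
        cyc ⟨i, hi⟩ ⟨e₁, hc⟩ ⟨e₂, hd⟩ := by
      apply ofSubtype_injective
      have h3 : (ofSubtype (cyc ⟨i, hi⟩ ⟨e₁, hc⟩ ⟨e₂, hd⟩ : Perm A) : Perm α) = cyc i e₁ e₂ := by
        unfold Cfsg.Agent.StdAlt.PermTypes.cyc
        rw [map_mul, ofSubtype_swap_eq, ofSubtype_swap_eq]
      rw [h3, ← altEquiv_coe, MulEquiv.apply_symm_apply]
    exact hg _ ⟨i, hi⟩ (fun e => hic (congrArg Subtype.val e)) (fun e => hid (congrArg Subtype.val e)) e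
  refine ⟨f, hfmul, ?_, ?_⟩
  · apply agree (hfmul.mono sub₁) m₁ (P := fun σ => ∃ i ∈ S₁, i ≠ e₁ ∧ i ≠ e₂ ∧ σ = cyc i e₁ e₂)
    · intro H hH
      refine alt_le_of_cyc_two he₁ he₂ he h₁3 fun i hi hic hid => ?_
      exact hH _ (hm₁ hi hic) ⟨i, hi, hic, hid, rfl⟩
    · rintro σ hσ ⟨i, hi, hic, hid, rfl⟩
      rw [hfcyc i (sub₁ hi) hic hid, y₁ hi]
  · apply agree (hfmul.mono sub₂) m₂ (P := fun σ => ∃ i ∈ S₂, i ≠ e₁ ∧ i ≠ e₂ ∧ σ = cyc i e₁ e₂)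
    · intro H hH
      refine alt_le_of_cyc_two he₁' he₂' he h₂3 fun i hi hic hid => ?_
      exact hH _ (hm₂ hi hic) ⟨i, hi, hic, hid, rfl⟩
    · rintro σ hσ ⟨i, hi, hic, hid, rfl⟩
      rw [hfcyc i (sub₂ hi) hic hid, y₂ hi hic hid]

end Cfsg.Agent.UAlt.Ident
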