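import Cfsg.Agent.UAlt.Ident
import Cfsg.Agent.UAlt.Mod

/-!
# Identification of an alternating group: the gluing condition from equivariance

`Data.of_equiv`: the gluing permutations of `A \ Ω` are trivial if the copies `κ v` are permuted equivariantly by the
copy of `Alt(Ω)`.
-/

set_option autoImplicit false
set_option linter.unusedSectionVars false

namespace Cfsg.Agent.UAlt.Ident

open Equiv Equiv.Perm Subgroup
open Cfsg.Agent.StdAlt.PermTypes (cyc)
open Cfsg.Agent.StdAlt.Roots (IsRoot)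

variable {α : Type*} [Fintype α] [DecidableEq α]

theorem aiv (g : Perm α) (x : α) : g (g⁻¹ x) = x := g.apply_symm_apply x

/-- two roots of `S` are conjugate under `sym S` -/
theorem Rt.exists_conj {S : Finset α} {v w : Perm α} (hv : Rt S v) (hw : Rt S w) :
    ∃ g ∈ sym S, g * v * g⁻¹ = w := by
  obtain ⟨v0, hv0⟩ := (symEquiv S).surjective ⟨v, hv.2⟩
  obtain ⟨w0, hw0⟩ := (symEquiv S).surjective ⟨w, hw.2⟩
  have e1 : ofSubtype v0 = v := by rw [← symEquiv_coe, hv0]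
  have e2 : ofSubtype w0 = w := by rw [← symEquiv_coe, hw0]
  have h1 : v0.cycleType = w0.cycleType := by
    rw [← cycleType_ofSubtype (g := v0), ← cycleType_ofSubtype (g := w0), e1, e2, hv.1.cycleType,
      hw.1.cycleType]
  obtain ⟨g, hg⟩ := isConj_iff.1 (isConj_iff_cycleType_eq.2 h1)
  refine ⟨ofSubtype g, fun x hx => ofSubtype_apply_of_not_mem g hx, ?_⟩
  rw [← e1, ← e2, ← hg, map_mul, map_mul, map_inv]

/-- permutations with disjoint supports commute -/
theorem comm_of_sym {S T : Finset α} (h : Disjoint S T) {g k : Perm α} (hg : g ∈ sym S) (hk : k ∈ sym T) :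
    g * k = k * g := by
  have hd : Equiv.Perm.Disjoint g k := by
    intro x
    by_cases hx : x ∈ S
    · exact Or.inr (hk x (Finset.disjoint_left.1 h hx))
    · exact Or.inl (hg x hx)
  exact hd.commute.eq

theorem Rt.mono {S T : Finset α} (h : S ⊆ T) {v : Perm α} (hv : Rt S v) : Rt T v :=
  ⟨hv.1, sym_mono h hv.2⟩

theorem Rt.restrict {S T : Finset α} {v : Perm α} (hv : Rt S v) (h : ∀ x, v x ≠ x → x ∈ T) : Rt T v :=
  ⟨hv.1, fun x hx => by
    by_contra hn
    exact hx (h x hn)⟩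

/-- ordered pairs of disjoint roots are conjugate under `alt Ω` -/
theorem exists_conj_pair {Ω : Finset α} (h10 : 10 ≤ Ω.card) {v w v' w' : Perm α} (hv : Rt Ω v)
    (hw : Rt Ω w) (hvw : ∀ x, v x = x ∨ w x = x) (hv' : Rt Ω v') (hw' : Rt Ω w')
    (hvw' : ∀ x, v' x = x ∨ w' x = x) :
    ∃ g ∈ alt Ω, g * v * g⁻¹ = v' ∧ g * w * g⁻¹ = w' := by
  obtain ⟨g1, hg1, h1⟩ := hv.exists_conj hv'
  have hT : Ω \ v'.support ⊆ Ω := Finset.sdiff_subset
  have hw1 : Rt (Ω \ v'.support) (g1 * w * g1⁻¹) := by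
    refine (hw.conj hg1).restrict fun x hx => ?_
    rw [Finset.mem_sdiff, notMem_support]
    refine ⟨?_, ?_⟩
    · by_contra hn
      exact hx ((hw.conj hg1).2 x hn)
    · rw [← h1, Perm.mul_apply, Perm.mul_apply]
      have hx' : w (g1⁻¹ x) ≠ g1⁻¹ x := by
        intro h
        apply hx
        rw [Perm.mul_apply, Perm.mul_apply, h, aiv]
      rcases hvw (g1⁻¹ x) with h | h
      · rw [h, aiv]
      · exact absurd h hx'
  have hw2 : Rt (Ω \ v'.support) w' := by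
    refine hw'.restrict fun x hx => ?_
    rw [Finset.mem_sdiff, notMem_support]
    refine ⟨?_, ?_⟩
    · by_contra hn
      exact hx (hw'.2 x hn)
    · rcases hvw' x with h | h
      · exact h
      · exact absurd h hx
  obtain ⟨g2, hg2, h2⟩ := hw1.exists_conj hw2
  have hvs : v' ∈ sym v'.support := fun x hx => notMem_support.1 hx
  have hc : g2 * v' = v' * g2 := comm_of_sym Finset.sdiff_disjoint hg2 hvs
  have k1 : (g2 * g1) * v * (g2 * g1)⁻¹ = v' := by
    calc (g2 * g1) * v * (g2 * g1)⁻¹ = g2 * (g1 * v * g1⁻¹) * g2⁻¹ := by group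
      _ = g2 * v' * g2⁻¹ := by rw [h1]
      _ = v' := by rw [hc]; group
  have k2 : (g2 * g1) * w * (g2 * g1)⁻¹ = w' := by
    calc (g2 * g1) * w * (g2 * g1)⁻¹ = g2 * (g1 * w * g1⁻¹) * g2⁻¹ := by group
      _ = w' := h2
  have hg : g2 * g1 ∈ sym Ω := mul_mem (sym_mono hT hg2) hg1
  -- two further points
  obtain ⟨p, hp, q, hq, hpq⟩ : ∃ p ∈ Ω \ (v'.support ∪ w'.support), ∃ q ∈ Ω \ (v'.support ∪ w'.support),
      p ≠ q := by
    apply Finset.one_lt_card.1
    have e1 := Finset.le_card_sdiff (v'.support ∪ w'.support) Ω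
    have e2 := Finset.card_union_le v'.support w'.support
    rw [hv'.1.2, hw'.1.2] at e2
    omega
  rw [Finset.mem_sdiff, Finset.mem_union, not_or] at hp hq
  have hts : swap p q ∈ sym {p, q} := by
    intro x hx
    simp only [Finset.mem_insert, Finset.mem_singleton, not_or] at hx
    exact swap_apply_of_ne_of_ne hx.1 hx.2
  have hdv : Disjoint ({p, q} : Finset α) v'.support := by
    rw [Finset.disjoint_left]
    intro x hx
    simp only [Finset.mem_insert, Finset.mem_singleton] at hx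
    rcases hx with rfl | rfl
    · exact hp.2.1
    · exact hq.2.1
  have hdw : Disjoint ({p, q} : Finset α) w'.support := by
    rw [Finset.disjoint_left]
    intro x hx
    simp only [Finset.mem_insert, Finset.mem_singleton] at hx
    rcases hx with rfl | rfl
    · exact hp.2.2
    · exact hq.2.2
  have hcv := comm_of_sym hdv hts hvs
  have hcw : swap p q * w' = w' * swap p q :=
    comm_of_sym hdw hts fun x hx => notMem_support.1 hx
  have htΩ : swap p q ∈ sym Ω := by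
    refine sym_mono ?_ hts
    intro x hx
    simp only [Finset.mem_insert, Finset.mem_singleton] at hx
    rcases hx with rfl | rfl
    · exact hp.1
    · exact hq.1
  by_cases he : g2 * g1 ∈ alternatingGroup α
  · exact ⟨g2 * g1, ⟨he, hg⟩, k1, k2⟩
  · have hev : swap p q * (g2 * g1) ∈ alternatingGroup α := by
      rw [mem_alternatingGroup] at he ⊢
      rw [Perm.sign_mul, sign_swap hpq]
      rcases Int.units_eq_one_or (sign (g2 * g1)) with h | h
      · exact absurd h he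
      · rw [h]; rfl
    refine ⟨swap p q * (g2 * g1), ⟨hev, mul_mem htΩ hg⟩, ?_, ?_⟩
    · calc (swap p q * (g2 * g1)) * v * (swap p q * (g2 * g1))⁻¹
          = swap p q * ((g2 * g1) * v * (g2 * g1)⁻¹) * (swap p q)⁻¹ := by group
        _ = swap p q * v' * (swap p q)⁻¹ := by rw [k1]
        _ = v' := by rw [hcv]; group
    · calc (swap p q * (g2 * g1)) * w * (swap p q * (g2 * g1))⁻¹
          = swap p q * ((g2 * g1) * w * (g2 * g1)⁻¹) * (swap p q)⁻¹ := by group
        _ = swap p q * w' * (swap p q)⁻¹ := by rw [k2]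
        _ = w' := by rw [hcw]; group

variable {M : Type*} [Group M] {Ω A : Finset α} {ι : Perm α → M} {κ : Perm α → Perm α → M}

/-- injectivity -/
theorem inj_of {S : Finset α} {f : Perm α → M}
    (hf : ∀ σ ∈ alt S, ∀ τ ∈ alt S, f (σ * τ) = f σ * f τ) (hi : ∀ σ ∈ alt S, f σ = 1 → σ = 1)
    {σ τ : Perm α} (hσ : σ ∈ alt S) (hτ : τ ∈ alt S) (h : f σ = f τ) : σ = τ := by
  have h1 : f (σ * τ⁻¹) = 1 := by
    have h2 := hf (σ * τ⁻¹) (mul_mem hσ (inv_mem hτ)) τ hτ
    rw [inv_mul_cancel_right, h] at h2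
    exact right_eq_mul.1 h2
  exact mul_inv_eq_one.1 (hi _ (mul_mem hσ (inv_mem hτ)) h1)

/-- conjugation by a permutation of `A \ Ω` preserves the label groups -/
theorem conj_mem_of_sym (hsub : Ω ⊆ A) {v w : Perm α} (hv : Rt Ω v) (hw : Rt Ω w) {π : Perm α}
    (hπ : π ∈ sym (A \ Ω)) {σ : Perm α} (hσ : σ ∈ alt (fixIn (fixIn A v) w)) :
    π * σ * π⁻¹ ∈ alt (fixIn (fixIn A v) w) := by
  have hd : ∀ {u : Perm α}, Rt Ω u → π * u = u * π := fun hu =>
    comm_of_sym Finset.sdiff_disjoint hπ hu.2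
  refine conj_mem_alt (fun x => ?_) hσ
  have hA : π x ∈ A ↔ x ∈ A :=
    mem_iff_of_mem_sym (sym_mono Finset.sdiff_subset hπ)
  rw [mem_fixIn, mem_fixIn, mem_fixIn, mem_fixIn, hA]
  have h1 : ∀ {u : Perm α}, Rt Ω u → (u (π x) = π x ↔ u x = x) := by
    intro u hu
    rw [← Perm.mul_apply, ← hd hu, Perm.mul_apply]
    exact π.injective.eq_iff
  rw [h1 hv, h1 hw]

/-- **Gluing from equivariance.** -/
theorem Data.of_equiv (sub : Ω ⊆ A) (card : 13 ≤ Ω.card)
    (ι_mul : ∀ σ ∈ alt Ω, ∀ τ ∈ alt Ω, ι (σ * τ) = ι σ * ι τ)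
    (κ_mul : ∀ v, Rt Ω v → ∀ σ ∈ alt (fixIn A v), ∀ τ ∈ alt (fixIn A v), κ v (σ * τ) = κ v σ * κ v τ)
    (κ_inj : ∀ v, Rt Ω v → ∀ σ ∈ alt (fixIn A v), κ v σ = 1 → σ = 1)
    (nat : ∀ v, Rt Ω v → ∀ σ ∈ alt (fixIn Ω v), κ v σ = ι σ)
    (equ : ∀ g ∈ alt Ω, ∀ v, Rt Ω v → ∀ σ ∈ alt (fixIn A v),
      κ (g * v * g⁻¹) (g * σ * g⁻¹) = ι g * κ v σ * (ι g)⁻¹)
    (glue : ∀ v w, Rt Ω v → Rt Ω w → (∀ x, v x = x ∨ w x = x) → ∃ π ∈ sym (A \ Ω),
      ∀ σ ∈ alt (fixIn (fixIn A v) w), κ v σ = κ w (π * σ * π⁻¹))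
    (h1 : (A \ Ω).card ≠ 1) : Data Ω A ι κ := by
  refine ⟨sub, card, ι_mul, κ_mul, κ_inj, nat, ?_⟩
  -- transport of a gluing permutation
  have htr : ∀ {v w v' w' : Perm α}, Rt Ω v → Rt Ω w → (∀ x, v x = x ∨ w x = x) → Rt Ω v' → Rt Ω w' →
      (∀ x, v' x = x ∨ w' x = x) → ∀ {π : Perm α}, π ∈ sym (A \ Ω) →
      (∀ σ ∈ alt (fixIn (fixIn A v) w), κ v σ = κ w (π * σ * π⁻¹)) →
      ∀ σ ∈ alt (fixIn (fixIn A v') w'), κ v' σ = κ w' (π * σ * π⁻¹) := by
    intro v w v' w' hv hw hvw hv' hw' hvw' π hπ h σ hσ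
    obtain ⟨g, hg, rfl, rfl⟩ := exists_conj_pair (by omega) hv hw hvw hv' hw' hvw'
    have hgA : ∀ x, g x ∈ A ↔ x ∈ A := fun x =>
      mem_iff_of_mem_sym (sym_mono sub (alt_le_sym _ hg))
    -- `σ = g σ₀ g⁻¹`
    have hσ0 : g⁻¹ * σ * g ∈ alt (fixIn (fixIn A v) w) := by
      have h3 : g⁻¹ * σ * (g⁻¹)⁻¹ ∈ alt ((fixIn (fixIn A (g * v * g⁻¹)) (g * w * g⁻¹)).map
          (g⁻¹ : Perm α).toEmbedding) :=
        Mod.conj_mem_alt' hσ fun a ha => Finset.mem_map.2 ⟨a, ha, rfl⟩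
      rw [inv_inv] at h3
      refine alt_mono ?_ h3
      intro x hx
      obtain ⟨y, hy, rfl⟩ := Finset.mem_map.1 hx
      rw [mem_fixIn, mem_fixIn] at hy ⊢
      obtain ⟨⟨hyA, hy1⟩, hy2⟩ := hy
      have hyg : g (g⁻¹ y) = y := aiv g y
      refine ⟨⟨?_, ?_⟩, ?_⟩
      · show g⁻¹ y ∈ A
        rw [← hgA, hyg]; exact hyA
      · show v (g⁻¹ y) = g⁻¹ y
        apply g.injective
        rw [hyg]
        exact hy1
      · show w (g⁻¹ y) = g⁻¹ y
        apply g.injective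
        rw [hyg]
        exact hy2
    have hσe : σ = g * (g⁻¹ * σ * g) * g⁻¹ := by group
    have hc : π * g = g * π := comm_of_sym Finset.sdiff_disjoint hπ (alt_le_sym _ hg)
    have hmv : g⁻¹ * σ * g ∈ alt (fixIn A v) := alt_mono (fixIn_subset _ _) hσ0
    have hmw : π * (g⁻¹ * σ * g) * π⁻¹ ∈ alt (fixIn A w) := by
      have h2 := conj_mem_of_sym sub hv hw hπ hσ0
      refine alt_mono ?_ h2
      intro x hx
      rw [mem_fixIn, mem_fixIn] at hx
      rw [mem_fixIn]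
      exact ⟨hx.1.1, hx.2⟩
    have e1 := equ g hg v hv _ hmv
    have e2 := equ g hg w hw _ hmw
    rw [← hσe] at e1
    rw [e1, h _ hσ0, ← e2]
    congr 1
    have hc' : π⁻¹ * g⁻¹ = g⁻¹ * π⁻¹ := by
      rw [← mul_inv_rev, ← mul_inv_rev, hc]
    calc g * (π * (g⁻¹ * σ * g) * π⁻¹) * g⁻¹ = (g * π) * g⁻¹ * σ * g * (π⁻¹ * g⁻¹) := by group
      _ = (π * g) * g⁻¹ * σ * g * (g⁻¹ * π⁻¹) := by rw [← hc, hc']
      _ = π * σ * π⁻¹ := by group
  -- three disjoint roots
  obtain ⟨v1, hv1, -⟩ := exists_root (Ω := Ω) (T := ∅) (by simp; omega)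
  obtain ⟨v2, hv2, hv2'⟩ := exists_root (Ω := Ω) (T := v1.support) (by rw [hv1.1.2]; omega)
  obtain ⟨v3, hv3, hv3'⟩ := exists_root (Ω := Ω) (T := v1.support ∪ v2.support) (by
    have := Finset.card_union_le v1.support v2.support
    rw [hv1.1.2, hv2.1.2] at this
    omega)
  have d12 : ∀ x, v1 x = x ∨ v2 x = x := by
    intro x
    by_cases hx : v1 x = x
    · exact Or.inl hx
    · exact Or.inr (hv2' x (mem_support.2 hx))
  have d13 : ∀ x, v1 x = x ∨ v3 x = x := by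
    intro x
    by_cases hx : v1 x = x
    · exact Or.inl hx
    · exact Or.inr (hv3' x (Finset.mem_union_left _ (mem_support.2 hx)))
  have d23 : ∀ x, v2 x = x ∨ v3 x = x := by
    intro x
    by_cases hx : v2 x = x
    · exact Or.inl hx
    · exact Or.inr (hv3' x (Finset.mem_union_right _ (mem_support.2 hx)))
  obtain ⟨π, hπ, h12⟩ := glue v1 v2 hv1 hv2 d12
  have h13 := htr hv1 hv2 d12 hv1 hv3 d13 hπ h12
  have h23 := htr hv1 hv2 d12 hv2 hv3 d23 hπ h12
  obtain ⟨y, hy⟩ : ∃ y, y ∈ Ω \ (v1.support ∪ v2.support ∪ v3.support) := by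
    apply Finset.card_pos.1
    have e1 := Finset.le_card_sdiff (v1.support ∪ v2.support ∪ v3.support) Ω
    have e2 := Finset.card_union_le (v1.support ∪ v2.support) v3.support
    have e3 := Finset.card_union_le v1.support v2.support
    rw [hv1.1.2, hv2.1.2] at e3
    rw [hv3.1.2] at e2
    omega
  simp only [Finset.mem_sdiff, Finset.mem_union, not_or, notMem_support] at hy
  obtain ⟨hyΩ, ⟨hy1, hy2⟩, hy3⟩ := hy
  have hπ1 : π = 1 := by
    ext c
    by_cases hc : c ∈ A \ Ω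
    · -- a second point
      obtain ⟨d, hd, hdc⟩ : ∃ d ∈ A \ Ω, d ≠ c := by
        have h2 : 1 < (A \ Ω).card := by
          have := Finset.card_pos.2 ⟨c, hc⟩
          omega
        exact Finset.exists_mem_ne h2 c
      have hcd : c ≠ d := Ne.symm hdc
      rw [Finset.mem_sdiff] at hc hd
      have hyc : y ≠ c := fun e => hc.2 (e ▸ hyΩ)
      have hyd : y ≠ d := fun e => hd.2 (e ▸ hyΩ)
      have hm : ∀ {u w : Perm α}, Rt Ω u → Rt Ω w → u y = y → w y = y →
          cyc y c d ∈ alt (fixIn (fixIn A u) w) := by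
        intro u w hu hw huy hwy
        refine cyc_mem_alt ?_ ?_ ?_ hyc hcd <;> rw [mem_fixIn, mem_fixIn]
        · exact ⟨⟨sub hyΩ, huy⟩, hwy⟩
        · exact ⟨⟨hc.1, hu.apply_of_notMem hc.2⟩, hw.apply_of_notMem hc.2⟩
        · exact ⟨⟨hd.1, hu.apply_of_notMem hd.2⟩, hw.apply_of_notMem hd.2⟩
      have e1 := h12 _ (hm hv1 hv2 hy1 hy2)
      have e2 := h13 _ (hm hv1 hv3 hy1 hy3)
      have m23 : π * cyc y c d * π⁻¹ ∈ alt (fixIn (fixIn A v2) v3) :=
        conj_mem_of_sym sub hv2 hv3 hπ (hm hv2 hv3 hy2 hy3)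
      have e3 := h23 _ m23
      rw [e1, e3] at e2
      have m3 : π * cyc y c d * π⁻¹ ∈ alt (fixIn A v3) := by
        refine alt_mono ?_ m23
        intro x hx
        rw [mem_fixIn, mem_fixIn] at hx
        rw [mem_fixIn]
        exact ⟨hx.1.1, hx.2⟩
      have m4 : π * (π * cyc y c d * π⁻¹) * π⁻¹ ∈ alt (fixIn A v3) := by
        refine alt_mono ?_ (conj_mem_of_sym sub hv2 hv3 hπ m23)
        intro x hx
        rw [mem_fixIn, mem_fixIn] at hx
        rw [mem_fixIn]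
        exact ⟨hx.1.1, hx.2⟩
      have e4 := inj_of (κ_mul v3 hv3) (κ_inj v3 hv3) m4 m3 e2
      have e5 : π * cyc y c d * π⁻¹ = cyc y c d := by
        have := congrArg (fun z => π⁻¹ * z * π) e4
        calc π * cyc y c d * π⁻¹ = π⁻¹ * (π * (π * cyc y c d * π⁻¹) * π⁻¹) * π := by group
          _ = π⁻¹ * (π * cyc y c d * π⁻¹) * π := this
          _ = cyc y c d := by group
      rw [StdAlt.PermTypes.cyc_conj] at e5
      have hπy : π y = y := hπ y (by rw [Finset.mem_sdiff, not_and_not_right]; exact fun _ => hyΩ)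
      rw [hπy] at e5
      have hyc' : y ≠ π c := by rw [← hπy]; exact fun e => hyc (π.injective e)
      have hyd' : y ≠ π d := by rw [← hπy]; exact fun e => hyd (π.injective e)
      have e6 : cyc y (π c) (π d) y = cyc y c d y := by rw [e5]
      rw [StdAlt.PermTypes.cyc_apply_fst hyd' hyc', StdAlt.PermTypes.cyc_apply_fst hyd hyc] at e6
      exact e6
    · exact hπ c hc
  subst hπ1
  intro v w hv hw hvw σ hσ
  have := htr hv1 hv2 d12 hv hw hvw (one_mem _) h12 σ hσ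
  rwa [one_mul, inv_one, mul_one] at this

end Cfsg.Agent.UAlt.Ident
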