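import Cfsg.Agent.UAlt.AltCent
import Cfsg.Agent.StdAlt.Closing

/-!
# Permutation lemmas for section (9)

* `alt_lemma`: `a`, `b` commuting involutions, such that for all `i`, `j` in `T` moved by `a`, in different
  orbits, conjugation of `b` by `(i j)(a i a j)` gives `b` or `a b`; then `b` acts as `1` or as `a`.
* `exists_four_in`: the root four-group centralised by an involution.
-/

set_option autoImplicit false
set_option linter.unusedSectionVars false

namespace Cfsg.Agent.UAlt.PermPK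

open Equiv Equiv.Perm Subgroup
open Cfsg.Agent.StdAlt.Roots (IsRoot)
open Cfsg.Agent.StdAlt.PermTypes (app_app)

variable {α : Type*} [Fintype α] [DecidableEq α]

/-- the permutation exchanging the 2-cycles at `i` and `j` -/
def tau (a : Perm α) (i j : α) : Perm α := swap i j * swap (a i) (a j)

theorem tau_of_ne {a : Perm α} {i j p : α} (h1 : p ≠ i) (h2 : p ≠ j) (h3 : p ≠ a i) (h4 : p ≠ a j) :
    tau a i j p = p := by
  rw [tau, Perm.mul_apply, swap_apply_of_ne_of_ne h3 h4, swap_apply_of_ne_of_ne h1 h2]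

section

variable {a : Perm α} (haa : ∀ x, a (a x) = x) {i j : α} (hi : a i ≠ i) (hj : a j ≠ j) (h1 : j ≠ i) (h2 : j ≠ a i)

include haa hi hj h1 h2

theorem ne_aux : a j ≠ i ∧ a j ≠ a i := by
  refine ⟨fun h => h2 ?_, fun h => h1 (a.injective h)⟩
  rw [← h, haa]

theorem tau_i : tau a i j i = j := by
  obtain ⟨h3, h4⟩ := ne_aux haa hi hj h1 h2
  rw [tau, Perm.mul_apply, swap_apply_of_ne_of_ne (Ne.symm hi) (Ne.symm h3), swap_apply_left]

theorem tau_j : tau a i j j = i := by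
  rw [tau, Perm.mul_apply, swap_apply_of_ne_of_ne h2 (Ne.symm hj), swap_apply_right]

theorem tau_ai : tau a i j (a i) = a j := by
  obtain ⟨h3, h4⟩ := ne_aux haa hi hj h1 h2
  rw [tau, Perm.mul_apply, swap_apply_left, swap_apply_of_ne_of_ne h3 hj]

theorem tau_aj : tau a i j (a j) = a i := by
  obtain ⟨h3, h4⟩ := ne_aux haa hi hj h1 h2
  rw [tau, Perm.mul_apply, swap_apply_right, swap_apply_of_ne_of_ne hi (Ne.symm h2)]

theorem tau_sq : tau a i j * tau a i j = 1 := by
  ext p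
  rw [Perm.mul_apply, Perm.one_apply]
  by_cases p1 : p = i
  · subst p1; rw [tau_i haa hi hj h1 h2, tau_j haa hi hj h1 h2]
  by_cases p2 : p = j
  · subst p2; rw [tau_j haa hi hj h1 h2, tau_i haa hi hj h1 h2]
  by_cases p3 : p = a i
  · subst p3; rw [tau_ai haa hi hj h1 h2, tau_aj haa hi hj h1 h2]
  by_cases p4 : p = a j
  · subst p4; rw [tau_aj haa hi hj h1 h2, tau_ai haa hi hj h1 h2]
  rw [tau_of_ne p1 p2 p3 p4, tau_of_ne p1 p2 p3 p4]

theorem tau_comm : tau a i j * a = a * tau a i j := by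
  ext p
  rw [Perm.mul_apply, Perm.mul_apply]
  by_cases p1 : p = i
  · subst p1; rw [tau_i haa hi hj h1 h2, tau_ai haa hi hj h1 h2]
  by_cases p2 : p = j
  · subst p2; rw [tau_j haa hi hj h1 h2, tau_aj haa hi hj h1 h2]
  by_cases p3 : p = a i
  · subst p3; rw [tau_ai haa hi hj h1 h2, haa, haa, tau_i haa hi hj h1 h2]
  by_cases p4 : p = a j
  · subst p4; rw [tau_aj haa hi hj h1 h2, haa, haa, tau_j haa hi hj h1 h2]
  rw [tau_of_ne p1 p2 p3 p4, tau_of_ne]
  · intro h; exact p3 (by rw [← h, haa])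
  · intro h; exact p4 (by rw [← h, haa])
  · intro h; exact p1 (a.injective h)
  · intro h; exact p2 (a.injective h)

theorem tau_mem_alt {T : Finset α} (hT : ∀ x, x ∈ T → a x ∈ T) (iT : i ∈ T) (jT : j ∈ T) :
    tau a i j ∈ alt T := by
  obtain ⟨h3, h4⟩ := ne_aux haa hi hj h1 h2
  refine ⟨StdAlt.PermTypes.swap_mul_mem (Ne.symm h1) (Ne.symm h4), fun x hx => ?_⟩
  apply tau_of_ne
  · rintro rfl; exact hx iT
  · rintro rfl; exact hx jT
  · rintro rfl; exact hx (hT _ iT)
  · rintro rfl; exact hx (hT _ jT)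

end

/-- a third 2-cycle of `a` -/
theorem exists_third {a : Perm α} {T : Finset α} (h5 : 5 ≤ (T.filter fun x => a x ≠ x).card) (x y z w : α) :
    ∃ l ∈ T, a l ≠ l ∧ l ≠ x ∧ l ≠ y ∧ l ≠ z ∧ l ≠ w := by
  by_contra hcon
  push Not at hcon
  have h1 : (T.filter fun x => a x ≠ x) ⊆ {x, y, z, w} := by
    intro l hl
    rw [Finset.mem_filter] at hl
    simp only [Finset.mem_insert, Finset.mem_singleton]
    by_contra hn
    push Not at hn
    exact hn.2.2.2 (hcon l hl.1 hl.2 hn.1 hn.2.1 hn.2.2.1)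
  have h2 := Finset.card_le_card h1
  have h3 : ({x, y, z, w} : Finset α).card ≤ 4 := Finset.card_le_four
  omega

/-- **the permutation lemma** -/
theorem alt_lemma {a b : Perm α} {T : Finset α} (haa : ∀ x, a (a x) = x) (hab : a * b = b * a)
    (hbb : ∀ x, b (b x) = x) (haT : ∀ x, x ∈ T → a x ∈ T) (hbT : ∀ x, x ∈ T → b x ∈ T)
    (h5 : 5 ≤ (T.filter fun x => a x ≠ x).card)
    (h : ∀ i j, i ∈ T → j ∈ T → a i ≠ i → a j ≠ j → j ≠ i → j ≠ a i →
      (∀ p ∈ T, a p ≠ p → tau a i j (b (tau a i j p)) = b p) ∨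
      (∀ p ∈ T, a p ≠ p → tau a i j (b (tau a i j p)) = a (b p))) :
    (∀ p ∈ T, a p ≠ p → b p = p) ∨ (∀ p ∈ T, a p ≠ p → b p = a p) := by
  have hc : ∀ x, a (b x) = b (a x) := fun x => by rw [← Perm.mul_apply, hab, Perm.mul_apply]
  have hbm : ∀ x, a x ≠ x → a (b x) ≠ b x := by
    intro x hx h1
    rw [hc] at h1
    exact hx (b.injective h1)
  -- `b` preserves the 2-cycles of `a`
  have hblk : ∀ p ∈ T, a p ≠ p → b p = p ∨ b p = a p := by
    intro p pT hp
    by_contra hcon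
    push Not at hcon
    obtain ⟨n1, n2⟩ := hcon
    obtain ⟨i, iT, hi, i1, i2, i3, i4⟩ := exists_third h5 p (a p) (b p) (a (b p))
    have hbp := hbm p hp
    have hne := ne_aux haa hbp hi i3 i4
    have h6 : tau a (b p) i p = p := by
      apply tau_of_ne (Ne.symm n1) (Ne.symm i1)
      · intro h7
        have h8 := congrArg a h7
        rw [haa] at h8
        exact n2 h8.symm
      · intro h7
        have h8 := congrArg a h7
        rw [haa] at h8
        exact i2 h8.symm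
    have h7 : tau a (b p) i (b (tau a (b p) i p)) = i := by
      rw [h6, tau_i haa hbp hi i3 i4]
    rcases h (b p) i (hbT p pT) iT hbp hi i3 i4 with h8 | h8
    · have h9 := h8 p pT hp
      rw [h7] at h9
      exact i3 h9
    · have h9 := h8 p pT hp
      rw [h7] at h9
      exact i4 h9
  by_contra hcon
  push Not at hcon
  obtain ⟨⟨q, qT, hq, hbq⟩, ⟨p, pT, hp, hbp⟩⟩ := hcon
  have hbq' : b q = a q := (hblk q qT hq).resolve_left hbq
  have hbp' : b p = p := (hblk p pT hp).resolve_right hbp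
  have hqp : q ≠ p := by
    rintro rfl
    exact hbq hbp'
  have hqap : q ≠ a p := by
    rintro rfl
    apply hbq
    rw [← hc, hbp']
  obtain ⟨l, lT, hl, l1, l2, l3, l4⟩ := exists_third h5 p (a p) q (a q)
  have hfix : ∀ y, y ≠ p → y ≠ a p → y ≠ q → y ≠ a q → tau a p q y = y :=
    fun y h1 h2 h3 h4 => tau_of_ne h1 h3 h2 h4
  have hlb : tau a p q (b (tau a p q l)) = b l := by
    rw [hfix l l1 l2 l3 l4]
    rcases hblk l lT hl with h6 | h6
    · rw [h6, hfix l l1 l2 l3 l4]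
    · rw [h6]
      apply hfix
      · intro h7
        have h8 := congrArg a h7
        rw [haa] at h8
        exact l2 h8
      · intro h7; exact l1 (a.injective h7)
      · intro h7
        have h8 := congrArg a h7
        rw [haa] at h8
        exact l4 h8
      · intro h7; exact l3 (a.injective h7)
  have hpb : tau a p q (b (tau a p q p)) = a p := by
    rw [tau_i haa hp hq hqp hqap, hbq', tau_aj haa hp hq hqp hqap]
  rcases h p q pT qT hp hq hqp hqap with h8 | h8
  · have h9 := h8 p pT hp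
    rw [hpb, hbp'] at h9
    exact hp h9
  · have h9 := h8 l lT hl
    rw [hlb] at h9
    exact hbm l hl h9.symm

/-- `g` commutes with the even products of two 2-cycles of `a`: it preserves the 2-cycles of `a` -/
theorem blk_lemma {a g : Perm α} {T : Finset α} (haa : ∀ x, a (a x) = x)
    (h5 : 5 ≤ (T.filter fun x => a x ≠ x).card) (hga : g * a = a * g)
    (h : ∀ i j, i ∈ T → j ∈ T → a i ≠ i → a j ≠ j → j ≠ i → j ≠ a i →
      g * (swap i (a i) * swap j (a j)) = (swap i (a i) * swap j (a j)) * g) :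
    ∀ i ∈ T, a i ≠ i → g i = i ∨ g i = a i := by
  intro i iT hi
  by_contra hcon
  push Not at hcon
  obtain ⟨n1, n2⟩ := hcon
  -- `g i` lies in `{j, a j}` for every `j`
  have hc : ∀ x, g (a x) = a (g x) := fun x => by rw [← Perm.mul_apply, hga, Perm.mul_apply]
  have key : ∀ j, j ∈ T → a j ≠ j → j ≠ i → j ≠ a i → g i = j ∨ g i = a j := by
    intro j jT hj h1 h2
    by_contra hn
    push Not at hn
    have h3 := congrArg (fun f : Perm α => f i) (h i j iT jT hi hj h1 h2)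
    simp only [Perm.mul_apply] at h3
    obtain ⟨m1, m2⟩ := ne_aux haa hi hj h1 h2
    rw [swap_apply_of_ne_of_ne (Ne.symm h1) (Ne.symm m1), swap_apply_left,
      swap_apply_of_ne_of_ne hn.1 hn.2, swap_apply_of_ne_of_ne n1 n2] at h3
    exact hi (g.injective h3)
  obtain ⟨j, jT, hj, j1, j2, -, -⟩ := exists_third h5 i (a i) i (a i)
  obtain ⟨l, lT, hl, l1, l2, l3, l4⟩ := exists_third h5 i (a i) j (a j)
  obtain ⟨m1, m2⟩ := ne_aux haa hj hl l3 l4
  rcases key j jT hj j1 j2 with h6 | h6 <;> rcases key l lT hl l1 l2 with h7 | h7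
  · exact l3 (h7.symm.trans h6)
  · exact m1 (h7.symm.trans h6)
  · exact l4 (h7.symm.trans h6)
  · exact m2 (h7.symm.trans h6)

/-- an element of odd order preserving the 2-cycles of `a` fixes the points moved by `a` -/
theorem odd_lemma {a g : Perm α} {T : Finset α} (haa : ∀ x, a (a x) = x) (haT : ∀ x, x ∈ T → a x ∈ T)
    (hga : g * a = a * g) {n : ℕ} (hn : Odd n) (hgn : g ^ n = 1)
    (h : ∀ i ∈ T, a i ≠ i → g i = i ∨ g i = a i) : ∀ i ∈ T, a i ≠ i → g i = i := by
  intro i iT hi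
  refine (h i iT hi).resolve_right fun h1 => ?_
  have h2 : g (a i) = i := by
    rw [← Perm.mul_apply, hga, Perm.mul_apply, h1, haa]
  have h3 : ∀ k : ℕ, (g ^ (2 * k)) i = i := by
    intro k
    induction k with
    | zero => rw [mul_zero, pow_zero]; rfl
    | succ k ih =>
      rw [show 2 * (k + 1) = 2 * k + 1 + 1 by ring, pow_succ, pow_succ, Perm.mul_apply,
        Perm.mul_apply, h1, h2, ih]
  obtain ⟨k, rfl⟩ := hn
  have h4 := congrArg (fun f : Perm α => f i) hgn
  simp only [Perm.one_apply] at h4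
  rw [pow_succ', Perm.mul_apply, h3, h1] at h4
  exact hi h4

theorem ofSubtype_swap_coe {S : Finset α} (x y : S) :
    (ofSubtype (swap x y) : Perm α) = swap (x : α) y := ofSubtype_swap_eq x y

/-- a permutation of `S` of order at most two commutes with a root four-group of `alt S` -/
theorem exists_four_in {S : Finset α} (h6 : 6 ≤ S.card) {σ : Perm α} (hS : σ ∈ sym S) (hσ : σ * σ = 1) :
    ∃ x y z w : α, x ∈ S ∧ y ∈ S ∧ z ∈ S ∧ w ∈ S ∧ x ≠ y ∧ x ≠ z ∧ x ≠ w ∧ y ≠ z ∧ y ≠ w ∧ z ≠ w ∧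
      σ * (swap x y * swap z w) = (swap x y * swap z w) * σ ∧
      σ * (swap x z * swap y w) = (swap x z * swap y w) * σ := by
  obtain ⟨τ, hτ⟩ := (symEquiv S).surjective ⟨σ, hS⟩
  have h1 : σ = ofSubtype τ := by rw [← symEquiv_coe, hτ]
  have hτ2 : τ * τ = 1 := by
    apply (symEquiv S).injective
    rw [map_mul, hτ, map_one]
    exact Subtype.ext hσ
  obtain ⟨x, y, z, w, n1, n2, n3, n4, n5, n6, e1, e2⟩ :=
    StdAlt.Closing.exists_four (by rw [Fintype.card_coe]; exact h6) hτ2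
  have key : ∀ {a b c d : S}, τ * (swap a b * swap c d) = (swap a b * swap c d) * τ →
      σ * (swap (a : α) b * swap (c : α) d) = (swap (a : α) b * swap (c : α) d) * σ := by
    intro a b c d h
    have h2 := congrArg (ofSubtype (p := fun x => x ∈ S)) h
    rw [map_mul, map_mul, map_mul, map_mul, ofSubtype_swap_coe, ofSubtype_swap_coe, ← h1] at h2
    exact h2
  exact ⟨x, y, z, w, x.2, y.2, z.2, w.2, fun h => n1 (Subtype.ext h), fun h => n2 (Subtype.ext h),
    fun h => n3 (Subtype.ext h), fun h => n4 (Subtype.ext h), fun h => n5 (Subtype.ext h),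
    fun h => n6 (Subtype.ext h), key e1, key e2⟩

theorem isRoot_ofSubtype {S : Finset α} {τ : Perm S} (h : IsRoot (ofSubtype τ : Perm α)) : IsRoot τ := by
  refine ⟨ofSubtype_injective (by rw [map_mul, map_one]; exact h.1), ?_⟩
  have h2 := h.2
  rw [support_ofSubtype, Finset.card_map] at h2
  convert h2

/-- roots of `alt S` are conjugate in `alt S` -/
theorem exists_conj_in {S : Finset α} (h6 : 6 ≤ S.card) {a b : Perm α} (ha : a ∈ alt S) (hb : b ∈ alt S)
    (ra : IsRoot a) (rb : IsRoot b) : ∃ c ∈ alt S, c * a * c⁻¹ = b := by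
  obtain ⟨a', ha'⟩ := (altEquiv S).surjective ⟨a, ha⟩
  obtain ⟨b', hb'⟩ := (altEquiv S).surjective ⟨b, hb⟩
  have h1 : a = ofSubtype (a' : Perm S) := by rw [← altEquiv_coe, ha']
  have h2 : b = ofSubtype (b' : Perm S) := by rw [← altEquiv_coe, hb']
  obtain ⟨c, hc⟩ := StdAlt.Closing.isConj_roots (by rw [Fintype.card_coe]; exact h6)
    (isRoot_ofSubtype (h1 ▸ ra)) (isRoot_ofSubtype (h2 ▸ rb))
  refine ⟨(altEquiv S c : alt S), (altEquiv S c).2, ?_⟩
  have h3 := congrArg (fun x => ((altEquiv S x : alt S) : Perm α)) hc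
  simp only [map_mul, map_inv, ha', hb'] at h3
  exact h3

/-- involutions of `alt F`, `|F| ≤ 7`, are roots -/
theorem isRoot_of_small {F : Finset α} (h7 : F.card ≤ 7) {σ : Perm α} (hF : σ ∈ alt F) (hσ : σ * σ = 1)
    (h1 : σ ≠ 1) : IsRoot σ := by
  refine ⟨hσ, ?_⟩
  have h2 : σ ^ 2 = 1 := by rw [pow_two]; exact hσ
  have h3 : ∀ c ∈ σ.cycleType, c = 2 := pow_prime_eq_one_iff.mp h2
  have h4 : σ.cycleType = Multiset.replicate (Multiset.card σ.cycleType) 2 :=
    Multiset.eq_replicate_card.mpr h3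
  have h5 := sum_cycleType σ
  rw [h4, Multiset.sum_replicate, smul_eq_mul] at h5
  have h6 : σ.support.card ≤ F.card := by
    apply Finset.card_le_card
    intro x hx
    by_contra hxF
    exact (mem_support.mp hx) (hF.2 x hxF)
  have h8 := sign_of_cycleType σ
  rw [mem_alternatingGroup.mp hF.1, h4, Multiset.sum_replicate, smul_eq_mul, Multiset.card_replicate] at h8
  have h9 : Multiset.card σ.cycleType ≠ 0 := by
    intro h0
    apply h1
    rw [← cycleType_eq_zero]
    exact Multiset.card_eq_zero.mp h0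
  set k := Multiset.card σ.cycleType with hk
  have hk3 : k ≤ 3 := by omega
  interval_cases k
  · exact absurd rfl h9
  · norm_num at h8
  · omega
  · norm_num at h8

/-- conjugates of `(x z)(y w)` under the centralizer of `(x y)(z w)` -/
theorem conj_four {x y z w : α} (n1 : x ≠ y) (n2 : x ≠ z) (n3 : x ≠ w) (n4 : y ≠ z) (n5 : y ≠ w) (n6 : z ≠ w)
    {g : Perm α} (hg : g * (swap x y * swap z w) = (swap x y * swap z w) * g) :
    g * (swap x z * swap y w) * g⁻¹ = swap x z * swap y w ∨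
    g * (swap x z * swap y w) * g⁻¹ = (swap x y * swap z w) * (swap x z * swap y w) := by
  set A := swap x y * swap z w with hA
  have ax : A x = y := by rw [hA, Perm.mul_apply, swap_apply_of_ne_of_ne n2 n3, swap_apply_left]
  have ay : A y = x := by rw [hA, Perm.mul_apply, swap_apply_of_ne_of_ne n4 n5, swap_apply_right]
  have az : A z = w := by
    rw [hA, Perm.mul_apply, swap_apply_left, swap_apply_of_ne_of_ne (Ne.symm n3) (Ne.symm n5)]
  have aw : A w = z := by
    rw [hA, Perm.mul_apply, swap_apply_right, swap_apply_of_ne_of_ne (Ne.symm n2) (Ne.symm n4)]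
  have ao : ∀ p, p ≠ x → p ≠ y → p ≠ z → p ≠ w → A p = p := by
    intro p p1 p2 p3 p4
    rw [hA, Perm.mul_apply, swap_apply_of_ne_of_ne p3 p4, swap_apply_of_ne_of_ne p1 p2]
  set C := swap x z * swap y w with hC
  have cx : C x = z := by rw [hC, Perm.mul_apply, swap_apply_of_ne_of_ne n1 n3, swap_apply_left]
  have cz : C z = x := by
    rw [hC, Perm.mul_apply, swap_apply_of_ne_of_ne (Ne.symm n4) n6, swap_apply_right]
  have cy : C y = w := by
    rw [hC, Perm.mul_apply, swap_apply_left, swap_apply_of_ne_of_ne (Ne.symm n3) (Ne.symm n6)]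
  have cw : C w = y := by
    rw [hC, Perm.mul_apply, swap_apply_right, swap_apply_of_ne_of_ne (Ne.symm n1) n4]
  have co : ∀ p, p ≠ x → p ≠ y → p ≠ z → p ≠ w → C p = p := by
    intro p p1 p2 p3 p4
    rw [hC, Perm.mul_apply, swap_apply_of_ne_of_ne p2 p4, swap_apply_of_ne_of_ne p1 p3]
  have hgA : ∀ p, g (A p) = A (g p) := fun p => by rw [← Perm.mul_apply, hg, Perm.mul_apply]
  have hcl : ∀ p, A p ≠ p → g p = x ∨ g p = y ∨ g p = z ∨ g p = w := by
    intro p hp
    by_contra hcon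
    push Not at hcon
    have h1 := ao _ hcon.1 hcon.2.1 hcon.2.2.1 hcon.2.2.2
    rw [← hgA] at h1
    exact hp (g.injective h1)
  have hx := hcl x (by rw [ax]; exact Ne.symm n1)
  have hz := hcl z (by rw [az]; exact Ne.symm n6)
  have hy : g y = A (g x) := by rw [← hgA, ax]
  have hw : g w = A (g z) := by rw [← hgA, az]
  have i1 : g x ≠ g z := fun h => n2 (g.injective h)
  have i2 : g y ≠ g z := fun h => n4 (g.injective h)
  -- equality of permutations through their values at the images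
  have hout : ∀ p, p ≠ g x → p ≠ g y → p ≠ g z → p ≠ g w → (g * C * g⁻¹) p = p := by
    intro p p1 p2 p3 p4
    rw [Perm.mul_apply, Perm.mul_apply, co]
    · simp
    all_goals
      intro h
      have h' : p = g (g⁻¹ p) := by simp
      rw [h] at h'
      first
        | exact p1 h'
        | exact p2 h'
        | exact p3 h'
        | exact p4 h'
  have v1 : (g * C * g⁻¹) (g x) = g z := by simp [Perm.mul_apply, cx]
  have v2 : (g * C * g⁻¹) (g y) = g w := by simp [Perm.mul_apply, cy]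
  have v3 : (g * C * g⁻¹) (g z) = g x := by simp [Perm.mul_apply, cz]
  have v4 : (g * C * g⁻¹) (g w) = g y := by simp [Perm.mul_apply, cw]
  have hext : ∀ D : Perm α, D (g x) = g z → D (g y) = g w → D (g z) = g x → D (g w) = g y →
      (∀ p, p ≠ g x → p ≠ g y → p ≠ g z → p ≠ g w → D p = p) → g * C * g⁻¹ = D := by
    intro D d1 d2 d3 d4 d5
    ext p
    by_cases p1 : p = g x
    · rw [p1, v1, d1]
    by_cases p2 : p = g y
    · rw [p2, v2, d2]
    by_cases p3 : p = g z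
    · rw [p3, v3, d3]
    by_cases p4 : p = g w
    · rw [p4, v4, d4]
    rw [hout p p1 p2 p3 p4, d5 p p1 p2 p3 p4]
  have fin : ∀ X Y Z W : α, g x = X → g y = Y → g z = Z → g w = W →
      ((X = x ∧ Y = y ∧ Z = z ∧ W = w) ∨ (X = y ∧ Y = x ∧ Z = w ∧ W = z) ∨
        (X = z ∧ Y = w ∧ Z = x ∧ W = y) ∨ (X = w ∧ Y = z ∧ Z = y ∧ W = x)) ∨
      ((X = x ∧ Y = y ∧ Z = w ∧ W = z) ∨ (X = y ∧ Y = x ∧ Z = z ∧ W = w) ∨
        (X = z ∧ Y = w ∧ Z = y ∧ W = x) ∨ (X = w ∧ Y = z ∧ Z = x ∧ W = y)) →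
      g * C * g⁻¹ = C ∨ g * C * g⁻¹ = A * C := by
    intro X Y Z W e1 e2 e3 e4 h
    rw [e1, e2, e3, e4] at hext
    rcases h with h | h
    · left
      apply hext C
      · rcases h with ⟨rfl, rfl, rfl, rfl⟩ | ⟨rfl, rfl, rfl, rfl⟩ | ⟨rfl, rfl, rfl, rfl⟩ | ⟨rfl, rfl, rfl, rfl⟩ <;>
          assumption
      · rcases h with ⟨rfl, rfl, rfl, rfl⟩ | ⟨rfl, rfl, rfl, rfl⟩ | ⟨rfl, rfl, rfl, rfl⟩ | ⟨rfl, rfl, rfl, rfl⟩ <;>
          assumption
      · rcases h with ⟨rfl, rfl, rfl, rfl⟩ | ⟨rfl, rfl, rfl, rfl⟩ | ⟨rfl, rfl, rfl, rfl⟩ | ⟨rfl, rfl, rfl, rfl⟩ <;>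
          assumption
      · rcases h with ⟨rfl, rfl, rfl, rfl⟩ | ⟨rfl, rfl, rfl, rfl⟩ | ⟨rfl, rfl, rfl, rfl⟩ | ⟨rfl, rfl, rfl, rfl⟩ <;>
          assumption
      · intro p p1 p2 p3 p4
        rcases h with ⟨rfl, rfl, rfl, rfl⟩ | ⟨rfl, rfl, rfl, rfl⟩ | ⟨rfl, rfl, rfl, rfl⟩ | ⟨rfl, rfl, rfl, rfl⟩ <;>
          exact co p (by assumption) (by assumption) (by assumption) (by assumption)
    · right
      apply hext (A * C)
      · rw [Perm.mul_apply]
        rcases h with ⟨rfl, rfl, rfl, rfl⟩ | ⟨rfl, rfl, rfl, rfl⟩ | ⟨rfl, rfl, rfl, rfl⟩ | ⟨rfl, rfl, rfl, rfl⟩ <;>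
          first | rw [cx, az] | rw [cy, aw] | rw [cz, ax] | rw [cw, ay]
      · rw [Perm.mul_apply]
        rcases h with ⟨rfl, rfl, rfl, rfl⟩ | ⟨rfl, rfl, rfl, rfl⟩ | ⟨rfl, rfl, rfl, rfl⟩ | ⟨rfl, rfl, rfl, rfl⟩ <;>
          first | rw [cx, az] | rw [cy, aw] | rw [cz, ax] | rw [cw, ay]
      · rw [Perm.mul_apply]
        rcases h with ⟨rfl, rfl, rfl, rfl⟩ | ⟨rfl, rfl, rfl, rfl⟩ | ⟨rfl, rfl, rfl, rfl⟩ | ⟨rfl, rfl, rfl, rfl⟩ <;>
          first | rw [cx, az] | rw [cy, aw] | rw [cz, ax] | rw [cw, ay]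
      · rw [Perm.mul_apply]
        rcases h with ⟨rfl, rfl, rfl, rfl⟩ | ⟨rfl, rfl, rfl, rfl⟩ | ⟨rfl, rfl, rfl, rfl⟩ | ⟨rfl, rfl, rfl, rfl⟩ <;>
          first | rw [cx, az] | rw [cy, aw] | rw [cz, ax] | rw [cw, ay]
      · intro p p1 p2 p3 p4
        rw [Perm.mul_apply]
        rcases h with ⟨rfl, rfl, rfl, rfl⟩ | ⟨rfl, rfl, rfl, rfl⟩ | ⟨rfl, rfl, rfl, rfl⟩ | ⟨rfl, rfl, rfl, rfl⟩ <;>
          rw [co p (by assumption) (by assumption) (by assumption) (by assumption),
            ao p (by assumption) (by assumption) (by assumption) (by assumption)]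
  rcases hx with hx | hx | hx | hx
  · have hy' : g y = y := by rw [hy, hx, ax]
    rcases hz with hz | hz | hz | hz
    · exact absurd (hx.trans hz.symm) i1
    · exact absurd (hy'.trans hz.symm) i2
    · exact fin _ _ _ _ hx hy' hz (by rw [hw, hz, az]) (Or.inl (Or.inl ⟨rfl, rfl, rfl, rfl⟩))
    · exact fin _ _ _ _ hx hy' hz (by rw [hw, hz, aw]) (Or.inr (Or.inl ⟨rfl, rfl, rfl, rfl⟩))
  · have hy' : g y = x := by rw [hy, hx, ay]
    rcases hz with hz | hz | hz | hz
    · exact absurd (hy'.trans hz.symm) i2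
    · exact absurd (hx.trans hz.symm) i1
    · exact fin _ _ _ _ hx hy' hz (by rw [hw, hz, az]) (Or.inr (Or.inr (Or.inl ⟨rfl, rfl, rfl, rfl⟩)))
    · exact fin _ _ _ _ hx hy' hz (by rw [hw, hz, aw]) (Or.inl (Or.inr (Or.inl ⟨rfl, rfl, rfl, rfl⟩)))
  · have hy' : g y = w := by rw [hy, hx, az]
    rcases hz with hz | hz | hz | hz
    · exact fin _ _ _ _ hx hy' hz (by rw [hw, hz, ax]) (Or.inl (Or.inr (Or.inr (Or.inl ⟨rfl, rfl, rfl, rfl⟩))))
    · exact fin _ _ _ _ hx hy' hz (by rw [hw, hz, ay]) (Or.inr (Or.inr (Or.inr (Or.inl ⟨rfl, rfl, rfl, rfl⟩))))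
    · exact absurd (hx.trans hz.symm) i1
    · exact absurd (hy'.trans hz.symm) i2
  · have hy' : g y = z := by rw [hy, hx, aw]
    rcases hz with hz | hz | hz | hz
    · exact fin _ _ _ _ hx hy' hz (by rw [hw, hz, ax]) (Or.inr (Or.inr (Or.inr (Or.inr ⟨rfl, rfl, rfl, rfl⟩))))
    · exact fin _ _ _ _ hx hy' hz (by rw [hw, hz, ay]) (Or.inl (Or.inr (Or.inr (Or.inr ⟨rfl, rfl, rfl, rfl⟩))))
    · exact absurd (hy'.trans hz.symm) i2
    · exact absurd (hx.trans hz.symm) i1

end Cfsg.Agent.UAlt.PermPK
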