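import Cfsg.Agent.UAlt.Bij

/-!
# Homomorphisms of alternating 2-components into small groups are trivial
-/

set_option autoImplicit false
set_option linter.unusedSectionVars false

namespace Cfsg.Agent.UAlt

open Cfsg Equiv Equiv.Perm Subgroup
open Cfsg.Agent.Intrinsic.Basic Cfsg.Agent.Intrinsic
open Cfsg.Agent.SignalizersComponents Cfsg.Agent.Lib
open Cfsg.Agent.SignalizersComponents.IntrinsicBasic
open scoped commutatorElement

variable {G : Type*} [Group G] [Finite G] {α : Type*} [Fintype α] [DecidableEq α]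
  {D : Subgroup G} {S : Finset α}

/-- if `D = O^{2'}(D)` and the kernel of `f` covers `D / O(D)`, then `f` is trivial -/
theorem Mod.hom_eq_one_of_cover (M : Mod D S) (hD : PComponents.pElem 2 D = D) {H : Type*} [Group H]
    (f : ↥D →* H) (hf : ∀ σ ∈ alt S, ∃ x : ↥D, f x = 1 ∧ M.φ x = σ) (x : ↥D) : f x = 1 := by
  have key : D ≤ f.ker.map D.subtype := by
    refine hD.ge.trans ((Subgroup.closure_le _).mpr ?_)
    rintro y ⟨hy, n, hn⟩
    obtain ⟨k, hk, hky⟩ := hf (M.φ y) (M.mem_alt y hy)
    have h1 : (k : G)⁻¹ * y ∈ core D := (M.eq_iff k.2 hy).mp hky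
    have h2 : k⁻¹ * (⟨y, hy⟩ : ↥D) ∈ oddCore ↥D := by
      have h3 := (mem_core_iff (mul_mem (inv_mem k.2) hy)).mp h1
      exact h3
    refine ⟨⟨y, hy⟩, ?_, rfl⟩
    show (⟨y, hy⟩ : ↥D) ∈ f.ker
    rw [MonoidHom.mem_ker]
    have h3 : f ⟨y, hy⟩ = f (k⁻¹ * ⟨y, hy⟩) := by
      rw [map_mul, map_inv, hk, inv_one, one_mul]
    -- the right hand side has odd order
    have h4 : Odd (orderOf (k⁻¹ * (⟨y, hy⟩ : ↥D))) := by
      have h5 : Odd (Nat.card (oddCore ↥D)) := by
        have h6 := odd_card_core D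
        rwa [core, Subgroup.card_map_of_injective D.subtype_injective] at h6
      exact Odd.of_dvd_nat h5 (Subgroup.orderOf_dvd_natCard _ h2)
    have h5 : orderOf (f ⟨y, hy⟩) ∣ orderOf (k⁻¹ * (⟨y, hy⟩ : ↥D)) := by
      rw [h3]; exact orderOf_map_dvd f _
    have h6 : orderOf (f ⟨y, hy⟩) ∣ 2 ^ n := by
      apply orderOf_dvd_of_pow_eq_one
      rw [← map_pow]
      have : (⟨y, hy⟩ : ↥D) ^ 2 ^ n = 1 := Subtype.ext hn
      rw [this, map_one]
    have h7 : Nat.Coprime (2 ^ n) (orderOf (k⁻¹ * (⟨y, hy⟩ : ↥D))) :=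
      Nat.Coprime.pow_left n h4.coprime_two_left
    exact orderOf_eq_one_iff.mp (Nat.eq_one_of_dvd_coprimes h7 h6 h5)
  obtain ⟨y, hy, hyx⟩ := key x.2
  have : y = x := Subtype.ext hyx
  rw [← this]
  exact hy

/-- **(f4)** homomorphisms of `D`, `D / O(D) ≅ Alt(S)`, into smaller groups are trivial -/
theorem Mod.hom_eq_one (M : Mod D S) (hD : PComponents.pElem 2 D = D) {H : Type*} [Group H]
    [Finite H] (f : ↥D →* H) (hH : Nat.card H < Nat.card (alt S)) (x : ↥D) : f x = 1 := by
  have hsim := isSimpleGroup_alt M.five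
  have hn : (f.ker.map M.homK).Normal := (inferInstance : f.ker.Normal).map _ M.homK_surjective
  rcases hsim.eq_bot_or_eq_top_of_normal _ hn with h | h
  · exfalso
    have h1 : f.ker ≤ M.homK.ker := (Subgroup.map_eq_bot_iff _).mp h
    have h2 : Nat.card (alt S) ≤ Nat.card H := by
      have h3 : Nat.card (↥D ⧸ M.homK.ker) = Nat.card (alt S) := Nat.card_congr
        (QuotientGroup.quotientKerEquivOfSurjective _ M.homK_surjective).toEquiv
      have h4 : Nat.card (↥D ⧸ f.ker) ≤ Nat.card H := by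
        rw [Nat.card_congr (QuotientGroup.quotientKerEquivRange f).toEquiv]
        exact Subgroup.card_le_card_group _
      have h5 : Nat.card (↥D ⧸ M.homK.ker) ≤ Nat.card (↥D ⧸ f.ker) := by
        have h6 : M.homK.ker.index ∣ f.ker.index := Subgroup.index_dvd_of_le h1
        exact Nat.le_of_dvd (Nat.pos_of_ne_zero f.ker.index_ne_zero_of_finite) h6
      omega
    omega
  · refine M.hom_eq_one_of_cover hD f (fun σ hσ => ?_) x
    have h1 : (⟨σ, hσ⟩ : alt S) ∈ f.ker.map M.homK := by rw [h]; trivial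
    obtain ⟨y, hy, hyσ⟩ := h1
    exact ⟨y, hy, congrArg Subtype.val hyσ⟩

/-- no nontrivial action on fewer points -/
theorem Mod.hom_perm_eq_one (M : Mod D S) (hD : PComponents.pElem 2 D = D) {β : Type*} [Fintype β]
    [DecidableEq β] (hβ : Fintype.card β < S.card) (f : ↥D →* Perm β) (x : ↥D) : f x = 1 := by
  apply M.hom_eq_one hD f
  rw [Nat.card_perm, Nat.card_eq_fintype_card]
  have h5 := M.five
  have h1 := card_alt (S := S) (by omega)
  have h2 : (Fintype.card β).factorial ≤ (S.card - 1).factorial := Nat.factorial_le (by omega)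
  have h3 : S.card.factorial = S.card * (S.card - 1).factorial := by
    rw [← Nat.mul_factorial_pred (by omega : S.card ≠ 0)]
  have h4 : 0 < (S.card - 1).factorial := Nat.factorial_pos _
  rw [h3] at h1
  nlinarith

/-- an action on `S'`, `|S'| ≤ |S|`, preserving a nonempty proper subset is trivial -/
theorem Mod.hom_sym_eq_one (M : Mod D S) (hD : PComponents.pElem 2 D = D) {β : Type*} [Fintype β]
    [DecidableEq β] {S' T : Finset β} (hS' : S'.card ≤ S.card) (hTS : T ⊆ S') (hT : T.Nonempty)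
    (hT' : T ≠ S') (f : ↥D →* Perm β) (hf : ∀ x, f x ∈ sym S') (hfT : ∀ x, ∀ y ∈ T, f x y ∈ T)
    (x : ↥D) : f x = 1 := by
  have hTcard : T.card < S'.card := Finset.card_lt_card (Finset.ssubset_iff_subset_ne.mpr ⟨hTS, hT'⟩)
  have hTpos : 0 < T.card := Finset.card_pos.mpr hT
  have hmem : ∀ x y, f x y ∈ T ↔ y ∈ T := by
    intro x y
    refine ⟨fun h => ?_, hfT x y⟩
    have := hfT x⁻¹ _ h
    simpa using this
  have hS'' : ∀ x y, f x y ∈ S' ↔ y ∈ S' := fun x y => mem_iff_of_mem_sym (hf x)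
  -- the action on `T`
  let f₁ : ↥D →* Perm T :=
    { toFun := fun x => (f x).subtypePerm (p := fun y => y ∈ T) (fun y => hmem x y)
      map_one' := by
        apply Equiv.ext
        intro y
        apply Subtype.ext
        show f 1 (y : β) = y
        rw [map_one]; rfl
      map_mul' := fun x x' => by
        apply Equiv.ext
        intro y
        apply Subtype.ext
        show f (x * x') (y : β) = f x (f x' y)
        rw [map_mul]; rfl }
  let f₂ : ↥D →* Perm ↥(S' \ T) :=
    { toFun := fun x => (f x).subtypePerm (p := fun y => y ∈ S' \ T) (fun y => by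
        rw [Finset.mem_sdiff, Finset.mem_sdiff, hmem, hS''])
      map_one' := by
        apply Equiv.ext
        intro y
        apply Subtype.ext
        show f 1 (y : β) = y
        rw [map_one]; rfl
      map_mul' := fun x x' => by
        apply Equiv.ext
        intro y
        apply Subtype.ext
        show f (x * x') (y : β) = f x (f x' y)
        rw [map_mul]; rfl }
  have h1 : f₁ x = 1 := M.hom_perm_eq_one hD (by rw [Fintype.card_coe]; omega) f₁ x
  have h2 : f₂ x = 1 := M.hom_perm_eq_one hD (by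
    rw [Fintype.card_coe, Finset.card_sdiff_of_subset hTS]; omega) f₂ x
  ext y
  by_cases hy : y ∈ S'
  · by_cases hy' : y ∈ T
    · have := congrArg (fun g : Perm T => ((g ⟨y, hy'⟩ : T) : β)) h1
      exact this
    · have := congrArg (fun g : Perm ↥(S' \ T) =>
        ((g ⟨y, Finset.mem_sdiff.mpr ⟨hy, hy'⟩⟩ : ↥(S' \ T)) : β)) h2
      exact this
  · exact hf x y hy

/-- **(f4')** an action on `S'`, `|S'| ≤ |S|`, commuting with a permutation `τ ≠ 1` of `S'` which has a fixed
point in `S'` is trivial -/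
theorem Mod.hom_eq_one_of_comm (M : Mod D S) (hD : PComponents.pElem 2 D = D) {β : Type*}
    [Fintype β] [DecidableEq β] {S' : Finset β} (hS' : S'.card ≤ S.card) {τ : Perm β}
    (hτ : τ ∈ sym S') (hτ1 : τ ≠ 1) (hfix : (fixIn S' τ).Nonempty) (f : ↥D →* Perm β)
    (hf : ∀ x, f x ∈ sym S') (hc : ∀ x, f x * τ = τ * f x) (x : ↥D) : f x = 1 := by
  refine M.hom_sym_eq_one hD hS' (fixIn_subset S' τ) hfix ?_ f hf (fun x y hy => ?_) x
  · intro h
    apply hτ1
    ext y
    by_cases hy : y ∈ S'
    · rw [← h] at hy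
      exact (mem_fixIn.mp hy).2
    · exact hτ y hy
  · exact (apply_mem_fixIn (fun y => mem_iff_of_mem_sym (hf x)) (hc x)).mpr hy

end Cfsg.Agent.UAlt
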