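import Cfsg.Agent.UAlt.PKDef
import Cfsg.Agent.UAlt.PermPK
import Cfsg.Agent.UAlt.SmallHom
import Cfsg.Agent.UAlt.Root

/-!
# Section (9): basic facts about roots; Claim T

* `card_fixIn`, `rt_conj`, `rt_cj`, `exists_conj_root`;
* `pk_cj`: the conjugates of a package;
* `cent_le_cmp`: `C(u) ≤ N(K_u)`;
* `claim_T`: `u` a root of `B` trivial on `B'`, `t ∈ B'` an involution commuting with `u`: `t` is trivial on `B`.
-/

set_option autoImplicit false
set_option linter.unusedSectionVars false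

namespace Cfsg.Agent.UAlt.Nine

open Cfsg Equiv Equiv.Perm Subgroup
open Cfsg.Agent.Intrinsic.Basic Cfsg.Agent.Intrinsic Cfsg.Agent.Intrinsic.Diag
open Cfsg.Agent.SignalizersComponents Cfsg.Agent.Lib
open Cfsg.Agent.SignalizersComponents.IntrinsicBasic
open Cfsg.Agent.StdAlt.Roots (IsRoot)
open Cfsg.Agent.UAlt Cfsg.Agent.UAlt.PermPK
open scoped commutatorElement

variable {G : Type*} [Group G] {α : Type*} [Fintype α] [DecidableEq α]
variable {B B' : Subgroup G} {S S' : Finset α} {M : Mod B S} {M' : Mod B' S'}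

theorem root_ne_one {σ : Perm α} (h : IsRoot σ) : σ ≠ 1 := by
  rintro rfl
  have := h.2
  simp at this

theorem card_fixIn {σ : Perm α} (hS : σ ∈ sym S) (h : IsRoot σ) : (fixIn S σ).card + 4 = S.card := by
  have h1 : fixIn S σ = S \ σ.support := by
    ext x
    rw [mem_fixIn, Finset.mem_sdiff, mem_support, not_not]
  have h2 : σ.support ⊆ S := by
    intro x hx
    by_contra hn
    exact mem_support.mp hx (hS x hn)
  rw [h1, Finset.card_sdiff_of_subset h2, h.2]
  have := Finset.card_le_card h2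
  rw [h.2] at this
  omega

theorem pow21 {u : G} (h : u * u = 1) : u ^ 2 ^ 1 = 1 := by rw [pow_one, pow_two]; exact h

theorem comm_inv {u v : G} (h : u * v = v * u) : u * v⁻¹ = v⁻¹ * u := by
  rw [eq_inv_mul_iff_mul_eq, ← mul_assoc, ← h, mul_inv_cancel_right]

theorem mem_cent {u v : G} : v ∈ centralizer ({u} : Set G) ↔ v * u = u * v :=
  mem_centralizer_singleton_iff

theorem rt_norm {u : G} (h : M.Rt u) : u ∈ normalizer (B : Set G) := le_normalizer h.1

theorem rt_ne_one {u : G} (h : M.Rt u) : u ≠ 1 := by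
  rintro rfl
  exact root_ne_one h.2.2 M.one

theorem rt_order {u : G} (h : M.Rt u) : orderOf u = 2 :=
  orderOf_eq_prime (by rw [pow_two]; exact h.2.1) (rt_ne_one h)

theorem rt_mem_alt {u : G} (h : M.Rt u) : M.φ u ∈ alt S := M.mem_alt _ h.1

theorem rt_conj {u g : G} (h : M.Rt u) (hg : g ∈ normalizer (B : Set G)) : M.Rt (g * u * g⁻¹) := by
  refine ⟨(mem_normalizer_iff.mp hg u).mp h.1, ?_, ?_⟩
  · rw [show g * u * g⁻¹ * (g * u * g⁻¹) = g * (u * u) * g⁻¹ by group, h.2.1]; group
  · rw [M.conj hg (le_normalizer h.1)]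
    exact h.2.2.conj _

theorem rt_cj {u : G} (h : M.Rt u) (g : G) : (M.cj g).Rt (g * u * g⁻¹) := by
  refine ⟨conj_mem_cj h.1, ?_, ?_⟩
  · rw [show g * u * g⁻¹ * (g * u * g⁻¹) = g * (u * u) * g⁻¹ by group, h.2.1]; group
  · rw [Mod.cj_φ, show g⁻¹ * (g * u * g⁻¹) * g = u by group]
    exact h.2.2

theorem rt_of_cj {v g : G} (h : (M.cj g).Rt v) : M.Rt (g⁻¹ * v * g) := by
  refine ⟨mem_cj.mp h.1, ?_, h.2.2⟩
  rw [show g⁻¹ * v * g * (g⁻¹ * v * g) = g⁻¹ * (v * v) * g by group, h.2.1]; group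

theorem rt_core {u v : G} (h : M.Rt u) (hv : v ∈ B) (hvv : v * v = 1) (hc : u⁻¹ * v ∈ core B) : M.Rt v := by
  refine ⟨hv, hvv, ?_⟩
  rw [← (M.eq_iff h.1 hv).mpr hc]
  exact h.2.2

section finite

variable [Finite G]

/-- roots are conjugate in `B` -/
theorem exists_conj_root (h6 : 6 ≤ S.card) {u v : G} (hu : M.Rt u) (hv : M.Rt v) :
    ∃ b ∈ B, b * u * b⁻¹ = v := by
  obtain ⟨c, hc, h1⟩ := exists_conj_in h6 (rt_mem_alt hu) (rt_mem_alt hv) hu.2.2 hv.2.2
  obtain ⟨k, hk, rfl⟩ := M.lift c hc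
  have hkN := le_normalizer (H := B) hk
  have h2 : M.Rt (k * u * k⁻¹) := rt_conj hu hkN
  have h3 : M.φ (k * u * k⁻¹) = M.φ v := by rw [M.conj hkN (rt_norm hu)]; exact h1
  have h4 := (M.eq_iff h2.1 hv.1).mp h3
  obtain ⟨o, ho, h5⟩ := Lifting.exists_conj_eq (odd_card_core B) (pow21 h2.2.1) (pow21 hv.2.1)
    (normalizer_le_normalizer_core B (rt_norm h2)) h4
  refine ⟨o * k, mul_mem (core_le B ho) hk, ?_⟩
  rw [← h5]; group

/-- roots of a given label -/
theorem exists_rt {t : G} (ht : t ∈ normalizer (B : Set G)) (htt : t * t = 1) {σ : Perm α}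
    (hσ : σ ∈ alt S) (hr : IsRoot σ) (hc : M.φ t * σ = σ * M.φ t) :
    ∃ v, M.Rt v ∧ t * v = v * t ∧ M.φ v = σ := by
  obtain ⟨k, hk, hkk, htk, h⟩ := M.exists_inv_lift ht (pow21 htt) hσ hr.1 hc
  exact ⟨k, ⟨hk, hkk, by rw [h]; exact hr⟩, htk, h⟩

/-- conjugates of a package -/
theorem pk_cj (P : PKE M) (g : G) : PKE (M.cj g) where
  h9 := P.h9
  cent := by
    intro v hv x hx
    have h1 := rt_of_cj hv
    have h2 : g⁻¹ * x * g ∈ centralizer ({g⁻¹ * v * g} : Set G) := by
      rw [mem_cent] at hx ⊢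
      rw [show g⁻¹ * x * g * (g⁻¹ * v * g) = g⁻¹ * (x * v) * g by group, hx]; group
    have h3 := mem_normalizer_iff_cj.mp (P.cent _ h1 h2)
    rw [mem_normalizer_iff_cj]
    calc cj x (cj g B) = cj g (cj (g⁻¹ * x * g) B) := by
          rw [← IntrinsicBasic.cj_mul, ← IntrinsicBasic.cj_mul]; congr 1; group
      _ = cj g B := by rw [h3]
  core := by
    intro v hv
    have h1 := P.core _ (rt_of_cj hv)
    have h2 := congrArg (cj g) h1
    rw [cj_inf, ← core_cj, ← core_cj, cj_centralizer] at h2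
    rw [show g * (g⁻¹ * v * g) * g⁻¹ = v by group] at h2
    exact h2
  comp := by
    intro v hv
    have hu := rt_of_cj hv
    have h1 := (P.comp _ hu).cj g
    rw [cj_centralizer, show g * (g⁻¹ * v * g) * g⁻¹ = v by group] at h1
    have h2 : cj g (M.cmp (g⁻¹ * v * g)) ≤ cj g B := cj_mono (M.cmp_le _)
    have h3 := h1.restrict (M := cj g B ⊓ centralizer ({v} : Set G)) inf_le_right
      (le_inf h2 h1.le)
    have h4 := ((M.cj g).isComp_iff_cmp (le_normalizer hv.1) hv.2.1).mp h3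
    rw [← h4.1]
    exact h1

/-- `C(u)` normalizes `K_u` -/
theorem cent_le_cmp (P : PKE M) {u : G} (hu : M.Rt u) :
    centralizer ({u} : Set G) ≤ normalizer (M.cmp u : Set G) := by
  intro x hx
  have h1 := isComp_cj_of_mem (P.comp u hu) hx
  have h2 : cj x (M.cmp u) ≤ B := by
    have h3 : cj x B = B := mem_normalizer_iff_cj.mp (P.cent u hu hx)
    calc cj x (M.cmp u) ≤ cj x B := cj_mono (M.cmp_le _)
      _ = B := h3
  have h3 := h1.restrict (M := B ⊓ centralizer ({u} : Set G)) inf_le_right (le_inf h2 h1.le)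
  exact mem_normalizer_iff_cj.mpr ((M.isComp_iff_cmp (rt_norm hu) hu.2.1).mp h3).1

theorem fixIn_one (T : Finset α) : fixIn T (1 : Perm α) = T := by
  ext x
  rw [mem_fixIn]
  exact ⟨fun h => h.1, fun h => ⟨h, rfl⟩⟩

/-- **Claim T** -/
theorem claim_T (h7 : 7 ≤ S'.card) (hS : S.card ≤ S'.card) (h5 : 5 ≤ S.card) {u : G} (hu : M.Rt u)
    (hcent : centralizer ({u} : Set G) ≤ normalizer (B : Set G))
    (huB : u ∈ normalizer (B' : Set G)) (hu' : M'.φ u = 1) {t : G} (ht : t ∈ B') (htt : t * t = 1)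
    (hut : u * t = t * u) : M.φ t = 1 := by
  have hfix : fixIn S' (M'.φ u) = S' := by rw [hu', fixIn_one]
  obtain ⟨MD, hMD⟩ := M'.exists_cmp huB hu.2.1 (by rw [hfix]; exact h7)
  have hD := (M'.isComp_cmp huB hu.2.1 (by rw [hfix]; omega)).pElem_eq
  have hle : M'.cmp u ≤ normalizer (B : Set G) := fun x hx =>
    hcent (mem_cent.mpr (M'.cmp_comm hx).symm)
  have htD : t ∈ M'.cmp u := M'.mem_cmp ht hut (by rw [hfix]; exact M'.mem_alt _ ht) (pow21 htt)
  have hcard := card_fixIn (M.mem_sym u (rt_norm hu)) hu.2.2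
  exact MD.hom_eq_one_of_comm hD (S' := S) (τ := M.φ u) (by rw [hfix]; exact hS)
    (M.mem_sym u (rt_norm hu)) (root_ne_one hu.2.2) (Finset.card_pos.mp (by omega))
    (M.hom.comp (Subgroup.inclusion hle)) (fun x => M.mem_sym _ (hle x.2))
    (fun x => M.comm (hle x.2) (rt_norm hu) (M'.cmp_comm x.2).symm) ⟨t, htD⟩

/-- a perfect group acts trivially on an invariant set of at most four points -/
theorem perfect_fix {K : Subgroup G} (hK : ⁅K, K⁆ = K) (f : ↥K →* Perm α) {T : Finset α}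
    (hT : T.card ≤ 4) (hinv : ∀ x, ∀ y ∈ T, f x y ∈ T) (x : ↥K) {y : α} (hy : y ∈ T) : f x y = y := by
  have hmem : ∀ x y, f x y ∈ T ↔ y ∈ T := by
    intro x y
    refine ⟨fun h => ?_, hinv x y⟩
    have := hinv x⁻¹ _ h
    simpa using this
  let f₁ : ↥K →* Perm T :=
    { toFun := fun x => (f x).subtypePerm (p := fun y => y ∈ T) (fun y => hmem x y)
      map_one' := by
        apply Equiv.ext
        intro y
        apply Subtype.ext
        show f 1 (y : α) = y
        rw [map_one]; rfl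
      map_mul' := fun x x' => by
        apply Equiv.ext
        intro y
        apply Subtype.ext
        show f (x * x') (y : α) = f x (f x' y)
        rw [map_mul]; rfl }
  have hs : Group.IsSolvable (Perm T) := Schreier.Tools.isSolvable_perm_of_card_le_four T (by
    rw [Nat.card_eq_fintype_card, Fintype.card_coe]; exact hT)
  have h1 : f₁.range = ⊥ := by
    by_contra hne
    refine not_solvable_of_perfect (E := f₁.range) ?_ hne inferInstance
    have h2 : ⁅(⊤ : Subgroup ↥K), (⊤ : Subgroup ↥K)⁆ = ⊤ := by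
      apply Subgroup.map_injective K.subtype_injective
      rw [Subgroup.map_commutator, ← MonoidHom.range_eq_map, Subgroup.range_subtype]
      exact hK
    rw [MonoidHom.range_eq_map, ← Subgroup.map_commutator, h2]
  have h2 : f₁ x = 1 := by
    have h3 : f₁ x ∈ f₁.range := ⟨x, rfl⟩
    rw [h1] at h3
    exact mem_bot.mp h3
  exact congrArg (fun g : Perm T => ((g ⟨y, hy⟩ : T) : α)) h2

/-- elements trivial on the fixed points of `u` fix `K_u` -/
theorem fixes_cmp (P : PKE M) {u t : G} (hu : M.Rt u) (ht : t ∈ centralizer ({u} : Set G))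
    (h : ∀ p ∈ fixIn S (M.φ u), M.φ t p = p) : Fixes t (M.cmp u) := by
  have htN := cent_le_cmp P hu ht
  have htB := P.cent u hu ht
  refine ⟨htN, fun m hm => ?_⟩
  have hmB := M.cmp_le u hm
  have hmC : m ∈ centralizer ({u} : Set G) := mem_cent.mpr (M.cmp_comm hm).symm
  have hmA := M.cmp_mem_alt hm
  have e1 : M.φ t * M.φ m = M.φ m * M.φ t := by
    ext p
    rw [Perm.mul_apply, Perm.mul_apply]
    by_cases hp : p ∈ fixIn S (M.φ u)
    · rw [h p hp, h _ (mem_of_mem_sym (alt_le_sym _ hmA) hp)]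
    · rw [hmA.2 p hp]
      symm
      apply hmA.2
      intro hq
      have h2 := h _ hq
      have h3 := (M.φ t).injective h2
      rw [h3] at hq
      exact hp hq
  have h1 : ⁅t, m⁆ ∈ M.cmp u := by
    rw [commutatorElement_def]
    exact mul_mem ((mem_normalizer_iff.mp htN m).mp hm) (inv_mem hm)
  have h2 : ⁅t, m⁆ ∈ core B := by
    rw [← M.core_iff _ (M.cmp_le u h1), commutatorElement_def,
      M.mul _ _ (mul_mem (mul_mem htB (le_normalizer hmB)) (inv_mem htB)) (inv_mem (le_normalizer hmB)),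
      M.conj htB (le_normalizer hmB), M.inv (le_normalizer hmB), mul_inv_eq_one, mul_inv_eq_iff_eq_mul]
    exact e1
  rw [(P.comp u hu).core_eq, ← P.core u hu]
  exact ⟨h1, h2, (P.comp u hu).le h1⟩

/-- if `t` is trivial on `K` then `cmp t` is the 2-part of the centralizer -/
theorem cmp_eq_cen {K : Subgroup G} {T : Finset α} (M : Mod K T) {t : G} (h : M.φ t = 1) :
    M.cmp t = Cen.cen K t := by
  have h1 : M.pre t = K ⊓ centralizer ({t} : Set G) := by
    ext x
    rw [M.mem_pre, mem_inf, mem_cent, h, fixIn_one]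
    exact ⟨fun ⟨a, b, _⟩ => ⟨a, b.symm⟩, fun ⟨a, b⟩ => ⟨a, b.symm, M.mem_alt x a⟩⟩
  rw [Mod.cmp, h1]
  rfl

/-- the Klein four-group generated by commuting involutions -/
def kl (s t : G) (hs : s * s = 1) (ht : t * t = 1) (hst : s * t = t * s) : Subgroup G where
  carrier := {x | x = 1 ∨ x = s ∨ x = t ∨ x = s * t}
  one_mem' := Or.inl rfl
  mul_mem' := by
    have e1 : s * (s * t) = t := by rw [← mul_assoc, hs, one_mul]
    have e2 : t * (s * t) = s := by rw [hst, ← mul_assoc, ht, one_mul]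
    have e3 : s * t * s = t := by rw [mul_assoc, ← hst, e1]
    have e4 : s * t * t = s := by rw [mul_assoc, ht, mul_one]
    have e5 : s * t * (s * t) = 1 := by rw [mul_assoc, e2, hs]
    rintro x y (rfl | rfl | rfl | rfl) (rfl | rfl | rfl | rfl) <;>
      simp only [Set.mem_setOf_eq, one_mul, mul_one, hs, ht, hst.symm, e1, e2, e3, e4, e5, true_or,
        or_true]
  inv_mem' := by
    have hi : s⁻¹ = s := inv_eq_of_mul_eq_one_left hs
    have hi' : t⁻¹ = t := inv_eq_of_mul_eq_one_left ht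
    rintro x (rfl | rfl | rfl | rfl)
    · left; exact inv_one
    · right; left; exact hi
    · right; right; left; exact hi'
    · right; right; right
      rw [mul_inv_rev, hi, hi', hst]

/-- lifting of an involution commuting with two commuting involutions -/
theorem exists_inv_lift2 (M : Mod B S) {s t : G} (hsN : s ∈ normalizer (B : Set G))
    (htN : t ∈ normalizer (B : Set G)) (hs : s * s = 1) (ht : t * t = 1) (hst : s * t = t * s)
    {σ : Perm α} (hσ : σ ∈ alt S) (hσσ : σ * σ = 1) (h1 : M.φ s * σ = σ * M.φ s)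
    (h2 : M.φ t * σ = σ * M.φ t) :
    ∃ k ∈ B, k * k = 1 ∧ s * k = k * s ∧ t * k = k * t ∧ M.φ k = σ := by
  have hPG : IsPGroup 2 (kl s t hs ht hst) := by
    rintro ⟨x, hx⟩
    refine ⟨1, Subtype.ext ?_⟩
    show x ^ 2 ^ 1 = 1
    rw [pow_one, pow_two]
    rcases hx with rfl | rfl | rfl | rfl
    · exact mul_one 1
    · exact hs
    · exact ht
    · rw [show s * t * (s * t) = s * (t * s) * t by group, ← hst]
      rw [show s * (s * t) * t = (s * s) * (t * t) by group, hs, ht, one_mul]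
  have hPN : kl s t hs ht hst ≤ normalizer (B : Set G) := by
    rintro x (rfl | rfl | rfl | rfl)
    · exact one_mem _
    · exact hsN
    · exact htN
    · exact mul_mem hsN htN
  obtain ⟨k, hk, hc, hkσ⟩ := M.exists_fix_lift hPG hPN hσ (by
    rintro x (rfl | rfl | rfl | rfl)
    · rw [M.one, one_mul, mul_one]
    · exact h1
    · exact h2
    · rw [M.mul _ _ hsN htN, mul_assoc, h2, ← mul_assoc, h1, mul_assoc])
  have hkN := le_normalizer (H := B) hk
  have hkk : k ^ 2 ^ 1 ∈ core B := by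
    rw [← M.core_iff _ (pow_mem hk _), M.pow hkN, hkσ, pow_one, pow_two]
    exact hσσ
  obtain ⟨j, h3, h4⟩ := Lifting.exists_two_part (odd_card_core B) hkk
  refine ⟨k ^ j, pow_mem hk j, ?_, ?_, ?_, ?_⟩
  · rw [pow_one, pow_two] at h3; exact h3
  · exact (Commute.pow_right (show Commute s k from (hc s (Or.inr (Or.inl rfl))).symm) j)
  · exact (Commute.pow_right (show Commute t k from (hc t (Or.inr (Or.inr (Or.inl rfl)))).symm) j)
  · rw [← hkσ]
    exact ((M.eq_iff hk (pow_mem hk j)).mpr h4).symm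

end finite

end Cfsg.Agent.UAlt.Nine
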