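import Cfsg.Agent.UAlt.PermPK

/-!
# Three commuting involutions, one of which is a root

`root_of_three`: `a`, `b`, `a b` commuting involutions; if each of them which moves at least five points has the
property that the others act as `1` or as itself on the points moved by it, then one of the three moves exactly four
points.
-/

set_option autoImplicit false
set_option linter.unusedSectionVars false

namespace Cfsg.Agent.UAlt.PermPK

open Equiv Equiv.Perm Subgroup
open Cfsg.Agent.StdAlt.Roots (IsRoot)

variable {α : Type*} [Fintype α] [DecidableEq α]

/-- `b` acts as `1` or as `a` on the points moved by `a` (if there are at least five) -/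
def KK (a b : Perm α) : Prop := 5 ≤ a.support.card →
  (∀ p, a p ≠ p → b p = p) ∨ (∀ p, a p ≠ p → b p = a p)

theorem app2 {a : Perm α} (haa : a * a = 1) (x : α) : a (a x) = x := by
  rw [← Perm.mul_apply, haa]; rfl

theorem appc {a b : Perm α} (hab : a * b = b * a) (x : α) : a (b x) = b (a x) := by
  rw [← Perm.mul_apply, hab, Perm.mul_apply]

theorem exists_moved {a : Perm α} (h : a ≠ 1) : ∃ x, a x ≠ x := by
  by_contra hcon
  push Not at hcon
  exact h (Equiv.ext hcon)

theorem card_le_of {a b : Perm α} (h : ∀ p, a p ≠ p → b p ≠ p) : a.support.card ≤ b.support.card :=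
  Finset.card_le_card fun p hp => mem_support.mpr (h p (mem_support.mp hp))

theorem small_supp {a b : Perm α} (haa : a * a = 1) (hbb : b * b = 1) (hab : a * b = b * a)
    (hb : b ≠ 1) (hc : a * b ≠ 1) (Kab : KK a b) (Kba : KK b a) (Kca : KK (a * b) a) :
    a.support.card ≤ 4 := by
  by_contra h5
  have h5' : 5 ≤ a.support.card := by omega
  obtain ⟨x, hx⟩ : ∃ x, a x ≠ x := by
    obtain ⟨x, hx⟩ := Finset.card_pos.mp (by omega : 0 < a.support.card)
    exact ⟨x, mem_support.mp hx⟩
  have hA := app2 haa
  have hB := app2 hbb
  have hC := appc hab
  rcases Kab h5' with h | h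
  · -- `b` is trivial on the points moved by `a`
    obtain ⟨q, hq⟩ := exists_moved hb
    have haq : a q = q := by
      by_contra hne
      exact hq (h q hne)
    have h1 : a (b q) = b q := by rw [hC, haq]
    have hle : 5 ≤ (a * b).support.card := h5'.trans (card_le_of fun p hp => by
      rw [Perm.mul_apply, h p hp]; exact hp)
    rcases Kca hle with h2 | h2
    · exact hx (h2 x (by rw [Perm.mul_apply, h x hx]; exact hx))
    · have h3 := h2 q (by rw [Perm.mul_apply, h1]; exact hq)
      rw [Perm.mul_apply, h1, haq] at h3
      exact hq h3.symm
  · obtain ⟨q, hq⟩ := exists_moved hc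
    rw [Perm.mul_apply] at hq
    have haq : a q = q := by
      by_contra hne
      apply hq
      rw [h q hne, hA]
    have hbq : b q ≠ q := by
      intro e
      apply hq
      rw [e, haq]
    have hle : 5 ≤ b.support.card := h5'.trans (card_le_of fun p hp => by
      rw [h p hp]; exact hp)
    rcases Kba hle with h2 | h2
    · exact hx (h2 x (by rw [h x hx]; exact hx))
    · have h3 := h2 q hbq
      rw [haq] at h3
      exact hbq h3.symm

theorem even_card_support {a : Perm α} (haa : a * a = 1) : Even a.support.card := by
  have h2 : a ^ 2 = 1 := by rw [pow_two]; exact haa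
  have h3 : ∀ c ∈ a.cycleType, c = 2 := pow_prime_eq_one_iff.mp h2
  have h4 : a.cycleType = Multiset.replicate (Multiset.card a.cycleType) 2 :=
    Multiset.eq_replicate_card.mpr h3
  have h5 := sum_cycleType a
  rw [h4, Multiset.sum_replicate, smul_eq_mul] at h5
  rw [← h5]
  exact even_two.mul_left _

theorem card_cases {a : Perm α} (haa : a * a = 1) (ha : a ≠ 1) (h4 : a.support.card ≤ 4) :
    IsRoot a ∨ a.support.card = 2 := by
  have h1 := even_card_support haa
  have h2 := two_le_card_support_of_ne_one ha
  obtain ⟨k, hk⟩ := h1
  by_cases h : a.support.card = 4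
  · exact Or.inl ⟨haa, h⟩
  · right; omega

/-- **one of the three is a root** -/
theorem root_of_three {a b : Perm α} (haa : a * a = 1) (hbb : b * b = 1) (hab : a * b = b * a)
    (ha : a ≠ 1) (hb : b ≠ 1) (hc : a * b ≠ 1) (Kab : KK a b) (Kba : KK b a) (Kca : KK (a * b) a) :
    IsRoot a ∨ IsRoot b ∨ IsRoot (a * b) := by
  have hA := app2 haa
  have hB := app2 hbb
  have hC := appc hab
  have hcc : a * b * (a * b) = 1 := by
    calc a * b * (a * b) = a * (b * a) * b := by group
      _ = a * (a * b) * b := by rw [hab]
      _ = (a * a) * (b * b) := by group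
      _ = 1 := by rw [haa, hbb, one_mul]
  have e1 : b * (a * b) = a := by rw [hab, ← mul_assoc, hbb, one_mul]
  have e2 : a * b * a = b := by rw [hab, mul_assoc, haa, mul_one]
  have Kcb : KK (b * a) b := by
    intro h5
    rw [← hab] at h5 ⊢
    rcases Kca h5 with h | h
    · right
      intro p hp
      have h1 : (a * b) ((a * b) p) ≠ (a * b) p := fun e => hp ((a * b).injective e)
      have h2 := h _ h1
      rw [Perm.mul_apply, hA] at h2
      rw [Perm.mul_apply]
      exact h2
    · left
      intro p hp
      have h1 := h p hp
      rw [Perm.mul_apply] at h1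
      exact (a.injective h1).symm
  have Kac : KK a (a * b) := by
    intro h5
    rcases Kab h5 with h | h
    · right
      intro p hp
      rw [Perm.mul_apply, h p hp]
    · left
      intro p hp
      rw [Perm.mul_apply, h p hp, hA]
  have Kbc : KK (a * b * a) (a * b) := by
    rw [e2]
    intro h5
    rcases Kba h5 with h | h
    · right
      intro p hp
      rw [Perm.mul_apply]
      exact h _ fun e => hp (b.injective e)
    · left
      intro p hp
      rw [Perm.mul_apply, h _ fun e => hp (b.injective e), hB]
  have hba : b * a ≠ 1 := by rw [← hab]; exact hc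
  have s1 := small_supp haa hbb hab hb hc Kab Kba Kca
  have s2 := small_supp hbb haa hab.symm ha hba Kba Kab Kcb
  have s3 : (a * b).support.card ≤ 4 := by
    refine small_supp hcc haa ?_ ha ?_ Kca Kac Kbc
    · rw [e2, ← mul_assoc, haa, one_mul]
    · rw [e2]; exact hb
  rcases card_cases haa ha s1 with h1 | h1
  · exact Or.inl h1
  rcases card_cases hbb hb s2 with h2 | h2
  · exact Or.inr (Or.inl h2)
  rcases card_cases hcc hc s3 with h3 | h3
  · exact Or.inr (Or.inr h3)
  exfalso
  -- the supports of `a`, `b` have two points and are disjoint
  have hmem : ∀ x y : α, a x ≠ x → a y ≠ y → y = x ∨ y = a x := by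
    intro x y hx hy
    by_contra hcon
    push Not at hcon
    have h4 : ({x, a x, y} : Finset α) ⊆ a.support := by
      intro p hp
      simp only [Finset.mem_insert, Finset.mem_singleton] at hp
      rw [mem_support]
      rcases hp with rfl | rfl | rfl
      · exact hx
      · rw [hA]; exact Ne.symm hx
      · exact hy
    have h5 := Finset.card_le_card h4
    rw [Finset.card_insert_of_notMem, Finset.card_pair (Ne.symm hcon.2), h1] at h5
    · omega
    · simp only [Finset.mem_insert, Finset.mem_singleton, not_or]
      exact ⟨Ne.symm hx, Ne.symm hcon.1⟩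
  obtain ⟨x, hx⟩ := exists_moved ha
  have hbx : b x = x := by
    have h4 : a (b x) ≠ b x := by rw [hC]; exact fun e => hx (b.injective e)
    rcases hmem x (b x) hx h4 with h | h
    · exact h
    · exfalso
      -- then `b` agrees with `a` on `{x, a x}`; `b` moves only these
      have hb2 : ∀ y, b y ≠ y → y = x ∨ y = a x := by
        intro y hy
        by_contra hcon
        push Not at hcon
        have h5 : ({x, a x, y} : Finset α) ⊆ b.support := by
          intro p hp
          simp only [Finset.mem_insert, Finset.mem_singleton] at hp
          rw [mem_support]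
          rcases hp with rfl | rfl | rfl
          · rw [h]; exact hx
          · rw [← hC, h, hA]; exact Ne.symm hx
          · exact hy
        have h6 := Finset.card_le_card h5
        rw [Finset.card_insert_of_notMem, Finset.card_pair (Ne.symm hcon.2), h2] at h6
        · omega
        · simp only [Finset.mem_insert, Finset.mem_singleton, not_or]
          exact ⟨Ne.symm hx, Ne.symm hcon.1⟩
      apply hc
      apply Equiv.ext
      intro y
      rw [Perm.mul_apply, Perm.one_apply]
      by_cases hy : y = x ∨ y = a x
      · rcases hy with rfl | rfl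
        · rw [h, hA]
        · rw [← hC, h, hA]
      · have h7 : b y = y := by
          by_contra hne
          exact hy (hb2 y hne)
        have h8 : a y = y := by
          by_contra hne
          exact hy (hmem x y hx hne)
        rw [h7, h8]
  have hdis : ∀ y, a y ≠ y → b y = y := by
    intro y hy
    rcases hmem x y hx hy with rfl | rfl
    · exact hbx
    · rw [← hC, hbx]
  obtain ⟨q, hq⟩ := exists_moved hb
  have haq : a q = q := by
    by_contra hne
    exact hq (hdis q hne)
  have h4 : ({x, a x, q} : Finset α) ⊆ (a * b).support := by
    intro p hp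
    simp only [Finset.mem_insert, Finset.mem_singleton] at hp
    rw [mem_support, Perm.mul_apply]
    rcases hp with rfl | rfl | rfl
    · rw [hbx]; exact hx
    · rw [← hC, hbx, hA]; exact Ne.symm hx
    · rw [hC, haq]; exact hq
  have h5 := Finset.card_le_card h4
  rw [Finset.card_insert_of_notMem, Finset.card_pair, h3] at h5
  · omega
  · rintro rfl
    rw [hA] at haq
    exact hx haq.symm
  · simp only [Finset.mem_insert, Finset.mem_singleton, not_or]
    exact ⟨Ne.symm hx, fun e => by rw [← e] at haq; exact hx haq⟩

end Cfsg.Agent.UAlt.PermPK
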