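import Cfsg.Agent.UAlt.NineA
import Cfsg.Agent.UAlt.PermThree

/-!
# Section (9.2): a root of `B` normalizing `B'` and acting nontrivially on it is a root of `B'`
-/

set_option autoImplicit false
set_option linter.unusedSectionVars false

namespace Cfsg.Agent.UAlt.Nine

open Cfsg Equiv Equiv.Perm Subgroup
open Cfsg.Agent.Intrinsic.Basic Cfsg.Agent.Intrinsic Cfsg.Agent.Intrinsic.Diag
open Cfsg.Agent.SignalizersComponents Cfsg.Agent.Lib
open Cfsg.Agent.SignalizersComponents.IntrinsicBasic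
open Cfsg.Agent.StdAlt.Roots (IsRoot)
open Cfsg.Agent.StdAlt (V4 four4 mem_four4)
open Cfsg.Agent.UAlt Cfsg.Agent.UAlt.PermPK
open scoped commutatorElement

variable {G : Type*} [Group G] [Finite G] {α : Type*} [Fintype α] [DecidableEq α]
variable {B B' : Subgroup G} {S S' Δ : Finset α} {M : Mod B S} {M' : Mod B' S'}

/-- the odd core of `C(r)` fixes the points moved by `r` -/
theorem fix_D {K : Subgroup G} (M2 : Mod K Δ) {r : G} (hrr : r * r = 1)
    (hrN : r ∈ normalizer (K : Set G)) (h5 : 5 ≤ (Δ.filter fun x => M2.φ r x ≠ x).card) {w : G}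
    (hw : w ∈ core (centralizer ({r} : Set G))) (hwN : w ∈ normalizer (K : Set G)) :
    ∀ i ∈ Δ, M2.φ r i ≠ i → M2.φ w i = i := by
  have haa : ∀ x, M2.φ r (M2.φ r x) = x := fun x => by
    rw [← Perm.mul_apply, M2.sq hrN hrr]; rfl
  have hwr : w * r = r * w := mem_cent.mp (core_le _ hw)
  have hga : M2.φ w * M2.φ r = M2.φ r * M2.φ w := M2.comm hwN hrN hwr
  have hrS := M2.mem_sym r hrN
  have haT : ∀ x, x ∈ Δ → M2.φ r x ∈ Δ := fun x hx => mem_of_mem_sym hrS hx
  have hodd : ∀ c ∈ core (centralizer ({r} : Set G)), Odd (orderOf c) := fun c hc =>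
    Odd.of_dvd_nat (odd_card_core _) (Subgroup.orderOf_dvd_natCard _ hc)
  have key : ∀ i j, i ∈ Δ → j ∈ Δ → M2.φ r i ≠ i → M2.φ r j ≠ j → j ≠ i → j ≠ M2.φ r i →
      M2.φ w * (swap i (M2.φ r i) * swap j (M2.φ r j)) =
        (swap i (M2.φ r i) * swap j (M2.φ r j)) * M2.φ w := by
    intro i j iT jT hi hj h1 h2
    set η := swap i (M2.φ r i) * swap j (M2.φ r j) with hη
    have hηR : η ∈ RR (M2.φ r) haa := mul_mem (swap_mem_RR haa i) (swap_mem_RR haa j)
    have hηA : η ∈ alt Δ := by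
      refine ⟨StdAlt.PermTypes.swap_mul_mem (Ne.symm hi) (Ne.symm hj), fun x hx => ?_⟩
      rw [hη, Perm.mul_apply, swap_apply_of_ne_of_ne (a := j), swap_apply_of_ne_of_ne]
      · rintro rfl; exact hx iT
      · rintro rfl; exact hx (haT _ iT)
      · rintro rfl; exact hx jT
      · rintro rfl; exact hx (haT _ jT)
    obtain ⟨e, he, hee, hre, heη⟩ := M2.exists_inv_lift hrN (pow21 hrr) hηA (RR_sq hηR) hηR.2.symm
    have heN := le_normalizer (H := K) he
    have heC : e ∈ centralizer ({r} : Set G) := mem_cent.mpr hre.symm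
    have hc : w * (e * w⁻¹ * e⁻¹) ∈ core (centralizer ({r} : Set G)) :=
      mul_mem hw (conj_mem_core (le_normalizer heC) (inv_mem hw))
    have hcN : w * (e * w⁻¹ * e⁻¹) ∈ normalizer (K : Set G) :=
      mul_mem hwN (mul_mem (mul_mem heN (inv_mem hwN)) (inv_mem heN))
    have hφ : M2.φ (w * (e * w⁻¹ * e⁻¹)) = M2.φ w * η * (M2.φ w)⁻¹ * η⁻¹ := by
      rw [M2.mul _ _ hwN (mul_mem (mul_mem heN (inv_mem hwN)) (inv_mem heN)),
        M2.conj heN (inv_mem hwN), M2.inv hwN, heη]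
      group
    have hR : M2.φ (w * (e * w⁻¹ * e⁻¹)) ∈ RR (M2.φ r) haa := by
      rw [hφ]
      refine mul_mem ?_ (inv_mem hηR)
      exact (mem_normalizer_iff.mp (RR_normal haa (mem_cent.mpr hga)) η).mp hηR
    have h3 : M2.φ (w * (e * w⁻¹ * e⁻¹)) = 1 := by
      have h4 : orderOf (M2.φ (w * (e * w⁻¹ * e⁻¹))) ∣ orderOf (w * (e * w⁻¹ * e⁻¹)) := by
        apply orderOf_dvd_of_pow_eq_one
        rw [← M2.pow hcN, pow_orderOf_eq_one, M2.one]
      have h5 : orderOf (M2.φ (w * (e * w⁻¹ * e⁻¹))) ∣ 2 :=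
        orderOf_dvd_of_pow_eq_one (by rw [pow_two]; exact RR_sq hR)
      have h6 : Odd (orderOf (M2.φ (w * (e * w⁻¹ * e⁻¹)))) := Odd.of_dvd_nat (hodd _ hc) h4
      rcases (Nat.dvd_prime Nat.prime_two).mp h5 with h7 | h7
      · exact orderOf_eq_one_iff.mp h7
      · rw [h7] at h6
        exact absurd h6 (by decide)
    rw [hφ, mul_inv_eq_one, mul_inv_eq_iff_eq_mul] at h3
    exact h3
  have h6 := blk_lemma haa h5 hga key
  exact odd_lemma haa haT hga (hodd w hw) (by rw [← M2.pow hwN, pow_orderOf_eq_one, M2.one]) h6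

/-- a root four-group commuting with a given involution -/
theorem exists_four (h6 : 6 ≤ S.card) (M : Mod B S) {t : G} (ht : t ∈ normalizer (B : Set G))
    (htt : t * t = 1) : ∃ x y z w : α, ∃ r r' : G, x ≠ y ∧ x ≠ z ∧ x ≠ w ∧ y ≠ z ∧ y ≠ w ∧ z ≠ w ∧
      M.Rt r ∧ M.Rt r' ∧ M.Rt (r * r') ∧ r * r' = r' * r ∧ t * r = r * t ∧ t * r' = r' * t ∧
      M.φ r = swap x y * swap z w ∧ M.φ r' = swap x z * swap y w ∧
      M.φ (r * r') = swap x w * swap y z := by
  obtain ⟨x, y, z, w, xS, yS, zS, wS, n1, n2, n3, n4, n5, n6, c1, c2⟩ :=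
    exists_four_in h6 (M.mem_sym t ht) (M.sq ht htt)
  have hnd : [x, y, z, w].Nodup := StdAlt.PermTypes.nodup_four n1 n2 n3 n4 n5 n6
  have hsub : four4 x y z w ⊆ S := by
    intro p hp
    rcases mem_four4.mp hp with rfl | rfl | rfl | rfl <;> assumption
  have hAC : (swap x y * swap z w) * (swap x z * swap y w) = swap x w * swap y z := by
    ext p
    simp only [Perm.mul_apply]
    by_cases p1 : p = x
    · subst p1
      rw [swap_apply_of_ne_of_ne n1 n3, swap_apply_left, swap_apply_left,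
        swap_apply_of_ne_of_ne n1 n2, swap_apply_left,
        swap_apply_of_ne_of_ne (Ne.symm n3) (Ne.symm n5)]
    by_cases p2 : p = y
    · subst p2
      rw [swap_apply_left, swap_apply_of_ne_of_ne (Ne.symm n3) (Ne.symm n6), swap_apply_right,
        swap_apply_of_ne_of_ne (Ne.symm n2) (Ne.symm n4), swap_apply_left,
        swap_apply_of_ne_of_ne (Ne.symm n2) n6]
    by_cases p3 : p = z
    · subst p3
      rw [swap_apply_of_ne_of_ne (Ne.symm n4) n6, swap_apply_right, swap_apply_of_ne_of_ne n2 n3,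
        swap_apply_left, swap_apply_right, swap_apply_of_ne_of_ne (Ne.symm n1) n5]
    by_cases p4 : p = w
    · subst p4
      rw [swap_apply_right, swap_apply_of_ne_of_ne (Ne.symm n1) n4, swap_apply_of_ne_of_ne n4 n5,
        swap_apply_right, swap_apply_of_ne_of_ne (Ne.symm n5) (Ne.symm n6), swap_apply_right]
    rw [swap_apply_of_ne_of_ne p2 p4, swap_apply_of_ne_of_ne p1 p3, swap_apply_of_ne_of_ne p3 p4,
      swap_apply_of_ne_of_ne p1 p2, swap_apply_of_ne_of_ne p2 p3, swap_apply_of_ne_of_ne p1 p4]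
  have hP : IsPGroup 2 (zpowers t) := by
    rintro ⟨_, n, rfl⟩
    refine ⟨1, Subtype.ext ?_⟩
    show (t ^ n) ^ 2 ^ 1 = 1
    rw [pow_one, ← zpow_natCast, ← zpow_mul, mul_comm, zpow_mul, zpow_natCast, pow_two, htt, one_zpow]
  have hmem : ∀ p ∈ zpowers t, p = 1 ∨ p = t := by
    rintro _ ⟨n, rfl⟩
    rcases Int.even_or_odd' n with ⟨k, rfl | rfl⟩
    · left
      show t ^ (2 * k) = 1
      rw [zpow_mul, show t ^ (2 : ℤ) = 1 by rw [zpow_ofNat, pow_two, htt], one_zpow]
    · right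
      show t ^ (2 * k + 1) = t
      rw [zpow_add, zpow_mul, show t ^ (2 : ℤ) = 1 by rw [zpow_ofNat, pow_two, htt], one_zpow,
        zpow_one, one_mul]
  obtain ⟨V, hV, hVc, hV4, hVl⟩ := exists_rootV M hP ((zpowers_le).mpr ht) hnd hsub (by
    intro p hp σ hσ
    rcases hmem p hp with rfl | rfl
    · rw [M.one, one_mul, mul_one]
    · rcases hσ with rfl | rfl | rfl | rfl
      · rw [mul_one, one_mul]
      · exact c1
      · exact c2
      · rw [← hAC]
        generalize swap x y * swap z w = A at *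
        generalize swap x z * swap y w = C at *
        calc M.φ p * (A * C) = (M.φ p * A) * C := by group
          _ = A * (M.φ p * C) := by rw [c1]; group
          _ = A * C * M.φ p := by rw [c2]; group)
  obtain ⟨r, hr, er⟩ := hVl _ (Or.inr (Or.inl rfl))
  obtain ⟨r', hr', er'⟩ := hVl _ (Or.inr (Or.inr (Or.inl rfl)))
  have hsq : ∀ v ∈ V, v * v = 1 := by
    intro v hv
    by_cases h : v = 1
    · rw [h, mul_one]
    · exact (hV.root v hv h).sq
  have hcomm : r * r' = r' * r := by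
    have h1 := hsq _ (mul_mem hr hr')
    have h2 : r * r' * (r * r') = 1 := h1
    calc r * r' = (r' * r') * (r * r' * (r * r'))⁻¹ * (r * r') * (r * r) := by
          rw [h1, hsq r hr, hsq r' hr']; group
      _ = r' * r := by group
  have hA : IsRoot (swap x y * swap z w) := StdAlt.Roots.isRoot_swap_mul n1 n2 n3 n4 n5 n6
  have hC : IsRoot (swap x z * swap y w) :=
    StdAlt.Roots.isRoot_swap_mul n2 n1 n3 (Ne.symm n4) n6 n5
  have hD : IsRoot (swap x w * swap y z) :=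
    StdAlt.Roots.isRoot_swap_mul n3 n1 n2 (Ne.symm n5) (Ne.symm n6) n4
  have hle : ∀ v ∈ V, v ∈ B := by
    intro v hv
    by_cases h : v = 1
    · rw [h]; exact one_mem _
    · exact (hV.root v hv h).mem
  have hrr : M.φ (r * r') = swap x w * swap y z := by
    rw [M.mul _ _ (le_normalizer (hle r hr)) (le_normalizer (hle r' hr')), er, er', hAC]
  exact ⟨x, y, z, w, r, r', n1, n2, n3, n4, n5, n6, ⟨hle r hr, hsq r hr, by rw [er]; exact hA⟩,
    ⟨hle r' hr', hsq r' hr', by rw [er']; exact hC⟩,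
    ⟨mul_mem (hle r hr) (hle r' hr'), hsq _ (mul_mem hr hr'), by rw [hrr]; exact hD⟩, hcomm,
    (hVc r hr t (mem_zpowers t)).symm, (hVc r' hr' t (mem_zpowers t)).symm, er, er', hrr⟩

/-- conjugates of `r'` under the elements commuting with `r` -/
def Cj (M : Mod B S) (r r' : G) : Prop := ∀ g ∈ normalizer (B : Set G), r * g = g * r →
  M.φ (g * r' * g⁻¹) = M.φ r' ∨ M.φ (g * r' * g⁻¹) = M.φ (r * r')

theorem cj_four {x y z w : α} (n1 : x ≠ y) (n2 : x ≠ z) (n3 : x ≠ w) (n4 : y ≠ z) (n5 : y ≠ w)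
    (n6 : z ≠ w) {r r' : G} (hr : r ∈ normalizer (B : Set G)) (hr' : r' ∈ normalizer (B : Set G))
    (e1 : M.φ r = swap x y * swap z w) (e2 : M.φ r' = swap x z * swap y w) : Cj M r r' := by
  intro g hg hrg
  have h1 : M.φ g * (swap x y * swap z w) = (swap x y * swap z w) * M.φ g := by
    rw [← e1]
    exact M.comm hg hr hrg.symm
  rw [M.conj hg hr', M.mul _ _ hr hr', e1, e2]
  exact conj_four n1 n2 n3 n4 n5 n6 h1

/-- `s'` acts as `1` or `s` on the points moved by `s` (if there are at least five) -/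
theorem kk (P' : PKE M') {s s' : G} (hs : M'.Rt s) (hs' : s' ∈ B') (hss : s' * s' = 1)
    (hc : s * s' = s' * s) (hsN : s ∈ normalizer (B : Set G)) (hsN' : s' ∈ normalizer (B : Set G))
    (hcj : Cj M' s s') : KK (M.φ s) (M.φ s') := by
  intro hsupp
  have haa : ∀ p, M.φ s (M.φ s p) = p := app2 (M.sq hsN hs.2.1)
  have hbb : ∀ p, M.φ s' (M.φ s' p) = p := app2 (M.sq hsN' hss)
  have hab : M.φ s * M.φ s' = M.φ s' * M.φ s := M.comm hsN hsN' hc
  have haT : ∀ p, p ∈ S → M.φ s p ∈ S := fun p hp => mem_of_mem_sym (M.mem_sym s hsN) hp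
  have hbT : ∀ p, p ∈ S → M.φ s' p ∈ S := fun p hp => mem_of_mem_sym (M.mem_sym s' hsN') hp
  have hin : ∀ p, M.φ s p ≠ p → p ∈ S := by
    intro p hp
    by_contra hn
    exact hp (M.mem_sym s hsN p hn)
  have h5 : 5 ≤ (S.filter fun p => M.φ s p ≠ p).card := by
    refine hsupp.trans (Finset.card_le_card fun p hp => ?_)
    rw [mem_support] at hp
    exact Finset.mem_filter.mpr ⟨hin p hp, hp⟩
  have key : ∀ i j, i ∈ S → j ∈ S → M.φ s i ≠ i → M.φ s j ≠ j → j ≠ i → j ≠ M.φ s i →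
      (∀ p ∈ S, M.φ s p ≠ p → tau (M.φ s) i j (M.φ s' (tau (M.φ s) i j p)) = M.φ s' p) ∨
      (∀ p ∈ S, M.φ s p ≠ p →
        tau (M.φ s) i j (M.φ s' (tau (M.φ s) i j p)) = M.φ s (M.φ s' p)) := by
    intro i j iT jT hi hj h1 h2
    obtain ⟨k, hk, hkk, hsk, hkτ⟩ := M.exists_inv_lift hsN (pow21 hs.2.1)
      (tau_mem_alt haa hi hj h1 h2 haT iT jT) (tau_sq haa hi hj h1 h2)
      (tau_comm haa hi hj h1 h2).symm
    have hkN := le_normalizer (H := B) hk
    have hkB' : k ∈ normalizer (B' : Set G) := P'.cent s hs (mem_cent.mpr hsk.symm)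
    have hconj : k * s' * k⁻¹ ∈ B' := (mem_normalizer_iff.mp hkB' s').mp hs'
    have hs'C : s' ∈ centralizer ({s} : Set G) := mem_cent.mpr hc.symm
    have hkC : k ∈ centralizer ({s} : Set G) := mem_cent.mpr hsk.symm
    have hsC : s ∈ centralizer ({s} : Set G) := mem_cent.mpr rfl
    have hφconj : M.φ (k * s' * k⁻¹) =
        tau (M.φ s) i j * M.φ s' * tau (M.φ s) i j := by
      rw [M.conj hkN hsN', hkτ]
      congr 1
      exact (eq_inv_of_mul_eq_one_left (tau_sq haa hi hj h1 h2)).symm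
    have step : ∀ e : G, e ∈ B' → e ∈ centralizer ({s} : Set G) → e ∈ normalizer (B : Set G) →
        M'.φ (k * s' * k⁻¹) = M'.φ e → ∀ p ∈ S, M.φ s p ≠ p →
          tau (M.φ s) i j (M.φ s' (tau (M.φ s) i j p)) = M.φ e p := by
      intro e he heC heN hφ p pT hp
      have h3 : e⁻¹ * (k * s' * k⁻¹) ∈ core B' := (M'.eq_iff he hconj).mp hφ.symm
      have h4 : e⁻¹ * (k * s' * k⁻¹) ∈ core (centralizer ({s} : Set G)) := by
        rw [← P'.core s hs]
        have h4 : e⁻¹ * (k * s' * k⁻¹) ∈ centralizer ({s} : Set G) :=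
          mul_mem (inv_mem heC) (mul_mem (mul_mem hkC hs'C) (inv_mem hkC))
        exact ⟨h3, h4⟩
      have hcN : k * s' * k⁻¹ ∈ normalizer (B : Set G) := mul_mem (mul_mem hkN hsN') (inv_mem hkN)
      have h5' := fix_D M hs.2.1 hsN h5 h4 (mul_mem (inv_mem heN) hcN) p pT hp
      have h6' : k * s' * k⁻¹ = e * (e⁻¹ * (k * s' * k⁻¹)) := by group
      have h7 : M.φ (k * s' * k⁻¹) p = M.φ e p := by
        rw [h6', M.mul _ _ heN (mul_mem (inv_mem heN) hcN), Perm.mul_apply, h5']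
      rw [hφconj, Perm.mul_apply, Perm.mul_apply] at h7
      exact h7
    rcases hcj k hkB' hsk with h | h
    · left
      exact step s' hs' hs'C hsN' h
    · right
      intro p pT hp
      rw [step (s * s') (mul_mem hs.1 hs') (mul_mem hsC hs'C) (mul_mem hsN hsN') h p pT hp,
        M.mul _ _ hsN hsN', Perm.mul_apply]
  rcases alt_lemma haa hab hbb haT hbT h5 key with h | h
  · exact Or.inl fun p hp => h p (hin p hp) hp
  · exact Or.inr fun p hp => h p (hin p hp) hp

/-- some root of `B'` commuting with `u` acts as a root on `B` -/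
theorem exists_rt_act (P : PKE M) (P' : PKE M') (hS : S.card = S'.card) {u : G} (hu : M.Rt u)
    (huB : u ∈ normalizer (B' : Set G)) (hne : M'.φ u ≠ 1) :
    ∃ r, M'.Rt r ∧ u * r = r * u ∧ IsRoot (M.φ r) := by
  have h9 := P.h9
  obtain ⟨x, y, z, w, r, r', n1, n2, n3, n4, n5, n6, hr, hr', hrr', hc, hur, hur', e1, e2, e3⟩ :=
    exists_four (by omega) M' huB hu.2.1
  have hN : ∀ s, u * s = s * u → s ∈ normalizer (B : Set G) := fun s h =>
    P.cent u hu (mem_cent.mpr h.symm)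
  have hurr' : u * (r * r') = r * r' * u := by rw [← mul_assoc, hur, mul_assoc, hur', mul_assoc]
  have hrN := hN r hur
  have hrN' := hN r' hur'
  have hrrN := hN (r * r') hurr'
  have hne1 : ∀ s, M'.Rt s → u * s = s * u → M.φ s ≠ 1 := by
    intro s hs hus h
    exact hne (claim_T (M := M') (M' := M) (by omega) hS.ge (by omega) hs (P'.cent s hs) (hN s hus) h
      hu.1 hu.2.1 hus.symm)
  have hmul : M.φ (r * r') = M.φ r * M.φ r' := M.mul _ _ hrN hrN'
  have e4 : r * r' * r = r' := by rw [hc, mul_assoc, hr.2.1, mul_one]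
  have Kab := kk (M := M) P' hr hr'.1 hr'.2.1 hc hrN hrN'
    (cj_four n1 n2 n3 n4 n5 n6 (rt_norm hr) (rt_norm hr') e1 e2)
  have Kba := kk (M := M) P' hr' hr.1 hr.2.1 hc.symm hrN' hrN
    (cj_four n2 n1 n3 (Ne.symm n4) n6 n5 (rt_norm hr') (rt_norm hr) e2 e1)
  have Kca := kk (M := M) P' hrr' hr.1 hr.2.1 (by rw [e4, ← mul_assoc, hr.2.1, one_mul]) hrrN hrN
    (cj_four n3 n1 n2 (Ne.symm n5) (Ne.symm n6) n4 (rt_norm hrr') (rt_norm hr) e3
      (by rw [e1, swap_comm w z]))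
  rw [hmul] at Kca
  rcases root_of_three (M.sq hrN hr.2.1) (M.sq hrN' hr'.2.1) (M.comm hrN hrN' hc)
    (hne1 r hr hur) (hne1 r' hr' hur') (by rw [← hmul]; exact hne1 _ hrr' hurr') Kab Kba Kca
    with h | h | h
  · exact ⟨r, hr, hur, h⟩
  · exact ⟨r', hr', hur', h⟩
  · exact ⟨r * r', hrr', hurr', by rw [hmul]; exact h⟩

end Cfsg.Agent.UAlt.Nine
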