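import Cfsg.Agent.UAlt.NineB
import Cfsg.Agent.UAlt.Rig

/-!
# Section (9.2), end: (H2)
-/

set_option autoImplicit false
set_option linter.unusedSectionVars false

namespace Cfsg.Agent.UAlt.Nine

open Cfsg Equiv Equiv.Perm Subgroup
open Cfsg.Agent.Intrinsic.Basic Cfsg.Agent.Intrinsic Cfsg.Agent.Intrinsic.Diag
open Cfsg.Agent.SignalizersComponents Cfsg.Agent.Lib
open Cfsg.Agent.SignalizersComponents.IntrinsicBasic
open Cfsg.Agent.StdAlt.Roots (IsRoot)
open Cfsg.Agent.StdAlt (V4 four4 mem_four4)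
open Cfsg.Agent.UAlt Cfsg.Agent.UAlt.PermPK
open scoped commutatorElement

variable {G : Type*} [Group G] [Finite G] {α : Type*} [Fintype α] [DecidableEq α]
variable {B B' : Subgroup G} {S S' Δ : Finset α} {M : Mod B S} {M' : Mod B' S'}

theorem ker_le_of_odd {K : Type*} [Group K] [Finite K] {F F' : Finset α} (h5' : 5 ≤ F'.card)
    (f : K →* alt F) (f' : K →* alt F') (hf' : Function.Surjective f') (ho : Odd (Nat.card f.ker)) :
    f.ker ≤ f'.ker := by
  have hsim := isSimpleGroup_alt h5'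
  have hn : (f.ker.map f').Normal := (inferInstance : f.ker.Normal).map _ hf'
  rcases hsim.eq_bot_or_eq_top_of_normal _ hn with h | h
  · exact (Subgroup.map_eq_bot_iff _).mp h
  · exfalso
    have h1 : Nat.card (f.ker.map f') ∣ Nat.card f.ker := Subgroup.card_map_dvd _ _
    rw [h, Subgroup.card_top] at h1
    have h2 := (two_dvd_card_alt (S := F') (by omega)).trans h1
    exact (Nat.not_even_iff_odd.mpr ho) (even_iff_two_dvd.mpr h2)

theorem card_eq_of_hom {K : Type*} [Group K] [Finite K] {F F' : Finset α} (h5 : 5 ≤ F.card)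
    (h5' : 5 ≤ F'.card) (f : K →* alt F) (f' : K →* alt F') (hf : Function.Surjective f)
    (hf' : Function.Surjective f') (ho : Odd (Nat.card f.ker)) (ho' : Odd (Nat.card f'.ker)) :
    F.card = F'.card := by
  have h1 : f.ker = f'.ker := le_antisymm (ker_le_of_odd h5' f f' hf' ho)
    (ker_le_of_odd h5 f' f hf ho')
  refine card_eq_of_equiv (by omega) ?_
  exact ((QuotientGroup.quotientKerEquivOfSurjective _ hf).symm.trans
    (QuotientGroup.quotientMulEquivOfEq h1)).trans (QuotientGroup.quotientKerEquivOfSurjective _ hf')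

/-- the labelling of `cmp t` as a homomorphism -/
theorem exists_cmp_hom {K : Subgroup G} (M : Mod K S) {t : G} (ht : t ∈ normalizer (K : Set G))
    (htt : t * t = 1) (h5 : 5 ≤ (fixIn S (M.φ t)).card) :
    ∃ f : ↥(M.cmp t) →* ↥(alt (fixIn S (M.φ t))), (∀ x, (f x : Perm α) = M.φ x) ∧
      Function.Surjective f ∧ Odd (Nat.card f.ker) := by
  let f : ↥(M.cmp t) →* ↥(alt (fixIn S (M.φ t))) :=
    { toFun := fun x => ⟨M.φ x, M.cmp_mem_alt x.2⟩
      map_one' := Subtype.ext M.one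
      map_mul' := fun x y => Subtype.ext
        (M.mul x y (le_normalizer (M.cmp_le t x.2)) (le_normalizer (M.cmp_le t y.2))) }
  refine ⟨f, fun x => rfl, ?_, ?_⟩
  · rintro ⟨σ, hσ⟩
    obtain ⟨k, hk, rfl⟩ := M.cmp_lift ht htt h5 hσ
    exact ⟨⟨k, hk⟩, rfl⟩
  · have h1 : f.ker.map (M.cmp t).subtype ≤ core K := by
      rintro _ ⟨m, hm, rfl⟩
      refine (M.core_iff _ (M.cmp_le t m.2)).mp ?_
      exact congrArg Subtype.val (MonoidHom.mem_ker.mp hm)
    have h2 := Subgroup.card_dvd_of_le h1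
    rw [Subgroup.card_map_of_injective (Subgroup.subtype_injective _)] at h2
    exact Odd.of_dvd_nat (odd_card_core K) h2

theorem card_eq_of_cmp {K K' : Subgroup G} (M : Mod K S) (M' : Mod K' S') {t t' : G}
    (ht : t ∈ normalizer (K : Set G)) (htt : t * t = 1) (h5 : 5 ≤ (fixIn S (M.φ t)).card)
    (ht' : t' ∈ normalizer (K' : Set G)) (htt' : t' * t' = 1)
    (h5' : 5 ≤ (fixIn S' (M'.φ t')).card) (h : M.cmp t = M'.cmp t') :
    (fixIn S (M.φ t)).card = (fixIn S' (M'.φ t')).card := by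
  obtain ⟨f, -, hf, ho⟩ := exists_cmp_hom M ht htt h5
  have h' := exists_cmp_hom M' ht' htt' h5'
  rw [← h] at h'
  obtain ⟨f', -, hf', ho'⟩ := h'
  exact card_eq_of_hom h5 h5' f f' hf hf' ho ho'

/-- a root with support in a set of at least four points -/
theorem exists_root_alt {F : Finset α} (h4 : 4 ≤ F.card) : ∃ σ ∈ alt F, IsRoot σ := by
  obtain ⟨T, hT, h⟩ := Finset.exists_subset_card_eq h4
  obtain ⟨x, y, z, w, n1, n2, n3, n4, n5, n6, rfl⟩ := Finset.card_eq_four.mp h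
  refine ⟨swap x y * swap z w, ⟨StdAlt.PermTypes.swap_mul_mem n1 n6, fun p hp => ?_⟩,
    StdAlt.Roots.isRoot_swap_mul n1 n2 n3 n4 n5 n6⟩
  have hp' : p ∉ ({x, y, z, w} : Finset α) := fun h => hp (hT h)
  simp only [Finset.mem_insert, Finset.mem_singleton, not_or] at hp'
  exact StdAlt.d1_fix hp'.1 hp'.2.1 hp'.2.2.1 hp'.2.2.2

/-- **(H2)** -/
theorem H2 (P : PKE M) (P' : PKE M') (hS : S.card = S'.card) (dis : ∀ v, M.Rt v → ¬ M'.Rt v) {u : G}
    (hu : M.Rt u) (huB : u ∈ normalizer (B' : Set G)) : M'.φ u = 1 := by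
  by_contra hne
  have h9 := P.h9
  obtain ⟨t, ht, hut, hroot⟩ := exists_rt_act P P' hS hu huB hne
  have htN : t ∈ normalizer (B : Set G) := P.cent u hu (mem_cent.mpr hut.symm)
  have htS := M.mem_sym t htN
  have hφt : M.φ t ∈ alt S := ⟨hroot.mem_alternatingGroup, htS⟩
  -- a root `r` of `B` acting as `t`
  obtain ⟨r, hr, htr, hrφ⟩ := exists_rt (M := M) htN ht.2.1 hφt hroot rfl
  have hcard := card_fixIn (M.mem_sym r (rt_norm hr)) hr.2.2
  have htC : t ∈ centralizer ({r} : Set G) := mem_cent.mpr htr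
  have hrC : r ∈ centralizer ({t} : Set G) := mem_cent.mpr htr.symm
  have hfix : Fixes t (M.cmp r) := fixes_cmp P hr htC fun p hp => by
    rw [← hrφ]; exact (mem_fixIn.mp hp).2
  have hK0 := P.comp r hr
  have hK1 := (Cen.isComp_cen hK0 htC ht.2.1 hfix).1
  -- a root `v` of `B` in `K1`
  obtain ⟨σ, hσF, hσ⟩ := exists_root_alt (F := fixIn S (M.φ r)) (by omega)
  have hcomm : M.φ r * σ = σ * M.φ r := by
    have := comm_of_mem_sym_fixIn (alt_le_sym _ hσF)
    first | exact this | exact this.symm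
  obtain ⟨v, hvB, hvv, hrv, htv, hvσ⟩ := exists_inv_lift2 M (rt_norm hr) htN hr.2.1 ht.2.1 htr.symm
    (alt_mono (fixIn_subset _ _) hσF) hσ.1 hcomm (by rw [← hrφ]; exact hcomm)
  have hvRt : M.Rt v := ⟨hvB, hvv, by rw [hvσ]; exact hσ⟩
  have hvK0 : v ∈ M.cmp r := M.mem_cmp hvB hrv (by rw [hvσ]; exact hσF) (pow21 hvv)
  have hvK1 : v ∈ Cen.cen (M.cmp r) t := Cen.mem_cen hvK0 htv.symm (pow21 hvv)
  have hvC : v ∈ centralizer ({t} : Set G) := mem_cent.mpr htv.symm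
  have hvB' : v ∈ normalizer (B' : Set G) := P'.cent t ht hvC
  have hv1 : M'.φ v ≠ 1 := by
    intro h
    exact root_ne_one hroot (claim_T (M := M) (M' := M') (by omega) hS.le (by omega) hvRt
      (P.cent v hvRt) hvB' h ht.1 ht.2.1 htv.symm)
  have hcard' := card_fixIn (M'.mem_sym t (rt_norm ht)) ht.2.2
  have hKt := P'.comp t ht
  have hK1C : ∀ x ∈ Cen.cen (M.cmp r) t, x ∈ centralizer ({t} : Set G) := fun x hx =>
    Cen.cen_le_centralizer _ _ hx
  have hK1N : Cen.cen (M.cmp r) t ≤ normalizer (B' : Set G) := fun x hx =>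
    P'.cent t ht (hK1C x hx)
  have hfixT : ∀ y ∈ (M'.φ t).support, M'.φ v y = y := by
    intro y hy
    refine perfect_fix hK1.perfect (M'.hom.comp (Subgroup.inclusion hK1N)) (T := (M'.φ t).support)
      (le_of_eq ht.2.2.2) (fun x y hy => ?_) ⟨v, hvK1⟩ hy
    rw [mem_support] at hy ⊢
    have h1 : M'.φ x * M'.φ t = M'.φ t * M'.φ x :=
      M'.comm (hK1N x.2) (rt_norm ht) (mem_cent.mp (hK1C x x.2))
    intro h2
    change M'.φ t (M'.φ x y) = M'.φ x y at h2
    rw [← Perm.mul_apply, ← h1, Perm.mul_apply] at h2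
    exact hy ((M'.φ x).injective h2)
  have hnf : ¬ Fixes v (M'.cmp t) := by
    intro h
    apply hv1
    ext y
    rw [Perm.one_apply]
    by_cases hyS : y ∈ S'
    · by_cases hyt : M'.φ t y = y
      · exact M'.apply_of_fixes_cmp (rt_norm ht) ht.2.1 (by omega) hvB' h
          (mem_fixIn.mpr ⟨hyS, hyt⟩)
      · exact hfixT y (mem_support.mpr hyt)
    · exact M'.mem_sym v hvB' y hyS
  have hrN3 : r ∈ normalizer (M'.cmp t : Set G) := cent_le_cmp P' ht hrC
  have hK1' : IsComp (centralizer ({t} : Set G) ⊓ centralizer ({r} : Set G)) (Cen.cen (M.cmp r) t) := by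
    rw [inf_comm]; exact hK1
  have hle : Cen.cen (M.cmp r) t ≤ M'.cmp t := by
    rcases McLLyComp.PumpT.tc_le_or hrC hr.2.1 hK1'.tc hKt.tc hrN3 with h | h
    · exact h
    · exfalso
      apply hnf
      rw [hKt.fixes_iff hvC]
      exact h hvK1
  have hK1r : IsComp (M'.cmp t ⊓ centralizer ({r} : Set G)) (Cen.cen (M.cmp r) t) :=
    hK1'.restrict (inf_le_inf_right _ hKt.le) (le_inf hle (hK1'.le.trans inf_le_right))
  refine dis v hvRt ⟨M'.cmp_le _ (hle hvK1), hvv, ?_⟩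
  have hvalt := M'.cmp_mem_alt (hle hvK1)
  by_cases h7 : (fixIn S' (M'.φ t)).card ≤ 7
  · exact isRoot_of_small h7 hvalt (M'.sq hvB' hvv) hv1
  obtain ⟨M3, hM3⟩ := M'.exists_cmp (rt_norm ht) ht.2.1 (by omega)
  obtain ⟨M2, hM2⟩ := M.exists_cmp (rt_norm hr) hr.2.1 (by omega)
  have h2t : M2.φ t = 1 := (M2.fixes_iff hfix.1).mpr hfix
  have hcen := cmp_eq_cen M2 h2t
  have hΔ : fixIn (fixIn S (M.φ r)) (M2.φ t) = fixIn S (M.φ r) := by rw [h2t, fixIn_one]
  obtain ⟨e1, e5⟩ := (M3.isComp_iff_cmp hrN3 hr.2.1).mp hK1r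
  rw [← hcen] at e1 hvK1
  have hFΓ := card_eq_of_cmp M2 M3 hfix.1 ht.2.1 (by rw [hΔ]; omega) hrN3 hr.2.1 e5 e1
  rw [hΔ] at hFΓ
  have hF := M2.exists_cmp hfix.1 ht.2.1 (by rw [hΔ]; omega)
  obtain ⟨MF, hMF⟩ := hF
  have hΓ := M3.exists_cmp hrN3 hr.2.1 (by omega)
  rw [← e1] at hΓ
  obtain ⟨MΓ, hMΓ⟩ := hΓ
  obtain ⟨τ, -, hτ⟩ := MF.exists_bij MΓ (by rw [hΔ]; omega)
  have hvt : v ∈ M'.cmp t := hle (by rw [← hcen]; exact hvK1)
  rw [← hM3 v hvt, ← hMΓ v hvK1, hτ v (le_normalizer hvK1), hMF v hvK1, hM2 v hvK0, hvσ]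
  exact hσ.conj τ

end Cfsg.Agent.UAlt.Nine
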