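import Cfsg.Agent.UAlt.NineC
import Cfsg.Agent.UAlt.NBal
import Cfsg.Agent.CoverCore.Abs

/-!
# Section (9.3): (PK4) and (H3)
-/

set_option autoImplicit false
set_option linter.unusedSectionVars false

namespace Cfsg.Agent.UAlt.Nine

open Cfsg Equiv Equiv.Perm Subgroup
open Cfsg.Agent.Intrinsic.Basic Cfsg.Agent.Intrinsic Cfsg.Agent.Intrinsic.Diag Cfsg.Agent.Intrinsic.Cen
open Cfsg.Agent.SignalizersComponents Cfsg.Agent.Lib
open Cfsg.Agent.SignalizersComponents.IntrinsicBasic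
open Cfsg.Agent.UGT.Triple
open Cfsg.Agent.StdAlt.Roots (IsRoot)
open Cfsg.Agent.UAlt Cfsg.Agent.UAlt.PermPK
open scoped commutatorElement

variable {G : Type*} [Group G] [Finite G] {α : Type*} [Fintype α] [DecidableEq α]
variable {B B' : Subgroup G} {S S' : Finset α} {M : Mod B S} {M' : Mod B' S'}

/-- the type condition from the hypotheses on the ambient group -/
theorem noBig_of_hyp {n : ℕ} (H : Hyp G n) : NoBig G := by
  intro u t J I T hI k hk hAI
  obtain ⟨m, hm, h7, hmn, hAJ⟩ := H.big T T.x_mem (sq_of_order T.invx) hI hk hAI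
  obtain ⟨MJ⟩ := hAJ.mod_of_card (S := (Finset.univ : Finset (Fin m))) (by simp) h7
  have h3 := MJ.card_of_triple T
  obtain ⟨-, h5⟩ := (MJ.isComp_iff_cmp T.x_mem (sq_of_order T.invx)).mp hI
  omega

theorem noType_of_hyp {n : ℕ} (H : Hyp G n) {k : ℕ} (hk : 9 ≤ k) : NoType G k :=
  (noBig_of_hyp H).noType hk

/-- the labelling of `C_B(t)`, `t` trivial on `B` -/
theorem exists_D (P : PKE M) {t : G} (htN : t ∈ normalizer (B : Set G)) (htt : t * t = 1)
    (ht1 : M.φ t = 1) : ∃ MD : Mod (M.cmp t) S, ∀ x ∈ M.cmp t, MD.φ x = M.φ x := by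
  have h := M.exists_cmp htN htt (by rw [ht1, fixIn_one]; have := P.h9; omega)
  rw [ht1, fixIn_one] at h
  exact h

theorem mem_D {t : G} (ht1 : M.φ t = 1) {x : G} (hx : x ∈ B) (htx : t * x = x * t) {n : ℕ}
    (hn : x ^ 2 ^ n = 1) : x ∈ M.cmp t :=
  M.mem_cmp hx htx (by rw [ht1, fixIn_one]; exact M.mem_alt x hx) hn

theorem cmp_D_eq {t : G} (ht1 : M.φ t = 1) (MD : Mod (M.cmp t) S)
    (hMD : ∀ x ∈ M.cmp t, MD.φ x = M.φ x) {u : G} (hu : u ∈ M.cmp t) :
    MD.cmp u = cen (M.cmp u) t := by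
  apply le_antisymm
  · refine (Subgroup.closure_le _).mpr ?_
    rintro x ⟨hx, n, hn⟩
    obtain ⟨h1, h2, h3⟩ := hx
    rw [hMD x h1, hMD u hu] at h3
    exact mem_cen (M.mem_cmp (M.cmp_le t h1) h2 h3 hn) (M.cmp_comm h1).symm hn
  · refine (Subgroup.closure_le _).mpr ?_
    rintro x ⟨hx, n, hn⟩
    have h1 : x ∈ M.cmp u := hx.1
    have h2 : x * t = t * x := mem_cent.mp hx.2
    have h3 : x ∈ M.cmp t := mem_D ht1 (M.cmp_le u h1) h2.symm hn
    refine MD.mem_cmp h3 (M.cmp_comm h1) ?_ hn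
    rw [hMD x h3, hMD u hu]
    exact M.cmp_mem_alt h1

/-- the 2-component `C_{K_u}(t)^∞` of `C(t) ∩ C(u)` -/
theorem isComp_D (P : PKE M) {u t : G} (hu : M.Rt u) (htt : t * t = 1) (hut : u * t = t * u)
    (ht1 : M.φ t = 1) (MD : Mod (M.cmp t) S) (hMD : ∀ x ∈ M.cmp t, MD.φ x = M.φ x) :
    IsComp (centralizer ({t} : Set G) ⊓ centralizer ({u} : Set G)) (MD.cmp u) := by
  rw [cmp_D_eq ht1 MD hMD (mem_D ht1 hu.1 hut.symm (pow21 hu.2.1)), inf_comm]
  exact (isComp_cen (P.comp u hu) (mem_cent.mpr hut.symm) htt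
    (fixes_cmp P hu (mem_cent.mpr hut.symm) fun p _ => by rw [ht1]; rfl)).1

theorem le_normalizer_L2 (X : Subgroup G) : X ≤ normalizer (L2 X : Set G) := by
  have hn : (pLayer 2 ↥X).Normal := ClassificationK.PCompTransport.pLayer_normal 2
  have key : ∀ x ∈ X, ∀ y ∈ L2 X, x * y * x⁻¹ ∈ L2 X := by
    rintro x hx _ ⟨y, hy, rfl⟩
    exact ⟨⟨x, hx⟩ * y * ⟨x, hx⟩⁻¹, hn.conj_mem y hy _, rfl⟩
  intro x hx
  rw [mem_normalizer_iff]
  intro y
  refine ⟨key x hx y, fun h => ?_⟩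
  have h1 := key x⁻¹ (inv_mem hx) _ h
  rwa [show x⁻¹ * (x * y * x⁻¹) * x⁻¹⁻¹ = y by group] at h1

/-- a normal subgroup of `D` containing an element of nontrivial label covers `alt S` -/
theorem cover_of_normal {D : Subgroup G} (MD : Mod D S) {N : Subgroup G} (hND : N ≤ D)
    (hn : D ≤ normalizer (N : Set G)) {x : G} (hx : x ∈ N) (hx1 : MD.φ x ≠ 1) {σ : Perm α}
    (hσ : σ ∈ alt S) : ∃ y ∈ N, MD.φ y = σ := by
  have hsim := isSimpleGroup_alt MD.five
  have h1 : ((N.subgroupOf D).map MD.homK).Normal :=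
    (normal_subgroupOf_of_le_normalizer hn).map _ MD.homK_surjective
  rcases hsim.eq_bot_or_eq_top_of_normal _ h1 with h | h
  · exfalso
    apply hx1
    have h2 : MD.homK ⟨x, hND hx⟩ ∈ (N.subgroupOf D).map MD.homK := ⟨_, hx, rfl⟩
    rw [h] at h2
    exact congrArg Subtype.val (mem_bot.mp h2)
  · have h2 : (⟨σ, hσ⟩ : alt S) ∈ (N.subgroupOf D).map MD.homK := by rw [h]; trivial
    obtain ⟨y, hy, hyσ⟩ := h2
    exact ⟨y, hy, congrArg Subtype.val hyσ⟩

/-- **(PK4)** -/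
theorem pk4 (P : PKE M) (P' : PKE M') (hS : S.card = S'.card) (dis : ∀ v, M.Rt v → ¬ M'.Rt v)
    (NB : NoType G (S.card - 4)) {u t : G} (hu : M.Rt u) (ht : M'.Rt t) (hut : u * t = t * u) :
    core (centralizer ({u} : Set G)) ⊓ centralizer ({t} : Set G) ≤
      core (centralizer ({t} : Set G)) := by
  have htN : t ∈ normalizer (B : Set G) := P.cent u hu (mem_cent.mpr hut.symm)
  have ht1 : M.φ t = 1 := H2 P' P hS.symm (fun v h1 h2 => dis v h2 h1) ht htN
  obtain ⟨MD, hMD⟩ := exists_D P htN ht.2.1 ht1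
  have h9 := P.h9
  have huD : u ∈ M.cmp t := mem_D ht1 hu.1 hut.symm (pow21 hu.2.1)
  have hcard := card_fixIn (M.mem_sym u (rt_norm hu)) hu.2.2
  obtain ⟨σ, hσF, hσ⟩ := exists_root_alt (F := fixIn S (M.φ u)) (by omega)
  have hφu : MD.φ u = M.φ u := hMD u huD
  have hcomm : M.φ u * σ = σ * M.φ u := by
    have := comm_of_mem_sym_fixIn (alt_le_sym _ hσF)
    first | exact this | exact this.symm
  obtain ⟨u', hu'D, huu, huu', hu'σ⟩ := MD.exists_inv_lift (le_normalizer huD) (pow21 hu.2.1)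
    (alt_mono (fixIn_subset _ _) hσF) hσ.1 (by rw [hφu]; exact hcomm)
  have hu' : M.Rt u' := ⟨M.cmp_le _ hu'D, huu, by rw [← hMD u' hu'D, hu'σ]; exact hσ⟩
  have hu't : u' * t = t * u' := (M.cmp_comm hu'D).symm
  have h1 : u' ∈ MD.cmp u := MD.mem_cmp hu'D huu' (by rw [hu'σ, hφu]; exact hσF) (pow21 huu)
  have h2 : u ∈ MD.cmp u' := by
    refine MD.mem_cmp huD huu'.symm ?_ (pow21 hu.2.1)
    rw [hu'σ, hφu]
    refine ⟨(rt_mem_alt hu).1, fun x hx => ?_⟩
    by_cases hxS : x ∈ S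
    · by_contra hne
      apply hx
      refine mem_fixIn.mpr ⟨hxS, hσF.2 x fun h => hne (mem_fixIn.mp h).2⟩
    · exact (rt_mem_alt hu).2 x hxS
  have hZ := isComp_D P hu ht.2.1 hut ht1 MD hMD
  have hZ' := isComp_D P hu' ht.2.1 hu't ht1 MD hMD
  have huC : u ∈ centralizer ({t} : Set G) := mem_cent.mpr hut
  have hu'C : u' ∈ centralizer ({t} : Set G) := mem_cent.mpr hu't
  have huL : u ∈ L2 (centralizer ({t} : Set G)) := isComp_le_L2 hu'C huu hZ' h2
  have hu'L : u' ∈ L2 (centralizer ({t} : Set G)) := isComp_le_L2 huC hu.2.1 hZ h1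
  obtain ⟨J₀, hJ₀, -, hor⟩ := McLLyComp.PumpT.exists_pump huC hu.2.1 hZ
  have hle : MD.cmp u ≤ J₀ := by
    rcases hor with ⟨-, h⟩ | ⟨h, -⟩
    · exact h
    · exact absurd (mem_normalizer_iff_cj.mp (hJ₀.L2_le_normalizer huL)) h
  -- `u'` is conjugate to `u` under `D ∩ L2 (C(t))`
  obtain ⟨y, hyD, hyL, hyu⟩ : ∃ y ∈ M.cmp t, y ∈ L2 (centralizer ({t} : Set G)) ∧
      y * u * y⁻¹ = u' := by
    have hDC : M.cmp t ≤ centralizer ({t} : Set G) := fun x hx =>
      mem_cent.mpr (M.cmp_comm hx).symm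
    have hLn : centralizer ({t} : Set G) ≤ normalizer (L2 (centralizer ({t} : Set G)) : Set G) :=
      le_normalizer_L2 _
    have hn : M.cmp t ≤ normalizer ((M.cmp t ⊓ L2 (centralizer ({t} : Set G)) : Subgroup G) : Set G) := by
      intro x hx
      rw [mem_normalizer_iff_cj, cj_inf, cj_eq_self_of_mem hx,
        mem_normalizer_iff_cj.mp (hLn (hDC hx))]
    obtain ⟨c, hc, hcu⟩ := exists_conj_in (by omega) (MD.mem_alt u huD) (MD.mem_alt u' hu'D)
      (by rw [hφu]; exact hu.2.2) (by rw [hu'σ]; exact hσ)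
    obtain ⟨g, hg, rfl⟩ := cover_of_normal MD inf_le_left hn ⟨huD, huL⟩
      (by rw [hφu]; exact root_ne_one hu.2.2) hc
    have hgN := le_normalizer (H := M.cmp t) hg.1
    have hguD : g * u * g⁻¹ ∈ M.cmp t := mul_mem (mul_mem hg.1 huD) (inv_mem hg.1)
    have hguL : g * u * g⁻¹ ∈ L2 (centralizer ({t} : Set G)) :=
      mul_mem (mul_mem hg.2 huL) (inv_mem hg.2)
    have h3 : (g * u * g⁻¹)⁻¹ * u' ∈ core (M.cmp t) := by
      rw [← MD.eq_iff hguD hu'D, MD.conj hgN (le_normalizer huD)]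
      exact hcu
    have h4 : (g * u * g⁻¹)⁻¹ * u' ∈ L2 (centralizer ({t} : Set G)) := mul_mem (inv_mem hguL) hu'L
    have hodd : Odd (Nat.card (core (M.cmp t) ⊓ L2 (centralizer ({t} : Set G)) : Subgroup G)) :=
      Odd.of_dvd_nat (odd_card_core _) (card_dvd_of_le inf_le_left)
    obtain ⟨o, ho, h5⟩ := Lifting.exists_conj_eq hodd (v := g * u * g⁻¹) (v' := u') (n := 1) (m := 1)
      (pow21 (by rw [show g * u * g⁻¹ * (g * u * g⁻¹) = g * (u * u) * g⁻¹ by group, hu.2.1]; group))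
      (pow21 huu) (by
        rw [mem_normalizer_iff_cj, cj_inf, cj_eq_self_of_mem hguL,
          mem_normalizer_iff_cj.mp (le_normalizer_core _ hguD)]) ⟨h3, h4⟩
    refine ⟨o * g, mul_mem (core_le _ ho.1) hg.1, mul_mem ho.2 hg.2, ?_⟩
    rw [← h5]; group
  have hJ : MD.cmp u' ≤ J₀ := by
    have e1 : MD.cmp u' = cj y (MD.cmp u) := by
      have h3 : IsComp (M.cmp t ⊓ centralizer ({u'} : Set G)) (cj y (MD.cmp u)) := by
        have h4 := (MD.isComp_cmp (le_normalizer huD) hu.2.1 (by rw [hφu]; omega)).cj y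
        rw [cj_inf, cj_eq_self_of_mem hyD, cj_centralizer, hyu] at h4
        exact h4
      exact ((MD.isComp_iff_cmp (le_normalizer hu'D) huu).mp h3).1.symm
    rw [e1]
    have e2 : cj y J₀ = J₀ := mem_normalizer_iff_cj.mp (hJ₀.L2_le_normalizer hyL)
    calc cj y (MD.cmp u) ≤ cj y J₀ := cj_mono hle
      _ = J₀ := e2
  rintro d ⟨hd, hdt⟩
  by_contra hn
  obtain ⟨J, T⟩ := exists_triple (rt_order hu) (rt_order ht) hut.symm hd hdt hn
  have hJJ : J = J₀ := by
    by_contra hne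
    exact T.not_fixes (T.comp.fixes_of_mem hJ₀ hne (hJ h2))
  subst hJJ
  have hI : IsComp (J ⊓ centralizer ({u} : Set G)) (MD.cmp u) :=
    hZ.restrict (inf_le_inf_right _ T.comp.le) (le_inf hle (hZ.le.trans inf_le_right))
  have hty := MD.altType_cmp (le_normalizer huD) hu.2.1 (by rw [hφu]; omega)
  have hk : (fixIn S (MD.φ u)).card = S.card - 4 := by rw [hφu]; omega
  rw [hk] at hty
  exact NB u t J (MD.cmp u) T (hJ h2) hI hty

/-- the core of `B` lies in the core of `B'` -/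
theorem core_le_core (P : PKE M) (P' : PKE M') (hS : S.card = S'.card)
    (dis : ∀ v, M.Rt v → ¬ M'.Rt v) (NB : NoType G (S.card - 4)) {u : G} (hu : M.Rt u)
    (huN : u ∈ normalizer (B' : Set G)) : core B ≤ core B' := by
  have h9 := P.h9
  have h9' := P'.h9
  have step : ∀ s, M'.Rt s → s ∈ normalizer (B : Set G) → ∀ x ∈ core B, x * s = s * x →
      x ∈ core B' := by
    intro s hs hsN x hx hxs
    obtain ⟨-, -, -, -, a, b, -, -, -, -, -, -, ha, hb, hab, hc, hsa, hsb, -⟩ :=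
      exists_four (by omega) M hsN hs.2.1
    have hne : a ≠ b := by
      rintro rfl
      exact rt_ne_one hab ha.2.1
    have key : ∀ c, M.Rt c → s * c = c * s → ∀ x ∈ core B ⊓ centralizer ({s} : Set G),
        x * c = c * x → x ∈ core B' := by
      intro c hc hsc x hx hxc
      have h1 : x ∈ core (centralizer ({c} : Set G)) := by
        rw [← P.core c hc]
        exact ⟨hx.1, mem_cent.mpr hxc⟩
      have h2 := pk4 P P' hS dis NB hc hs hsc.symm ⟨h1, hx.2⟩
      rw [← P'.core s hs] at h2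
      exact h2.1
    have hconj : ∀ c, M.Rt c → s * c = c * s → ∀ x ∈ core B ⊓ centralizer ({s} : Set G),
        c * x * c⁻¹ ∈ core B ⊓ centralizer ({s} : Set G) := by
      intro c hc hsc x hx
      have hcC : c ∈ centralizer ({s} : Set G) := mem_cent.mpr hsc.symm
      exact ⟨conj_mem_core (rt_norm hc) hx.1,
        (centralizer ({s} : Set G)).mul_mem ((centralizer ({s} : Set G)).mul_mem hcC hx.2)
          ((centralizer ({s} : Set G)).inv_mem hcC)⟩
    have hsab : s * (a * b) = a * b * s := by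
      rw [← mul_assoc, hsa, mul_assoc, hsb, mul_assoc]
    exact CoverCore.Abs.le_of_four (K := core B ⊓ centralizer ({s} : Set G)) (L := core B')
      ha.2.1 hb.2.1 hc (rt_ne_one ha) (rt_ne_one hb) hne
      (Odd.of_dvd_nat (odd_card_core B) (card_dvd_of_le inf_le_left)) (hconj a ha hsa)
      (hconj b hb hsb) (key a ha hsa) (key b hb hsb) (key (a * b) hab hsab)
      ⟨hx, mem_cent.mpr hxs⟩
  obtain ⟨-, -, -, -, r, r', -, -, -, -, -, -, hr, hr', hrr', hc, hur, hur', -⟩ :=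
    exists_four (by omega) M' huN hu.2.1
  have hne : r ≠ r' := by
    rintro rfl
    exact rt_ne_one hrr' hr.2.1
  have hrN : r ∈ normalizer (B : Set G) := P.cent u hu (mem_cent.mpr hur.symm)
  have hrN' : r' ∈ normalizer (B : Set G) := P.cent u hu (mem_cent.mpr hur'.symm)
  exact CoverCore.Abs.le_of_four (K := core B) (L := core B') hr.2.1 hr'.2.1 hc (rt_ne_one hr)
    (rt_ne_one hr') hne (odd_card_core B) (fun x hx => conj_mem_core hrN hx)
    (fun x hx => conj_mem_core hrN' hx) (step r hr hrN) (step r' hr' hrN')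
    (step (r * r') hrr' (mul_mem hrN hrN'))

/-- **(H3)** -/
theorem H3 (P : PKE M) (P' : PKE M') (hS : S.card = S'.card) (dis : ∀ v, M.Rt v → ¬ M'.Rt v)
    (NB : NoType G (S.card - 4)) {u t : G} (hu : M.Rt u) (ht : M'.Rt t) (hut : u * t = t * u) :
    core B = core B' :=
  le_antisymm
    (core_le_core P P' hS dis NB hu (P'.cent t ht (mem_cent.mpr hut)))
    (core_le_core P' P hS.symm (fun v h1 h2 => dis v h2 h1) (by rw [← hS]; exact NB) ht
      (P.cent u hu (mem_cent.mpr hut.symm)))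

end Cfsg.Agent.UAlt.Nine
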