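import Cfsg.Agent.LThreeFour.Solv
import Cfsg.Agent.LThreeFour.Exists
import Cfsg.Agent.Lib.KleinGen

/-!
# Odd groups of automorphisms of `L3(4)` commuting with an involutory automorphism

`A : Dat L`, `α` an outer involutory automorphism fixing the elements of a four-group `⟨v, w⟩` of `L`: a group of
automorphisms of odd order commuting with `α` and normalised by `v`, `w` is trivial.
-/

set_option autoImplicit false
set_option linter.constructorNameAsVariable false
set_option linter.unusedVariables false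

namespace Cfsg.Agent.UAlt.SmallLThreeModel

open Cfsg.Agent.SporadicA.FieldFour
open Cfsg.Agent.LThreeFour Cfsg.Agent.LThreeFour.Dat
open Subgroup

/-- the centraliser of a field or graph type in the type group is a 2-group -/
theorem cent_type : ∀ g k : TyG, g * g = 1 → g ≠ 1 → bits g ≠ (true, true) → k * g = g * k →
    k * k = 1 := by
  decide +kernel

variable {L : Type*} [Group L]

/-- squares in a closure of commuting involutions -/
theorem sq_closure {M : Type*} [Group M] {S : Set M} (hc : ∀ x ∈ S, ∀ y ∈ S, x * y = y * x)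
    (hs : ∀ x ∈ S, x * x = 1) : ∀ x ∈ closure S, x * x = 1 := by
  have hcomm : ∀ x ∈ closure S, ∀ y ∈ closure S, x * y = y * x := by
    intro x hx y hy
    have h1 : closure S ≤ centralizer S := by
      rw [closure_le]
      intro a ha
      exact mem_centralizer_iff.mpr fun b hb => hc b hb a ha
    have h2 : closure S ≤ centralizer (closure S : Set M) := by
      rw [closure_le]
      intro a ha
      exact mem_centralizer_iff.mpr fun b hb => (mem_centralizer_iff.mp (h1 hb) a ha).symm
    exact mem_centralizer_iff.mp (h2 hy) x hx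
  intro x hx
  induction hx using closure_induction with
  | mem x hx => exact hs x hx
  | one => exact mul_one 1
  | mul x y hx hy h1 h2 =>
    calc x * y * (x * y) = x * (y * x) * y := by group
      _ = x * (x * y) * y := by rw [hcomm y hy x hx]
      _ = (x * x) * (y * y) := by group
      _ = 1 := by rw [h1, h2, one_mul]
  | inv x hx h1 => rw [← mul_inv_rev, h1, inv_one]

/-- an outer involutory automorphism with both bits fixes no four-group of `L` -/
theorem bits_ne (A : Dat L) {α : MulAut L} (h2 : α * α = 1) {v w : L} (hv : v ≠ 1) (hw : w ≠ 1)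
    (hvw : v ≠ w) (hv2 : v * v = 1) (hw2 : w * w = 1) (hcomm : v * w = w * v) (hαv : α v = v)
    (hαw : α w = w) : bits (A.tyHom α) ≠ (true, true) := by
  intro hb
  have hout : A.tyHom α ≠ 1 := by
    intro h
    rw [h] at hb
    exact absurd hb (by decide)
  have hαc : ∀ y, α y = y → α * MulAut.conj y = MulAut.conj y * α := by
    intro y hy
    have := conj_map α y
    rw [hy] at this
    rw [eq_mul_inv_iff_mul_eq] at this
    exact this.symm
  set S : Set (MulAut L) := {α, MulAut.conj v, MulAut.conj w} with hS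
  have hc : ∀ x ∈ S, ∀ y ∈ S, x * y = y * x := by
    have e : MulAut.conj v * MulAut.conj w = MulAut.conj w * MulAut.conj v := by
      rw [← map_mul, hcomm, map_mul]
    rintro x (rfl | rfl | rfl) y (rfl | rfl | rfl)
    · rfl
    · exact hαc v hαv
    · exact hαc w hαw
    · exact (hαc v hαv).symm
    · rfl
    · exact e
    · exact (hαc w hαw).symm
    · exact e.symm
    · rfl
  have hs : ∀ x ∈ S, x * x = 1 := by
    rintro x (rfl | rfl | rfl)
    · exact h2
    · rw [← map_mul, hv2, map_one]
    · rw [← map_mul, hw2, map_one]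
  have hE := sq_closure hc hs
  have hα : α ∈ closure S := subset_closure (by rw [hS]; simp)
  have hv' : MulAut.conj v ∈ closure S := subset_closure (by rw [hS]; simp)
  have hw' : MulAut.conj w ∈ closure S := subset_closure (by rw [hS]; simp)
  have hτ : (A.tyHom α).ty ≠ ty1 := fun h => hout (TyG.ext h)
  have h3 := card_inner_le (A := A) (closure S) hE hα hτ (A.hasTy_tyHom α)
  have h4 : (fxs (A.tyHom α).ty).card ≤ 2 := by
    refine card_fxs' _ (congrArg Prod.fst hb) (congrArg Prod.snd hb) ?_
    have h5 : A.tyHom α * A.tyHom α = 1 := by rw [← map_mul, h2, map_one]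
    exact congrArg TyG.ty h5
  -- four inner elements
  have hmem : ∀ x : ↥(MonoidHom.range (MulAut.conj : L →* MulAut L)), True := fun _ => trivial
  have : Finite (MulAut L) := A.finite_aut
  have h5 : 3 ≤ Nat.card {x // x ∈ closure S ∧ A.tyHom x = 1} := by
    let f : Fin 3 → {x // x ∈ closure S ∧ A.tyHom x = 1} :=
      ![⟨1, one_mem _, map_one _⟩, ⟨MulAut.conj v, hv', A.tyHom_conj v⟩,
        ⟨MulAut.conj w, hw', A.tyHom_conj w⟩]
    have hinj : Function.Injective f := by
      have e1 : MulAut.conj v ≠ 1 := fun h => hv (A.conj_eq_one h)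
      have e2 : MulAut.conj w ≠ 1 := fun h => hw (A.conj_eq_one h)
      have e3 : MulAut.conj v ≠ MulAut.conj w := fun h => hvw (A.conj_injective h)
      intro i j hij
      have hij' := congrArg Subtype.val hij
      fin_cases i <;> fin_cases j
      · rfl
      · exact absurd hij'.symm e1
      · exact absurd hij'.symm e2
      · exact absurd hij' e1
      · rfl
      · exact absurd hij' e3
      · exact absurd hij' e2
      · exact absurd hij'.symm e3
      · rfl
    have := Nat.card_le_card_of_injective f hinj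
    rwa [Nat.card_eq_fintype_card, Fintype.card_fin] at this
  omega

/-- an automorphism of odd order commuting with `α` and fixing an involution of `L` is trivial -/
theorem eq_one_of_fix (A : Dat L) {α : MulAut L} (h2 : α * α = 1) (hout : A.tyHom α ≠ 1)
    (hb : bits (A.tyHom α) ≠ (true, true)) {d : MulAut L} (hd : Odd (orderOf d)) (hdα : d * α = α * d)
    {v : L} (hv : v ≠ 1) (hv2 : v * v = 1) (hdv : d v = v) : d = 1 := by
  have h1 : A.tyHom d = 1 := by
    have h3 : A.tyHom d * A.tyHom d = 1 := by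
      refine cent_type (A.tyHom α) _ ?_ hout hb ?_
      · rw [← map_mul, h2, map_one]
      · rw [← map_mul, ← map_mul, hdα]
    have h4 : orderOf (A.tyHom d) ∣ 2 := orderOf_dvd_of_pow_eq_one (by rw [pow_two, h3])
    have h5 : orderOf (A.tyHom d) ∣ orderOf d := orderOf_map_dvd _ _
    have h6 : orderOf (A.tyHom d) = 1 := by
      have h7 : Odd (orderOf (A.tyHom d)) := Odd.of_dvd_nat hd h5
      rcases (Nat.dvd_prime Nat.prime_two).mp h4 with h | h
      · exact h
      · rw [h] at h7; exact absurd h7 (by decide)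
    exact orderOf_eq_one_iff.mp h6
  obtain ⟨l, rfl⟩ := A.inner_iff.mp h1
  -- `l` centralises the involution `v`
  obtain ⟨g, hg⟩ := A.invol_conj v hv hv2
  have h3 : l * v * l⁻¹ = v := hdv
  have h4 : g * l * g⁻¹ * A.x 0 2 1 = A.x 0 2 1 * (g * l * g⁻¹) := by
    rw [← hg]
    calc g * l * g⁻¹ * (g * v * g⁻¹) = g * (l * v * l⁻¹) * l * g⁻¹ := by group
      _ = g * v * l * g⁻¹ := by rw [h3]
      _ = g * v * g⁻¹ * (g * l * g⁻¹) := by group
  obtain ⟨p, hp⟩ := A.cent _ h4
  have h5 : IsPGroup 2 A.T := IsPGroup.of_card (n := 6) (by rw [A.card_T]; rfl)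
  obtain ⟨n, hn⟩ := h5 ⟨g * l * g⁻¹, p, hp.symm⟩
  have h6 : (g * l * g⁻¹) ^ 2 ^ n = 1 := congrArg Subtype.val hn
  have h7 : l ^ 2 ^ n = 1 := by
    rw [conj_pow] at h6
    have : l ^ 2 ^ n = g⁻¹ * (g * l ^ 2 ^ n * g⁻¹) * g := by group
    rw [this, h6]; group
  have h8 : (MulAut.conj l : MulAut L) ^ 2 ^ n = 1 := by rw [← map_pow, h7, map_one]
  have h9 := orderOf_dvd_of_pow_eq_one h8
  have h10 : orderOf (MulAut.conj l : MulAut L) = 1 :=
    Nat.eq_one_of_dvd_coprimes (Nat.Coprime.pow_left n hd.coprime_two_left) h9 dvd_rfl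
  exact orderOf_eq_one_iff.mp h10

/-- **Model fact.** -/
theorem eq_bot (A : Dat L) {α : MulAut L} (h2 : α * α = 1) (hout : A.tyHom α ≠ 1)
    {D : Subgroup (MulAut L)} (hD : Odd (Nat.card D)) (hDα : ∀ d ∈ D, d * α = α * d)
    {v w : L} (hv : v ≠ 1) (hw : w ≠ 1) (hvw : v ≠ w) (hv2 : v * v = 1) (hw2 : w * w = 1)
    (hcomm : v * w = w * v) (hαv : α v = v) (hαw : α w = w)
    (hDv : ∀ d ∈ D, MulAut.conj v * d * (MulAut.conj v)⁻¹ ∈ D)
    (hDw : ∀ d ∈ D, MulAut.conj w * d * (MulAut.conj w)⁻¹ ∈ D) : D = ⊥ := by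
  have hb := bits_ne A h2 hv hw hvw hv2 hw2 hcomm hαv hαw
  have key : ∀ u : L, u ≠ 1 → u * u = 1 → D ⊓ centralizer {MulAut.conj u} ≤ ⊥ := by
    intro u hu hu2 d hd
    obtain ⟨hd1, hd2⟩ := hd
    have h3 : d * MulAut.conj u = MulAut.conj u * d := mem_centralizer_singleton_iff.mp hd2
    have h4 : d u = u := by
      have h5 := conj_map d u
      rw [h3, mul_inv_cancel_right] at h5
      exact A.conj_injective h5
    refine mem_bot.mpr (eq_one_of_fix A h2 hout hb (Odd.of_dvd_nat hD ?_) (hDα d hd1) hu hu2 h4)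
    have := orderOf_dvd_natCard (⟨d, hd1⟩ : D)
    rwa [Subgroup.orderOf_mk] at this
  rw [eq_bot_iff]
  refine Lib.KleinGen.le_of_klein D ⊥ hD (MulAut.conj v) (MulAut.conj w) ?_ ?_ ?_ hDv hDw
    (key v hv hv2) (key w hw hw2) ?_
  · rw [← map_mul, hv2, map_one]
  · rw [← map_mul, hw2, map_one]
  · rw [← map_mul, hcomm, map_mul]
  · rw [← map_mul]
    refine key (v * w) ?_ ?_
    · intro h
      apply hvw
      have h3 : v⁻¹ = v := inv_eq_of_mul_eq_one_left hv2
      rw [mul_eq_one_iff_inv_eq, h3] at h
      exact h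
    · calc v * w * (v * w) = v * (w * v) * w := by group
        _ = (v * v) * (w * w) := by rw [← hcomm]; group
        _ = 1 := by rw [hv2, hw2, one_mul]

end Cfsg.Agent.UAlt.SmallLThreeModel
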