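import Cfsg.Agent.UAlt.SmallTools
import Cfsg.Agent.UAlt.SmallLThreeModel
import Cfsg.Agent.UGT.Iface

/-!
# Triples of type `L3(4)` (or a cover): `x` is trivial on no alternating 2-component below `J`

`false_of_l34`: if `(x, f, J)` is a triple with `J / Z*(J) ≅ L3(4)`, then `x` does not fix a subgroup `E ≤ J` which is a
2-component of some subgroup and alternating of degree at least five modulo its odd core.
-/

set_option autoImplicit false
set_option linter.unusedSectionVars false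

open Cfsg Subgroup
open Cfsg.Agent.Intrinsic.Basic Cfsg.Agent.Intrinsic.Cen
open Cfsg.Agent.SignalizersComponents Cfsg.Agent.Lib
open Cfsg.Agent.SignalizersComponents.IntrinsicBasic
open Cfsg.Agent.UGT.Triple Cfsg.Agent.UGT.Iface
open scoped commutatorElement

namespace Cfsg.Agent.UAlt.SmallLThree

open Cfsg.Agent.UAlt.SmallTools Cfsg.Agent.UAlt.SmallLThreeModel
open Cfsg.Agent.LThreeFour

variable {G : Type*} [Group G] [Finite G]

/-- `x` is trivial on no alternating subgroup of a triple of type `L3(4)` -/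
theorem false_of_l34 {x f : G} {J : Subgroup G} (T : IsTriple x f J) (h34 : IsL34 (Zb J))
    {E H : Subgroup G} (hE : IsComp H E) (hEJ : E ≤ J) {k : ℕ} (hk : 5 ≤ k) (hA : AltType E k)
    (hf : Fixes x E) : False := by
  obtain ⟨F, _, _, hF, ⟨e⟩⟩ := h34
  obtain ⟨A⟩ := exists_dat hF e
  have hJ : ⁅J, J⁆ = J := T.comp.perfect
  have hx2 : x * x = 1 := sq_of_order T.invx
  obtain ⟨Y, hYE, hY, hYA, hYx⟩ := exists_cen hE hA hx2 hf
  have hYJ : Y ≤ J := hYE.trans hEJ
  have hJN : J ≤ normalizer (J : Set G) := le_normalizer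
  obtain ⟨v, hv, w, hw, hv1, hw1, hvw, hv2, hw2, hc⟩ := exists_four (by omega) hYA
  obtain ⟨α, hα⟩ : ∃ α, α = act J ⟨x, T.x_mem⟩ := ⟨_, rfl⟩
  have hα2 : α * α = 1 := by
    rw [hα, ← map_mul]
    have : (⟨x, T.x_mem⟩ * ⟨x, T.x_mem⟩ : ↥(normalizer (J : Set G))) = 1 := Subtype.ext hx2
    rw [this, map_one]
  have hα1 : α ≠ 1 := fun h => T.not_fixes (fixes_of_act hJ T.x_mem (by rw [← hα]; exact h))
  -- elements commuting with `x` commute with `α`
  have hcα : ∀ (y : G) (hy : y ∈ normalizer (J : Set G)), y * x = x * y →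
      act J ⟨y, hy⟩ * α = α * act J ⟨y, hy⟩ := by
    intro y hy h
    rw [hα, ← map_mul, ← map_mul]
    congr 1
    exact Subtype.ext h
  -- elements of `J` commuting with `x` are fixed by `α`
  have hfix : ∀ (y : G) (hy : y ∈ J), y * x = x * y → α (cls hy) = cls hy := by
    intro y hy h
    have h1 := hcα y (hJN hy) h
    rw [act_mem hy] at h1
    have h2 := Dat.conj_map α (cls hy)
    rw [← h1, mul_inv_cancel_right] at h2
    exact A.conj_injective h2
  have hne : ∀ (u : G) (hu : u ∈ Y), u ≠ 1 → u * u = 1 → cls (hYJ hu) ≠ 1 := by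
    intro u hu h1 h2 h3
    apply act_ne_one hJ hYJ hY hk hYA hu h1 h2 (hJN (hYJ hu))
    rw [act_mem (hYJ hu), h3, map_one]
  by_cases hout : A.tyHom α = 1
  · -- `α` is inner
    obtain ⟨z, hz⟩ := A.inner_iff.mp hout
    have hz1 : z ≠ 1 := by
      rintro rfl
      rw [map_one] at hz
      exact hα1 hz
    have hz2 : z * z = 1 := by
      apply A.conj_injective
      rw [map_mul, ← hz, hα2, map_one]
    let ι : ↥Y →* ↥(normalizer (J : Set G)) := inclusion (hYJ.trans le_normalizer)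
    have hperf : commutator ↥Y = ⊤ := by
      apply Subgroup.map_injective Y.subtype_injective
      rw [_root_.commutator_def, Subgroup.map_commutator, ← MonoidHom.range_eq_map,
        Subgroup.range_subtype, hY.perfect]
    have key := A.perfect_fix hperf ((act J).comp ι) hz1 hz2 (fun y => by
      have h1 := hcα y (hJN (hYJ y.2)) (hYx y y.2)
      have h2 := Dat.conj_map (act J ⟨y, hJN (hYJ y.2)⟩) z
      rw [← hz, h1, mul_inv_cancel_right, hz] at h2
      exact A.conj_injective h2)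
    have h3 := key ⟨v, hv⟩
    exact act_ne_one hJ hYJ hY hk hYA hv hv1 hv2 (hJN (hYJ hv)) h3
  · -- `α` is outer
    obtain ⟨D0, hD0⟩ : ∃ D0, D0 = (core (centralizer ({x} : Set G)) ⊓ centralizer ({f} : Set G)).subgroupOf
        (normalizer (J : Set G)) := ⟨_, rfl⟩
    have hmem : ∀ y : ↥(normalizer (J : Set G)), y ∈ D0 ↔ (y : G) ∈ core (centralizer ({x} : Set G)) ∧
        (y : G) ∈ centralizer ({f} : Set G) := fun y => by rw [hD0]; rfl
    have hodd : Odd (Nat.card (D0.map (act J))) := by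
      refine Odd.of_dvd_nat (odd_card_core (centralizer ({x} : Set G))) ?_
      refine (Subgroup.card_map_dvd _ _).trans ?_
      rw [hD0]
      refine (card_comap_dvd_of_injective _ _ (subtype_injective _)).trans ?_
      exact card_dvd_of_le inf_le_left
    have hDα : ∀ d ∈ D0.map (act J), d * α = α * d := by
      rintro _ ⟨⟨y, hy⟩, hy1, rfl⟩
      exact hcα y hy (comm_c (core_le _ ((hmem _).mp hy1).1))
    have hYc : ∀ u ∈ Y, u ∈ centralizer ({x} : Set G) ∧ u ∈ centralizer ({f} : Set G) :=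
      fun u hu => ⟨mem_c (hYx u hu), T.comp.le (hYJ hu)⟩
    have hDu : ∀ (u : G) (hu : u ∈ Y), ∀ d ∈ D0.map (act J),
        MulAut.conj (cls (hYJ hu)) * d * (MulAut.conj (cls (hYJ hu)))⁻¹ ∈ D0.map (act J) := by
      rintro u hu _ ⟨⟨y, hy⟩, hy1, rfl⟩
      rw [← act_mem (hYJ hu) (hJN (hYJ hu)), ← map_inv, ← map_mul, ← map_mul]
      refine ⟨_, (hmem _).mpr ⟨?_, ?_⟩, rfl⟩
      · exact conj_core (hYc u hu).1 ((hmem _).mp hy1).1
      · exact mul_mem (mul_mem (hYc u hu).2 ((hmem _).mp hy1).2) (inv_mem (hYc u hu).2)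
    have hsq : ∀ (u : G) (hu : u ∈ Y), u * u = 1 → cls (hYJ hu) * cls (hYJ hu) = 1 := by
      intro u hu h
      rw [← cls_mul]
      have : ∀ (a : G) (ha : a ∈ J), a = 1 → cls ha = 1 := by
        rintro a ha rfl; rfl
      exact this _ _ h
    have hbot := SmallLThreeModel.eq_bot A hα2 hout hodd hDα (v := cls (hYJ hv)) (w := cls (hYJ hw))
      (hne v hv hv1 hv2) (hne w hw hw1 hw2) (by
        intro h
        have hvw' : v * w ∈ Y := mul_mem hv hw
        refine hne (v * w) hvw' ?_ ?_ ?_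
        · intro h1
          apply hvw
          have h3 : v⁻¹ = v := inv_eq_of_mul_eq_one_left hv2
          rw [mul_eq_one_iff_inv_eq, h3] at h1
          exact h1
        · calc v * w * (v * w) = v * (w * v) * w := by group
            _ = (v * v) * (w * w) := by rw [← hc]; group
            _ = 1 := by rw [hv2, hw2, one_mul]
        · rw [cls_mul (hYJ hv) (hYJ hw), h]
          exact hsq w hw hw2) (hsq v hv hv2) (hsq w hw hw2) (by
        rw [← cls_mul, ← cls_mul]
        congr 2) (hfix v (hYJ hv) (hYx v hv)) (hfix w (hYJ hw) (hYx w hw))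
      (hDu v hv) (hDu w hw)
    obtain ⟨d, hd, hdf, hnf⟩ := T.bad
    have hdN := T.mem_normalizer_of_core hd hdf
    apply hnf
    apply fixes_of_act hJ hdN
    have h1 : act J ⟨d, hdN⟩ ∈ D0.map (act J) := ⟨_, (hmem _).mpr ⟨hd, hdf⟩, rfl⟩
    rw [hbot, mem_bot] at h1
    exact h1

/-- **The `L3(4)` part of `Hyp.small`.** -/
theorem small_of_l34 {x f : G} {J : Subgroup G} (T : IsTriple x f J)
    (h34 : IsL34 (Bar J ⧸ center (Bar J))) :
    ∀ {t : G}, t ∈ centralizer ({f} : Set G) → t ∈ normalizer (J : Set G) → t * t = 1 →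
      ∀ {E : Subgroup G}, IsComp (J ⊓ centralizer ({t} : Set G)) E → ∀ {k : ℕ}, 5 ≤ k → AltType E k →
        Fixes x E → ∀ {U : Subgroup G}, U ≤ centralizer ({f} : Set G) → (∀ u ∈ U, u * u = 1) →
          Nat.card U = 4 → (∀ u ∈ U, u ∈ normalizer (J : Set G) ∧ u * t = t * u ∧ u * x = x * u ∧ Fixes u E) →
            ∃ u ∈ U, u ≠ 1 ∧ Fixes u J :=
  fun {_} _ _ _ {_} hE {_} hk hA hf {_} _ _ _ _ =>
    (false_of_l34 T h34 hE (hE.le.trans inf_le_left) hk hA hf).elim

end Cfsg.Agent.UAlt.SmallLThree
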