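import Cfsg.Agent.UAlt.SupplyL2

/-!
# Supply of `Hyp` from the list of the types

* `big_of_card`: no subgroup `E` of `J` has `E / O(E) = Alt(S)`, `|S| ≥ 9`, if `81` does not divide `|J / O(J)|`.
* `IsBS J`: `J / O(J)` satisfies `simple` and `big` trivially.
* `hyp_of_types`: `Hyp G n` if all triples are of type `A_m`, `m ≤ n`, or `PSL(2,q)`.
* `exists_hyp`: a triple of type `A_m`, `m ≥ 13`, gives a maximal one.
-/

set_option autoImplicit false

open Cfsg Equiv Equiv.Perm Subgroup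
open Cfsg.Agent.Intrinsic.Basic Cfsg.Agent.Intrinsic.Diag Cfsg.Agent.Intrinsic.Cen
open Cfsg.Agent.SignalizersComponents Cfsg.Agent.Lib
open Cfsg.Agent.SignalizersComponents.IntrinsicBasic
open Cfsg.Agent.McLLyComp.Act
open Cfsg.Agent.UGT.Triple Cfsg.Agent.UGT.PumpGen Cfsg.Agent.UGT.Iface
open Cfsg.Agent.GH.L2Aut
open scoped commutatorElement

namespace Cfsg.Agent.UAlt.Supply

universe u

variable {G : Type u} [Group G] [Finite G]

section card

theorem dvd_factorial {k : ℕ} (h9 : 9 ≤ k) : 81 ∣ k.factorial :=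
  (by decide : 81 ∣ Nat.factorial 9).trans (Nat.factorial_dvd_factorial h9)

theorem dvd_alt {k : ℕ} (h9 : 9 ≤ k) : 81 ∣ Nat.card (alternatingGroup (Fin k)) := by
  have : Nontrivial (Fin k) := Fin.nontrivial_iff_two_le.mpr (by omega)
  have h3 := two_mul_nat_card_alternatingGroup (α := Fin k)
  rw [Nat.card_perm, Nat.card_eq_fintype_card (α := Fin k), Fintype.card_fin] at h3
  have h4 := dvd_factorial h9
  rw [← h3] at h4
  exact (Nat.Coprime.dvd_mul_left (by norm_num)).mp h4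

omit [Finite G] in
theorem altType_card {E : Subgroup G} {k : ℕ} (h9 : 9 ≤ k) (h : AltType E k) :
    81 ∣ Nat.card (↥E ⧸ oddCore ↥E) := by
  obtain ⟨e⟩ := h
  rw [Nat.card_congr e.toEquiv]
  exact dvd_alt h9

/-- no alternating section on top of a subgroup of `J` if `81` does not divide `|J / O(J)|` -/
theorem big_of_card {J E : Subgroup G} (hE : E ≤ J) (h81 : ¬ 81 ∣ Nat.card (↥J ⧸ oddCore ↥J))
    {k : ℕ} (h9 : 9 ≤ k) : ¬ AltType E k := by
  intro h
  apply h81
  refine (altType_card h9 h).trans ?_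
  let f : ↥E →* ↥J ⧸ oddCore ↥J := (QuotientGroup.mk' (oddCore ↥J)).comp (inclusion hE)
  have h1 : f.ker ≤ oddCore ↥E := by
    intro x hx
    have h2 : (x : G) ∈ core J ⊓ E := by
      refine ⟨(mk_eq_one_iff (hE x.2)).mp hx, x.2⟩
    have h3 : core J ⊓ E ≤ core E := by
      refine le_core inf_le_right ?_ (Odd.of_dvd_nat (odd_card_core J) (card_dvd_of_le inf_le_left))
      intro g hg
      have h4 := mem_normalizer_iff_cj.mp (le_normalizer_core J (hE hg))
      have h5 := mem_normalizer_iff_cj.mp (le_normalizer hg)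
      rw [mem_normalizer_iff_cj, cj_inf, h4, h5]
    exact (mem_core_iff x.2).mp (h3 h2)
  have h2 := Subgroup.index_dvd_of_le h1
  rw [Subgroup.index_eq_card, Subgroup.index_ker] at h2
  exact h2.trans (Subgroup.card_subgroup_dvd_card _)

omit [Finite G] in
/-- `simple` from the order -/
theorem simple_of_card {J : Subgroup G} (h81 : ¬ 81 ∣ Nat.card (↥J ⧸ oddCore ↥J)) {k : ℕ} (h9 : 9 ≤ k)
    (g : (↥J ⧸ oddCore ↥J) →* alternatingGroup (Fin k)) (hg : Function.Surjective g) : False :=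
  h81 ((dvd_alt h9).trans (Subgroup.card_dvd_of_surjective g hg))

end card

section types

/-- the fact `small` for the triple `(x, f, J)` -/
def SmallP (x f : G) (J : Subgroup G) : Prop :=
  ∀ {t : G}, t ∈ centralizer ({f} : Set G) → t ∈ normalizer (J : Set G) → t * t = 1 →
    ∀ {E : Subgroup G}, IsComp (J ⊓ centralizer ({t} : Set G)) E → ∀ {k : ℕ}, 5 ≤ k → AltType E k →
      Fixes x E → ∀ {U : Subgroup G}, U ≤ centralizer ({f} : Set G) → (∀ u ∈ U, u * u = 1) →
        Nat.card U = 4 → (∀ u ∈ U, u ∈ normalizer (J : Set G) ∧ u * t = t * u ∧ u * x = x * u ∧ Fixes u E) →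
          ∃ u ∈ U, u ≠ 1 ∧ Fixes u J

/-- **`Hyp` from the list of the types**: `PSL(2,q)`, `A_m` with `m ≤ n`, or `81` does not divide the order and
`small` holds. -/
theorem hyp_of_types {n : ℕ} (hn : Odd n) (h13 : 13 ≤ n)
    (h : ∀ (x a : G) (L : Subgroup G), IsTriple x a L → IsL2 (Bar L) ∨
      (∃ m, Odd m ∧ 7 ≤ m ∧ m ≤ n ∧ IsAlt m (Bar L)) ∨ (¬ 81 ∣ Nat.card (Bar L) ∧ SmallP x a L)) :
    Hyp G n where
  odd := hn
  h13 := h13
  simple := by
    intro x f J hT k h9 g hg hk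
    rcases h x f J hT with ⟨F, _, _, ho, -, ⟨e⟩⟩ | ⟨m, -, h7, -, ⟨e⟩⟩ | ⟨h1, -⟩
    · have R := Rep.ofEquiv (two_ne_zero_of_odd ho) e
      rw [R.center_eq_bot, le_bot_iff] at hk
      exact ⟨MulEquiv.ofBijective g ⟨(MonoidHom.ker_eq_bot_iff g).mp hk, hg⟩⟩
    · have hs : IsSimpleGroup (alternatingGroup (Fin m)) :=
        alternatingGroup.isSimpleGroup (by rw [Nat.card_eq_fintype_card, Fintype.card_fin]; omega)
      have hs' : IsSimpleGroup (↥J ⧸ oddCore ↥J) := by
        have : Nontrivial (↥J ⧸ oddCore ↥J) := e.symm.injective.nontrivial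
        exact IsSimpleGroup.isSimpleGroup_of_surjective e.symm.toMonoidHom e.symm.surjective
      rcases g.normal_ker.eq_bot_or_eq_top with h1 | h1
      · exact ⟨MulEquiv.ofBijective g ⟨(MonoidHom.ker_eq_bot_iff g).mp h1, hg⟩⟩
      · exfalso
        have h3 := dvd_alt h9
        have h4 : Nat.card (alternatingGroup (Fin k)) = 1 := by
          have : Subsingleton (alternatingGroup (Fin k)) := by
            refine ⟨fun a b => ?_⟩
            obtain ⟨a, rfl⟩ := hg a
            obtain ⟨b, rfl⟩ := hg b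
            have e1 : a ∈ g.ker := h1 ▸ mem_top a
            have e2 : b ∈ g.ker := h1 ▸ mem_top b
            rw [MonoidHom.mem_ker.mp e1, MonoidHom.mem_ker.mp e2]
          exact Nat.card_of_subsingleton 1
        rw [h4] at h3
        norm_num at h3
    · exact (simple_of_card h1 h9 g hg).elim
  big := by
    intro x f J hT t ht htt E hE k h9 hA
    have hEJ : E ≤ J := hE.le.trans inf_le_left
    rcases h x f J hT with ⟨F, _, _, ho, -, ⟨e⟩⟩ | h1 | ⟨h1, -⟩
    · obtain ⟨M⟩ := hA.mod_of_card (S := (Finset.univ : Finset (Fin k))) (by simp) (by omega)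
      exact (big_of_l2 (Rep.ofEquiv (two_ne_zero_of_odd ho) e) hEJ M (by simp; omega)).elim
    · exact h1
    · exact (big_of_card hEJ h1 h9 hA).elim
  small := by
    intro x f J hT
    rcases h x f J hT with ⟨F, _, _, ho, -, ⟨e⟩⟩ | ⟨m, -, h7, -, h1⟩ | ⟨-, h1⟩
    · right
      intro t ht htJ htt E hE k h5 hA hx U hU hsq h4 hu
      exact small_of_l2 (Rep.ofEquiv (two_ne_zero_of_odd ho) e) hT.comp hE hU hsq h4
        fun u hu' => ⟨(hu u hu').1, (hu u hu').2.1, (hu u hu').2.2.2⟩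
    · exact Or.inl ⟨m, h7, h1⟩
    · exact Or.inr h1

/-- **the maximal alternating degree** -/
theorem exists_hyp (hT : ∀ (x a : G) (L : Subgroup G), IsTriple x a L → IsL2 (Bar L) ∨ IsAltOdd (Bar L) ∨
      (¬ 81 ∣ Nat.card (Bar L) ∧ SmallP x a L))
    {m : ℕ} (hm : Odd m) (h13 : 13 ≤ m) {x a : G} {L : Subgroup G} (ht : IsTriple x a L)
    (hA : IsAlt m (Bar L)) :
    ∃ n, m ≤ n ∧ Hyp G n ∧ ∃ (x a : G) (L : Subgroup G), IsTriple x a L ∧ AltType L n := by
  classical
  obtain ⟨P, hP⟩ : ∃ P : ℕ → Prop, P = fun n => Odd n ∧ 13 ≤ n ∧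
      ∃ (x a : G) (L : Subgroup G), IsTriple x a L ∧ IsAlt n (Bar L) := ⟨_, rfl⟩
  have hb : ∀ n, P n → n ≤ 2 * Nat.card G := by
    intro n hn
    rw [hP] at hn
    obtain ⟨-, h13, x, a, L, -, hA⟩ := hn
    have h1 := AltType.card (K := L) (m := n) hA (by omega)
    have h2 : Nat.card (↥L ⧸ oddCore ↥L) ≤ Nat.card G :=
      (Nat.le_of_dvd Nat.card_pos (Subgroup.card_quotient_dvd_card _)).trans
        (Nat.le_of_dvd Nat.card_pos (Subgroup.card_subgroup_dvd_card _))
    have h3 : n ≤ n.factorial := Nat.self_le_factorial n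
    omega
  have hPm : P m := by
    rw [hP]
    exact ⟨hm, h13, x, a, L, ht, hA⟩
  have h1 := Nat.findGreatest_spec (P := P) (hb m hPm) hPm
  have h2 : ∀ n, P n → n ≤ Nat.findGreatest P (2 * Nat.card G) := fun n hn =>
    Nat.le_findGreatest (hb n hn) hn
  obtain ⟨n, hn⟩ : ∃ n, n = Nat.findGreatest P (2 * Nat.card G) := ⟨_, rfl⟩
  rw [← hn] at h1 h2
  have h3 := h2 m hPm
  rw [hP] at h1
  obtain ⟨h4, h5, h6⟩ := h1
  refine ⟨n, h3, hyp_of_types h4 h5 ?_, h6⟩
  intro x a L hL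
  rcases hT x a L hL with h7 | ⟨k, h7, h8, h9⟩ | h7
  · exact Or.inl h7
  · refine Or.inr (Or.inl ⟨k, h7, h8, ?_, h9⟩)
    by_contra hlt
    apply hlt
    apply h2
    rw [hP]
    exact ⟨h7, by omega, x, a, L, hL, h9⟩
  · exact Or.inr (Or.inr h7)

/-- without `L₃(4)` and `He` -/
theorem exists_hyp' (hT : ∀ (x a : G) (L : Subgroup G), IsTriple x a L → IsL2 (Bar L) ∨ IsAltOdd (Bar L))
    {m : ℕ} (hm : Odd m) (h13 : 13 ≤ m) {x a : G} {L : Subgroup G} (ht : IsTriple x a L)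
    (hA : IsAlt m (Bar L)) :
    ∃ n, m ≤ n ∧ Hyp G n ∧ ∃ (x a : G) (L : Subgroup G), IsTriple x a L ∧ AltType L n :=
  exists_hyp (fun x a L h => (hT x a L h).imp_right Or.inl) hm h13 ht hA

end types

end Cfsg.Agent.UAlt.Supply
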