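import Cfsg.Agent.UAlt.Final
import Cfsg.Agent.UAlt.Supply
import Cfsg.Agent.UAlt.SmallLThree
import Cfsg.Agent.UGT.I34.Cov
import Cfsg.Agent.UGT.NodeHeG

/-!
# No unbalancing triple of type `Aₙ`, `n ≥ 13`, in the world with `L₃(4)`

* `not_alt_of_ft`: the types of the triples are `PSL₂(q)`, `Aₘ` or `L₃(4)` (the world of node N2).
-/

set_option autoImplicit false

open Cfsg Subgroup
open Cfsg.Agent.Intrinsic.Basic
open Cfsg.Agent.Intrinsic
open Cfsg.Agent.UGT.Triple Cfsg.Agent.UGT.Iface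

namespace Cfsg.Agent.UAlt.NodeAnL34

universe u

variable {G : Type u} [Group G] [Finite G]

omit [Finite G] in
theorem isL34_quot {K : Type*} [Group K] (h : IsL34 K) : IsL34 (K ⧸ center K) := by
  have hc := UGT.NodeHeG.center_of_L34 h
  obtain ⟨F, i, j, hF, ⟨e⟩⟩ := h
  exact ⟨F, i, j, hF, ⟨((QuotientGroup.quotientMulEquivOfEq hc).trans QuotientGroup.quotientBot).trans e⟩⟩

/-- **no triple of type `Aₙ`, `n ≥ 13`** in the world of `PSL₂(q)`, `Aₘ`, `L₃(4)` -/
theorem not_alt_of_ft (FT : Functor.OddSol G) (hG : MinCex G)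
    (hT : UGT.Nodes.Types G (fun _ L => IsL2 (Bar L) ∨ IsAltOdd (Bar L) ∨ IsL34 (Bar L)))
    {x a : G} {L : Subgroup G} (T : IsTriple x a L) {n : ℕ} (hn : Odd n) (h13 : 13 ≤ n) :
    ¬ IsAlt n (Bar L) := by
  intro hA
  obtain ⟨m, -, hH, y, b, K, h1, h2⟩ := Supply.exists_hyp (fun x a L h => by
    rcases hT x a L h with h3 | h3 | h3
    · exact Or.inl h3
    · exact Or.inr (Or.inl h3)
    · refine Or.inr (Or.inr ⟨?_, ?_⟩)
      · rw [UGT.I34.Cov.card_l34 h3]
        norm_num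
      · exact SmallLThree.small_of_l34 h (isL34_quot h3)) hn h13 T hA
  exact Final.final FT hG hH h1 h2

end Cfsg.Agent.UAlt.NodeAnL34
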