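import Cfsg.Agent.UAlt.Glue
import Cfsg.Agent.UAlt.Frame
import Cfsg.Agent.UAlt.Root

/-!
# Labellings from a homomorphism of an alternating group into `N(W) / W`

* `QD W q`: `q` is the quotient map of `N(W)` modulo `W`.
* `exists_mod`: an injective homomorphism `f : alt Γ → N(W) / W` gives a subgroup `B` with labelling by `Γ`.
-/

set_option autoImplicit false
set_option linter.unusedSectionVars false

open Cfsg Equiv Equiv.Perm Subgroup
open Cfsg.Agent.Intrinsic.Basic Cfsg.Agent.Intrinsic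
open Cfsg.Agent.SignalizersComponents Cfsg.Agent.Lib
open Cfsg.Agent.SignalizersComponents.IntrinsicBasic
open Cfsg.Agent.StdAlt.Roots (IsRoot)
open scoped commutatorElement

namespace Cfsg.Agent.UAlt.PKQuot

open Cfsg.Agent.UAlt.Glue

variable {G : Type*} [Group G] {α : Type*} [Fintype α] [DecidableEq α]

/-- `q` is the quotient map of `N(W)` modulo `W` -/
structure QD (W : Subgroup G) {Q : Type*} [Group Q] (q : G → Q) : Prop where
  mul : ∀ x ∈ normalizer (W : Set G), ∀ y ∈ normalizer (W : Set G), q (x * y) = q x * q y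
  one_iff : ∀ x ∈ normalizer (W : Set G), q x = 1 ↔ x ∈ W
  surj : ∀ z, ∃ x ∈ normalizer (W : Set G), q x = z

theorem exists_QD.{u} {G : Type u} [Group G] (W : Subgroup G) :
    ∃ (Q : Type u) (_ : Group Q) (q : G → Q), QD W q := by
  classical
  have hn : (W.subgroupOf (normalizer (W : Set G))).Normal :=
    normal_subgroupOf_of_le_normalizer le_rfl
  refine ⟨↥(normalizer (W : Set G)) ⧸ W.subgroupOf (normalizer (W : Set G)), inferInstance,
    fun x => if h : x ∈ normalizer (W : Set G) then QuotientGroup.mk' _ ⟨x, h⟩ else 1, ⟨?_, ?_, ?_⟩⟩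
  · intro x hx y hy
    rw [dif_pos (mul_mem hx hy), dif_pos hx, dif_pos hy, ← map_mul]
    rfl
  · intro x hx
    rw [dif_pos hx]
    exact (QuotientGroup.eq_one_iff _).trans Iff.rfl
  · intro z
    obtain ⟨⟨x, hx⟩, rfl⟩ := QuotientGroup.mk'_surjective _ z
    exact ⟨x, hx, dif_pos hx⟩

namespace QD

variable {W : Subgroup G} {Q : Type*} [Group Q] {q : G → Q} (hq : QD W q)
include hq

theorem one : q 1 = 1 := (hq.one_iff 1 (one_mem _)).2 (one_mem _)

theorem inv {x : G} (hx : x ∈ normalizer (W : Set G)) : q x⁻¹ = (q x)⁻¹ := by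
  have := hq.mul x⁻¹ (inv_mem hx) x hx
  rw [inv_mul_cancel, hq.one] at this
  exact eq_inv_of_mul_eq_one_left this.symm

theorem conj {x y : G} (hx : x ∈ normalizer (W : Set G)) (hy : y ∈ normalizer (W : Set G)) :
    q (x * y * x⁻¹) = q x * q y * (q x)⁻¹ := by
  rw [hq.mul _ (mul_mem hx hy) _ (inv_mem hx), hq.mul _ hx _ hy, hq.inv hx]

theorem eq_iff {x y : G} (hx : x ∈ normalizer (W : Set G)) (hy : y ∈ normalizer (W : Set G)) :
    q x = q y ↔ x⁻¹ * y ∈ W := by
  rw [← hq.one_iff _ (mul_mem (inv_mem hx) hy), hq.mul _ (inv_mem hx) _ hy, hq.inv hx, inv_mul_eq_one]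

theorem comm_iff {x y : G} (hx : x ∈ normalizer (W : Set G)) (hy : y ∈ normalizer (W : Set G)) :
    q x * q y = q y * q x ↔ ⁅x, y⁆ ∈ W := by
  rw [commutatorElement_def, ← hq.one_iff _ (mul_mem (mul_mem (mul_mem hx hy) (inv_mem hx)) (inv_mem hy)),
    hq.mul _ (mul_mem (mul_mem hx hy) (inv_mem hx)) _ (inv_mem hy), hq.conj hx hy, hq.inv hy,
    mul_inv_eq_one, mul_inv_eq_iff_eq_mul]

theorem pow {x : G} (hx : x ∈ normalizer (W : Set G)) (n : ℕ) : q (x ^ n) = q x ^ n := by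
  induction n with
  | zero => rw [pow_zero, pow_zero, hq.one]
  | succ n ih => rw [pow_succ, pow_succ, hq.mul _ (pow_mem hx n) _ hx, ih]

/-- the function on labels induced by `q` -/
theorem exists_kappa {K : Subgroup G} {S : Finset α} (M : Mod K S) (hKN : K ≤ normalizer (W : Set G))
    (hKW : core K ≤ W) : ∃ κ : Perm α → Q, (∀ k ∈ K, κ (M.φ k) = q k) ∧ MulOn S κ := by
  classical
  have hch : ∀ σ : Perm α, ∃ z : Q, ∀ k ∈ K, M.φ k = σ → q k = z := by
    intro σ
    by_cases h : ∃ k ∈ K, M.φ k = σ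
    · obtain ⟨k, hk, hkσ⟩ := h
      refine ⟨q k, fun k' hk' hk'σ => ?_⟩
      rw [hq.eq_iff (hKN hk') (hKN hk)]
      apply hKW
      rw [← M.eq_iff hk' hk, hkσ, hk'σ]
    · exact ⟨1, fun k hk hkσ => absurd ⟨k, hk, hkσ⟩ h⟩
  choose κ hκ using hch
  refine ⟨κ, fun k hk => (hκ _ k hk rfl).symm, ?_⟩
  intro σ hσ τ hτ
  obtain ⟨k, hk, rfl⟩ := M.lift σ hσ
  obtain ⟨l, hl, rfl⟩ := M.lift τ hτ
  rw [← hκ _ k hk rfl, ← hκ _ l hl rfl, ← hq.mul _ (hKN hk) _ (hKN hl)]
  exact (hκ _ (k * l) (mul_mem hk hl) (M.mul _ _ (le_normalizer hk) (le_normalizer hl))).symm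

/-- **a subgroup with labelling** from an injective homomorphism `f : alt Γ → N(W) / W` -/
theorem exists_mod [Finite G] (hW : Odd (Nat.card W)) {Γ : Finset α} (h7 : 7 ≤ Γ.card) {f : Perm α → Q}
    (hf : MulOn Γ f) (hinj : ∀ σ ∈ alt Γ, f σ = 1 → σ = 1) :
    ∃ (B : Subgroup G) (MB : Mod B Γ), W ≤ B ∧ B ≤ normalizer (W : Set G) ∧ core B = W ∧
      (∀ b ∈ B, f (MB.φ b) = q b) ∧
      ∀ b ∈ normalizer (W : Set G), ∀ σ ∈ alt Γ, f σ = q b → b ∈ B ∧ MB.φ b = σ := by
  classical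
  have hinj2 : ∀ σ ∈ alt Γ, ∀ τ ∈ alt Γ, f σ = f τ → σ = τ := by
    intro σ hσ τ hτ h
    have h1 : f (σ⁻¹ * τ) = 1 := by
      rw [hf _ (inv_mem hσ) _ hτ, hf.inv hσ, h, inv_mul_cancel]
    exact inv_mul_eq_one.1 (hinj _ (mul_mem (inv_mem hσ) hτ) h1)
  let B : Subgroup G :=
    { carrier := {b | b ∈ normalizer (W : Set G) ∧ ∃ σ ∈ alt Γ, f σ = q b}
      mul_mem' := by
        rintro a b ⟨ha, σ, hσ, h1⟩ ⟨hb, τ, hτ, h2⟩
        exact ⟨mul_mem ha hb, σ * τ, mul_mem hσ hτ, by rw [hf σ hσ τ hτ, h1, h2, hq.mul a ha b hb]⟩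
      one_mem' := ⟨one_mem _, 1, one_mem _, by rw [hf.one, hq.one]⟩
      inv_mem' := by
        rintro a ⟨ha, σ, hσ, h1⟩
        exact ⟨inv_mem ha, σ⁻¹, inv_mem hσ, by rw [hf.inv hσ, h1, hq.inv ha]⟩ }
  have hBN : B ≤ normalizer (W : Set G) := fun b hb => hb.1
  have hWB : W ≤ B := fun w hw => ⟨le_normalizer hw, 1, one_mem _, by
    rw [hf.one, (hq.one_iff w (le_normalizer hw)).2 hw]⟩
  have hch : ∀ b : ↥B, ∃ σ ∈ alt Γ, f σ = q b := fun b => b.2.2
  choose ε hε1 hε2 using hch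
  let E : ↥B →* Perm α :=
    { toFun := ε
      map_one' := by
        apply hinj2 _ (hε1 _) _ (one_mem _)
        rw [hε2, hf.one]
        exact hq.one
      map_mul' := by
        intro a b
        apply hinj2 _ (hε1 _) _ (mul_mem (hε1 _) (hε1 _))
        rw [hε2, hf _ (hε1 _) _ (hε1 _), hε2, hε2]
        exact hq.mul _ (hBN a.2) _ (hBN b.2) }
  have hEker : E.ker = W.subgroupOf B := by
    ext b
    rw [MonoidHom.mem_ker, mem_subgroupOf, ← hq.one_iff _ (hBN b.2), ← hε2]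
    exact ⟨fun h => by
      change ε b = 1 at h
      rw [h, hf.one], fun h => hinj _ (hε1 b) h⟩
  have hErange : E.range = alt Γ := by
    ext σ
    constructor
    · rintro ⟨b, rfl⟩; exact hε1 b
    · intro hσ
      obtain ⟨x, hx, hxσ⟩ := hq.surj (f σ)
      refine ⟨⟨x, hx, σ, hσ, hxσ.symm⟩, ?_⟩
      apply hinj2 _ (hε1 _) _ hσ
      rw [hε2]
      exact hxσ
  have hWn : (W.subgroupOf B).Normal := by rw [← hEker]; infer_instance
  have hodd : Odd (Nat.card (W.subgroupOf B)) := by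
    rw [Nat.card_congr (subgroupOfEquivOfLe hWB).toEquiv]; exact hW
  have hcore : E.ker = oddCore ↥B := by
    rw [hEker]
    apply le_antisymm
    · exact Cores.le_pPrimeCore hWn (Nat.coprime_two_right.mpr hodd)
    · -- the image of the core is an odd normal subgroup of `alt Γ`
      intro x hx
      rw [← hEker, MonoidHom.mem_ker]
      have h1 : (oddCore ↥B).map E = ⊥ := by
        refine eq_bot_of_no_inv (S := Γ) (by omega) ?_ ?_ ?_
        · rintro _ ⟨y, -, rfl⟩
          exact hε1 y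
        · intro σ hσ
          rw [← hErange] at hσ
          obtain ⟨k, rfl⟩ := hσ
          have h2 : (oddCore ↥B).Normal := Cores.pPrimeCore_normal 2
          rw [mem_normalizer_iff_map_conj_eq]
          rw [Subgroup.map_map]
          have e1 : ((MulAut.conj (E k) : Perm α ≃* Perm α) : Perm α →* Perm α).comp E =
              E.comp ((MulAut.conj k : ↥B ≃* ↥B) : ↥B →* ↥B) := by
            ext1 y
            show E k * E y * (E k)⁻¹ = E (k * y * k⁻¹)
            rw [map_mul, map_mul, map_inv]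
          rw [e1, ← Subgroup.map_map]
          congr 1
          exact mem_normalizer_iff_map_conj_eq.1 (normalizer_eq_top_iff.2 h2 ▸ mem_top k)
        · rintro _ ⟨y, hy, rfl⟩ h2
          have h4 : Odd (Nat.card (oddCore ↥B)) := by
            have := odd_card_core B
            rwa [core, Subgroup.card_map_of_injective (Subgroup.subtype_injective _)] at this
          have h5 : Odd (orderOf y) := Odd.of_dvd_nat h4 (Subgroup.orderOf_dvd_natCard _ hy)
          have h6 : Odd (orderOf (E y)) := Odd.of_dvd_nat h5 (orderOf_map_dvd E y)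
          have h7 : orderOf (E y) ∣ 2 := orderOf_dvd_of_pow_eq_one (by rw [pow_two]; exact h2)
          rcases (Nat.dvd_prime Nat.prime_two).mp h7 with h8 | h8
          · exact orderOf_eq_one_iff.mp h8
          · rw [h8] at h6
            exact absurd h6 (by decide)
      have h2 : E x ∈ (oddCore ↥B).map E := ⟨x, hx, rfl⟩
      rw [h1] at h2
      exact mem_bot.mp h2
  obtain ⟨MB, hMB⟩ := Mod.exists_of_hom (K := B) (S := Γ) h7 E hErange hcore
  have hval : ∀ b ∈ B, f (MB.φ b) = q b := by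
    intro b hb
    have := hMB ⟨b, hb⟩
    rw [show MB.φ b = ε ⟨b, hb⟩ from this, hε2]
  refine ⟨B, MB, hWB, hBN, ?_, hval, ?_⟩
  · rw [core, ← hcore, hEker, map_subgroupOf_eq_of_le hWB]
  · intro b hb σ hσ h
    have hbB : b ∈ B := ⟨hb, σ, hσ, h⟩
    refine ⟨hbB, ?_⟩
    apply hinj2 _ (MB.mem_alt b hbB) _ hσ
    rw [hval b hbB, h]

end QD

end Cfsg.Agent.UAlt.PKQuot
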