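import Cfsg.Agent.UAlt.AltOn

/-!
# Lemma PERM

A four-group `U ≤ Sym(S)`, `|S| ≥ 9` odd, such that for every `r ∈ U#` the even permutations commuting with `r`
normalize `U` modulo `alt (fixIn S r)` if `|fixIn S r| = 3`, and normalize `U` otherwise: then `U` is regular on
four points and trivial on the others.
-/

set_option autoImplicit false
set_option linter.unusedSectionVars false
set_option linter.style.haveILetI false

namespace Cfsg.Agent.UAlt.PermLemma

open Equiv Equiv.Perm Subgroup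

variable {α : Type*} [Fintype α] [DecidableEq α]

/-- parity of the number of fixed points of an involution -/
theorem card_fixIn {T : Finset α} {σ : Perm α} (hσ : ∀ i, σ (σ i) = i) (hT : ∀ i ∈ T, σ i ∈ T) :
    (fixIn T σ).card % 2 = T.card % 2 := by
  classical
  let f : Function.End T := fun i => ⟨σ i, hT i i.2⟩
  haveI : Fact (Nat.Prime 2) := ⟨Nat.prime_two⟩
  have h1 : f ^ 2 ^ 1 = 1 := by
    funext i
    exact Subtype.ext (hσ i)
  have h2 := card_fixedPoints_modEq (p := 2) (n := 1) h1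
  have e1 : Fintype.card f.fixedPoints = (fixIn T σ).card := by
    rw [← Fintype.card_coe (fixIn T σ)]
    refine Fintype.card_congr ⟨fun i => ⟨i.1, mem_fixIn.mpr ⟨i.1.2, congrArg Subtype.val i.2⟩⟩,
      fun i => ⟨⟨i.1, (mem_fixIn.mp i.2).1⟩, Subtype.ext (mem_fixIn.mp i.2).2⟩, fun i => rfl,
      fun i => rfl⟩
  rw [e1, Fintype.card_coe] at h2
  exact h2.symm

/-- `swap p t * swap (σ p) (σ t)` commutes with the involution `σ` -/
theorem pair_comm {σ : Perm α} (hσ : ∀ i, σ (σ i) = i) {p t : α} (h1 : p ≠ σ p) (h2 : p ≠ σ t)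
    (h3 : t ≠ σ t) (h4 : t ≠ σ p) :
    (swap p t * swap (σ p) (σ t)) * σ = σ * (swap p t * swap (σ p) (σ t)) := by
  have hd : Perm.Disjoint (swap p t) (swap (σ p) (σ t)) := by
    intro x
    by_cases hp : x = p
    · right
      rw [hp]
      exact swap_apply_of_ne_of_ne h1 h2
    by_cases ht : x = t
    · right
      rw [ht]
      exact swap_apply_of_ne_of_ne h4 h3
    · left
      exact swap_apply_of_ne_of_ne hp ht
  have hc : swap p t * swap (σ p) (σ t) = swap (σ p) (σ t) * swap p t := hd.commute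
  have e1 : σ * swap p t = swap (σ p) (σ t) * σ := mul_swap_eq_swap_mul σ p t
  have e2 : σ * swap (σ p) (σ t) = swap p t * σ := by
    have := mul_swap_eq_swap_mul σ (σ p) (σ t)
    rwa [hσ, hσ] at this
  calc (swap p t * swap (σ p) (σ t)) * σ = swap p t * (swap (σ p) (σ t) * σ) := by rw [mul_assoc]
    _ = swap p t * (σ * swap p t) := by rw [e1]
    _ = (swap p t * σ) * swap p t := by rw [mul_assoc]
    _ = σ * swap (σ p) (σ t) * swap p t := by rw [e2]
    _ = σ * (swap (σ p) (σ t) * swap p t) := by rw [mul_assoc]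
    _ = _ := by rw [hc]

section pair

variable {S : Finset α} {σ : Perm α} (hS : σ ∈ sym S) (hσ : ∀ i, σ (σ i) = i) {p t : α}
  (hp : p ∈ S) (ht : t ∈ S) (h0 : p ≠ t) (h1 : p ≠ σ p) (h2 : p ≠ σ t) (h3 : t ≠ σ t) (h4 : t ≠ σ p)
include hS hσ hp ht h0 h1 h2 h3 h4

theorem pair_mem : swap p t * swap (σ p) (σ t) ∈ alt S := by
  refine ⟨StdAlt.PermTypes.swap_mul_mem h0 fun h => h0 (σ.injective h), fun x hx => ?_⟩
  have hpS : σ p ∈ S := mem_of_mem_sym hS hp
  have htS : σ t ∈ S := mem_of_mem_sym hS ht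
  rw [Perm.mul_apply, swap_apply_of_ne_of_ne (a := σ p) (b := σ t), swap_apply_of_ne_of_ne]
  · rintro rfl; exact hx hp
  · rintro rfl; exact hx ht
  · rintro rfl; exact hx hpS
  · rintro rfl; exact hx htS

theorem pair_p : (swap p t * swap (σ p) (σ t)) p = t := by
  rw [Perm.mul_apply, swap_apply_of_ne_of_ne h1 h2, swap_apply_left]

theorem pair_t : (swap p t * swap (σ p) (σ t)) t = p := by
  rw [Perm.mul_apply, swap_apply_of_ne_of_ne h4 h3, swap_apply_right]

theorem pair_σp : (swap p t * swap (σ p) (σ t)) (σ p) = σ t := by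
  rw [Perm.mul_apply, swap_apply_left]
  exact swap_apply_of_ne_of_ne h2.symm h3.symm

theorem pair_σt : (swap p t * swap (σ p) (σ t)) (σ t) = σ p := by
  rw [Perm.mul_apply, swap_apply_right]
  exact swap_apply_of_ne_of_ne h1.symm h4.symm

theorem pair_inv : (swap p t * swap (σ p) (σ t))⁻¹ = swap p t * swap (σ p) (σ t) := by
  have hd : Perm.Disjoint (swap p t) (swap (σ p) (σ t)) := by
    intro x
    by_cases hp : x = p
    · right
      rw [hp]
      exact swap_apply_of_ne_of_ne h1 h2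
    by_cases ht : x = t
    · right
      rw [ht]
      exact swap_apply_of_ne_of_ne h4 h3
    · left
      exact swap_apply_of_ne_of_ne hp ht
  have hc : swap p t * swap (σ p) (σ t) = swap (σ p) (σ t) * swap p t := hd.commute
  rw [mul_inv_rev, swap_inv, swap_inv, hc]

end pair

omit [Fintype α] in
theorem pair_of_ne {σ : Perm α} {p t x : α} (h1 : x ≠ p) (h2 : x ≠ t) (h3 : x ≠ σ p) (h4 : x ≠ σ t) :
    (swap p t * swap (σ p) (σ t)) x = x := by
  rw [Perm.mul_apply, swap_apply_of_ne_of_ne h3 h4, swap_apply_of_ne_of_ne h1 h2]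

section main

variable {S : Finset α} {U : Subgroup (Perm α)}

/-- the three nontrivial elements -/
theorem four (h4 : Nat.card U = 4) (hsq : ∀ u ∈ U, ∀ i, u (u i) = i) {r u : Perm α} (hr : r ∈ U) (hu : u ∈ U)
    (hr1 : r ≠ 1) (hu1 : u ≠ 1) (hne : u ≠ r) {w : Perm α} (hw : w ∈ U) :
    w = 1 ∨ w = r ∨ w = u ∨ w = u * r := by
  classical
  have hrr : r * r = 1 := Equiv.ext fun i => hsq r hr i
  have hF : ({(⟨1, U.one_mem⟩ : U), ⟨r, hr⟩, ⟨u, hu⟩, ⟨u * r, U.mul_mem hu hr⟩} : Finset U) =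
      Finset.univ := by
    apply Finset.eq_univ_of_card
    rw [← Nat.card_eq_fintype_card, h4, Finset.card_insert_of_notMem, Finset.card_insert_of_notMem,
      Finset.card_insert_of_notMem, Finset.card_singleton]
    · rw [Finset.mem_singleton]
      intro e
      exact hr1 (mul_eq_left.mp (congrArg Subtype.val e).symm)
    · rw [Finset.mem_insert, Finset.mem_singleton, not_or]
      refine ⟨fun e => hne (congrArg Subtype.val e).symm, fun e => hu1 ?_⟩
      exact mul_eq_right.mp (congrArg Subtype.val e).symm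
    · rw [Finset.mem_insert, Finset.mem_insert, Finset.mem_singleton, not_or, not_or]
      refine ⟨fun e => hr1 (congrArg Subtype.val e).symm, fun e => hu1 (congrArg Subtype.val e).symm,
        fun e => hne ?_⟩
      have h1 : u * r = 1 := (congrArg Subtype.val e).symm
      calc u = u * (r * r) := by rw [hrr, mul_one]
        _ = (u * r) * r := by rw [mul_assoc]
        _ = r := by rw [h1, one_mul]
  have h1 : (⟨w, hw⟩ : U) ∈ ({(⟨1, U.one_mem⟩ : U), ⟨r, hr⟩, ⟨u, hu⟩, ⟨u * r, U.mul_mem hu hr⟩} :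
      Finset U) := by rw [hF]; exact Finset.mem_univ _
  simp only [Finset.mem_insert, Finset.mem_singleton] at h1
  rcases h1 with e | e | e | e
  · exact Or.inl (congrArg Subtype.val e)
  · exact Or.inr (Or.inl (congrArg Subtype.val e))
  · exact Or.inr (Or.inr (Or.inl (congrArg Subtype.val e)))
  · exact Or.inr (Or.inr (Or.inr (congrArg Subtype.val e)))

variable (hodd : Odd S.card) (h9 : 9 ≤ S.card) (hU : U ≤ sym S) (h4 : Nat.card U = 4)
  (hsq : ∀ u ∈ U, ∀ i, u (u i) = i)
  (h : ∀ r ∈ U, r ≠ 1 → ∀ y ∈ alt S, y * r = r * y → ∀ u ∈ U, ∃ u' ∈ U, ∃ d : Perm α,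
    y * u * y⁻¹ = u' * d ∧ (d = 1 ∨ ((fixIn S r).card = 3 ∧ d ∈ alt (fixIn S r))))
include hU h4 hsq h

theorem comm {r u : Perm α} (hr : r ∈ U) (hu : u ∈ U) (i : α) : u (r i) = r (u i) := by
  have h1 := hsq (u * r) (U.mul_mem hu hr) i
  simp only [Perm.mul_apply] at h1
  -- u r u r i = i
  have h2 : r (u (u (r (u (r i))))) = r (u i) := by rw [h1]
  rw [hsq u hu, hsq r hr] at h2
  exact h2

include hodd in
/-- Claim 1 -/
theorem triv_fix {r : Perm α} (hr : r ∈ U) (hr1 : r ≠ 1) (h3 : (fixIn S r).card ≠ 3) {u : Perm α} (hu : u ∈ U)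
    {i : α} (hi : i ∈ fixIn S r) : u i = i := by
  by_cases hu1 : u = 1
  · rw [hu1]; rfl
  by_cases hur : u = r
  · rw [hur]; exact (mem_fixIn.mp hi).2
  have hpar : (fixIn S r).card % 2 = 1 := by
    rw [card_fixIn (hsq r hr) fun i hi => mem_of_mem_sym (hU hr) hi]
    exact Nat.odd_iff.mp hodd
  have hur' : ∀ j ∈ fixIn S r, u j ∈ fixIn S r := fun j hj => mem_fixIn.mpr
    ⟨mem_of_mem_sym (hU hu) (mem_fixIn.mp hj).1, by
      rw [← comm hU h4 hsq h hr hu, (mem_fixIn.mp hj).2]⟩
  rcases Nat.lt_or_ge (fixIn S r).card 4 with hlt | hge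
  · -- one fixed point
    have h1 : (fixIn S r).card = 1 := by omega
    obtain ⟨j, hj⟩ := Finset.card_eq_one.mp h1
    have h2 := hur' i hi
    rw [hj, Finset.mem_singleton] at hi h2
    rw [h2, hi]
  · refine apply_of_comm_alt hge (fun y hy => ?_) hi
    have hy1 : y * r = r * y := comm_of_mem_sym_fixIn (alt_le_sym _ hy)
    obtain ⟨u', hu', d, hd, hd'⟩ := h r hr hr1 y (alt_fixIn_le S r hy) hy1 u hu
    have hd1 : d = 1 := hd'.resolve_right fun e => h3 e.1
    rw [hd1, mul_one] at hd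
    -- `y u y⁻¹ = u'`
    have hval : ∀ j, j ∉ fixIn S r → u' j = u j := by
      intro j hj
      have e1 : y⁻¹ j = j := (inv_mem (alt_le_sym _ hy)) j hj
      have e2 : u j ∉ fixIn S r := fun e => hj (by
        have := hur' _ e
        rwa [hsq u hu] at this)
      rw [← hd, Perm.mul_apply, Perm.mul_apply, e1]
      exact alt_le_sym _ hy _ e2
    -- a point moved by `r`
    obtain ⟨j, hj⟩ : ∃ j, r j ≠ j := by
      by_contra hcon
      push Not at hcon
      exact hr1 (Equiv.ext hcon)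
    have hjF : j ∉ fixIn S r := fun e => hj (mem_fixIn.mp e).2
    have key : u' = u ∨ u' = u * r ∨ (u = 1) := by
      rcases four h4 hsq hr hu hr1 hu1 hur hu' with e | e | e | e
      · right; right
        have : y * u * y⁻¹ = 1 := by rw [hd, e]
        calc u = y⁻¹ * (y * u * y⁻¹) * y := by group
          _ = 1 := by rw [this]; group
      · exfalso
        apply hur
        have : y * u * y⁻¹ = r := by rw [hd, e]
        calc u = y⁻¹ * (y * u * y⁻¹) * y := by group
          _ = y⁻¹ * (r * y) := by rw [this]; group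
          _ = r := by rw [← hy1]; group
      · exact Or.inl e
      · exact Or.inr (Or.inl e)
    rcases key with e | e | e
    · rw [e] at hd
      calc u * y = (y * u * y⁻¹) * y := by rw [hd]
        _ = y * u := by group
    · exfalso
      have e1 := hval j hjF
      rw [e, Perm.mul_apply] at e1
      exact hj (u.injective e1)
    · exact absurd e hu1

/-- Case B: `u` moves a block of `r` -/
theorem block {r u : Perm α} (hr : r ∈ U) (hu : u ∈ U) {p : α} (hp : p ∈ S) (hrp : r p ≠ p) (hup : u p ≠ p)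
    (hurp : u p ≠ r p) {t : α} (ht : t ∈ S) (hrt : r t ≠ t) (t1 : t ≠ p) (t2 : t ≠ r p) (t3 : t ≠ u p)
    (t4 : t ≠ r (u p)) : False := by
  have hr1 : r ≠ 1 := fun e => hrp (by rw [e]; rfl)
  have hu1 : u ≠ 1 := fun e => hup (by rw [e]; rfl)
  have hne : u ≠ r := fun e => hurp (by rw [e])
  have hσ := hsq r hr
  have hrtp : p ≠ r t := fun e => t2 (by rw [e, hσ])
  obtain ⟨u', hu', d, hd, hd'⟩ := h r hr hr1 _
    (pair_mem (hU hr) hσ hp ht t1.symm hrp.symm hrtp hrt.symm t2) (pair_comm hσ hrp.symm hrtp hrt.symm t2) u hu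
  have hdt : d t = t := by
    rcases hd' with e | e
    · rw [e]; rfl
    · apply alt_le_sym _ e.2
      intro e1
      exact hrt (mem_fixIn.mp e1).2
  have h1 : (u' * d) t = u p := by
    rw [← hd, Perm.mul_apply, Perm.mul_apply,
      pair_inv (hU hr) hσ hp ht t1.symm hrp.symm hrtp hrt.symm t2,
      pair_t (hU hr) hσ hp ht t1.symm hrp.symm hrtp hrt.symm t2]
    exact pair_of_ne hup t3.symm hurp fun e => t4 (by rw [e, hσ])
  rw [Perm.mul_apply, hdt] at h1
  rcases four h4 hsq hr hu hr1 hu1 hne hu' with e | e | e | e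
  · rw [e] at h1
    exact t3 h1
  · rw [e] at h1
    exact t4 (by rw [← h1, hσ])
  · rw [e] at h1
    exact t1 (u.injective h1)
  · rw [e, Perm.mul_apply] at h1
    have h2 := u.injective h1
    exact t2 (by rw [← h2, hσ])

include hodd h9 in
/-- Case A is impossible -/
theorem false_of_blocks {r u : Perm α} (hr : r ∈ U) (hu : u ∈ U) (hr1 : r ≠ 1) (hu1 : u ≠ 1) (hne : u ≠ r)
    (hA : ∀ p ∈ S, r p ≠ p → u p = p ∨ u p = r p) : False := by
  have hur : u * r ∈ U := U.mul_mem hu hr
  have hur1 : u * r ≠ 1 := fun e => hne (by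
    have hrr : r * r = 1 := Equiv.ext fun i => hsq r hr i
    calc u = (u * r) * r := by rw [mul_assoc, hrr, mul_one]
      _ = r := by rw [e, one_mul])
  obtain ⟨Φ, hΦ⟩ : ∃ Φ, Φ = fixIn (fixIn S r) u := ⟨_, rfl⟩
  have hmem : ∀ i, i ∈ Φ ↔ i ∈ S ∧ r i = i ∧ u i = i := by
    intro i
    rw [hΦ, mem_fixIn, mem_fixIn, and_assoc]
  -- `Φ` is nonempty
  have hpos : 1 ≤ Φ.card := by
    have h1 : (fixIn S r).card % 2 = S.card % 2 :=
      card_fixIn (hsq r hr) fun i hi => mem_of_mem_sym (hU hr) hi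
    have h2 : Φ.card % 2 = (fixIn S r).card % 2 := by
      rw [hΦ]
      refine card_fixIn (hsq u hu) fun i hi => mem_fixIn.mpr ⟨mem_of_mem_sym (hU hu) (mem_fixIn.mp hi).1, ?_⟩
      rw [← comm hU h4 hsq h hr hu, (mem_fixIn.mp hi).2]
    have h3 := Nat.odd_iff.mp hodd
    omega
  -- each `F_w` contains `Φ`, and is `Φ` unless it has three elements
  have hw : ∀ w ∈ U, w ≠ 1 → (∀ i ∈ Φ, w i = i) → (fixIn S w \ Φ).card + Φ.card = (fixIn S w).card ∧
      ((fixIn S w).card = 3 ∨ (fixIn S w \ Φ).card = 0) := by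
    intro w hw hw1 hwΦ
    have h1 : Φ ⊆ fixIn S w := fun i hi => mem_fixIn.mpr ⟨((hmem i).mp hi).1, hwΦ i hi⟩
    refine ⟨?_, ?_⟩
    · exact Finset.card_sdiff_add_card_eq_card h1
    · by_cases h3 : (fixIn S w).card = 3
      · exact Or.inl h3
      · right
        rw [Finset.card_eq_zero, Finset.sdiff_eq_empty_iff_subset]
        intro i hi
        exact (hmem i).mpr ⟨(mem_fixIn.mp hi).1, triv_fix hodd hU h4 hsq h hw hw1 h3 hr hi,
          triv_fix hodd hU h4 hsq h hw hw1 h3 hu hi⟩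
  obtain ⟨a1, a2⟩ := hw r hr hr1 fun i hi => ((hmem i).mp hi).2.1
  obtain ⟨b1, b2⟩ := hw u hu hu1 fun i hi => ((hmem i).mp hi).2.2
  obtain ⟨c1, c2⟩ := hw (u * r) hur hur1 fun i hi => by
    rw [Perm.mul_apply, ((hmem i).mp hi).2.1, ((hmem i).mp hi).2.2]
  -- cover
  have hcov : S ⊆ Φ ∪ ((fixIn S r \ Φ) ∪ ((fixIn S u \ Φ) ∪ (fixIn S (u * r) \ Φ))) := by
    intro i hi
    by_cases hiΦ : i ∈ Φ
    · exact Finset.mem_union_left _ hiΦ
    · apply Finset.mem_union_right
      by_cases hri : r i = i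
      · exact Finset.mem_union_left _ (Finset.mem_sdiff.mpr ⟨mem_fixIn.mpr ⟨hi, hri⟩, hiΦ⟩)
      · apply Finset.mem_union_right
        rcases hA i hi hri with e | e
        · exact Finset.mem_union_left _ (Finset.mem_sdiff.mpr ⟨mem_fixIn.mpr ⟨hi, e⟩, hiΦ⟩)
        · apply Finset.mem_union_right
          refine Finset.mem_sdiff.mpr ⟨mem_fixIn.mpr ⟨hi, ?_⟩, hiΦ⟩
          rw [Perm.mul_apply, ← e, hsq u hu]
  have hc := (Finset.card_le_card hcov).trans ((Finset.card_union_le _ _).trans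
    (Nat.add_le_add_left ((Finset.card_union_le _ _).trans
      (Nat.add_le_add_left (Finset.card_union_le _ _) _)) _))
  by_cases h0 : (fixIn S r).card = 3 ∨ (fixIn S u).card = 3 ∨ (fixIn S (u * r)).card = 3
  · rcases h0 with e | e | e <;> rcases a2 with a2 | a2 <;> rcases b2 with b2 | b2 <;>
      rcases c2 with c2 | c2 <;> omega
  · push Not at h0
    have a3 := a2.resolve_left h0.1
    have b3 := b2.resolve_left h0.2.1
    have c3 := c2.resolve_left h0.2.2
    apply hr1
    have hSΦ : S ⊆ Φ := by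
      rw [Finset.card_eq_zero] at a3 b3 c3
      rwa [a3, b3, c3, Finset.union_empty, Finset.union_empty, Finset.union_empty] at hcov
    apply Equiv.ext
    intro i
    by_cases hi : i ∈ S
    · exact ((hmem i).mp (hSΦ hi)).2.1
    · exact hU hr i hi

include hodd h9 in
/-- **LEMMA PERM** -/
theorem perm : ∃ T ⊆ S, T.card = 4 ∧ ∀ u ∈ U, u ≠ 1 → (∀ i, i ∉ T → u i = i) ∧ ∀ i ∈ T, u i ≠ i := by
  classical
  haveI : Finite U := Nat.finite_of_card_ne_zero (by rw [h4]; norm_num)
  haveI : Fintype U := Fintype.ofFinite U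
  rw [Nat.card_eq_fintype_card] at h4
  -- two different nontrivial elements
  obtain ⟨⟨r, hr⟩, hr1⟩ : ∃ r : U, r ≠ 1 := by
    have : Nontrivial U := Fintype.one_lt_card_iff_nontrivial.mp (by omega)
    exact exists_ne 1
  obtain ⟨⟨u, hu⟩, hu1⟩ : ∃ u : U, u ∉ ({1, ⟨r, hr⟩} : Finset U) := by
    by_contra hcon
    push Not at hcon
    have h1 : (Finset.univ : Finset U).card ≤ ({1, ⟨r, hr⟩} : Finset U).card :=
      Finset.card_le_card fun x _ => hcon x
    rw [Finset.card_univ, h4] at h1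
    have h2 : ({1, ⟨r, hr⟩} : Finset U).card ≤ 2 := Finset.card_le_two
    omega
  rw [← Nat.card_eq_fintype_card] at h4
  rw [Finset.mem_insert, Finset.mem_singleton, not_or] at hu1
  have hr1' : r ≠ 1 := fun e => hr1 (Subtype.ext e)
  have hu1' : u ≠ 1 := fun e => hu1.1 (Subtype.ext e)
  have hne : u ≠ r := fun e => hu1.2 (Subtype.ext e)
  have hur : u * r ∈ U := U.mul_mem hu hr
  have hc := comm hU h4 hsq h hr hu
  obtain ⟨p, hp, hrp, hup, hurp⟩ : ∃ p ∈ S, r p ≠ p ∧ u p ≠ p ∧ u p ≠ r p := by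
    by_contra hcon
    push Not at hcon
    refine false_of_blocks hodd h9 hU h4 hsq h hr hu hr1' hu1' hne fun p hp hrp => ?_
    by_cases e : u p = p
    · exact Or.inl e
    · exact Or.inr (hcon p hp hrp e)
  have hrS := hU hr
  have huS := hU hu
  have hT : ∀ t ∈ S, r t ≠ t → t = p ∨ t = r p ∨ t = u p ∨ t = r (u p) := by
    intro t ht hrt
    by_contra hcon
    push Not at hcon
    exact block hU h4 hsq h hr hu hp hrp hup hurp ht hrt hcon.1 hcon.2.1 hcon.2.2.1 hcon.2.2.2
  obtain ⟨T, hTdef⟩ : ∃ T : Finset α, T = {p, r p, u p, r (u p)} := ⟨_, rfl⟩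
  have hTmem : ∀ i, i ∈ T ↔ (i = p ∨ i = r p ∨ i = u p ∨ i = r (u p)) := by
    intro i
    rw [hTdef]
    simp only [Finset.mem_insert, Finset.mem_singleton]
  have hTS : T ⊆ S := by
    intro i hi
    rcases (hTmem i).mp hi with e | e | e | e <;> rw [e]
    · exact hp
    · exact mem_of_mem_sym hrS hp
    · exact mem_of_mem_sym huS hp
    · exact mem_of_mem_sym hrS (mem_of_mem_sym huS hp)
  have d1 : r (u p) ≠ p := fun e => hurp (by
    have := congrArg r e
    rwa [hsq r hr] at this)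
  have d2 : r (u p) ≠ u p := fun e => hrp (by
    rw [← hc] at e
    exact u.injective e)
  have d3 : r (u p) ≠ r p := fun e => hup (r.injective e)
  have hcard : T.card = 4 := by
    rw [hTdef, Finset.card_insert_of_notMem, Finset.card_insert_of_notMem, Finset.card_insert_of_notMem,
      Finset.card_singleton]
    · rw [Finset.mem_singleton]; exact d2.symm
    · rw [Finset.mem_insert, Finset.mem_singleton, not_or]; exact ⟨hurp.symm, d3.symm⟩
    · rw [Finset.mem_insert, Finset.mem_insert, Finset.mem_singleton, not_or, not_or]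
      exact ⟨hrp.symm, hup.symm, d1.symm⟩
  have hTr : ∀ i ∈ S, i ∉ T → r i = i := by
    intro i hi hiT
    by_contra hri
    exact hiT ((hTmem i).mpr (hT i hi hri))
  have hF : fixIn S r = S \ T := by
    ext i
    rw [mem_fixIn, Finset.mem_sdiff]
    refine and_congr_right fun hi => ⟨fun e hiT => ?_, fun hiT => hTr i hi hiT⟩
    rcases (hTmem i).mp hiT with e1 | e1 | e1 | e1 <;> rw [e1] at e
    · exact hrp e
    · rw [hsq r hr] at e; exact hrp e.symm
    · exact d2 e
    · rw [hsq r hr] at e; exact d2 e.symm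
  have hF3 : (fixIn S r).card ≠ 3 := by
    rw [hF, Finset.card_sdiff_of_subset hTS, hcard]
    omega
  have hout : ∀ w ∈ U, ∀ i, i ∉ T → w i = i := by
    intro w hw i hiT
    by_cases hi : i ∈ S
    · exact triv_fix hodd hU h4 hsq h hr hr1' hF3 hw (by rw [hF]; exact Finset.mem_sdiff.mpr ⟨hi, hiT⟩)
    · exact hU hw i hi
  refine ⟨T, hTS, hcard, fun w hw hw1 => ⟨hout w hw, fun i hiT => ?_⟩⟩
  have hurp' : u (r p) ≠ p := fun e => d1 (by rw [← hc]; exact e)
  -- it is enough to look at `r`, `u`, `u * r` and the four points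
  have key : ∀ v : Perm α, v p ≠ p → (∀ i, v (r i) = r (v i)) → (∀ i, v (u i) = u (v i)) → ∀ i ∈ T, v i ≠ i := by
    intro v hv hvr hvu i hi
    rcases (hTmem i).mp hi with e | e | e | e <;> rw [e]
    · exact hv
    · rw [hvr]; exact fun e => hv (r.injective e)
    · rw [hvu]; exact fun e => hv (u.injective e)
    · rw [hvr, hvu]; exact fun e => hv (u.injective (r.injective e))
  rcases four h4 hsq hr hu hr1' hu1' hne hw with e | e | e | e
  · exact absurd e hw1
  · rw [e]
    exact key r hrp (fun i => rfl) (fun i => (hc i).symm) i hiT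
  · rw [e]
    exact key u hup hc (fun i => rfl) i hiT
  · rw [e]
    refine key (u * r) ?_ (fun i => ?_) (fun i => ?_) i hiT
    · rw [Perm.mul_apply]; exact hurp'
    · rw [Perm.mul_apply, Perm.mul_apply, hc]
    · rw [Perm.mul_apply, Perm.mul_apply, ← hc]

end main

end Cfsg.Agent.UAlt.PermLemma
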