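import Cfsg.Agent.UAlt.Frame
import Cfsg.Agent.McLLyComp.Act

/-!
# Alternating sections of `J / O(J)` fixed by a 2-group

* `core_of_le`: `m ∈ M ≤ N`, `m ∈ O(N)` imply `m ∈ O(M)`.
* `exists_fixed`: `E ≤ J`, `E / O(E) ≅ A_k`, a 2-group `P` normalizing `J` and centralizing `E / O(E)`: the fixed points
  of `P` on `J / O(J)` contain a subgroup `C` with `C / O(C) ≅ A_k`.
* `altSolv`: `A_k` is not solvable, `k ≥ 5`.
-/

set_option autoImplicit false

open Cfsg Equiv Equiv.Perm Subgroup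
open Cfsg.Agent.Intrinsic.Basic
open Cfsg.Agent.SignalizersComponents Cfsg.Agent.Lib
open Cfsg.Agent.SignalizersComponents.IntrinsicBasic
open Cfsg.Agent.McLLyComp.Act
open scoped commutatorElement

namespace Cfsg.Agent.UAlt.Small

theorem not_isSolvable_alt {k : ℕ} (hk : 5 ≤ k) : ¬ Group.IsSolvable ↥(alternatingGroup (Fin k)) := by
  intro h
  have h1 : IsSimpleGroup ↥(alternatingGroup (Fin k)) := alternatingGroup.isSimpleGroup (by simpa using hk)
  have h2 : ∀ a b : ↥(alternatingGroup (Fin k)), a * b = b * a :=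
    IsSimpleGroup.comm_iff_isSolvable.mpr h
  -- two 3-cycles
  let i0 : Fin k := ⟨0, by omega⟩
  let i1 : Fin k := ⟨1, by omega⟩
  let i2 : Fin k := ⟨2, by omega⟩
  let i3 : Fin k := ⟨3, by omega⟩
  have n01 : i0 ≠ i1 := fun h => absurd (congrArg Fin.val h) (by norm_num [i0, i1])
  have n02 : i0 ≠ i2 := fun h => absurd (congrArg Fin.val h) (by norm_num [i0, i2])
  have n03 : i0 ≠ i3 := fun h => absurd (congrArg Fin.val h) (by norm_num [i0, i3])
  have n12 : i1 ≠ i2 := fun h => absurd (congrArg Fin.val h) (by norm_num [i1, i2])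
  have n13 : i1 ≠ i3 := fun h => absurd (congrArg Fin.val h) (by norm_num [i1, i3])
  have n23 : i2 ≠ i3 := fun h => absurd (congrArg Fin.val h) (by norm_num [i2, i3])
  let a : Perm (Fin k) := swap i0 i1 * swap i1 i2
  let b : Perm (Fin k) := swap i1 i2 * swap i2 i3
  have ha : a ∈ alternatingGroup (Fin k) := by
    rw [mem_alternatingGroup, map_mul, sign_swap n01, sign_swap n12]; rfl
  have hb : b ∈ alternatingGroup (Fin k) := by
    rw [mem_alternatingGroup, map_mul, sign_swap n12, sign_swap n23]; rfl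
  have h3 := congrArg Subtype.val (h2 ⟨a, ha⟩ ⟨b, hb⟩)
  have h4 := congrArg (fun σ : Perm (Fin k) => σ i3) h3
  change a (b i3) = b (a i3) at h4
  have e1 : b i3 = i1 := by
    change swap i1 i2 (swap i2 i3 i3) = i1
    rw [swap_apply_right, swap_apply_right]
  have e2 : a i1 = i2 := by
    change swap i0 i1 (swap i1 i2 i1) = i2
    rw [swap_apply_left, swap_apply_of_ne_of_ne n02.symm n12.symm]
  have e3 : a i3 = i3 := by
    change swap i0 i1 (swap i1 i2 i3) = i3
    rw [swap_apply_of_ne_of_ne n13.symm n23.symm, swap_apply_of_ne_of_ne n03.symm n13.symm]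
  rw [e1, e2, e3, e1] at h4
  exact n12 h4.symm

variable {G : Type*} [Group G] [Finite G]

theorem core_of_le {M N : Subgroup G} (hMN : M ≤ N) {m : G} (hm : m ∈ M) (hmN : m ∈ core N) :
    m ∈ core M := by
  have h1 : M ⊓ core N ≤ core M := by
    refine le_core inf_le_left ?_ ?_
    · intro g hg
      have h1 : g ∈ normalizer (M : Set G) := le_normalizer hg
      have h2 : g ∈ normalizer (core N : Set G) := le_normalizer_core N (hMN hg)
      rw [mem_normalizer_iff_cj] at h1 h2 ⊢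
      rw [cj_inf, h1, h2]
    · exact Odd.of_dvd_nat (odd_card_core N) (card_dvd_of_le inf_le_right)
  exact h1 ⟨hm, hmN⟩

/-- the fixed points of `P` on `J / O(J)` involve `A_k` -/
theorem exists_fixed {J E : Subgroup G} (hEJ : E ≤ J) {k : ℕ} (hE : AltType E k) {P : Subgroup G}
    (hP : IsPGroup 2 P) (hPE : ∀ u ∈ P, Fixes u E) :
    ∃ (C : Subgroup (↥J ⧸ oddCore ↥J)) (f : ↥C →* ↥(alternatingGroup (Fin k))), Function.Surjective f ∧
      Odd (Nat.card f.ker) ∧ (∀ c ∈ C, ∃ (e : G) (he : e ∈ E), c = QuotientGroup.mk ⟨e, hEJ he⟩ ∧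
        ∀ u ∈ P, u * e = e * u) := by
  obtain ⟨ε⟩ := hE
  obtain ⟨E0, hE0⟩ : ∃ E0, E0 = E ⊓ centralizer (P : Set G) := ⟨_, rfl⟩
  have hE0E : E0 ≤ E := hE0 ▸ inf_le_left
  let g : ↥E0 →* ↥J ⧸ oddCore ↥J := (QuotientGroup.mk' (oddCore ↥J)).comp (inclusion (hE0E.trans hEJ))
  let f0 : ↥E0 →* ↥(alternatingGroup (Fin k)) :=
    ε.toMonoidHom.comp ((QuotientGroup.mk' (oddCore ↥E)).comp (inclusion hE0E))
  have hf0 : Function.Surjective f0 := by
    intro y
    obtain ⟨x, hx⟩ := ε.surjective y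
    obtain ⟨⟨m, hm⟩, rfl⟩ := QuotientGroup.mk_surjective x
    obtain ⟨o, ho, hc⟩ := Intrinsic.Lifting.exists_commute_group (odd_card_core E) hP
      (fun u hu => normalizer_le_normalizer_core E (hPE u hu).1) (m := m)
      (fun u hu => (fixes_iff_conj.mp (hPE u hu)).2 m hm)
    have hmo : m * o ∈ E0 := by
      rw [hE0]
      exact mem_inf.mpr ⟨mul_mem hm (core_le _ ho), mem_centralizer_iff.mpr fun u hu => hc u hu⟩
    refine ⟨⟨m * o, hmo⟩, ?_⟩
    rw [← hx]
    change ε (QuotientGroup.mk ⟨m * o, _⟩) = ε (QuotientGroup.mk ⟨m, hm⟩)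
    congr 1
    rw [eq_comm, mk_eq_iff hm]
    simpa using ho
  have hker : ∀ x : ↥E0, g x = 1 → f0 x = 1 := by
    intro x hx
    have h1 : (x : G) ∈ core J := (mk_eq_one_iff (hEJ (hE0E x.2))).mp hx
    have h2 : (x : G) ∈ core E := core_of_le hEJ (hE0E x.2) h1
    change ε (QuotientGroup.mk ⟨(x : G), _⟩) = 1
    rw [(mk_eq_one_iff (hE0E x.2)).mpr h2, map_one]
  let f : ↥g.range →* ↥(alternatingGroup (Fin k)) :=
    (QuotientGroup.lift g.ker f0 (fun x hx => hker x hx)).comp
      (QuotientGroup.quotientKerEquivRange g).symm.toMonoidHom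
  have hfg : ∀ x : ↥E0, f ⟨g x, x, rfl⟩ = f0 x := by
    intro x
    change QuotientGroup.lift g.ker f0 (fun x hx => hker x hx)
      ((QuotientGroup.quotientKerEquivRange g).symm ⟨g x, x, rfl⟩) = _
    have h1 : (QuotientGroup.quotientKerEquivRange g).symm ⟨g x, x, rfl⟩ = QuotientGroup.mk x := by
      rw [MulEquiv.symm_apply_eq]
      rfl
    rw [h1]
    rfl
  refine ⟨g.range, f, ?_, ?_, ?_⟩
  · intro y
    obtain ⟨x, hx⟩ := hf0 y
    exact ⟨⟨g x, x, rfl⟩, by rw [hfg, hx]⟩
  · -- the kernel is the image of `E0 ⊓ core E`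
    have h1 : f.ker.map g.range.subtype ≤ ((core E).subgroupOf E0).map g := by
      rintro _ ⟨⟨_, x, rfl⟩, hx, rfl⟩
      refine ⟨x, ?_, rfl⟩
      have h2 : f0 x = 1 := by
        rw [← hfg]
        exact hx
      have h3 : ε (QuotientGroup.mk ⟨(x : G), hE0E x.2⟩) = 1 := h2
      rw [map_eq_one_iff _ ε.injective, mk_eq_one_iff (hE0E x.2)] at h3
      exact h3
    have h2 : Odd (Nat.card (((core E).subgroupOf E0).map g)) := by
      refine Odd.of_dvd_nat (odd_card_core E) ?_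
      refine (card_map_dvd _ _).trans ?_
      exact card_comap_dvd_of_injective _ _ (subtype_injective _)
    have h3 : Nat.card f.ker = Nat.card (f.ker.map g.range.subtype) :=
      (Nat.card_congr (f.ker.equivMapOfInjective _ (subtype_injective _)).toEquiv)
    rw [h3]
    exact Odd.of_dvd_nat h2 (card_dvd_of_le h1)
  · rintro _ ⟨x, rfl⟩
    have hx : (x : G) ∈ E ⊓ centralizer (P : Set G) := hE0.le x.2
    refine ⟨x, hE0E x.2, rfl, fun u hu => ?_⟩
    exact (mem_centralizer_iff.mp hx.2) u hu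

end Cfsg.Agent.UAlt.Small
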