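import Cfsg.Agent.UAlt.SmallBase
import Cfsg.Agent.UGT.Iface
import Cfsg.Agent.UGT.SL.FactsL2

/-!
# The `PSL₂(q)` part of the hypothesis `small`

* `solvable_cent`: the centralizer in `PSL₂(q)` of an involution is solvable.
* `small_L2`: `J / O(J) ≅ PSL₂(q)`, `q` odd, `E ≤ J` of type `A_k`, `k ≥ 5`, `U` a four-group normalizing `J` and
  centralizing `E / O(E)`: some member of `U` centralizes `J / O(J)`.
-/

set_option autoImplicit false

open Cfsg Equiv Equiv.Perm Subgroup
open Cfsg.Agent.Intrinsic.Basic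
open Cfsg.Agent.SignalizersComponents Cfsg.Agent.Lib
open Cfsg.Agent.SignalizersComponents.IntrinsicBasic
open Cfsg.Agent.McLLyComp.Act
open Cfsg.Agent.UGT.Iface
open scoped commutatorElement

namespace Cfsg.Agent.UAlt.Small

section l2

variable {F : Type*} [Field F] [Finite F] {L : Type*} [Group L] (R : Cfsg.Agent.GH.L2Aut.Rep F L)

include R in
theorem solvable_cent {t : L} (ht : t * t = 1) (ht1 : t ≠ 1) (P : Subgroup L)
    (hP : ∀ x ∈ P, x * t = t * x) : Group.IsSolvable ↥P := by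
  obtain ⟨B, -, hB1, -, hB3⟩ := R.inner_cent ht ht1
  by_cases hex : ∃ b ∈ B, b * b ≠ 1
  · obtain ⟨b, hb, hbb⟩ := hex
    -- `P ⊓ B` has index at most two in `P`
    have hcomm : ∀ x ∈ P, x ∈ B ↔ x * b * x⁻¹ = b := by
      intro x hx
      constructor
      · intro h
        rw [hB1 x h b hb, mul_inv_cancel_right]
      · intro h
        rcases hB3 x (hP x hx) with h1 | ⟨-, h1⟩
        · exact h1
        · exfalso
          apply hbb
          rw [h1 b hb, inv_eq_iff_mul_eq_one] at h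
          exact h
    have hinv : ∀ x ∈ P, x ∉ B → x * b * x⁻¹ = b⁻¹ := by
      intro x hx h
      rcases hB3 x (hP x hx) with h1 | ⟨-, h1⟩
      · exact absurd h1 h
      · exact h1 b hb
    have hmul : ∀ x ∈ P, ∀ y ∈ P, x ∉ B → y ∉ B → x * y ∈ B := by
      intro x hx y hy hxB hyB
      rw [hcomm _ (mul_mem hx hy)]
      calc x * y * b * (x * y)⁻¹ = x * (y * b * y⁻¹) * x⁻¹ := by group
        _ = (x * b * x⁻¹)⁻¹ := by rw [hinv y hy hyB]; group
        _ = b := by rw [hinv x hx hxB, inv_inv]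
    -- commutators of `P` lie in `B`
    have hcom : ∀ x ∈ P, ∀ y ∈ P, ⁅x, y⁆ ∈ B := by
      intro x hx y hy
      rw [hcomm _ (by rw [commutatorElement_def]; exact mul_mem (mul_mem (mul_mem hx hy) (inv_mem hx)) (inv_mem hy))]
      have key : ∀ z ∈ P, z * b * z⁻¹ = b ∨ z * b * z⁻¹ = b⁻¹ := fun z hz => by
        by_cases h : z ∈ B
        · exact Or.inl ((hcomm z hz).mp h)
        · exact Or.inr (hinv z hz h)
      have key2 : ∀ z ∈ P, z⁻¹ * b * z = z * b * z⁻¹ := by
        intro z hz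
        rcases key z hz with h | h
        · rw [h, mul_assoc, inv_mul_eq_iff_eq_mul]
          exact (mul_inv_eq_iff_eq_mul.mp h).symm
        · rw [h, mul_assoc, inv_mul_eq_iff_eq_mul]
          have h2 : z * b = b⁻¹ * z := mul_inv_eq_iff_eq_mul.mp h
          have h3 : z * b * b⁻¹ = b⁻¹ * z * b⁻¹ := by rw [h2]
          calc b * z = b * (z * b * b⁻¹) := by rw [mul_inv_cancel_right]
            _ = b * (b⁻¹ * z * b⁻¹) := by rw [h2]
            _ = z * b⁻¹ := by group
      have conjinv : ∀ z, z * b⁻¹ * z⁻¹ = (z * b * z⁻¹)⁻¹ := fun z => by group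
      rw [commutatorElement_def]
      have e1 : x * y * x⁻¹ * y⁻¹ * b * (x * y * x⁻¹ * y⁻¹)⁻¹ =
          x * (y * (x⁻¹ * (y⁻¹ * b * y) * x) * y⁻¹) * x⁻¹ := by group
      rw [e1, key2 y hy]
      rcases key y hy with h | h <;> rcases key x hx with h' | h'
      · rw [h, key2 x hx, h', h, h']
      · rw [h, key2 x hx, h', conjinv, h, conjinv, h', inv_inv]
      · rw [h]
        have e2 : x⁻¹ * b⁻¹ * x = (x⁻¹ * b * x)⁻¹ := by group
        rw [e2, key2 x hx, h', conjinv, h, inv_inv, h']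
      · rw [h]
        have e2 : x⁻¹ * b⁻¹ * x = (x⁻¹ * b * x)⁻¹ := by group
        rw [e2, key2 x hx, h', inv_inv, h, conjinv, h', inv_inv]
    refine Group.isSolvable_def ↥P |>.mpr ⟨2, ?_⟩
    rw [eq_bot_iff, derivedSeries_succ, commutator_le]
    have hder : derivedSeries ↥P 1 ≤ B.comap P.subtype := by
      rw [derivedSeries_succ, commutator_le]
      intro a _ c _
      exact hcom a a.2 c c.2
    intro a ha c hc
    rw [mem_bot, commutatorElement_eq_one_iff_mul_comm]
    exact Subtype.ext (hB1 _ (hder ha) _ (hder hc))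
  · push Not at hex
    -- `P` has exponent two
    have hexp : ∀ x ∈ P, x * x = 1 := by
      intro x hx
      rcases hB3 x (hP x hx) with h1 | ⟨h1, -⟩
      · exact hex x h1
      · exact h1
    refine Group.isSolvable_of_comm fun a c => Subtype.ext ?_
    change (a : L) * c = c * a
    have h1 := hexp _ (mul_mem a.2 c.2)
    have h2 := hexp _ a.2
    have h3 := hexp _ c.2
    calc (a : L) * c = a * (a * c * (a * c)) * c := by rw [h1, mul_one]
      _ = (a * a) * c * a * (c * c) := by group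
      _ = c * a := by rw [h2, h3, one_mul, mul_one]

end l2

section four

variable {G : Type*} [Group G] [Finite G]

theorem zpowers_cases {u g : G} (huu : u * u = 1) (hg : g ∈ zpowers u) : g = 1 ∨ g = u := by
  obtain ⟨n, rfl⟩ := mem_zpowers_iff.mp hg
  have h2 : u ^ (2 : ℤ) = 1 := by rw [zpow_two, huu]
  rcases Int.even_or_odd' n with ⟨m, rfl | rfl⟩
  · left
    rw [zpow_mul, h2, one_zpow]
  · right
    rw [zpow_add, zpow_mul, h2, one_zpow, one_mul, zpow_one]

theorem isPGroup_zpowers_sq {u : G} (huu : u * u = 1) : IsPGroup 2 (zpowers u) := by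
  rintro ⟨g, hg⟩
  refine ⟨1, Subtype.ext ?_⟩
  rw [pow_one, pow_two]
  rcases zpowers_cases huu hg with rfl | rfl
  · exact one_mul 1
  · exact huu

/-- two generators of a four-group -/
theorem exists_gens {U : Subgroup G} (hU2 : ∀ u ∈ U, u * u = 1) (hU4 : Nat.card U = 4) :
    ∃ a ∈ U, ∃ b ∈ U, a ≠ 1 ∧ b ≠ 1 ∧ a * b ≠ 1 ∧ a * b = b * a := by
  have hcomm : ∀ a ∈ U, ∀ b ∈ U, a * b = b * a := by
    intro a ha b hb
    have h1 := hU2 _ (mul_mem ha hb)
    calc a * b = a * (a * b * (a * b)) * b := by rw [h1, mul_one]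
      _ = (a * a) * b * a * (b * b) := by group
      _ = b * a := by rw [hU2 a ha, hU2 b hb, one_mul, mul_one]
  have h1 : U ≠ ⊥ := by
    rintro rfl
    rw [card_bot] at hU4
    omega
  obtain ⟨a, ha, ha1⟩ := U.bot_or_exists_ne_one.resolve_left h1
  have h2 : ¬ U ≤ zpowers a := by
    intro h
    have h3 := card_dvd_of_le h
    have h4 : Nat.card (zpowers a) = 2 := by
      rw [Nat.card_zpowers]
      exact orderOf_eq_prime (by rw [pow_two, hU2 a ha]) ha1
    rw [h4, hU4] at h3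
    omega
  obtain ⟨b, hb, hba⟩ := SetLike.not_le_iff_exists.mp h2
  refine ⟨a, ha, b, hb, ha1, ?_, ?_, hcomm a ha b hb⟩
  · rintro rfl
    exact hba (one_mem _)
  · intro h
    apply hba
    have h3 : b = a := by
      calc b = a * a * b := by rw [hU2 a ha, one_mul]
        _ = a * (a * b) := by group
        _ = a := by rw [h, mul_one]
    rw [h3]
    exact mem_zpowers a

/-- no involution with image inner on `J / O(J) ≅ PSL₂(q)` centralizes `A_k` -/
theorem not_inner_L2 {J E : Subgroup G} {F : Type*} [Field F] [Finite F]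
    (R : Cfsg.Agent.GH.L2Aut.Rep F (Bar J)) (hEJ : E ≤ J) {k : ℕ}
    (hk : 5 ≤ k) (hE : AltType E k) {u : G} (huu : u * u = 1) (huJ : u ∈ normalizer (J : Set G))
    (huE : Fixes u E) (hne : ¬ Fixes u J) :
    act J ⟨u, huJ⟩ ∉ Cfsg.Agent.GH.L2Aut.Inn (Bar J) := by
  intro hin
  obtain ⟨v, hv⟩ := hin
  have hsq : act J ⟨u, huJ⟩ * act J ⟨u, huJ⟩ = 1 := by
    rw [← map_mul, ← map_one (act J)]
    exact congrArg _ (Subtype.ext huu)
  have hvv : v * v = 1 := by
    apply R.conj_injective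
    rw [map_mul, hv, hsq, map_one]
  have hv1 : v ≠ 1 := by
    rintro rfl
    rw [map_one] at hv
    exact hne ((act_eq_one_iff huJ).mp hv.symm)
  obtain ⟨C, f, hf, -, hC⟩ := exists_fixed hEJ hE (P := zpowers u) (isPGroup_zpowers_sq huu)
    (fun g hg => by
      rcases zpowers_cases huu hg with rfl | rfl
      · exact fixes_one E
      · exact huE)
  have hsol : Group.IsSolvable ↥C := by
    refine solvable_cent R hvv hv1 C fun c hc => ?_
    obtain ⟨e, he, rfl, hcomm⟩ := hC c hc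
    have h1 : act J ⟨u, huJ⟩ (QuotientGroup.mk ⟨e, hEJ he⟩) = QuotientGroup.mk ⟨e, hEJ he⟩ := by
      rw [act_mk huJ (hEJ he)]
      congr 1
      refine Subtype.ext ?_
      change u * e * u⁻¹ = e
      rw [hcomm u (mem_zpowers u), mul_inv_cancel_right]
    rw [← hv] at h1
    change v * _ * v⁻¹ = _ at h1
    exact (mul_inv_eq_iff_eq_mul.mp h1).symm
  exact not_isSolvable_alt hk (Group.isSolvable_of_surjective hf)

/-- **`small` for `PSL₂(q)`** -/
theorem small_L2 {J E : Subgroup G} (h2 : IsL2 (Bar J)) (hEJ : E ≤ J) {k : ℕ}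
    (hk : 5 ≤ k) (hE : AltType E k) {U : Subgroup G} (hU2 : ∀ u ∈ U, u * u = 1) (hU4 : Nat.card U = 4)
    (hU : ∀ u ∈ U, u ∈ normalizer (J : Set G) ∧ Fixes u E) :
    ∃ u ∈ U, u ≠ 1 ∧ Fixes u J := by
  obtain ⟨F, i1, i2, hodd, h5, ⟨e⟩⟩ := h2
  let R := Cfsg.Agent.GH.L2Aut.Rep.ofEquiv (Cfsg.Agent.GH.L2Aut.two_ne_zero_of_odd hodd) e
  by_contra hcon
  push Not at hcon
  obtain ⟨a, ha, b, hb, ha1, hb1, hab, hc⟩ := exists_gens hU2 hU4
  have hNa := (hU a ha).1
  have hNb := (hU b hb).1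
  have key : ∀ u (hu : u ∈ U), u ≠ 1 → act J ⟨u, (hU u hu).1⟩ ∉ Cfsg.Agent.GH.L2Aut.Inn (Bar J) :=
    fun u hu hu1 => not_inner_L2 R hEJ hk hE (hU2 u hu) _ (hU u hu).2 (hcon u hu hu1)
  have h3 := UGT.SL.outer_mul_mem R (α := act J ⟨a, hNa⟩) (β := act J ⟨b, hNb⟩)
    (by rw [← map_mul, ← map_one (act J)]; exact congrArg _ (Subtype.ext (hU2 a ha)))
    (by rw [← map_mul, ← map_one (act J)]; exact congrArg _ (Subtype.ext (hU2 b hb)))
    (by rw [← map_mul, ← map_mul]; exact congrArg _ (Subtype.ext hc)) (key a ha ha1) (key b hb hb1)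
  rw [← map_mul] at h3
  exact key (a * b) (mul_mem ha hb) hab h3

end four

end Cfsg.Agent.UAlt.Small
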