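import Cfsg.Agent.UAlt.Frame
import Cfsg.Agent.UAlt.Four

/-!
# Tools for the remaining types: the action of `N(J)` on `J / Z*(J)`, lifting a four-group

* `exists_four`: a subgroup which is alternating modulo its odd core contains a four-group.
* `exists_cen`: if `x` is trivial on the alternating 2-component `E ≤ J`, then `E` may be replaced by a perfect
  subgroup commuting with `x`.
* `act J : N(J) → Aut (J / Z*(J))`; `fixes_of_act`: an element acting trivially fixes `J`.
* `act_ne_one`: the involutions of an alternating subgroup of `J` act non-trivially on `J / Z*(J)`.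
-/

set_option autoImplicit false
set_option linter.unusedSectionVars false

open Cfsg Equiv Equiv.Perm Subgroup
open Cfsg.Agent.Intrinsic.Basic Cfsg.Agent.Intrinsic.Cen
open Cfsg.Agent.SignalizersComponents Cfsg.Agent.Lib
open Cfsg.Agent.SignalizersComponents.IntrinsicBasic
open scoped commutatorElement

namespace Cfsg.Agent.UAlt.SmallTools

/-! ### automorphisms induced on characteristic quotients -/

section quot

variable {X : Type*} [Group X]

/-- the automorphism of `X / N` induced by an automorphism of `X` -/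
def quotC (N : Subgroup X) [N.Normal] (hN : N.Characteristic) : MulAut X →* MulAut (X ⧸ N) where
  toFun e := QuotientGroup.congr _ _ e (Subgroup.characteristic_iff_map_eq.1 hN e)
  map_one' := by
    apply MulEquiv.ext
    intro x
    induction x using QuotientGroup.induction_on
    rfl
  map_mul' e f := by
    apply MulEquiv.ext
    intro x
    induction x using QuotientGroup.induction_on
    rfl

theorem quotC_mk (N : Subgroup X) [N.Normal] (hN : N.Characteristic) (e : MulAut X) (a : X) :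
    quotC N hN e (QuotientGroup.mk a) = QuotientGroup.mk (e a) := rfl

/-- an automorphism of a perfect group which is trivial modulo the centre is trivial -/
theorem eq_one_of_quot (hX : commutator X = ⊤) (e : MulAut X)
    (h : quotC (center X) inferInstance e = 1) : e = 1 := by
  have h1 : ∀ a : X, e a * a⁻¹ ∈ center X := by
    intro a
    have h2 : (QuotientGroup.mk (e a) : X ⧸ center X) = QuotientGroup.mk a := by
      rw [← quotC_mk (center X) inferInstance, h, MulAut.one_apply]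
    rw [QuotientGroup.eq] at h2
    have h3 := inv_mem h2
    have h4 : e a * a⁻¹ = a * ((e a)⁻¹ * a)⁻¹ * a⁻¹ := by group
    rw [h4]
    exact (inferInstance : (center X).Normal).conj_mem _ h3 a
  let f : X →* center X :=
    { toFun := fun a => ⟨e a * a⁻¹, h1 a⟩
      map_one' := Subtype.ext (by simp)
      map_mul' := fun a b => by
        apply Subtype.ext
        show e (a * b) * (a * b)⁻¹ = (e a * a⁻¹) * (e b * b⁻¹)
        have h3 := mem_center_iff.1 (h1 b) a⁻¹
        rw [map_mul]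
        calc e a * e b * (a * b)⁻¹ = e a * ((e b * b⁻¹) * a⁻¹) := by group
          _ = e a * (a⁻¹ * (e b * b⁻¹)) := by rw [h3]
          _ = _ := by group }
  have h2 : f.ker = ⊤ := by
    rw [eq_top_iff, ← hX, commutator_def, Subgroup.commutator_le]
    intro a _ b _
    rw [MonoidHom.mem_ker, map_commutatorElement, commutatorElement_def]
    have h2 : f a * f b = f b * f a := by
      apply Subtype.ext
      exact mem_center_iff.1 (f b).2 (f a)
    rw [h2]
    group
  apply MulEquiv.ext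
  intro a
  have h3 : a ∈ f.ker := by rw [h2]; trivial
  have h4 : e a * a⁻¹ = 1 := congrArg Subtype.val (MonoidHom.mem_ker.1 h3)
  exact mul_inv_eq_one.1 h4

end quot

variable {G : Type*} [Group G]

/-! ### the action -/

/-- the quotient of `J / O(J)` by its centre -/
abbrev Zb (J : Subgroup G) := (↥J ⧸ oddCore ↥J) ⧸ center (↥J ⧸ oddCore ↥J)

/-- the action of `N(J)` on `J / Z*(J)` -/
noncomputable def act (J : Subgroup G) : ↥(normalizer (J : Set G)) →* MulAut (Zb J) :=
  ((quotC (center (↥J ⧸ oddCore ↥J)) inferInstance).comp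
    (quotC (oddCore ↥J) (Lib.Cores.pPrimeCore_characteristic 2))).comp J.normalizerMonoidHom

/-- the class of an element of `J` -/
def cls {J : Subgroup G} {a : G} (ha : a ∈ J) : Zb J :=
  QuotientGroup.mk (QuotientGroup.mk (⟨a, ha⟩ : ↥J))

theorem cls_mul {J : Subgroup G} {a b : G} (ha : a ∈ J) (hb : b ∈ J) :
    cls (mul_mem ha hb) = cls ha * cls hb := rfl

theorem cls_one {J : Subgroup G} : cls (one_mem J) = 1 := rfl

theorem act_cls {J : Subgroup G} {y a : G} (hy : y ∈ normalizer (J : Set G)) (ha : a ∈ J)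
    (h : y * a * y⁻¹ ∈ J) : act J ⟨y, hy⟩ (cls ha) = cls h := rfl

theorem act_mem {J : Subgroup G} {y : G} (hy : y ∈ J) (hy' : y ∈ normalizer (J : Set G)) :
    act J ⟨y, hy'⟩ = MulAut.conj (cls hy) := by
  apply MulEquiv.ext
  intro z
  induction z using QuotientGroup.induction_on with
  | H z =>
    induction z using QuotientGroup.induction_on with
    | H a => rfl

/-- an element acting trivially on `J / Z*(J)` fixes `J` -/
theorem fixes_of_act {J : Subgroup G} (hJ : ⁅J, J⁆ = J) {y : G} (hy : y ∈ normalizer (J : Set G))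
    (h : act J ⟨y, hy⟩ = 1) : Fixes y J := by
  have hp : commutator (↥J ⧸ oddCore ↥J) = ⊤ := by
    have h1 : commutator ↥J = ⊤ := by
      apply Subgroup.map_injective J.subtype_injective
      rw [_root_.commutator_def, Subgroup.map_commutator, ← MonoidHom.range_eq_map,
        Subgroup.range_subtype, hJ]
    have h6 := Subgroup.map_commutator (⊤ : Subgroup ↥J) ⊤ (QuotientGroup.mk' (oddCore ↥J))
    rw [← _root_.commutator_def, h1,
      Subgroup.map_top_of_surjective _ (QuotientGroup.mk'_surjective _)] at h6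
    rw [_root_.commutator_def]
    exact h6.symm
  have h1 := eq_one_of_quot hp _ h
  refine ⟨hy, fun a ha => ?_⟩
  have h2 := congrArg (fun e : MulAut (↥J ⧸ oddCore ↥J) => e (QuotientGroup.mk ⟨a, ha⟩)) h1
  have hy' : y * a * y⁻¹ ∈ J := (mem_normalizer_iff.mp hy a).mp ha
  have h3 : (QuotientGroup.mk (⟨y * a * y⁻¹, hy'⟩ : ↥J) : ↥J ⧸ oddCore ↥J) =
      QuotientGroup.mk ⟨a, ha⟩ := h2
  rw [eq_comm, QuotientGroup.eq] at h3
  have h4 : a⁻¹ * (y * a * y⁻¹) ∈ core J := ⟨_, h3, rfl⟩
  have h5 := conj_mem_core (x := a) (le_normalizer ha) h4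
  convert h5 using 1
  rw [commutatorElement_def]
  group

variable [Finite G]

/-! ### a four-group in an alternating subgroup -/

/-- two commuting involutions in a subgroup which is alternating modulo its odd core -/
theorem exists_four {Y : Subgroup G} {k : ℕ} (hk : 4 ≤ k) (hA : AltType Y k) :
    ∃ v ∈ Y, ∃ w ∈ Y, v ≠ 1 ∧ w ≠ 1 ∧ v ≠ w ∧ v * v = 1 ∧ w * w = 1 ∧ v * w = w * v := by
  obtain ⟨e⟩ := hA
  -- two involutions of the alternating group
  obtain ⟨a, b, ha, hb, hab, ha2, hb2, hc⟩ : ∃ a b : alternatingGroup (Fin k), a ≠ 1 ∧ b ≠ 1 ∧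
      a ≠ b ∧ a * a = 1 ∧ b * b = 1 ∧ a * b = b * a := by
    obtain ⟨T, -, hT⟩ := Finset.exists_subset_card_eq (s := (Finset.univ : Finset (Fin k))) (n := 4)
      (by rw [Finset.card_univ, Fintype.card_fin]; exact hk)
    obtain ⟨a, ha, ha1⟩ := exists_four_ne hT
    obtain ⟨b, hb, hb1, hba⟩ := exists_four_ne_ne hT a
    have hle := four_le_alt hT
    refine ⟨⟨a, alt_le _ (hle ha)⟩, ⟨b, alt_le _ (hle hb)⟩, fun h => ha1 (congrArg Subtype.val h),
      fun h => hb1 (congrArg Subtype.val h), fun h => hba (congrArg Subtype.val h).symm,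
      Subtype.ext (four_sq hT ha), Subtype.ext (four_sq hT hb), Subtype.ext (four_comm hT ha hb)⟩
  let π : ↥Y → alternatingGroup (Fin k) := fun y => e (QuotientGroup.mk y)
  have hπmul : ∀ y z : ↥Y, π (y * z) = π y * π z := fun y z => by
    show e (QuotientGroup.mk (y * z)) = _
    rw [QuotientGroup.mk_mul, map_mul]
  have hπ1 : ∀ y : ↥Y, π y = 1 ↔ y ∈ oddCore ↥Y := fun y => by
    show e (QuotientGroup.mk y) = 1 ↔ _
    rw [map_eq_one_iff _ e.injective, QuotientGroup.eq_one_iff]
  have hπinv : ∀ y : ↥Y, π y⁻¹ = (π y)⁻¹ := fun y => by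
    rw [eq_inv_iff_mul_eq_one, ← hπmul, inv_mul_cancel, hπ1]; exact one_mem _
  have hsurj : ∀ c : alternatingGroup (Fin k), ∃ y : ↥Y, π y = c := by
    intro c
    obtain ⟨z, hz⟩ := e.surjective c
    obtain ⟨y, rfl⟩ := QuotientGroup.mk_surjective z
    exact ⟨y, hz⟩
  have hmem : ∀ y : ↥Y, π y = 1 → (y : G) ∈ core Y := fun y hy => ⟨y, (hπ1 y).mp hy, rfl⟩
  have hodd := odd_card_core Y
  obtain ⟨y, hy⟩ := hsurj a
  obtain ⟨z, hz⟩ := hsurj b
  have hyN : (y : G) ∈ normalizer (core Y : Set G) := le_normalizer_core Y y.2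
  have hzN : (z : G) ∈ normalizer (core Y : Set G) := le_normalizer_core Y z.2
  obtain ⟨o, ho, ho1, -⟩ := Intrinsic.Lifting.exists_involution (N := core Y) hodd (v := 1) (x := (y : G))
    (n := 0) (by rw [one_pow]) (one_mem _) hyN (hmem (y * y) (by rw [hπmul, hy, ha2])) (by
      have : (y : G)⁻¹ * (1 * y * 1⁻¹) = 1 := by group
      rw [this]; exact one_mem _)
  obtain ⟨v, hv⟩ : ∃ v : ↥Y, (v : G) = y * o := ⟨⟨y * o, mul_mem y.2 (core_le Y ho)⟩, rfl⟩
  have hv2 : (v : G) * v = 1 := by rw [hv]; exact ho1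
  have hπo : ∀ (o : G) (ho : o ∈ core Y), π ⟨o, core_le Y ho⟩ = 1 := fun o ho =>
    (hπ1 _).mpr ((mem_core_iff (core_le Y ho)).mp ho)
  have hπv : π v = a := by
    have e1 : v = y * ⟨o, core_le Y ho⟩ := Subtype.ext hv
    rw [e1, hπmul, hy, hπo o ho, mul_one]
  have hvN : (v : G) ∈ normalizer (core Y : Set G) := le_normalizer_core Y v.2
  obtain ⟨o', ho', ho1', hc'⟩ := Intrinsic.Lifting.exists_involution (N := core Y) hodd (v := (v : G))
    (x := (z : G)) (n := 1) (by rw [pow_one, pow_two, hv2]) hvN hzN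
    (hmem (z * z) (by rw [hπmul, hz, hb2]))
    (hmem (z⁻¹ * (v * z * v⁻¹)) (by
      rw [hπmul, hπmul, hπmul, hπinv, hπinv, hπv, hz, hc]; group))
  obtain ⟨w, hw⟩ : ∃ w : ↥Y, (w : G) = z * o' := ⟨⟨z * o', mul_mem z.2 (core_le Y ho')⟩, rfl⟩
  have hπw : π w = b := by
    have e1 : w = z * ⟨o', core_le Y ho'⟩ := Subtype.ext hw
    rw [e1, hπmul, hz, hπo o' ho', mul_one]
  have hπone : π 1 = 1 := (hπ1 1).mpr (one_mem _)
  refine ⟨v, v.2, w, w.2, fun h => ha ?_, fun h => hb ?_, fun h => hab ?_, hv2, ?_, ?_⟩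
  · rw [← hπv, show v = 1 from Subtype.ext h, hπone]
  · rw [← hπw, show w = 1 from Subtype.ext h, hπone]
  · rw [← hπv, ← hπw, show v = w from Subtype.ext h]
  · rw [hw]; exact ho1'
  · rw [hw]; exact hc'

/-- `E` alternating modulo its odd core, `x` an involution trivial on `E`: some `Y ≤ E` of the same type
commutes with `x` -/
theorem exists_cen {E : Subgroup G} {H : Subgroup G} (hE : IsComp H E) {k : ℕ} (hA : AltType E k)
    {x : G} (hx : x * x = 1) (hf : Fixes x E) :
    ∃ Y ≤ E, IsComp (normalizer (E : Set G) ⊓ centralizer ({x} : Set G)) Y ∧ AltType Y k ∧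
      ∀ y ∈ Y, y * x = x * y := by
  have h1 : IsComp E E := hE.restrict hE.le le_rfl
  have h2 : IsComp (normalizer (E : Set G)) E := h1.extend le_normalizer (by
    have : (E.subgroupOf (normalizer (E : Set G))).Normal := inferInstance
    exact this.isSubnormal)
  obtain ⟨h3, h4⟩ := isComp_cen h2 hf.1 hx hf
  obtain ⟨e, -⟩ := exists_quotEquiv h4
  exact ⟨cen E x, cen_le E x, h3, hA.congr e.symm, fun y hy => comm_of_mem_cen hy⟩

/-- involutions of an alternating subgroup `Y ≤ J` act non-trivially on `J / Z*(J)` -/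
theorem act_ne_one {J Y H : Subgroup G} (hJ : ⁅J, J⁆ = J) (hYJ : Y ≤ J) (hY : IsComp H Y) {k : ℕ}
    (hk : 5 ≤ k) (hA : AltType Y k) {u : G} (hu : u ∈ Y) (hu1 : u ≠ 1) (hu2 : u * u = 1)
    (huN : u ∈ normalizer (J : Set G)) : act J ⟨u, huN⟩ ≠ 1 := by
  intro h
  -- the kernel of `Y → Aut (J / Z*(J))`
  let ι : ↥Y →* ↥(normalizer (J : Set G)) := inclusion (hYJ.trans le_normalizer)
  let F : ↥Y →* MulAut (Zb J) := (act J).comp ι
  have hFu : (⟨u, hu⟩ : ↥Y) ∈ F.ker := h
  obtain ⟨e⟩ := hA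
  have hsim : IsSimpleGroup (↥Y ⧸ oddCore ↥Y) := by
    have : IsSimpleGroup (alternatingGroup (Fin k)) := by
      have h5 : 5 ≤ Nat.card (Fin k) := by rw [Nat.card_eq_fintype_card, Fintype.card_fin]; exact hk
      exact alternatingGroup.isSimpleGroup h5
    exact e.isSimpleGroup
  have hu0 : (⟨u, hu⟩ : ↥Y) ∉ oddCore ↥Y := fun h0 =>
    hu1 (eq_one_of_mem_core_sq ((mem_core_iff hu).mpr h0) hu2)
  have hM : (F.ker.map (QuotientGroup.mk' (oddCore ↥Y))).Normal :=
    (inferInstance : F.ker.Normal).map _ (QuotientGroup.mk'_surjective _)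
  rcases hsim.eq_bot_or_eq_top_of_normal _ hM with h1 | h1
  · apply hu0
    rw [← QuotientGroup.eq_one_iff, ← mem_bot, ← h1]
    exact ⟨_, hFu, rfl⟩
  · -- `Y / O(Y)` is abelian
    have hle : core J ⊓ Y ≤ core Y := by
      refine le_core inf_le_right ?_ (Odd.of_dvd_nat (odd_card_core J) (card_dvd_of_le inf_le_left))
      intro y hy
      have e1 : y ∈ normalizer (core J : Set G) := le_normalizer_core J (hYJ hy)
      have e2 : y ∈ normalizer (Y : Set G) := le_normalizer hy
      rw [mem_normalizer_iff_cj] at e1 e2 ⊢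
      rw [cj_inf, e1, e2]
    have hcomm : ∀ m ∈ F.ker, ∀ m' ∈ F.ker, ⁅m, m'⁆ ∈ oddCore ↥Y := by
      intro m hm m' hm'
      have h2 : Fixes (m : G) J := fixes_of_act hJ (le_normalizer (hYJ m.2)) hm
      have h3 : ⁅(m : G), (m' : G)⁆ ∈ core J := h2.2 _ (hYJ m'.2)
      have h4 : ⁅(m : G), (m' : G)⁆ ∈ Y := (⁅m, m'⁆).2
      exact (mem_core_iff h4).mp (hle ⟨h3, h4⟩)
    have hall : ∀ y : ↥Y, ∃ m ∈ F.ker, (QuotientGroup.mk m : ↥Y ⧸ oddCore ↥Y) = QuotientGroup.mk y := by
      intro y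
      have h2 : (QuotientGroup.mk y : ↥Y ⧸ oddCore ↥Y) ∈ F.ker.map (QuotientGroup.mk' (oddCore ↥Y)) := by
        rw [h1]; trivial
      obtain ⟨m, hm, hmy⟩ := h2
      exact ⟨m, hm, hmy⟩
    have hYY : ⁅Y, Y⁆ ≤ core Y := by
      rw [Subgroup.commutator_le]
      intro y hy z hz
      obtain ⟨m, hm, hmy⟩ := hall ⟨y, hy⟩
      obtain ⟨m', hm', hmz⟩ := hall ⟨z, hz⟩
      have h2 : (QuotientGroup.mk (⁅(⟨y, hy⟩ : ↥Y), ⟨z, hz⟩⁆) : ↥Y ⧸ oddCore ↥Y) = 1 := by
        have h3 : (QuotientGroup.mk (⁅m, m'⁆) : ↥Y ⧸ oddCore ↥Y) = 1 :=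
          (QuotientGroup.eq_one_iff _).mpr (hcomm m hm m' hm')
        rw [← h3]
        change QuotientGroup.mk' (oddCore ↥Y) _ = QuotientGroup.mk' (oddCore ↥Y) _
        rw [map_commutatorElement, map_commutatorElement]
        change ⁅(QuotientGroup.mk _ : ↥Y ⧸ oddCore ↥Y), QuotientGroup.mk _⁆ =
          ⁅(QuotientGroup.mk _ : ↥Y ⧸ oddCore ↥Y), QuotientGroup.mk _⁆
        rw [hmy, hmz]
      exact ⟨_, (QuotientGroup.eq_one_iff _).mp h2, rfl⟩
    rw [hY.perfect] at hYY
    exact hu1 (eq_one_of_mem_core_sq (hYY hu) hu2)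

end Cfsg.Agent.UAlt.SmallTools
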